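import Cfsg.Agent.H6.J1K0

set_option autoImplicit false
set_option maxRecDepth 100000
set_option linter.all false

namespace CfsgH6.J1

open CfsgH5 CfsgH6 Subgroup MulAction Pointwise

noncomputable section

theorem val3 : C.Mem R ⊤ 6 := MC.mem_units (PP.mc P_ok) (PP.can_sound P_ok) chk2
theorem S0_m0 : C.Mem R (C.gen R 6) 6 := GC.Mem.gen val3
theorem H0_m0 : C.Mem R (C.gen R 0) 0 := GC.Mem.gen (GC.Mem.zero ⊤)
theorem S0_s0_6 : C.Mem R (C.gen R 6) 4094 := S0_m0.slp' chk5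
theorem inS09 : C.Mem R (C.gen R 6) 28674 := S0_s0_6.slp' chk8
theorem H1_m0 : C.Mem R (C.gen R 4096) 4096 := GC.Mem.gen (inS09.top.sub chk10)
theorem H1_dvd : Nat.card (C.gen R 4096) ∣ 19 := GC.card_ins (dvd_step (H0_m0.pc (m := 19) (w := 0) (inS09.top.get (i := 12) (by decide +kernel)) H0_m0.top chk12 chk13) GC.card_gen_zero (n := 19) (by decide +kernel)) (by decide +kernel)
theorem H2_m0 : C.Mem R (C.gen R 12288) 12288 := GC.Mem.gen (inS09.top.sub chk14)
theorem H2_dvd : Nat.card (C.gen R 12288) ∣ 38 := GC.card_ins (dvd_step (H1_m0.pc (m := 2) (w := 0) (inS09.top.get (i := 13) (by decide +kernel)) H1_m0.top chk16 chk17) H1_dvd (n := 38) (by decide +kernel)) (by decide +kernel)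
theorem H3_m0 : C.Mem R (C.gen R 28672) 28672 := GC.Mem.gen (inS09.top.sub chk18)
theorem H3_dvd : Nat.card (C.gen R 28672) ∣ 114 := GC.card_ins (dvd_step (H2_m0.pc (m := 3) (w := 13) (inS09.top.get (i := 14) (by decide +kernel)) H2_m0.top chk20 chk21) H2_dvd (n := 114) (by decide +kernel)) (by decide +kernel)
theorem H3_ub : Nat.card (C.gen R 28672) ≤ 114 := le_of_dvd' H3_dvd (by decide +kernel)
theorem pt22e : ∃ x, A1.Rep pt22c x := (PP.exists_vec P_ok (c := 0x900000000000a000000000000000003000009) (by decide +kernel)).elim fun x hx => ⟨_, x, hx, rfl⟩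
noncomputable def pt22 := Classical.choose pt22e
theorem pt22r : A1.Rep pt22c pt22 := Classical.choose_spec pt22e
theorem G_m0 : C.Mem R (C.gen R 28674) 28674 := GC.Mem.gen inS09.top
theorem G_s0_25 : C.Mem R (C.gen R 28674) 17179865090 := G_m0.slp' chk24
theorem G_I : C.Mem R (C.gen R 28674) 17179836418 := G_s0_25.sub chk26
theorem GK_in29 : C.Mem R (C.gen R 28672) 17179869184 := H3_m0.slp' chk28
theorem GK_m0 : C.Mem R (C.gen R 17179869184) 17179869184 := GC.Mem.gen GK_in29.top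
theorem pt30e : ∃ x, A0.Rep pt30c x := PP.exists_vec P_ok (c := 0x1) (by decide +kernel)
noncomputable def pt30 := Classical.choose pt30e
theorem pt30r : A0.Rep pt30c pt30 := Classical.choose_spec pt30e
theorem GK_c0i : C.Mem R (C.gen R 17179869184) 0 := GK_m0.sub chk31
theorem GK_c0m : C.Mem R (C.gen R 0) 0 := GK_c0i.gen
theorem fx33 : C.gen R 0 ≤ stabilizer _ pt30 := Act.fix_sound GK_c0i.top pt30r chk32
theorem cov40 : Cov (C.gen R 17179869184) (C.wds R [0]) pt30 3 := Act.cov_of_seen (Act.pieces_sound GK_m0 GK_m0.top pt30r chk38) chk39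
theorem GK_lb1 : 1 ≤ Nat.card (C.gen R 0) := Nat.card_pos
theorem GK_lo0 : 3 * Nat.card (C.gen R 0) ≤ Nat.card (C.gen R 17179869184) := cov40.low le_rfl (GC.wds_zero _) GK_c0i.gen_le fx33
theorem GK_lb0 : 3 ≤ Nat.card (C.gen R 17179869184) := low_step GK_lo0 GK_lb1 (by decide +kernel)
theorem fx44 : C.gen R 17179869184 ≤ stabilizer _ pt22 := Act.fix_sound GK_in29.top pt22r chk43
theorem G_Kc : ∀ κ ∈ (C.gen R 17179869184), (C.el (R 1))⁻¹ * κ * C.el (R 1) ∈ (C.gen R 28672) := H3_m0.conjB (G_m0.get (i := 1) (by decide +kernel)).top GK_in29.top chk42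
theorem GT1_in47 : C.Mem R (C.gen R 28672) 34359738368 := H3_m0.slp' chk46
theorem GT1_m0 : C.Mem R (C.gen R 34359738368) 34359738368 := GC.Mem.gen GT1_in47.top
theorem pt48e : ∃ x, A0.Rep pt48c x := PP.exists_vec P_ok (c := 0x1) (by decide +kernel)
noncomputable def pt48 := Classical.choose pt48e
theorem pt48r : A0.Rep pt48c pt48 := Classical.choose_spec pt48e
theorem GT1_c0i : C.Mem R (C.gen R 34359738368) 0 := GT1_m0.sub chk49
theorem GT1_c0m : C.Mem R (C.gen R 0) 0 := GT1_c0i.gen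
theorem fx51 : C.gen R 0 ≤ stabilizer _ pt48 := Act.fix_sound GT1_c0i.top pt48r chk50
theorem cov58 : Cov (C.gen R 34359738368) (C.wds R [0]) pt48 3 := Act.cov_of_seen (Act.pieces_sound GT1_m0 GT1_m0.top pt48r chk56) chk57
theorem GT1_lb1 : 1 ≤ Nat.card (C.gen R 0) := Nat.card_pos
theorem GT1_lo0 : 3 * Nat.card (C.gen R 0) ≤ Nat.card (C.gen R 34359738368) := cov58.low le_rfl (GC.wds_zero _) GT1_c0i.gen_le fx51
theorem GT1_lb0 : 3 ≤ Nat.card (C.gen R 34359738368) := low_step GT1_lo0 GT1_lb1 (by decide +kernel)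
theorem G_T1c : ∀ τ ∈ (C.gen R 34359738368), C.el (R 1) * τ * (C.el (R 1))⁻¹ ∈ (C.gen R 28672) := H3_m0.conjA (G_I.get (i := 1) (by decide +kernel)).top GT1_in47.top chk60
theorem cov69 : Cov (C.gen R 34359738368) (C.wds R (List.map Prod.fst (l61))) pt22 38 := Act.cov_of_seen (Act.pieces_sound GT1_m0 H3_m0.top pt22r chk67) chk68
theorem G_T1d : Dec (C.gen R 28672) (C.gen R 34359738368) (C.wds R (List.map Prod.fst (l61))) (C.gen R 17179869184) := cov69.dec GT1_in47.gen_le (GC.wds_sub H3_m0 chk70) GK_in29.gen_le fx44 (up_low H3_ub GK_lb0 (by decide +kernel))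
theorem G_T1p : ∀ x ∈ DC1 (C.gen R 28672) (C.el (R 1)), x * C.el (R 1) ∈ DCs (C.gen R 28672) (C.els R 17179836418) := GC.dc_piece' G_T1d G_T1c G_Kc (H3_m0.dcRel G_I.top (G_I.get (i := 1) (by decide +kernel)).top (G_m0.get (i := 1) (by decide +kernel)).top chk62)
theorem G_T1u : Nat.card (C.gen R 28672) ≤ 38 * Nat.card (C.gen R 34359738368) := up_low H3_ub GT1_lb0 (by decide +kernel)
theorem G_T1n : (DC1 (C.gen R 28672) (C.el (R 1))).ncard ≤ Nat.card (C.gen R 28672) * 38 := ncard_DC1 GT1_in47.gen_le G_T1c G_T1u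
theorem GT2_in73 : C.Mem R (C.gen R 28672) 0 := H3_m0.slp' chk72
theorem GT2_m0 : C.Mem R (C.gen R 0) 0 := GC.Mem.gen GT2_in73.top
theorem GT2_lb0 : 1 ≤ Nat.card (C.gen R 0) := Nat.card_pos
theorem G_T2c : ∀ τ ∈ (C.gen R 0), C.el (R 15) * τ * (C.el (R 15))⁻¹ ∈ (C.gen R 28672) := H3_m0.conjA (G_I.get (i := 15) (by decide +kernel)).top GT2_in73.top chk75
theorem cov84 : Cov (C.gen R 0) (C.wds R (List.map Prod.fst (l76))) pt22 38 := Act.cov_of_seen (Act.pieces_sound GT2_m0 H3_m0.top pt22r chk82) chk83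
theorem G_T2d : Dec (C.gen R 28672) (C.gen R 0) (C.wds R (List.map Prod.fst (l76))) (C.gen R 17179869184) := cov84.dec GT2_in73.gen_le (GC.wds_sub H3_m0 chk85) GK_in29.gen_le fx44 (up_low H3_ub GK_lb0 (by decide +kernel))
theorem G_T2p : ∀ x ∈ DC1 (C.gen R 28672) (C.el (R 15)), x * C.el (R 1) ∈ DCs (C.gen R 28672) (C.els R 17179836418) := GC.dc_piece' G_T2d G_T2c G_Kc (H3_m0.dcRel G_I.top (G_I.get (i := 15) (by decide +kernel)).top (G_m0.get (i := 1) (by decide +kernel)).top chk77)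
theorem G_T2u : Nat.card (C.gen R 28672) ≤ 114 * Nat.card (C.gen R 0) := up_low H3_ub GT2_lb0 (by decide +kernel)
theorem G_T2n : (DC1 (C.gen R 28672) (C.el (R 15))).ncard ≤ Nat.card (C.gen R 28672) * 114 := ncard_DC1 GT2_in73.gen_le G_T2c G_T2u
theorem GT3_in88 : C.Mem R (C.gen R 28672) 0 := H3_m0.slp' chk87
theorem GT3_m0 : C.Mem R (C.gen R 0) 0 := GC.Mem.gen GT3_in88.top
theorem GT3_lb0 : 1 ≤ Nat.card (C.gen R 0) := Nat.card_pos
theorem G_T3c : ∀ τ ∈ (C.gen R 0), C.el (R 16) * τ * (C.el (R 16))⁻¹ ∈ (C.gen R 28672) := H3_m0.conjA (G_I.get (i := 16) (by decide +kernel)).top GT3_in88.top chk90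
theorem cov99 : Cov (C.gen R 0) (C.wds R (List.map Prod.fst (l91))) pt22 38 := Act.cov_of_seen (Act.pieces_sound GT3_m0 H3_m0.top pt22r chk97) chk98
theorem G_T3d : Dec (C.gen R 28672) (C.gen R 0) (C.wds R (List.map Prod.fst (l91))) (C.gen R 17179869184) := cov99.dec GT3_in88.gen_le (GC.wds_sub H3_m0 chk100) GK_in29.gen_le fx44 (up_low H3_ub GK_lb0 (by decide +kernel))
theorem G_T3p : ∀ x ∈ DC1 (C.gen R 28672) (C.el (R 16)), x * C.el (R 1) ∈ DCs (C.gen R 28672) (C.els R 17179836418) := GC.dc_piece' G_T3d G_T3c G_Kc (H3_m0.dcRel G_I.top (G_I.get (i := 16) (by decide +kernel)).top (G_m0.get (i := 1) (by decide +kernel)).top chk92)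
theorem G_T3u : Nat.card (C.gen R 28672) ≤ 114 * Nat.card (C.gen R 0) := up_low H3_ub GT3_lb0 (by decide +kernel)
theorem G_T3n : (DC1 (C.gen R 28672) (C.el (R 16))).ncard ≤ Nat.card (C.gen R 28672) * 114 := ncard_DC1 GT3_in88.gen_le G_T3c G_T3u
theorem GT4_in103 : C.Mem R (C.gen R 28672) 0 := H3_m0.slp' chk102
theorem GT4_m0 : C.Mem R (C.gen R 0) 0 := GC.Mem.gen GT4_in103.top
theorem GT4_lb0 : 1 ≤ Nat.card (C.gen R 0) := Nat.card_pos
theorem G_T4c : ∀ τ ∈ (C.gen R 0), C.el (R 17) * τ * (C.el (R 17))⁻¹ ∈ (C.gen R 28672) := H3_m0.conjA (G_I.get (i := 17) (by decide +kernel)).top GT4_in103.top chk105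
theorem cov114 : Cov (C.gen R 0) (C.wds R (List.map Prod.fst (l106))) pt22 38 := Act.cov_of_seen (Act.pieces_sound GT4_m0 H3_m0.top pt22r chk112) chk113
theorem G_T4d : Dec (C.gen R 28672) (C.gen R 0) (C.wds R (List.map Prod.fst (l106))) (C.gen R 17179869184) := cov114.dec GT4_in103.gen_le (GC.wds_sub H3_m0 chk115) GK_in29.gen_le fx44 (up_low H3_ub GK_lb0 (by decide +kernel))
theorem G_T4p : ∀ x ∈ DC1 (C.gen R 28672) (C.el (R 17)), x * C.el (R 1) ∈ DCs (C.gen R 28672) (C.els R 17179836418) := GC.dc_piece' G_T4d G_T4c G_Kc (H3_m0.dcRel G_I.top (G_I.get (i := 17) (by decide +kernel)).top (G_m0.get (i := 1) (by decide +kernel)).top chk107)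
theorem G_T4u : Nat.card (C.gen R 28672) ≤ 114 * Nat.card (C.gen R 0) := up_low H3_ub GT4_lb0 (by decide +kernel)
theorem G_T4n : (DC1 (C.gen R 28672) (C.el (R 17))).ncard ≤ Nat.card (C.gen R 28672) * 114 := ncard_DC1 GT4_in103.gen_le G_T4c G_T4u
theorem GT5_in118 : C.Mem R (C.gen R 28672) 0 := H3_m0.slp' chk117
theorem GT5_m0 : C.Mem R (C.gen R 0) 0 := GC.Mem.gen GT5_in118.top
theorem GT5_lb0 : 1 ≤ Nat.card (C.gen R 0) := Nat.card_pos
theorem G_T5c : ∀ τ ∈ (C.gen R 0), C.el (R 18) * τ * (C.el (R 18))⁻¹ ∈ (C.gen R 28672) := H3_m0.conjA (G_I.get (i := 18) (by decide +kernel)).top GT5_in118.top chk120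
theorem cov129 : Cov (C.gen R 0) (C.wds R (List.map Prod.fst (l121))) pt22 38 := Act.cov_of_seen (Act.pieces_sound GT5_m0 H3_m0.top pt22r chk127) chk128
theorem G_T5d : Dec (C.gen R 28672) (C.gen R 0) (C.wds R (List.map Prod.fst (l121))) (C.gen R 17179869184) := cov129.dec GT5_in118.gen_le (GC.wds_sub H3_m0 chk130) GK_in29.gen_le fx44 (up_low H3_ub GK_lb0 (by decide +kernel))
theorem G_T5p : ∀ x ∈ DC1 (C.gen R 28672) (C.el (R 18)), x * C.el (R 1) ∈ DCs (C.gen R 28672) (C.els R 17179836418) := GC.dc_piece' G_T5d G_T5c G_Kc (H3_m0.dcRel G_I.top (G_I.get (i := 18) (by decide +kernel)).top (G_m0.get (i := 1) (by decide +kernel)).top chk122)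
theorem G_T5u : Nat.card (C.gen R 28672) ≤ 114 * Nat.card (C.gen R 0) := up_low H3_ub GT5_lb0 (by decide +kernel)
theorem G_T5n : (DC1 (C.gen R 28672) (C.el (R 18))).ncard ≤ Nat.card (C.gen R 28672) * 114 := ncard_DC1 GT5_in118.gen_le G_T5c G_T5u
theorem GT6_in133 : C.Mem R (C.gen R 28672) 0 := H3_m0.slp' chk132
theorem GT6_m0 : C.Mem R (C.gen R 0) 0 := GC.Mem.gen GT6_in133.top
theorem GT6_lb0 : 1 ≤ Nat.card (C.gen R 0) := Nat.card_pos
theorem G_T6c : ∀ τ ∈ (C.gen R 0), C.el (R 19) * τ * (C.el (R 19))⁻¹ ∈ (C.gen R 28672) := H3_m0.conjA (G_I.get (i := 19) (by decide +kernel)).top GT6_in133.top chk135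
theorem cov144 : Cov (C.gen R 0) (C.wds R (List.map Prod.fst (l136))) pt22 38 := Act.cov_of_seen (Act.pieces_sound GT6_m0 H3_m0.top pt22r chk142) chk143
theorem G_T6d : Dec (C.gen R 28672) (C.gen R 0) (C.wds R (List.map Prod.fst (l136))) (C.gen R 17179869184) := cov144.dec GT6_in133.gen_le (GC.wds_sub H3_m0 chk145) GK_in29.gen_le fx44 (up_low H3_ub GK_lb0 (by decide +kernel))
theorem G_T6p : ∀ x ∈ DC1 (C.gen R 28672) (C.el (R 19)), x * C.el (R 1) ∈ DCs (C.gen R 28672) (C.els R 17179836418) := GC.dc_piece' G_T6d G_T6c G_Kc (H3_m0.dcRel G_I.top (G_I.get (i := 19) (by decide +kernel)).top (G_m0.get (i := 1) (by decide +kernel)).top chk137)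
theorem G_T6u : Nat.card (C.gen R 28672) ≤ 114 * Nat.card (C.gen R 0) := up_low H3_ub GT6_lb0 (by decide +kernel)
theorem G_T6n : (DC1 (C.gen R 28672) (C.el (R 19))).ncard ≤ Nat.card (C.gen R 28672) * 114 := ncard_DC1 GT6_in133.gen_le G_T6c G_T6u
theorem GT7_in148 : C.Mem R (C.gen R 28672) 68719476736 := H3_m0.slp' chk147
theorem GT7_m0 : C.Mem R (C.gen R 68719476736) 68719476736 := GC.Mem.gen GT7_in148.top
theorem pt149e : ∃ x, A0.Rep pt149c x := PP.exists_vec P_ok (c := 0x1) (by decide +kernel)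
noncomputable def pt149 := Classical.choose pt149e
theorem pt149r : A0.Rep pt149c pt149 := Classical.choose_spec pt149e
theorem GT7_c0i : C.Mem R (C.gen R 68719476736) 0 := GT7_m0.sub chk150
theorem GT7_c0m : C.Mem R (C.gen R 0) 0 := GT7_c0i.gen
theorem fx152 : C.gen R 0 ≤ stabilizer _ pt149 := Act.fix_sound GT7_c0i.top pt149r chk151
theorem cov159 : Cov (C.gen R 68719476736) (C.wds R [0]) pt149 2 := Act.cov_of_seen (Act.pieces_sound GT7_m0 GT7_m0.top pt149r chk157) chk158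
theorem GT7_lb1 : 1 ≤ Nat.card (C.gen R 0) := Nat.card_pos
theorem GT7_lo0 : 2 * Nat.card (C.gen R 0) ≤ Nat.card (C.gen R 68719476736) := cov159.low le_rfl (GC.wds_zero _) GT7_c0i.gen_le fx152
theorem GT7_lb0 : 2 ≤ Nat.card (C.gen R 68719476736) := low_step GT7_lo0 GT7_lb1 (by decide +kernel)
theorem G_T7c : ∀ τ ∈ (C.gen R 68719476736), C.el (R 20) * τ * (C.el (R 20))⁻¹ ∈ (C.gen R 28672) := H3_m0.conjA (G_I.get (i := 20) (by decide +kernel)).top GT7_in148.top chk161
theorem cov170 : Cov (C.gen R 68719476736) (C.wds R (List.map Prod.fst (l162))) pt22 38 := Act.cov_of_seen (Act.pieces_sound GT7_m0 H3_m0.top pt22r chk168) chk169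
theorem G_T7d : Dec (C.gen R 28672) (C.gen R 68719476736) (C.wds R (List.map Prod.fst (l162))) (C.gen R 17179869184) := cov170.dec GT7_in148.gen_le (GC.wds_sub H3_m0 chk171) GK_in29.gen_le fx44 (up_low H3_ub GK_lb0 (by decide +kernel))
theorem G_T7p : ∀ x ∈ DC1 (C.gen R 28672) (C.el (R 20)), x * C.el (R 1) ∈ DCs (C.gen R 28672) (C.els R 17179836418) := GC.dc_piece' G_T7d G_T7c G_Kc (H3_m0.dcRel G_I.top (G_I.get (i := 20) (by decide +kernel)).top (G_m0.get (i := 1) (by decide +kernel)).top chk163)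
theorem G_T7u : Nat.card (C.gen R 28672) ≤ 57 * Nat.card (C.gen R 68719476736) := up_low H3_ub GT7_lb0 (by decide +kernel)
theorem G_T7n : (DC1 (C.gen R 28672) (C.el (R 20))).ncard ≤ Nat.card (C.gen R 28672) * 57 := ncard_DC1 GT7_in148.gen_le G_T7c G_T7u
theorem GT8_in174 : C.Mem R (C.gen R 28672) 137438953472 := H3_m0.slp' chk173
theorem GT8_m0 : C.Mem R (C.gen R 137438953472) 137438953472 := GC.Mem.gen GT8_in174.top
theorem pt175e : ∃ x, A0.Rep pt175c x := PP.exists_vec P_ok (c := 0x1) (by decide +kernel)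
noncomputable def pt175 := Classical.choose pt175e
theorem pt175r : A0.Rep pt175c pt175 := Classical.choose_spec pt175e
theorem GT8_c0i : C.Mem R (C.gen R 137438953472) 0 := GT8_m0.sub chk176
theorem GT8_c0m : C.Mem R (C.gen R 0) 0 := GT8_c0i.gen
theorem fx178 : C.gen R 0 ≤ stabilizer _ pt175 := Act.fix_sound GT8_c0i.top pt175r chk177
theorem cov185 : Cov (C.gen R 137438953472) (C.wds R [0]) pt175 3 := Act.cov_of_seen (Act.pieces_sound GT8_m0 GT8_m0.top pt175r chk183) chk184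
theorem GT8_lb1 : 1 ≤ Nat.card (C.gen R 0) := Nat.card_pos
theorem GT8_lo0 : 3 * Nat.card (C.gen R 0) ≤ Nat.card (C.gen R 137438953472) := cov185.low le_rfl (GC.wds_zero _) GT8_c0i.gen_le fx178
theorem GT8_lb0 : 3 ≤ Nat.card (C.gen R 137438953472) := low_step GT8_lo0 GT8_lb1 (by decide +kernel)
theorem G_T8c : ∀ τ ∈ (C.gen R 137438953472), C.el (R 21) * τ * (C.el (R 21))⁻¹ ∈ (C.gen R 28672) := H3_m0.conjA (G_I.get (i := 21) (by decide +kernel)).top GT8_in174.top chk187
theorem cov196 : Cov (C.gen R 137438953472) (C.wds R (List.map Prod.fst (l188))) pt22 38 := Act.cov_of_seen (Act.pieces_sound GT8_m0 H3_m0.top pt22r chk194) chk195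
theorem G_T8d : Dec (C.gen R 28672) (C.gen R 137438953472) (C.wds R (List.map Prod.fst (l188))) (C.gen R 17179869184) := cov196.dec GT8_in174.gen_le (GC.wds_sub H3_m0 chk197) GK_in29.gen_le fx44 (up_low H3_ub GK_lb0 (by decide +kernel))
theorem G_T8p : ∀ x ∈ DC1 (C.gen R 28672) (C.el (R 21)), x * C.el (R 1) ∈ DCs (C.gen R 28672) (C.els R 17179836418) := GC.dc_piece' G_T8d G_T8c G_Kc (H3_m0.dcRel G_I.top (G_I.get (i := 21) (by decide +kernel)).top (G_m0.get (i := 1) (by decide +kernel)).top chk189)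
theorem G_T8u : Nat.card (C.gen R 28672) ≤ 38 * Nat.card (C.gen R 137438953472) := up_low H3_ub GT8_lb0 (by decide +kernel)
theorem G_T8n : (DC1 (C.gen R 28672) (C.el (R 21))).ncard ≤ Nat.card (C.gen R 28672) * 38 := ncard_DC1 GT8_in174.gen_le G_T8c G_T8u
theorem GT9_in200 : C.Mem R (C.gen R 28672) 274877906944 := H3_m0.slp' chk199
theorem GT9_m0 : C.Mem R (C.gen R 274877906944) 274877906944 := GC.Mem.gen GT9_in200.top
theorem pt201e : ∃ x, A0.Rep pt201c x := PP.exists_vec P_ok (c := 0x1) (by decide +kernel)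
noncomputable def pt201 := Classical.choose pt201e
theorem pt201r : A0.Rep pt201c pt201 := Classical.choose_spec pt201e
theorem GT9_c0i : C.Mem R (C.gen R 274877906944) 0 := GT9_m0.sub chk202
theorem GT9_c0m : C.Mem R (C.gen R 0) 0 := GT9_c0i.gen
theorem fx204 : C.gen R 0 ≤ stabilizer _ pt201 := Act.fix_sound GT9_c0i.top pt201r chk203
theorem cov211 : Cov (C.gen R 274877906944) (C.wds R [0]) pt201 2 := Act.cov_of_seen (Act.pieces_sound GT9_m0 GT9_m0.top pt201r chk209) chk210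
theorem GT9_lb1 : 1 ≤ Nat.card (C.gen R 0) := Nat.card_pos
theorem GT9_lo0 : 2 * Nat.card (C.gen R 0) ≤ Nat.card (C.gen R 274877906944) := cov211.low le_rfl (GC.wds_zero _) GT9_c0i.gen_le fx204
theorem GT9_lb0 : 2 ≤ Nat.card (C.gen R 274877906944) := low_step GT9_lo0 GT9_lb1 (by decide +kernel)
theorem G_T9c : ∀ τ ∈ (C.gen R 274877906944), C.el (R 22) * τ * (C.el (R 22))⁻¹ ∈ (C.gen R 28672) := H3_m0.conjA (G_I.get (i := 22) (by decide +kernel)).top GT9_in200.top chk213
theorem cov222 : Cov (C.gen R 274877906944) (C.wds R (List.map Prod.fst (l214))) pt22 38 := Act.cov_of_seen (Act.pieces_sound GT9_m0 H3_m0.top pt22r chk220) chk221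
theorem G_T9d : Dec (C.gen R 28672) (C.gen R 274877906944) (C.wds R (List.map Prod.fst (l214))) (C.gen R 17179869184) := cov222.dec GT9_in200.gen_le (GC.wds_sub H3_m0 chk223) GK_in29.gen_le fx44 (up_low H3_ub GK_lb0 (by decide +kernel))
theorem G_T9p : ∀ x ∈ DC1 (C.gen R 28672) (C.el (R 22)), x * C.el (R 1) ∈ DCs (C.gen R 28672) (C.els R 17179836418) := GC.dc_piece' G_T9d G_T9c G_Kc (H3_m0.dcRel G_I.top (G_I.get (i := 22) (by decide +kernel)).top (G_m0.get (i := 1) (by decide +kernel)).top chk215)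
theorem G_T9u : Nat.card (C.gen R 28672) ≤ 57 * Nat.card (C.gen R 274877906944) := up_low H3_ub GT9_lb0 (by decide +kernel)
theorem G_T9n : (DC1 (C.gen R 28672) (C.el (R 22))).ncard ≤ Nat.card (C.gen R 28672) * 57 := ncard_DC1 GT9_in200.gen_le G_T9c G_T9u
theorem GT10_in226 : C.Mem R (C.gen R 28672) 549755813888 := H3_m0.slp' chk225
theorem GT10_m0 : C.Mem R (C.gen R 549755813888) 549755813888 := GC.Mem.gen GT10_in226.top
theorem pt227e : ∃ x, A0.Rep pt227c x := PP.exists_vec P_ok (c := 0x1) (by decide +kernel)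
noncomputable def pt227 := Classical.choose pt227e
theorem pt227r : A0.Rep pt227c pt227 := Classical.choose_spec pt227e
theorem GT10_c0i : C.Mem R (C.gen R 549755813888) 0 := GT10_m0.sub chk228
theorem GT10_c0m : C.Mem R (C.gen R 0) 0 := GT10_c0i.gen
theorem fx230 : C.gen R 0 ≤ stabilizer _ pt227 := Act.fix_sound GT10_c0i.top pt227r chk229
theorem cov237 : Cov (C.gen R 549755813888) (C.wds R [0]) pt227 2 := Act.cov_of_seen (Act.pieces_sound GT10_m0 GT10_m0.top pt227r chk235) chk236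
theorem GT10_lb1 : 1 ≤ Nat.card (C.gen R 0) := Nat.card_pos
theorem GT10_lo0 : 2 * Nat.card (C.gen R 0) ≤ Nat.card (C.gen R 549755813888) := cov237.low le_rfl (GC.wds_zero _) GT10_c0i.gen_le fx230
theorem GT10_lb0 : 2 ≤ Nat.card (C.gen R 549755813888) := low_step GT10_lo0 GT10_lb1 (by decide +kernel)
theorem G_T10c : ∀ τ ∈ (C.gen R 549755813888), C.el (R 23) * τ * (C.el (R 23))⁻¹ ∈ (C.gen R 28672) := H3_m0.conjA (G_I.get (i := 23) (by decide +kernel)).top GT10_in226.top chk239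
theorem cov248 : Cov (C.gen R 549755813888) (C.wds R (List.map Prod.fst (l240))) pt22 38 := Act.cov_of_seen (Act.pieces_sound GT10_m0 H3_m0.top pt22r chk246) chk247
theorem G_T10d : Dec (C.gen R 28672) (C.gen R 549755813888) (C.wds R (List.map Prod.fst (l240))) (C.gen R 17179869184) := cov248.dec GT10_in226.gen_le (GC.wds_sub H3_m0 chk249) GK_in29.gen_le fx44 (up_low H3_ub GK_lb0 (by decide +kernel))
theorem G_T10p : ∀ x ∈ DC1 (C.gen R 28672) (C.el (R 23)), x * C.el (R 1) ∈ DCs (C.gen R 28672) (C.els R 17179836418) := GC.dc_piece' G_T10d G_T10c G_Kc (H3_m0.dcRel G_I.top (G_I.get (i := 23) (by decide +kernel)).top (G_m0.get (i := 1) (by decide +kernel)).top chk241)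
theorem G_T10u : Nat.card (C.gen R 28672) ≤ 57 * Nat.card (C.gen R 549755813888) := up_low H3_ub GT10_lb0 (by decide +kernel)
theorem G_T10n : (DC1 (C.gen R 28672) (C.el (R 23))).ncard ≤ Nat.card (C.gen R 28672) * 57 := ncard_DC1 GT10_in226.gen_le G_T10c G_T10u
theorem GT11_in252 : C.Mem R (C.gen R 28672) 0 := H3_m0.slp' chk251
theorem GT11_m0 : C.Mem R (C.gen R 0) 0 := GC.Mem.gen GT11_in252.top
theorem GT11_lb0 : 1 ≤ Nat.card (C.gen R 0) := Nat.card_pos
theorem G_T11c : ∀ τ ∈ (C.gen R 0), C.el (R 24) * τ * (C.el (R 24))⁻¹ ∈ (C.gen R 28672) := H3_m0.conjA (G_I.get (i := 24) (by decide +kernel)).top GT11_in252.top chk254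
theorem cov263 : Cov (C.gen R 0) (C.wds R (List.map Prod.fst (l255))) pt22 38 := Act.cov_of_seen (Act.pieces_sound GT11_m0 H3_m0.top pt22r chk261) chk262
theorem G_T11d : Dec (C.gen R 28672) (C.gen R 0) (C.wds R (List.map Prod.fst (l255))) (C.gen R 17179869184) := cov263.dec GT11_in252.gen_le (GC.wds_sub H3_m0 chk264) GK_in29.gen_le fx44 (up_low H3_ub GK_lb0 (by decide +kernel))
theorem G_T11p : ∀ x ∈ DC1 (C.gen R 28672) (C.el (R 24)), x * C.el (R 1) ∈ DCs (C.gen R 28672) (C.els R 17179836418) := GC.dc_piece' G_T11d G_T11c G_Kc (H3_m0.dcRel G_I.top (G_I.get (i := 24) (by decide +kernel)).top (G_m0.get (i := 1) (by decide +kernel)).top chk256)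
theorem G_T11u : Nat.card (C.gen R 28672) ≤ 114 * Nat.card (C.gen R 0) := up_low H3_ub GT11_lb0 (by decide +kernel)
theorem G_T11n : (DC1 (C.gen R 28672) (C.el (R 24))).ncard ≤ Nat.card (C.gen R 28672) * 114 := ncard_DC1 GT11_in252.gen_le G_T11c G_T11u
theorem GT12_in267 : C.Mem R (C.gen R 28672) 1099511627776 := H3_m0.slp' chk266
theorem GT12_m0 : C.Mem R (C.gen R 1099511627776) 1099511627776 := GC.Mem.gen GT12_in267.top
theorem pt268e : ∃ x, A0.Rep pt268c x := PP.exists_vec P_ok (c := 0x1) (by decide +kernel)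
noncomputable def pt268 := Classical.choose pt268e
theorem pt268r : A0.Rep pt268c pt268 := Classical.choose_spec pt268e
theorem GT12_c0i : C.Mem R (C.gen R 1099511627776) 0 := GT12_m0.sub chk269
theorem GT12_c0m : C.Mem R (C.gen R 0) 0 := GT12_c0i.gen
theorem fx271 : C.gen R 0 ≤ stabilizer _ pt268 := Act.fix_sound GT12_c0i.top pt268r chk270
theorem cov278 : Cov (C.gen R 1099511627776) (C.wds R [0]) pt268 3 := Act.cov_of_seen (Act.pieces_sound GT12_m0 GT12_m0.top pt268r chk276) chk277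
theorem GT12_lb1 : 1 ≤ Nat.card (C.gen R 0) := Nat.card_pos
theorem GT12_lo0 : 3 * Nat.card (C.gen R 0) ≤ Nat.card (C.gen R 1099511627776) := cov278.low le_rfl (GC.wds_zero _) GT12_c0i.gen_le fx271
theorem GT12_lb0 : 3 ≤ Nat.card (C.gen R 1099511627776) := low_step GT12_lo0 GT12_lb1 (by decide +kernel)
theorem G_T12c : ∀ τ ∈ (C.gen R 1099511627776), C.el (R 25) * τ * (C.el (R 25))⁻¹ ∈ (C.gen R 28672) := H3_m0.conjA (G_I.get (i := 25) (by decide +kernel)).top GT12_in267.top chk280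
theorem cov289 : Cov (C.gen R 1099511627776) (C.wds R (List.map Prod.fst (l281))) pt22 38 := Act.cov_of_seen (Act.pieces_sound GT12_m0 H3_m0.top pt22r chk287) chk288
theorem G_T12d : Dec (C.gen R 28672) (C.gen R 1099511627776) (C.wds R (List.map Prod.fst (l281))) (C.gen R 17179869184) := cov289.dec GT12_in267.gen_le (GC.wds_sub H3_m0 chk290) GK_in29.gen_le fx44 (up_low H3_ub GK_lb0 (by decide +kernel))
theorem G_T12p : ∀ x ∈ DC1 (C.gen R 28672) (C.el (R 25)), x * C.el (R 1) ∈ DCs (C.gen R 28672) (C.els R 17179836418) := GC.dc_piece' G_T12d G_T12c G_Kc (H3_m0.dcRel G_I.top (G_I.get (i := 25) (by decide +kernel)).top (G_m0.get (i := 1) (by decide +kernel)).top chk282)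
theorem G_T12u : Nat.card (C.gen R 28672) ≤ 38 * Nat.card (C.gen R 1099511627776) := up_low H3_ub GT12_lb0 (by decide +kernel)
theorem G_T12n : (DC1 (C.gen R 28672) (C.el (R 25))).ncard ≤ Nat.card (C.gen R 28672) * 38 := ncard_DC1 GT12_in267.gen_le G_T12c G_T12u
theorem GT13_in301 : C.Mem R (C.gen R 28672) 2199023255552 := H3_m0.slp' chk300
theorem GT13_m0 : C.Mem R (C.gen R 2199023255552) 2199023255552 := GC.Mem.gen GT13_in301.top
theorem pt302e : ∃ x, A0.Rep pt302c x := PP.exists_vec P_ok (c := 0x1) (by decide +kernel)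
noncomputable def pt302 := Classical.choose pt302e
theorem pt302r : A0.Rep pt302c pt302 := Classical.choose_spec pt302e
theorem GT13_c0i : C.Mem R (C.gen R 2199023255552) 0 := GT13_m0.sub chk303
theorem GT13_c0m : C.Mem R (C.gen R 0) 0 := GT13_c0i.gen
theorem fx305 : C.gen R 0 ≤ stabilizer _ pt302 := Act.fix_sound GT13_c0i.top pt302r chk304
theorem cov312 : Cov (C.gen R 2199023255552) (C.wds R [0]) pt302 6 := Act.cov_of_seen (Act.pieces_sound GT13_m0 GT13_m0.top pt302r chk310) chk311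
theorem GT13_lb1 : 1 ≤ Nat.card (C.gen R 0) := Nat.card_pos
theorem GT13_lo0 : 6 * Nat.card (C.gen R 0) ≤ Nat.card (C.gen R 2199023255552) := cov312.low le_rfl (GC.wds_zero _) GT13_c0i.gen_le fx305
theorem GT13_lb0 : 6 ≤ Nat.card (C.gen R 2199023255552) := low_step GT13_lo0 GT13_lb1 (by decide +kernel)
theorem G_T13c : ∀ τ ∈ (C.gen R 2199023255552), C.el (R 26) * τ * (C.el (R 26))⁻¹ ∈ (C.gen R 28672) := H3_m0.conjA (G_I.get (i := 26) (by decide +kernel)).top GT13_in301.top chk314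
theorem cov323 : Cov (C.gen R 2199023255552) (C.wds R (List.map Prod.fst (l315))) pt22 38 := Act.cov_of_seen (Act.pieces_sound GT13_m0 H3_m0.top pt22r chk321) chk322
theorem G_T13d : Dec (C.gen R 28672) (C.gen R 2199023255552) (C.wds R (List.map Prod.fst (l315))) (C.gen R 17179869184) := cov323.dec GT13_in301.gen_le (GC.wds_sub H3_m0 chk324) GK_in29.gen_le fx44 (up_low H3_ub GK_lb0 (by decide +kernel))
theorem G_T13p : ∀ x ∈ DC1 (C.gen R 28672) (C.el (R 26)), x * C.el (R 1) ∈ DCs (C.gen R 28672) (C.els R 17179836418) := GC.dc_piece' G_T13d G_T13c G_Kc (H3_m0.dcRel G_I.top (G_I.get (i := 26) (by decide +kernel)).top (G_m0.get (i := 1) (by decide +kernel)).top chk316)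
theorem G_T13u : Nat.card (C.gen R 28672) ≤ 19 * Nat.card (C.gen R 2199023255552) := up_low H3_ub GT13_lb0 (by decide +kernel)
theorem G_T13n : (DC1 (C.gen R 28672) (C.el (R 26))).ncard ≤ Nat.card (C.gen R 28672) * 19 := ncard_DC1 GT13_in301.gen_le G_T13c G_T13u
theorem GT14_in327 : C.Mem R (C.gen R 28672) 4398046511104 := H3_m0.slp' chk326
theorem GT14_m0 : C.Mem R (C.gen R 4398046511104) 4398046511104 := GC.Mem.gen GT14_in327.top
theorem pt328e : ∃ x, A0.Rep pt328c x := PP.exists_vec P_ok (c := 0x1) (by decide +kernel)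
noncomputable def pt328 := Classical.choose pt328e
theorem pt328r : A0.Rep pt328c pt328 := Classical.choose_spec pt328e
theorem GT14_c0i : C.Mem R (C.gen R 4398046511104) 0 := GT14_m0.sub chk329
theorem GT14_c0m : C.Mem R (C.gen R 0) 0 := GT14_c0i.gen
theorem fx331 : C.gen R 0 ≤ stabilizer _ pt328 := Act.fix_sound GT14_c0i.top pt328r chk330
theorem cov338 : Cov (C.gen R 4398046511104) (C.wds R [0]) pt328 2 := Act.cov_of_seen (Act.pieces_sound GT14_m0 GT14_m0.top pt328r chk336) chk337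
theorem GT14_lb1 : 1 ≤ Nat.card (C.gen R 0) := Nat.card_pos
theorem GT14_lo0 : 2 * Nat.card (C.gen R 0) ≤ Nat.card (C.gen R 4398046511104) := cov338.low le_rfl (GC.wds_zero _) GT14_c0i.gen_le fx331
theorem GT14_lb0 : 2 ≤ Nat.card (C.gen R 4398046511104) := low_step GT14_lo0 GT14_lb1 (by decide +kernel)
theorem G_T14c : ∀ τ ∈ (C.gen R 4398046511104), C.el (R 27) * τ * (C.el (R 27))⁻¹ ∈ (C.gen R 28672) := H3_m0.conjA (G_I.get (i := 27) (by decide +kernel)).top GT14_in327.top chk340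
theorem cov349 : Cov (C.gen R 4398046511104) (C.wds R (List.map Prod.fst (l341))) pt22 38 := Act.cov_of_seen (Act.pieces_sound GT14_m0 H3_m0.top pt22r chk347) chk348
theorem G_T14d : Dec (C.gen R 28672) (C.gen R 4398046511104) (C.wds R (List.map Prod.fst (l341))) (C.gen R 17179869184) := cov349.dec GT14_in327.gen_le (GC.wds_sub H3_m0 chk350) GK_in29.gen_le fx44 (up_low H3_ub GK_lb0 (by decide +kernel))
theorem G_T14p : ∀ x ∈ DC1 (C.gen R 28672) (C.el (R 27)), x * C.el (R 1) ∈ DCs (C.gen R 28672) (C.els R 17179836418) := GC.dc_piece' G_T14d G_T14c G_Kc (H3_m0.dcRel G_I.top (G_I.get (i := 27) (by decide +kernel)).top (G_m0.get (i := 1) (by decide +kernel)).top chk342)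
theorem G_T14u : Nat.card (C.gen R 28672) ≤ 57 * Nat.card (C.gen R 4398046511104) := up_low H3_ub GT14_lb0 (by decide +kernel)
theorem G_T14n : (DC1 (C.gen R 28672) (C.el (R 27))).ncard ≤ Nat.card (C.gen R 28672) * 57 := ncard_DC1 GT14_in327.gen_le G_T14c G_T14u
theorem GT15_in353 : C.Mem R (C.gen R 28672) 0 := H3_m0.slp' chk352
theorem GT15_m0 : C.Mem R (C.gen R 0) 0 := GC.Mem.gen GT15_in353.top
theorem GT15_lb0 : 1 ≤ Nat.card (C.gen R 0) := Nat.card_pos
theorem G_T15c : ∀ τ ∈ (C.gen R 0), C.el (R 28) * τ * (C.el (R 28))⁻¹ ∈ (C.gen R 28672) := H3_m0.conjA (G_I.get (i := 28) (by decide +kernel)).top GT15_in353.top chk355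
theorem cov364 : Cov (C.gen R 0) (C.wds R (List.map Prod.fst (l356))) pt22 38 := Act.cov_of_seen (Act.pieces_sound GT15_m0 H3_m0.top pt22r chk362) chk363
theorem G_T15d : Dec (C.gen R 28672) (C.gen R 0) (C.wds R (List.map Prod.fst (l356))) (C.gen R 17179869184) := cov364.dec GT15_in353.gen_le (GC.wds_sub H3_m0 chk365) GK_in29.gen_le fx44 (up_low H3_ub GK_lb0 (by decide +kernel))
theorem G_T15p : ∀ x ∈ DC1 (C.gen R 28672) (C.el (R 28)), x * C.el (R 1) ∈ DCs (C.gen R 28672) (C.els R 17179836418) := GC.dc_piece' G_T15d G_T15c G_Kc (H3_m0.dcRel G_I.top (G_I.get (i := 28) (by decide +kernel)).top (G_m0.get (i := 1) (by decide +kernel)).top chk357)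
theorem G_T15u : Nat.card (C.gen R 28672) ≤ 114 * Nat.card (C.gen R 0) := up_low H3_ub GT15_lb0 (by decide +kernel)
theorem G_T15n : (DC1 (C.gen R 28672) (C.el (R 28))).ncard ≤ Nat.card (C.gen R 28672) * 114 := ncard_DC1 GT15_in353.gen_le G_T15c G_T15u
theorem GT16_in368 : C.Mem R (C.gen R 28672) 0 := H3_m0.slp' chk367
theorem GT16_m0 : C.Mem R (C.gen R 0) 0 := GC.Mem.gen GT16_in368.top
theorem GT16_lb0 : 1 ≤ Nat.card (C.gen R 0) := Nat.card_pos
theorem G_T16c : ∀ τ ∈ (C.gen R 0), C.el (R 29) * τ * (C.el (R 29))⁻¹ ∈ (C.gen R 28672) := H3_m0.conjA (G_I.get (i := 29) (by decide +kernel)).top GT16_in368.top chk370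
theorem cov379 : Cov (C.gen R 0) (C.wds R (List.map Prod.fst (l371))) pt22 38 := Act.cov_of_seen (Act.pieces_sound GT16_m0 H3_m0.top pt22r chk377) chk378
theorem G_T16d : Dec (C.gen R 28672) (C.gen R 0) (C.wds R (List.map Prod.fst (l371))) (C.gen R 17179869184) := cov379.dec GT16_in368.gen_le (GC.wds_sub H3_m0 chk380) GK_in29.gen_le fx44 (up_low H3_ub GK_lb0 (by decide +kernel))
theorem G_T16p : ∀ x ∈ DC1 (C.gen R 28672) (C.el (R 29)), x * C.el (R 1) ∈ DCs (C.gen R 28672) (C.els R 17179836418) := GC.dc_piece' G_T16d G_T16c G_Kc (H3_m0.dcRel G_I.top (G_I.get (i := 29) (by decide +kernel)).top (G_m0.get (i := 1) (by decide +kernel)).top chk372)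
theorem G_T16u : Nat.card (C.gen R 28672) ≤ 114 * Nat.card (C.gen R 0) := up_low H3_ub GT16_lb0 (by decide +kernel)
theorem G_T16n : (DC1 (C.gen R 28672) (C.el (R 29))).ncard ≤ Nat.card (C.gen R 28672) * 114 := ncard_DC1 GT16_in368.gen_le G_T16c G_T16u
theorem GT17_in383 : C.Mem R (C.gen R 28672) 0 := H3_m0.slp' chk382
theorem GT17_m0 : C.Mem R (C.gen R 0) 0 := GC.Mem.gen GT17_in383.top
theorem GT17_lb0 : 1 ≤ Nat.card (C.gen R 0) := Nat.card_pos
theorem G_T17c : ∀ τ ∈ (C.gen R 0), C.el (R 30) * τ * (C.el (R 30))⁻¹ ∈ (C.gen R 28672) := H3_m0.conjA (G_I.get (i := 30) (by decide +kernel)).top GT17_in383.top chk385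
theorem cov394 : Cov (C.gen R 0) (C.wds R (List.map Prod.fst (l386))) pt22 38 := Act.cov_of_seen (Act.pieces_sound GT17_m0 H3_m0.top pt22r chk392) chk393
theorem G_T17d : Dec (C.gen R 28672) (C.gen R 0) (C.wds R (List.map Prod.fst (l386))) (C.gen R 17179869184) := cov394.dec GT17_in383.gen_le (GC.wds_sub H3_m0 chk395) GK_in29.gen_le fx44 (up_low H3_ub GK_lb0 (by decide +kernel))
theorem G_T17p : ∀ x ∈ DC1 (C.gen R 28672) (C.el (R 30)), x * C.el (R 1) ∈ DCs (C.gen R 28672) (C.els R 17179836418) := GC.dc_piece' G_T17d G_T17c G_Kc (H3_m0.dcRel G_I.top (G_I.get (i := 30) (by decide +kernel)).top (G_m0.get (i := 1) (by decide +kernel)).top chk387)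
theorem G_T17u : Nat.card (C.gen R 28672) ≤ 114 * Nat.card (C.gen R 0) := up_low H3_ub GT17_lb0 (by decide +kernel)
theorem G_T17n : (DC1 (C.gen R 28672) (C.el (R 30))).ncard ≤ Nat.card (C.gen R 28672) * 114 := ncard_DC1 GT17_in383.gen_le G_T17c G_T17u
theorem GT18_in398 : C.Mem R (C.gen R 28672) 8796093022208 := H3_m0.slp' chk397
theorem GT18_m0 : C.Mem R (C.gen R 8796093022208) 8796093022208 := GC.Mem.gen GT18_in398.top
theorem pt399e : ∃ x, A0.Rep pt399c x := PP.exists_vec P_ok (c := 0x1) (by decide +kernel)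
noncomputable def pt399 := Classical.choose pt399e
theorem pt399r : A0.Rep pt399c pt399 := Classical.choose_spec pt399e
theorem GT18_c0i : C.Mem R (C.gen R 8796093022208) 0 := GT18_m0.sub chk400
theorem GT18_c0m : C.Mem R (C.gen R 0) 0 := GT18_c0i.gen
theorem fx402 : C.gen R 0 ≤ stabilizer _ pt399 := Act.fix_sound GT18_c0i.top pt399r chk401
theorem cov409 : Cov (C.gen R 8796093022208) (C.wds R [0]) pt399 2 := Act.cov_of_seen (Act.pieces_sound GT18_m0 GT18_m0.top pt399r chk407) chk408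
theorem GT18_lb1 : 1 ≤ Nat.card (C.gen R 0) := Nat.card_pos
theorem GT18_lo0 : 2 * Nat.card (C.gen R 0) ≤ Nat.card (C.gen R 8796093022208) := cov409.low le_rfl (GC.wds_zero _) GT18_c0i.gen_le fx402
theorem GT18_lb0 : 2 ≤ Nat.card (C.gen R 8796093022208) := low_step GT18_lo0 GT18_lb1 (by decide +kernel)
theorem G_T18c : ∀ τ ∈ (C.gen R 8796093022208), C.el (R 31) * τ * (C.el (R 31))⁻¹ ∈ (C.gen R 28672) := H3_m0.conjA (G_I.get (i := 31) (by decide +kernel)).top GT18_in398.top chk411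
theorem cov420 : Cov (C.gen R 8796093022208) (C.wds R (List.map Prod.fst (l412))) pt22 38 := Act.cov_of_seen (Act.pieces_sound GT18_m0 H3_m0.top pt22r chk418) chk419
theorem G_T18d : Dec (C.gen R 28672) (C.gen R 8796093022208) (C.wds R (List.map Prod.fst (l412))) (C.gen R 17179869184) := cov420.dec GT18_in398.gen_le (GC.wds_sub H3_m0 chk421) GK_in29.gen_le fx44 (up_low H3_ub GK_lb0 (by decide +kernel))
theorem G_T18p : ∀ x ∈ DC1 (C.gen R 28672) (C.el (R 31)), x * C.el (R 1) ∈ DCs (C.gen R 28672) (C.els R 17179836418) := GC.dc_piece' G_T18d G_T18c G_Kc (H3_m0.dcRel G_I.top (G_I.get (i := 31) (by decide +kernel)).top (G_m0.get (i := 1) (by decide +kernel)).top chk413)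
theorem G_T18u : Nat.card (C.gen R 28672) ≤ 57 * Nat.card (C.gen R 8796093022208) := up_low H3_ub GT18_lb0 (by decide +kernel)
theorem G_T18n : (DC1 (C.gen R 28672) (C.el (R 31))).ncard ≤ Nat.card (C.gen R 28672) * 57 := ncard_DC1 GT18_in398.gen_le G_T18c G_T18u
theorem GT19_in424 : C.Mem R (C.gen R 28672) 17592186044416 := H3_m0.slp' chk423
theorem GT19_m0 : C.Mem R (C.gen R 17592186044416) 17592186044416 := GC.Mem.gen GT19_in424.top
theorem pt425e : ∃ x, A0.Rep pt425c x := PP.exists_vec P_ok (c := 0x1) (by decide +kernel)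
noncomputable def pt425 := Classical.choose pt425e
theorem pt425r : A0.Rep pt425c pt425 := Classical.choose_spec pt425e
theorem GT19_c0i : C.Mem R (C.gen R 17592186044416) 0 := GT19_m0.sub chk426
theorem GT19_c0m : C.Mem R (C.gen R 0) 0 := GT19_c0i.gen
theorem fx428 : C.gen R 0 ≤ stabilizer _ pt425 := Act.fix_sound GT19_c0i.top pt425r chk427
theorem cov435 : Cov (C.gen R 17592186044416) (C.wds R [0]) pt425 2 := Act.cov_of_seen (Act.pieces_sound GT19_m0 GT19_m0.top pt425r chk433) chk434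
theorem GT19_lb1 : 1 ≤ Nat.card (C.gen R 0) := Nat.card_pos
theorem GT19_lo0 : 2 * Nat.card (C.gen R 0) ≤ Nat.card (C.gen R 17592186044416) := cov435.low le_rfl (GC.wds_zero _) GT19_c0i.gen_le fx428
theorem GT19_lb0 : 2 ≤ Nat.card (C.gen R 17592186044416) := low_step GT19_lo0 GT19_lb1 (by decide +kernel)
theorem G_T19c : ∀ τ ∈ (C.gen R 17592186044416), C.el (R 32) * τ * (C.el (R 32))⁻¹ ∈ (C.gen R 28672) := H3_m0.conjA (G_I.get (i := 32) (by decide +kernel)).top GT19_in424.top chk437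
theorem cov446 : Cov (C.gen R 17592186044416) (C.wds R (List.map Prod.fst (l438))) pt22 38 := Act.cov_of_seen (Act.pieces_sound GT19_m0 H3_m0.top pt22r chk444) chk445
theorem G_T19d : Dec (C.gen R 28672) (C.gen R 17592186044416) (C.wds R (List.map Prod.fst (l438))) (C.gen R 17179869184) := cov446.dec GT19_in424.gen_le (GC.wds_sub H3_m0 chk447) GK_in29.gen_le fx44 (up_low H3_ub GK_lb0 (by decide +kernel))
theorem G_T19p : ∀ x ∈ DC1 (C.gen R 28672) (C.el (R 32)), x * C.el (R 1) ∈ DCs (C.gen R 28672) (C.els R 17179836418) := GC.dc_piece' G_T19d G_T19c G_Kc (H3_m0.dcRel G_I.top (G_I.get (i := 32) (by decide +kernel)).top (G_m0.get (i := 1) (by decide +kernel)).top chk439)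
theorem G_T19u : Nat.card (C.gen R 28672) ≤ 57 * Nat.card (C.gen R 17592186044416) := up_low H3_ub GT19_lb0 (by decide +kernel)
theorem G_T19n : (DC1 (C.gen R 28672) (C.el (R 32))).ncard ≤ Nat.card (C.gen R 28672) * 57 := ncard_DC1 GT19_in424.gen_le G_T19c G_T19u
theorem GT20_in450 : C.Mem R (C.gen R 28672) 35184372088832 := H3_m0.slp' chk449
theorem GT20_m0 : C.Mem R (C.gen R 35184372088832) 35184372088832 := GC.Mem.gen GT20_in450.top
theorem pt451e : ∃ x, A0.Rep pt451c x := PP.exists_vec P_ok (c := 0x1) (by decide +kernel)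
noncomputable def pt451 := Classical.choose pt451e
theorem pt451r : A0.Rep pt451c pt451 := Classical.choose_spec pt451e
theorem GT20_c0i : C.Mem R (C.gen R 35184372088832) 0 := GT20_m0.sub chk452
theorem GT20_c0m : C.Mem R (C.gen R 0) 0 := GT20_c0i.gen
theorem fx454 : C.gen R 0 ≤ stabilizer _ pt451 := Act.fix_sound GT20_c0i.top pt451r chk453
theorem cov461 : Cov (C.gen R 35184372088832) (C.wds R [0]) pt451 3 := Act.cov_of_seen (Act.pieces_sound GT20_m0 GT20_m0.top pt451r chk459) chk460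
theorem GT20_lb1 : 1 ≤ Nat.card (C.gen R 0) := Nat.card_pos
theorem GT20_lo0 : 3 * Nat.card (C.gen R 0) ≤ Nat.card (C.gen R 35184372088832) := cov461.low le_rfl (GC.wds_zero _) GT20_c0i.gen_le fx454
theorem GT20_lb0 : 3 ≤ Nat.card (C.gen R 35184372088832) := low_step GT20_lo0 GT20_lb1 (by decide +kernel)
theorem G_T20c : ∀ τ ∈ (C.gen R 35184372088832), C.el (R 33) * τ * (C.el (R 33))⁻¹ ∈ (C.gen R 28672) := H3_m0.conjA (G_I.get (i := 33) (by decide +kernel)).top GT20_in450.top chk463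
theorem cov472 : Cov (C.gen R 35184372088832) (C.wds R (List.map Prod.fst (l464))) pt22 38 := Act.cov_of_seen (Act.pieces_sound GT20_m0 H3_m0.top pt22r chk470) chk471
theorem G_T20d : Dec (C.gen R 28672) (C.gen R 35184372088832) (C.wds R (List.map Prod.fst (l464))) (C.gen R 17179869184) := cov472.dec GT20_in450.gen_le (GC.wds_sub H3_m0 chk473) GK_in29.gen_le fx44 (up_low H3_ub GK_lb0 (by decide +kernel))
theorem G_T20p : ∀ x ∈ DC1 (C.gen R 28672) (C.el (R 33)), x * C.el (R 1) ∈ DCs (C.gen R 28672) (C.els R 17179836418) := GC.dc_piece' G_T20d G_T20c G_Kc (H3_m0.dcRel G_I.top (G_I.get (i := 33) (by decide +kernel)).top (G_m0.get (i := 1) (by decide +kernel)).top chk465)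
theorem G_T20u : Nat.card (C.gen R 28672) ≤ 38 * Nat.card (C.gen R 35184372088832) := up_low H3_ub GT20_lb0 (by decide +kernel)
theorem G_T20n : (DC1 (C.gen R 28672) (C.el (R 33))).ncard ≤ Nat.card (C.gen R 28672) * 38 := ncard_DC1 GT20_in450.gen_le G_T20c G_T20u
theorem G_dc : ∀ x ∈ (C.gen R 28674), x ∈ DCs (C.gen R 28672) (C.els R 17179836418) := GC.dc_gen (MU := 2) H3_m0 (by decide +kernel) (GC.forall_els (L := [1]) (forall_cons ⟨H3_m0.inDC' G_I.top (G_m0.get (i := 1) (by decide +kernel)).top chk474, GC.forall_els (L := [1, 15, 16, 17, 18, 19, 20, 21, 22, 23, 24, 25, 26, 27, 28, 29, 30, 31, 32, 33]) (forall_cons G_T1p (forall_cons G_T2p (forall_cons G_T3p (forall_cons G_T4p (forall_cons G_T5p (forall_cons G_T6p (forall_cons G_T7p (forall_cons G_T8p (forall_cons G_T9p (forall_cons G_T10p (forall_cons G_T11p (forall_cons G_T12p (forall_cons G_T13p (forall_cons G_T14p (forall_cons G_T15p (forall_cons G_T16p (forall_cons G_T17p (forall_cons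 G_T18p (forall_cons G_T19p (forall_cons G_T20p forall_nil)))))))))))))))))))) (by decide +kernel)⟩ forall_nil) (by decide +kernel))
theorem G_cs : ∀ p ∈ ([(1, 38), (15, 114), (16, 114), (17, 114), (18, 114), (19, 114), (20, 57), (21, 38), (22, 57), (23, 57), (24, 114), (25, 38), (26, 19), (27, 57), (28, 114), (29, 114), (30, 114), (31, 57), (32, 57), (33, 38)] : List (ℕ × ℕ)), (DC1 (C.gen R 28672) (C.el (R p.1))).ncard ≤ Nat.card (C.gen R 28672) * p.2 := (forall_cons G_T1n (forall_cons G_T2n (forall_cons G_T3n (forall_cons G_T4n (forall_cons G_T5n (forall_cons G_T6n (forall_cons G_T7n (forall_cons G_T8n (forall_cons G_T9n (forall_cons G_T10n (forall_cons G_T11n (forall_cons G_T12n (forall_cons G_T13n (forall_cons G_T14n (forall_cons G_T15n (forall_cons G_T16n (forall_cons G_T17n (forall_cons G_T18n (forall_cons G_T19n (forall_cons G_T20n forall_nil))))))))))))))))))))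
theorem G_ix : Nat.card (C.gen R 28674) ≤ 1540 * Nat.card (C.gen R 28672) := GC.card_dc [(1, 38), (15, 114), (16, 114), (17, 114), (18, 114), (19, 114), (20, 57), (21, 38), (22, 57), (23, 57), (24, 114), (25, 38), (26, 19), (27, 57), (28, 114), (29, 114), (30, 114), (31, 57), (32, 57), (33, 38)] G_dc G_cs (by decide +kernel)
theorem G_ub : Nat.card (C.gen R 28674) ≤ 175560 := up_mul G_ix H3_ub (by decide +kernel)
theorem G_max : ∀ L, (C.gen R 28672) ≤ L → L ≤ (C.gen R 28674) → L = (C.gen R 28672) ∨ L = (C.gen R 28674) := maximal_of_DCs G_dc (H3_m0.maxChk G_I.top chk476 chk477)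
theorem pt478e : ∃ x, A1.Rep pt478c x := (PP.exists_vec P_ok (c := 0xa000000000000000003000009000009) (by decide +kernel)).elim fun x hx => ⟨_, x, hx, rfl⟩
noncomputable def pt478 := Classical.choose pt478e
theorem pt478r : A1.Rep pt478c pt478 := Classical.choose_spec pt478e
noncomputable def pt479 := C.wd R 1025 • pt478
theorem pt479r : A1.Rep pt479c pt479 := Act.appW_ok G_s0_25 chk480 pt478r
theorem pt479g : C.wd R 1025 ∈ (C.gen R 28674) := G_s0_25.wd_mem chk480
theorem H3_c0i : C.Mem R (C.gen R 28672) 0 := H3_m0.sub chk481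
theorem H3_c0m : C.Mem R (C.gen R 0) 0 := H3_c0i.gen
theorem fx483 : C.gen R 0 ≤ stabilizer _ pt479 := Act.fix_sound H3_c0i.top pt479r chk482
theorem cov490 : Cov (C.gen R 28672) (C.wds R [0]) pt479 114 := Act.cov_of_seen (Act.pieces_sound H3_m0 H3_m0.top pt479r chk488) chk489
theorem H3_lb1 : 1 ≤ Nat.card (C.gen R 0) := Nat.card_pos
theorem H3_lo0 : 114 * Nat.card (C.gen R 0) ≤ Nat.card (C.gen R 28672) := cov490.low le_rfl (GC.wds_zero _) H3_c0i.gen_le fx483
theorem H3_lb0 : 114 ≤ Nat.card (C.gen R 28672) := low_step H3_lo0 H3_lb1 (by decide +kernel)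
theorem H3_st0 : (C.gen R 28672) ⊓ stabilizer _ pt479 = (C.gen R 0) ∧ (orbit (C.gen R 28672) pt479).ncard = 114 := cov490.stab le_rfl (GC.wds_zero _) H3_c0i.gen_le fx483 (up_low H3_ub H3_lb1 (by decide +kernel))
theorem H3_ub1 : Nat.card (C.gen R 0) ≤ 1 := up_step H3_lo0 H3_ub (by decide +kernel)
theorem cov497 : Cov (C.gen R 28674) (C.wds R [0]) pt478 1540 := Act.cov_of_seen (Act.pieces_sound G_s0_25 G_s0_25.top pt478r chk495) chk496
theorem fx499 : C.gen R 28672 ≤ stabilizer _ pt478 := Act.fix_sound (inS09.top.sub chk18) pt478r chk498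
theorem G_lo : 1540 * Nat.card (C.gen R 28672) ≤ Nat.card (C.gen R 28674) := cov497.low le_rfl (GC.wds_zero _) (G_s0_25.sub chk500).gen_le fx499
theorem G_lb : 175560 ≤ Nat.card (C.gen R 28674) := low_step G_lo H3_lb0 (by decide +kernel)
theorem core (N : Subgroup _) (h : N ≤ (C.gen R 28672)) (hN : NormBy (C.gen R 28674) N) : N ≤ (C.gen R 0) := (le_next H3_st0 h (hN.fix (h.trans fx499) pt479g))
theorem G_s1_503 : C.Mem R (C.gen R 28674) 17179865102 := G_s0_25.slp' chk502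
theorem G_s2_506 : C.Mem R (C.gen R 28674) 70385924042766 := G_s1_503.slp' chk505
theorem val509 : C.Mem R ⊤ 422212465065984 := MC.mem_units (PP.mc P_ok) (PP.can_sound P_ok) chk508
theorem ncl11 (N : Subgroup _) (hN : NormBy (C.gen R 28674) N) (hz : C.el (R 46) ∈ N) : C.gen R 28674 ≤ N := by
  have h0 := (GC.Mem.single (G_s2_506.get (i := 46) (by decide +kernel)).top hz).lor' (G_s2_506.nconj (GC.Mem.single (G_s2_506.get (i := 46) (by decide +kernel)).top hz) hN val509 chk511) (M'' := 492581209243648) (by decide +kernel)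
  have h1 := G_s2_506.ncop h0 hN chk513
  exact h1.gen_le
theorem dich (N : Subgroup _) (h : N ≤ (C.gen R 28674)) (hN : NormBy (C.gen R 28674) N) : N ≤ (C.gen R 0) ∨ N = (C.gen R 28674) :=
  normal_dichotomy (G_s2_506.sub chk515).gen_le G_max core (p := 11) (k := 1) (n := 1540) (by norm_num)
    (eq_mul_of G_ub G_lb H3_ub H3_lb0 (by decide +kernel)) (by norm_num)
    (not_dvd_of G_ub G_lb (by decide +kernel)) (G_s2_506.get (i := 46) (by decide +kernel)).el_mem ((G_s2_506.get (i := 46) (by decide +kernel)).prime_dvd (by norm_num) chk514).1.1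
    (fun N _ hN hz => ncl11 N hN hz) N h hN
theorem simple : IsSimpleGroup (C.gen R 28674) := simple_of_dichotomy (ne_bot_of G_lb (by decide +kernel)) fun N h hN => GC.gen_zero (C := C) (R := R) ▸ dich N h hN
theorem card : Nat.card (C.gen R 28674) = 175560 := le_antisymm G_ub G_lb
theorem gen_eq : (C.gen R 6) = (C.gen R 28674) := le_antisymm (G_s2_506.sub chk516).gen_le inS09.gen_le
theorem main (x y : GL (Fin 7) (ZMod 11)) (hx : C.code x = R 1) (hy : C.code y = R 2) : IsSimpleGroup (closure {x, y} : Subgroup (GL (Fin 7) (ZMod 11))) ∧ Nat.card (closure {x, y} : Subgroup (GL (Fin 7) (ZMod 11))) = 175560 := by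
  rw [GC.gen_pair hx hy (M := 6) (by decide +kernel), gen_eq]
  exact ⟨simple, card⟩
end

end CfsgH6.J1
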