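/-
Abstract lemmas for the double coset verification of group orders and of simplicity.
-/
import Mathlib

set_option autoImplicit false

namespace CfsgH6

open Subgroup MulAction

variable {Γ : Type*} [Group Γ]

/-- `N` is normalised by `G`. -/
def NormBy (G N : Subgroup Γ) : Prop := ∀ g ∈ G, ∀ n ∈ N, g * n * g⁻¹ ∈ N

/-- one double coset -/
def DC1 (H : Subgroup Γ) (g : Γ) : Set Γ := {x | ∃ a ∈ H, ∃ b ∈ H, x = a * g * b}

/-- `H` together with the double cosets of the elements of `S` -/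
def DCs (H : Subgroup Γ) (S : Set Γ) : Set Γ := {x | x ∈ H ∨ ∃ g ∈ S, x ∈ DC1 H g}

/-- `n` distinct points of the form `τ • ρ • β` -/
def Cov {α : Type*} [MulAction Γ α] (T : Subgroup Γ) (Rs : Set Γ) (β : α) (n : ℕ) : Prop :=
  ∃ y : Fin n → α, Function.Injective y ∧ ∀ k, ∃ τ ∈ T, ∃ ρ ∈ Rs, y k = τ • ρ • β

/-- every element of `H` is a product `τ ρ κ` -/
def Dec (H T : Subgroup Γ) (Rs : Set Γ) (K : Subgroup Γ) : Prop :=
  ∀ h ∈ H, ∃ τ ∈ T, ∃ ρ ∈ Rs, ∃ κ ∈ K, h = τ * ρ * κ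

theorem card_eq_orb [Finite Γ] {α : Type*} [MulAction Γ α] (A : Subgroup Γ) (β : α) :
    Nat.card A = (orbit A β).ncard * Nat.card (A ⊓ stabilizer Γ β : Subgroup Γ) := by
  rw [← index_stabilizer, ← (stabilizer A β).index_mul_card]
  congr 1
  refine Nat.card_congr ⟨fun x => ⟨x.1.1, x.1.2, x.2⟩, fun x => ⟨⟨x.1, x.2.1⟩, x.2.2⟩, ?_, ?_⟩ <;>
    intro x <;> rfl

section orb

variable [Finite Γ] {α : Type*} [MulAction Γ α] {A K T : Subgroup Γ} {Rs : Set Γ} {β : α} {n : ℕ}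

theorem Cov.le_ncard (h : Cov T Rs β n) (hT : T ≤ A) (hR : Rs ⊆ A) : n ≤ (orbit A β).ncard := by
  obtain ⟨y, hy, h⟩ := h
  have : Set.range y ⊆ orbit A β := by
    rintro _ ⟨k, rfl⟩
    obtain ⟨τ, hτ, ρ, hρ, e⟩ := h k
    exact ⟨⟨τ * ρ, A.mul_mem (hT hτ) (hR hρ)⟩, by simp [e, mul_smul]⟩
  have h2 := Set.ncard_le_ncard this (Set.finite_range _)
  rwa [Set.ncard_range_of_injective hy, Nat.card_eq_fintype_card, Fintype.card_fin] at h2

theorem Cov.low (h : Cov T Rs β n) (hT : T ≤ A) (hR : Rs ⊆ A) (hK : K ≤ A)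
    (hf : K ≤ stabilizer Γ β) : n * Nat.card K ≤ Nat.card A := by
  rw [card_eq_orb A β]
  exact Nat.mul_le_mul (h.le_ncard hT hR) (card_le_of_le (le_inf hK hf))

theorem Cov.stab (h : Cov T Rs β n) (hT : T ≤ A) (hR : Rs ⊆ A) (hK : K ≤ A)
    (hf : K ≤ stabilizer Γ β) (hc : Nat.card A ≤ n * Nat.card K) :
    A ⊓ stabilizer Γ β = K ∧ (orbit A β).ncard = n := by
  have h1 := h.le_ncard hT hR
  have h2 := card_le_of_le (le_inf hK hf)
  have h3 := card_eq_orb A β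
  have h4 : 0 < Nat.card K := Nat.card_pos
  have h5 : 0 < Nat.card A := Nat.card_pos
  have hn : 0 < n := by
    rcases Nat.eq_zero_or_pos n with rfl | hn
    · omega
    · exact hn
  refine ⟨(eq_of_le_of_card_ge (le_inf hK hf) ?_).symm, ?_⟩
  · by_contra hc'
    have := Nat.mul_lt_mul_of_le_of_lt h1 (not_le.1 hc') (by omega)
    omega
  · by_contra hc'
    have := Nat.mul_lt_mul_of_lt_of_le (lt_of_le_of_ne h1 (Ne.symm hc')) h2 (by omega)
    omega

theorem Cov.dec (h : Cov T Rs β n) (hT : T ≤ A) (hR : Rs ⊆ A) (hK : K ≤ A)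
    (hf : K ≤ stabilizer Γ β) (hc : Nat.card A ≤ n * Nat.card K) : Dec A T Rs K := by
  obtain ⟨h1, h2⟩ := h.stab hT hR hK hf hc
  obtain ⟨y, hy, h⟩ := h
  have hs : Set.range y ⊆ orbit A β := by
    rintro _ ⟨k, rfl⟩
    obtain ⟨τ, hτ, ρ, hρ, e⟩ := h k
    exact ⟨⟨τ * ρ, A.mul_mem (hT hτ) (hR hρ)⟩, by simp [e, mul_smul]⟩
  have he : Set.range y = orbit A β := Set.eq_of_subset_of_ncard_le hs (by
    rw [h2, Set.ncard_range_of_injective hy, Nat.card_eq_fintype_card, Fintype.card_fin])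
    (Set.finite_range _)
  intro g hg
  have : g • β ∈ Set.range y := he ▸ ⟨⟨g, hg⟩, rfl⟩
  obtain ⟨k, hk⟩ := this
  obtain ⟨τ, hτ, ρ, hρ, e⟩ := h k
  refine ⟨τ, hτ, ρ, hρ, (τ * ρ)⁻¹ * g, ?_, by group⟩
  rw [← h1]
  refine ⟨A.mul_mem (A.inv_mem (A.mul_mem (hT hτ) (hR hρ))) hg, ?_⟩
  show ((τ * ρ)⁻¹ * g) • β = β
  rw [mul_smul, ← hk, e, ← mul_smul τ, inv_smul_smul]

end orb

theorem Dec.map {Γ' : Type*} [Group Γ'] (f : Γ →* Γ') {H T K : Subgroup Γ} {Rs : Set Γ}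
    (h : Dec H T Rs K) : Dec (H.map f) (T.map f) (f '' Rs) (K.map f) := by
  rintro _ ⟨g, hg, rfl⟩
  obtain ⟨τ, hτ, ρ, hρ, κ, hκ, rfl⟩ := h g hg
  exact ⟨_, ⟨τ, hτ, rfl⟩, _, ⟨ρ, hρ, rfl⟩, _, ⟨κ, hκ, rfl⟩, by simp⟩

theorem dcs_mul_left {H : Subgroup Γ} {S : Set Γ} {x a : Γ} (hx : x ∈ DCs H S) (ha : a ∈ H) :
    a * x ∈ DCs H S := by
  rcases hx with hx | ⟨g, hg, b, hb, c, hc, rfl⟩
  · exact Or.inl (H.mul_mem ha hx)
  · exact Or.inr ⟨g, hg, a * b, H.mul_mem ha hb, c, hc, by group⟩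

theorem dcs_mul_right {H : Subgroup Γ} {S : Set Γ} {x a : Γ} (hx : x ∈ DCs H S) (ha : a ∈ H) :
    x * a ∈ DCs H S := by
  rcases hx with hx | ⟨g, hg, b, hb, c, hc, rfl⟩
  · exact Or.inl (H.mul_mem hx ha)
  · exact Or.inr ⟨g, hg, b, hb, c * a, H.mul_mem hc ha, by group⟩

/-- one double coset times `t` stays in the union -/
theorem dc_piece {H T K : Subgroup Γ} {S Rs : Set Γ} {g t : Γ} (hd : Dec H T Rs K)
    (hT : ∀ τ ∈ T, g * τ * g⁻¹ ∈ H) (hK : ∀ κ ∈ K, t⁻¹ * κ * t ∈ H)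
    (hR : ∀ ρ ∈ Rs, g * ρ * t ∈ DCs H S) : ∀ x ∈ DC1 H g, x * t ∈ DCs H S := by
  rintro _ ⟨a, ha, b, hb, rfl⟩
  obtain ⟨τ, hτ, ρ, hρ, κ, hκ, rfl⟩ := hd b hb
  have : a * g * (τ * ρ * κ) * t = a * ((g * τ * g⁻¹) * ((g * ρ * t) * (t⁻¹ * κ * t))) := by group
  rw [this]
  exact dcs_mul_left (dcs_mul_left (dcs_mul_right (hR ρ hρ) (hK κ hκ)) (hT τ hτ)) ha

/-- the union of double cosets contains the group generated by `H` and `U` -/
theorem dc_closure [Finite Γ] {H : Subgroup Γ} {S U V : Set Γ} (hV : V ⊆ H ∪ U)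
    (h1 : ∀ t ∈ U, t ∈ DCs H S) (h2 : ∀ t ∈ U, ∀ g ∈ S, ∀ x ∈ DC1 H g, x * t ∈ DCs H S) :
    ∀ x ∈ closure V, x ∈ DCs H S := by
  intro x hx
  have hx' : x ∈ Submonoid.closure V := by
    rw [← Subgroup.closure_toSubmonoid_of_finite]; exact hx
  clear hx
  induction hx' using Submonoid.closure_induction_right with
  | one => exact Or.inl H.one_mem
  | mul_right x _ y hy ih =>
    rcases hV hy with hy | hy
    · exact dcs_mul_right ih hy
    · rcases ih with ih | ⟨g, hg, ih⟩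
      · exact dcs_mul_left (h1 y hy) ih
      · exact h2 y hy g hg x ih

theorem ncard_DC1_le [Finite Γ] {H T : Subgroup Γ} {g : Γ}
    (hT : ∀ τ ∈ T, g * τ * g⁻¹ ∈ H) : (DC1 H g).ncard ≤ Nat.card H * T.relIndex H := by
  classical
  let f : H × (H ⧸ T.subgroupOf H) → Γ := fun p => p.1 * g * ((p.2.out : H) : Γ)⁻¹
  have : DC1 H g ⊆ Set.range f := by
    rintro _ ⟨a, ha, b, hb, rfl⟩
    obtain ⟨τ, hτ⟩ := QuotientGroup.mk_out_eq_mul (T.subgroupOf H) (⟨b, hb⟩ : H)⁻¹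
    refine ⟨(⟨a * (g * (τ : H) * g⁻¹), H.mul_mem ha (hT _ τ.2)⟩,
      ((⟨b, hb⟩ : H)⁻¹ : H)), ?_⟩
    simp only [f, hτ]
    simp [mul_assoc]
  refine (Set.ncard_le_ncard this (Set.finite_range _)).trans ?_
  rw [← Set.image_univ]
  refine (Set.ncard_image_le).trans ?_
  rw [Set.ncard_univ, Nat.card_prod]
  rfl

theorem relIndex_le [Finite Γ] {H T : Subgroup Γ} (hTH : T ≤ H) {m : ℕ}
    (hm : Nat.card H ≤ m * Nat.card T) : T.relIndex H ≤ m := by
  have h1 : Nat.card T * T.relIndex H = Nat.card H := by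
    rw [← Nat.card_congr (subgroupOfEquivOfLe hTH).toEquiv]
    exact card_mul_index _
  rw [← h1, mul_comm] at hm
  exact Nat.le_of_mul_le_mul_right hm Nat.card_pos

theorem ncard_DC1 [Finite Γ] {H T : Subgroup Γ} {g : Γ} (hTH : T ≤ H)
    (hT : ∀ τ ∈ T, g * τ * g⁻¹ ∈ H) {m : ℕ} (hm : Nat.card H ≤ m * Nat.card T) :
    (DC1 H g).ncard ≤ Nat.card H * m :=
  (ncard_DC1_le hT).trans (Nat.mul_le_mul_left _ (relIndex_le hTH hm))

theorem ncard_DCs_le [Finite Γ] (H : Subgroup Γ) (L : List Γ) :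
    (DCs H {g | g ∈ L}).ncard ≤ Nat.card H + (L.map fun g => (DC1 H g).ncard).sum := by
  induction L with
  | nil =>
    have : DCs H {g | g ∈ ([] : List Γ)} = H := by ext x; simp [DCs]
    rw [this]; exact le_of_eq rfl
  | cons a L ih =>
    have : DCs H {g | g ∈ a :: L} = DC1 H a ∪ DCs H {g | g ∈ L} := by
      ext x; simp only [DCs, List.mem_cons, Set.mem_union, Set.mem_ofPred_eq]
      constructor
      · rintro (h | ⟨g, rfl | hg, h⟩)
        · exact Or.inr (Or.inl h)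
        · exact Or.inl h
        · exact Or.inr (Or.inr ⟨g, hg, h⟩)
      · rintro (h | h | ⟨g, hg, h⟩)
        · exact Or.inr ⟨a, Or.inl rfl, h⟩
        · exact Or.inl h
        · exact Or.inr ⟨g, Or.inr hg, h⟩
    rw [this]
    refine (Set.ncard_union_le _ _).trans ?_
    simp only [List.map_cons, List.sum_cons]
    omega

theorem card_le_DCs [Finite Γ] {G H : Subgroup Γ} (L : List (Γ × ℕ))
    (hG : ∀ x ∈ G, x ∈ DCs H {g | g ∈ L.map Prod.fst})
    (hL : ∀ p ∈ L, (DC1 H p.1).ncard ≤ Nat.card H * p.2) :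
    Nat.card G ≤ Nat.card H * (1 + (L.map Prod.snd).sum) := by
  have h1 : Nat.card G ≤ (DCs H {g | g ∈ L.map Prod.fst}).ncard :=
    Set.ncard_le_ncard (s := (G : Set Γ)) hG
  refine h1.trans ((ncard_DCs_le H _).trans ?_)
  rw [mul_add, mul_one, List.map_map, ← List.sum_map_mul_left]
  exact Nat.add_le_add_left (List.sum_le_sum hL) _

/-- if the count is exact, the subgroups `T` are the full intersections -/
theorem exact_DCs [Finite Γ] {G H T : Subgroup Γ} (L : List (Γ × ℕ))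
    (hG : ∀ x ∈ G, x ∈ DCs H {g | g ∈ L.map Prod.fst})
    (hL : ∀ p ∈ L, (DC1 H p.1).ncard ≤ Nat.card H * p.2)
    (hc : Nat.card H * (1 + (L.map Prod.snd).sum) ≤ Nat.card G) {p : Γ × ℕ} (hp : p ∈ L)
    (hTH : T ≤ H) (hT : ∀ τ ∈ T, p.1 * τ * p.1⁻¹ ∈ H) (hm : Nat.card H ≤ p.2 * Nat.card T) :
    ∀ x ∈ H, p.1 * x * p.1⁻¹ ∈ H → x ∈ T := by
  let S : Subgroup Γ := H ⊓ H.comap (MulAut.conj p.1).toMonoidHom
  have hTS : T ≤ S := fun τ hτ => ⟨hTH hτ, hT τ hτ⟩
  suffices h : T = S from fun x hx hx' => h ▸ (⟨hx, hx'⟩ : x ∈ S)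
  refine eq_of_le_of_card_ge hTS ?_
  by_contra hlt
  have h1 : (DC1 H p.1).ncard ≤ Nat.card H * S.relIndex H := ncard_DC1_le fun τ hτ => hτ.2
  have h2 : Nat.card S * S.relIndex H = Nat.card H := by
    rw [← Nat.card_congr (subgroupOfEquivOfLe (inf_le_left : S ≤ H)).toEquiv]
    exact card_mul_index _
  have hH : 0 < Nat.card H := Nat.card_pos
  have h3 : S.relIndex H < p.2 := by
    by_contra h3
    have := Nat.mul_lt_mul_of_le_of_lt (not_lt.1 h3) (not_le.1 hlt) (by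
      rcases Nat.eq_zero_or_pos (S.relIndex H) with h | h
      · rw [h] at h2; omega
      · exact h)
    rw [mul_comm (S.relIndex H)] at this
    omega
  have h4 : Nat.card G ≤ (DCs H {g | g ∈ L.map Prod.fst}).ncard :=
    Set.ncard_le_ncard (s := (G : Set Γ)) hG
  have h5 := ncard_DCs_le H (L.map Prod.fst)
  have h6 : ((L.map Prod.fst).map fun g => (DC1 H g).ncard).sum <
      (L.map fun p => Nat.card H * p.2).sum := by
    rw [List.map_map]
    exact List.sum_lt_sum _ _ hL ⟨p, hp, lt_of_le_of_lt h1 (Nat.mul_lt_mul_of_pos_left h3 hH)⟩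
  rw [List.sum_map_mul_left] at h6
  rw [mul_add, mul_one] at hc
  omega

/-- a normal extension by one element -/
theorem card_sup_dvd [Finite Γ] {H : Subgroup Γ} {t : Γ} (ht : ∀ κ ∈ H, t⁻¹ * κ * t ∈ H) {m : ℕ}
    (hm : t ^ m ∈ H) : Nat.card (H ⊔ zpowers t : Subgroup Γ) ∣ m * Nat.card H := by
  have hx : t ∈ normalizer (H : Set Γ) := by
    rw [← inv_mem_iff]
    exact mem_normalizer_fintype fun n hn => by simpa using ht n hn
  have hN : (H.subgroupOf (H ⊔ zpowers t)).Normal :=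
    (normal_subgroupOf_iff_le_normalizer le_sup_left).mpr (sup_le le_normalizer (by simpa using hx))
  let a : (H ⊔ zpowers t : Subgroup Γ) := ⟨t, mem_sup_right (mem_zpowers t)⟩
  have h1 : ∀ y : (H ⊔ zpowers t : Subgroup Γ) ⧸ H.subgroupOf (H ⊔ zpowers t),
      y ∈ zpowers (a : (H ⊔ zpowers t : Subgroup Γ) ⧸ H.subgroupOf (H ⊔ zpowers t)) := by
    intro y
    obtain ⟨⟨y, hy⟩, rfl⟩ := QuotientGroup.mk_surjective y
    have hy' := hy
    rw [Subgroup.sup_eq_closure] at hy'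
    induction hy' using closure_induction with
    | mem x hx =>
      rcases hx with hx | ⟨i, rfl⟩
      · rw [(QuotientGroup.eq_one_iff (⟨x, hy⟩ : (H ⊔ zpowers t : Subgroup Γ))).2 (by exact hx)]
        exact one_mem _
      · exact ⟨i, (QuotientGroup.mk_zpow _ a i).symm⟩
    | one => exact one_mem _
    | mul x y hx hy' ihx ihy =>
      rw [← Subgroup.sup_eq_closure] at hx hy'
      exact mul_mem (ihx hx) (ihy hy')
    | inv x hx ih =>
      rw [← Subgroup.sup_eq_closure] at hx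
      exact inv_mem (ih hx)
  have h2 : (H.subgroupOf (H ⊔ zpowers t)).index ∣ m := by
    rw [index_eq_card, ← orderOf_eq_card_of_forall_mem_zpowers h1,
      orderOf_dvd_iff_pow_eq_one, ← QuotientGroup.mk_pow, QuotientGroup.eq_one_iff]
    exact hm
  rw [← (H.subgroupOf (H ⊔ zpowers t)).index_mul_card,
    Nat.card_congr (subgroupOfEquivOfLe (le_sup_left : H ≤ H ⊔ zpowers t)).toEquiv]
  exact Nat.mul_dvd_mul_right h2 _

/-- a group whose order divides a prime power and exceeds the previous power -/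
theorem pow_dvd_of_lt {p k e c : ℕ} (hp : p.Prime) (h1 : c ∣ p ^ e) (h2 : p ^ k ≤ c) : p ^ k ∣ c := by
  obtain ⟨j, -, rfl⟩ := (Nat.dvd_prime_pow hp).1 h1
  exact pow_dvd_pow _ ((Nat.pow_le_pow_iff_right hp.one_lt).1 h2)

theorem prime_dvd_card [Finite Γ] {G : Subgroup Γ} {p : ℕ} (hp : p.Prime) {z : Γ} (hz : z ∈ G)
    (h1 : z ^ p = 1) (h2 : z ≠ 1) : p ∣ Nat.card G := by
  have := Fact.mk hp
  rw [← orderOf_eq_prime h1 h2]
  exact orderOf_dvd_natCard G hz

/-- maximality from the double coset decomposition -/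
theorem maximal_of_DCs {G H : Subgroup Γ} {S : Set Γ} (hG : ∀ x ∈ G, x ∈ DCs H S)
    (h : ∀ g ∈ S, ∀ L : Subgroup Γ, H ≤ L → g ∈ L → G ≤ L) (L : Subgroup Γ) (h1 : H ≤ L)
    (h2 : L ≤ G) : L = H ∨ L = G := by
  by_cases hL : L ≤ H
  · exact Or.inl (le_antisymm hL h1)
  · obtain ⟨x, hx, hxH⟩ := SetLike.not_le_iff_exists.1 hL
    rcases hG x (h2 hx) with h' | ⟨g, hg, a, ha, b, hb, rfl⟩
    · exact absurd h' hxH
    · refine Or.inr (le_antisymm h2 (h g hg L h1 ?_))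
      rwa [L.mul_mem_cancel_right (h1 hb), L.mul_mem_cancel_left (h1 ha)] at hx

/-- The normal subgroups of a primitive group. -/
theorem normal_dichotomy [Finite Γ] {G H Z : Subgroup Γ} (hHG : H ≤ G)
    (hmax : ∀ L : Subgroup Γ, H ≤ L → L ≤ G → L = H ∨ L = G)
    (hcore : ∀ N : Subgroup Γ, N ≤ H → NormBy G N → N ≤ Z) {p k n : ℕ} (hp : p.Prime)
    (hn : Nat.card G = n * Nat.card H) (hk : p ^ k ∣ n) (hk' : ¬ p ^ (k + 1) ∣ Nat.card G) {z : Γ}
    (hzG : z ∈ G) (hz : z ^ p = 1)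
    (hcl : ∀ N : Subgroup Γ, N ≤ G → NormBy G N → z ∈ N → G ≤ N) (N : Subgroup Γ) (hNG : N ≤ G)
    (hN : NormBy G N) : N ≤ Z ∨ N = G := by
  have := Fact.mk hp
  rcases hmax (H ⊔ N) le_sup_left (sup_le hHG hNG) with h | h
  · exact Or.inl (hcore N (h ▸ le_sup_right) hN)
  right
  refine le_antisymm hNG (hcl N hNG hN ?_)
  let N' := N.subgroupOf G
  let H' := H.subgroupOf G
  have hN' : N'.Normal := ⟨fun a ha g => hN g g.2 a ha⟩
  have htop : H' ⊔ N' = ⊤ := by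
    rw [← subgroupOf_sup hHG hNG, h, subgroupOf_self]
  have h1 : H'.index ∣ Nat.card N' := by
    have : N'.relIndex H' = N'.index := by
      rw [← relIndex_sup_right, htop, relIndex_top_right]
    have h2 := (H' ⊓ N').index_mul_card
    have h3 : (H' ⊓ N').index = N'.index * H'.index := by
      rw [← this, ← inf_relIndex_left, relIndex_mul_index inf_le_left]
    have h4 : (H' ⊓ N').index = H'.relIndex N' * N'.index := by
      rw [← inf_relIndex_right, relIndex_mul_index inf_le_right]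
    have h5 : H'.relIndex N' = H'.index := by
      have : N'.index ≠ 0 := index_ne_zero_of_finite
      rw [h3, mul_comm] at h4
      exact (Nat.eq_of_mul_eq_mul_right (Nat.pos_of_ne_zero this) h4).symm
    rw [← h5]
    exact relIndex_dvd_card _ _
  have h2 : H'.index = n := by
    have := H'.index_mul_card
    rw [Nat.card_congr (subgroupOfEquivOfLe hHG).toEquiv, hn] at this
    exact Nat.eq_of_mul_eq_mul_right Nat.card_pos this
  obtain ⟨P, hP⟩ := Sylow.exists_subgroup_card_pow_prime (G := N') p (n := k) (hk.trans (h2 ▸ h1))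
  have hfac : (Nat.card G).factorization p = k := by
    apply le_antisymm
    · by_contra hc
      exact hk' ((hp.pow_dvd_iff_le_factorization Nat.card_pos.ne').2 (by omega))
    · exact (hp.pow_dvd_iff_le_factorization Nat.card_pos.ne').1 (hk.trans (hn ▸ Dvd.intro _ rfl))
  let Q : Sylow p G := Sylow.ofCard (P.map N'.subtype) (by
    rw [card_map_of_injective N'.subtype_injective, hP, hfac])
  have hzp : IsPGroup p (zpowers (⟨z, hzG⟩ : G)) := by
    rw [IsPGroup.iff_card, Nat.card_zpowers]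
    obtain ⟨j, -, hj⟩ := (Nat.dvd_prime_pow hp (m := 1)).1
      (orderOf_dvd_of_pow_eq_one (x := (⟨z, hzG⟩ : G)) (by ext; simpa using hz))
    exact ⟨j, hj⟩
  obtain ⟨Q', hQ'⟩ := hzp.exists_le_sylow
  obtain ⟨g, hg⟩ := exists_smul_eq G Q Q'
  have : (⟨z, hzG⟩ : G) ∈ (g • Q : Sylow p G) := hg ▸ hQ' (mem_zpowers _)
  obtain ⟨y, ⟨y', -, rfl⟩, hy⟩ := this
  have h3 : (⟨z, hzG⟩ : G) ∈ N' := hy ▸ hN'.conj_mem _ y'.2 g
  exact h3

theorem simple_of_dichotomy {G : Subgroup Γ} (hG : G ≠ ⊥)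
    (h : ∀ N : Subgroup Γ, N ≤ G → NormBy G N → N ≤ ⊥ ∨ N = G) : IsSimpleGroup G := by
  have := (nontrivial_iff_ne_bot G).2 hG
  refine ⟨fun N hN => ?_⟩
  rcases h (N.map G.subtype) (map_subtype_le N) (by
    rintro g hg _ ⟨x, hx, rfl⟩
    exact ⟨_, hN.conj_mem x hx ⟨g, hg⟩, rfl⟩) with h | h
  · left; rwa [le_bot_iff, map_eq_bot_iff_of_injective _ G.subtype_injective] at h
  · right
    rw [eq_top_iff]
    intro x _
    have : (x : Γ) ∈ N.map G.subtype := h.symm ▸ x.2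
    obtain ⟨y, hy, e⟩ := this
    rwa [← Subtype.ext e]

theorem center_of_dichotomy {G Z : Subgroup Γ} (hZ : ∀ z ∈ Z, ∀ g ∈ G, g * z = z * g)
    (hnc : ∃ a ∈ G, ∃ b ∈ G, a * b ≠ b * a)
    (h : ∀ N : Subgroup Γ, N ≤ G → NormBy G N → N ≤ Z ∨ N = G) :
    center G = Z.subgroupOf G ∧ IsSimpleGroup (G ⧸ center G) := by
  have key : ∀ N : Subgroup G, N.Normal → N ≤ Z.subgroupOf G ∨ N = ⊤ := by
    intro N hN
    rcases h (N.map G.subtype) (map_subtype_le N) (by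
      rintro g hg _ ⟨x, hx, rfl⟩
      exact ⟨_, hN.conj_mem x hx ⟨g, hg⟩, rfl⟩) with h | h
    · exact Or.inl fun x hx => h ⟨x, hx, rfl⟩
    · right
      rw [eq_top_iff]
      intro x _
      have : (x : Γ) ∈ N.map G.subtype := h.symm ▸ x.2
      obtain ⟨y, hy, e⟩ := this
      rwa [← Subtype.ext e]
  have hne : center G ≠ ⊤ := by
    intro hc
    obtain ⟨a, ha, b, hb, hab⟩ := hnc
    have : (⟨b, hb⟩ : G) ∈ center G := hc ▸ mem_top _
    exact hab (congrArg Subtype.val (mem_center_iff.1 this ⟨a, ha⟩))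
  have hc : center G = Z.subgroupOf G :=
    le_antisymm ((key _ inferInstance).resolve_right hne)
      fun z hz => mem_center_iff.2 fun g => Subtype.ext (hZ z hz g g.2)
  refine ⟨hc, ?_⟩
  have : Nontrivial (G ⧸ center G) := QuotientGroup.nontrivial_iff.2 hne
  refine ⟨fun N hN => ?_⟩
  rcases key (N.comap (QuotientGroup.mk' _)) inferInstance with h | h
  · left
    rw [eq_bot_iff]
    intro x hx
    obtain ⟨x, rfl⟩ := QuotientGroup.mk_surjective x
    exact (QuotientGroup.eq_one_iff x).2 (hc ▸ h hx)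
  · right
    rw [eq_top_iff]
    intro x _
    obtain ⟨x, rfl⟩ := QuotientGroup.mk_surjective x
    exact (h ▸ mem_top x : x ∈ N.comap (QuotientGroup.mk' _))

/-- a normal subgroup fixing a point fixes its orbit -/
theorem NormBy.fix {α : Type*} [MulAction Γ α] {G N : Subgroup Γ} (hN : NormBy G N) {a : α}
    (ha : N ≤ stabilizer Γ a) {g : Γ} (hg : g ∈ G) : N ≤ stabilizer Γ (g • a) := by
  intro n hn
  have := ha (hN g⁻¹ (G.inv_mem hg) n hn)
  rw [mem_stabilizer_iff, inv_inv, mul_smul, mul_smul, inv_smul_eq_iff] at this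
  exact this

theorem NormBy.mono {G G' N : Subgroup Γ} (hN : NormBy G N) (h : G' ≤ G) : NormBy G' N :=
  fun g hg => hN g (h hg)

/-- The action of a simple group on the cosets of a proper subgroup. -/
theorem exists_perm_rep {G : Type*} [Group G] [Finite G] [IsSimpleGroup G] (H : Subgroup G) {n : ℕ}
    [NeZero n] (hn : 1 < n) (hc : Nat.card G = n * Nat.card H) :
    ∃ P : Subgroup (Equiv.Perm (Fin n)), Nonempty (G ≃* P) ∧ IsPretransitive P (Fin n) ∧
      Nonempty (H ≃* stabilizer P (0 : Fin n)) := by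
  have hi : H.index = n := by
    have := H.index_mul_card
    rw [hc] at this
    exact Nat.eq_of_mul_eq_mul_right Nat.card_pos this
  let e0 : (G ⧸ H) ≃ Fin n := Finite.equivFinOfCardEq (by rw [← index_eq_card, hi])
  let e : (G ⧸ H) ≃ Fin n := e0.trans (Equiv.swap (e0 ((1 : G) : G ⧸ H)) 0)
  have he : e ((1 : G) : G ⧸ H) = 0 := by simp [e]
  let φ : G →* Equiv.Perm (Fin n) :=
    (Equiv.permCongrHom e).toMonoidHom.comp (MulAction.toPermHom G (G ⧸ H))
  have hφ : ∀ g x, φ g (e x) = e (g • x) := fun g x => by simp [φ]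
  have hst : ∀ g, φ g 0 = 0 ↔ g ∈ H := fun g => by
    rw [← he, hφ, e.injective.eq_iff, ← mem_stabilizer_iff, stabilizer_quotient]
  have hinj : Function.Injective φ := by
    rw [← MonoidHom.ker_eq_bot_iff]
    rcases (inferInstance : φ.ker.Normal).eq_bot_or_eq_top with h | h
    · exact h
    · exfalso
      have : H = ⊤ := by
        rw [eq_top_iff]
        intro g _
        have : g ∈ φ.ker := h ▸ mem_top g
        rw [← hst, MonoidHom.mem_ker.1 this]; rfl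
      rw [this, index_top] at hi
      omega
  refine ⟨φ.range, ⟨MonoidHom.ofInjective hinj⟩, ⟨fun x y => ?_⟩, ⟨?_⟩⟩
  · obtain ⟨g, hg⟩ := exists_smul_eq G (e.symm x) (e.symm y)
    refine ⟨⟨φ g, g, rfl⟩, ?_⟩
    show φ g x = y
    rw [← e.apply_symm_apply x, hφ, hg, e.apply_symm_apply]
  · let ψ : H →* stabilizer φ.range (0 : Fin n) :=
      { toFun := fun h => ⟨⟨φ h, h, rfl⟩, (hst h).2 h.2⟩
        map_one' := by ext; simp
        map_mul' := fun a b => by ext; simp }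
    refine MulEquiv.ofBijective ψ ⟨fun a b h => Subtype.ext (hinj ?_), ?_⟩
    · exact congrArg (fun x => x.1.1) h
    · rintro ⟨⟨_, g, rfl⟩, hg⟩
      exact ⟨⟨g, (hst g).1 hg⟩, rfl⟩

end CfsgH6
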