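/-
Coded groups, words in registers, and the checks of the double coset verification.
-/
import Cfsg.Agent.H5.Bits
import Cfsg.Agent.H6.DCa

set_option autoImplicit false

namespace CfsgH6

open CfsgH5 Subgroup MulAction

noncomputable section

/-- strict evaluation of a big number, with a hash in its low bits -/
def fH {α : Type} (n : ℕ) (k : ℕ → α) : α :=
  Nat.rec (motive := fun _ => α) (k 0) (fun h _ => k (Nat.shiftRight h 64))
    (Nat.succ (Nat.add (Nat.shiftLeft n 64) (Nat.mod n 18446744073709551557)))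

@[simp] theorem fH_eq {α : Type} (n : ℕ) (k : ℕ → α) : fH n k = k n := by
  show k ((n <<< 64 + n % 18446744073709551557) >>> 64) = k n
  have := Nat.mod_lt n (by norm_num : 0 < 18446744073709551557)
  rw [Nat.shiftLeft_eq, Nat.shiftRight_eq_div_pow]
  congr 1; omega

/-- binary trees of numbers -/
inductive BT : Type
  | l (n : ℕ) : BT
  | n (a b : BT) : BT

/-- lookup in a binary tree, lowest bit first -/
def BT.get (t : BT) : ℕ → ℕ :=
  BT.rec (motive := fun _ => ℕ → ℕ) (fun n _ => n)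
    (fun _ _ a b i => bif' (Nat.beq (Nat.land i 1) 0) (a (Nat.shiftRight i 1))
      (b (Nat.shiftRight i 1))) t

/-- entry `i` of a table with 64 fields of width `w` (mask `m`) in each leaf -/
def BT.fld (t : BT) (w m i : ℕ) : ℕ :=
  Nat.land (Nat.shiftRight (force (Nat.shiftRight i 6) t.get) (Nat.mul w (Nat.land i 63))) m

/-- a two-level hash table -/
def hsh (q m₁ m₂ : ℕ) (D T : BT) (x : ℕ) : ℕ :=
  force (Nat.mod x q) fun f => T.fld 40 1099511627775
    (Nat.mod (Nat.mul f (D.fld 16 65535 (Nat.mod f m₁))) m₂)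

/-- joins chunks of width `w`, lowest first -/
def join (w : ℕ) (L : List ℕ) : ℕ :=
  List.rec (motive := fun _ => ℕ) 0 (fun a _ ih => Nat.lor a (Nat.shiftLeft ih w)) L

/-- identity and product of codes -/
structure GOps where
  one : ℕ
  mul : ℕ → ℕ → ℕ

/-- an injective coding of a group -/
structure GC (O : GOps) (Γ : Type*) [Group Γ] where
  code : Γ → ℕ
  inj : Function.Injective code
  code_one : code 1 = O.one
  code_mul : ∀ g h, code (g * h) = O.mul (code g) (code h)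

/-- a coded action: `Rep v x` says that `v` represents the point `x`. -/
structure Act {O : GOps} {Γ : Type*} [Group Γ] (C : GC O Γ) (α : Type*) [MulAction Γ α]
    (app : ℕ → ℕ → ℕ) (key : ℕ → ℕ) where
  Rep : ℕ → α → Prop
  app_ok : ∀ (g : Γ) v x, Rep v x → Rep (app (C.code g) v) (g • x)
  key_iff : ∀ v w x y, Rep v x → Rep w y → (key v = key w ↔ x = y)

/-! ### Words -/

/-- first letter of a word -/
def hd (w : ℕ) : ℕ := Nat.land w 1023
/-- the other letters of a word -/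
def tl (w : ℕ) : ℕ := Nat.shiftRight w 10

theorem hd_eq (w : ℕ) : hd w = w % 1024 := Nat.and_two_pow_sub_one_eq_mod w 10
theorem tl_eq (w : ℕ) : tl w = w / 1024 := Nat.shiftRight_eq_div_pow w 10

def mulWF (O : GOps) (R : ℕ → ℕ) (n : ℕ) : ℕ → ℕ → ℕ :=
  Nat.rec (motive := fun _ => ℕ → ℕ → ℕ) (fun acc _ => acc)
    (fun _ ih acc w => bif' (Nat.beq w 0) acc
      (fH (O.mul acc (force (hd w) R)) fun a => force (tl w) (ih a))) n

/-- `acc` times a word -/
def mulW (O : GOps) (R : ℕ → ℕ) (acc w : ℕ) : ℕ := mulWF O R w acc w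

/-- value of a word -/
def evalW (O : GOps) (R : ℕ → ℕ) (w : ℕ) : ℕ :=
  bif' (Nat.beq w 0) O.one (force (tl w) (mulW O R (force (hd w) R)))

/-- a word times `c` -/
def evalW2 (O : GOps) (R : ℕ → ℕ) (w c : ℕ) : ℕ :=
  bif' (Nat.beq w 0) c (fH (evalW O R w) fun a => O.mul a c)

def powF (O : GOps) (c n : ℕ) : ℕ → ℕ :=
  Nat.rec (motive := fun _ => ℕ → ℕ) (fun _ => c)
    (fun _ ih m => bif' (Nat.ble m 1) c (fH (force (Nat.shiftRight m 1) ih) fun a =>
      bif' (Nat.beq (Nat.land m 1) 0) (O.mul a a) (fH (O.mul a a) fun b => O.mul b c))) n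

/-- a positive power -/
def powC (O : GOps) (c m : ℕ) : ℕ := powF O c m m

def subWF (M n : ℕ) : ℕ → Bool :=
  Nat.rec (motive := fun _ => ℕ → Bool) (fun _ => true)
    (fun _ ih w => bor (Nat.beq w 0) (band (tb M (hd w)) (force (tl w) ih))) n

/-- all letters of a word lie in the set `M` -/
def subW (M w : ℕ) : Bool := subWF M w w

def appWF (app : ℕ → ℕ → ℕ) (R : ℕ → ℕ) (v n : ℕ) : ℕ → ℕ :=
  Nat.rec (motive := fun _ => ℕ → ℕ) (fun _ => v)
    (fun _ ih w => bif' (Nat.beq w 0) v (fH (force (tl w) ih) (app (force (hd w) R)))) n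

/-- a word applied to a point -/
def appW (app : ℕ → ℕ → ℕ) (R : ℕ → ℕ) (w v : ℕ) : ℕ := appWF app R v w w

/-- `M` with `i` added -/
def ins (M i : ℕ) : ℕ := Nat.lor M (Nat.shiftLeft 1 i)

theorem testBit_ins (M i j : ℕ) : (ins M i).testBit j = true ↔ M.testBit j = true ∨ i = j := by
  simp [ins, Nat.one_shiftLeft, Nat.testBit_two_pow]

/-- `M` with the heads of a list added -/
def insL (L : List ℕ) : ℕ → ℕ :=
  List.rec (motive := fun _ => ℕ → ℕ) (fun M => M) (fun e _ ih M => force (ins M (hd e)) ih) L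

theorem testBit_insL (L : List ℕ) (M j : ℕ) :
    (insL L M).testBit j = true ↔ M.testBit j = true ∨ ∃ e ∈ L, hd e = j := by
  induction L generalizing M with
  | nil => simp [insL]
  | cons e L ih =>
    show (force (ins M (hd e)) (insL L)).testBit j = true ↔ _
    rw [force_eq, ih, testBit_ins]; simp [or_assoc]

/-- inclusion of bit sets -/
def subM (A B : ℕ) : Bool := Nat.beq (Nat.land A B) A

theorem subM_sound {A B : ℕ} (h : subM A B = true) {i : ℕ} (hi : A.testBit i = true) :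
    B.testBit i = true := by
  rw [subM, beq_true_iff] at h
  rw [← h] at hi
  simp only [Nat.land_eq, Nat.testBit_and, Bool.and_eq_true] at hi
  exact hi.2

/-- straight line program: each entry is a register followed by a word for it -/
def slp (O : GOps) (R : ℕ → ℕ) (L : List ℕ) : ℕ → Bool :=
  List.rec (motive := fun _ => ℕ → Bool) (fun _ => true)
    (fun e _ ih M => band (subW M (tl e)) (band (Nat.beq (force (tl e) (evalW O R)) (force (hd e) R))
      (force (ins M (hd e)) ih))) L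

/-- relations `g τ = h g` -/
def conjA (O : GOps) (R : ℕ → ℕ) (MH g : ℕ) (L : List ℕ) : Bool :=
  allL L fun e => band (subW MH (tl e))
    (Nat.beq (O.mul (R g) (force (hd e) R)) (force (tl e) fun w => evalW2 O R w (R g)))

/-- relations `κ t = t h` -/
def conjB (O : GOps) (R : ℕ → ℕ) (MH t : ℕ) (L : List ℕ) : Bool :=
  allL L fun e => band (subW MH (tl e))
    (Nat.beq (O.mul (force (hd e) R) (R t)) (force (tl e) (mulW O R (R t))))

/-- `x = h₁ g_j h₂`, or `x = h₁` if `j = 0` -/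
def inDC (O : GOps) (R : ℕ → ℕ) (MH MI x h₁ e : ℕ) : Bool :=
  band (subW MH h₁) (bif' (Nat.beq e 0) (Nat.beq x (evalW O R h₁))
    (band (tb MI (hd e)) (band (subW MH (tl e))
      (Nat.beq x (fH (evalW2 O R h₁ (force (hd e) R)) fun a => force (tl e) (mulW O R a))))))

/-- relations `g ρ t = h₁ g_j h₂` -/
def dcRel (O : GOps) (R : ℕ → ℕ) (MH MI g t : ℕ) (L : List (ℕ × ℕ × ℕ)) : Bool :=
  allL L fun p => band (subW MH p.1)
    (inDC O R MH MI (fH (mulW O R (R g) p.1) fun a => O.mul a (R t)) p.2.1 p.2.2)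

/-- relations `c g = g n`: entries `(c, n, g)` with `g` a word -/
def nconj (O : GOps) (R : ℕ → ℕ) (MG MN : ℕ) (L : List ℕ) : Bool :=
  allL L fun e => band (tb MN (hd (tl e))) (force (tl (tl e)) fun w => band (subW MG w)
    (Nat.beq (mulW O R (force (hd e) R) w) (evalW2 O R w (force (hd (tl e)) R))))

/-- every double coset representative generates the whole group together with `H` -/
def maxChk (O : GOps) (R : ℕ → ℕ) (MH MG : ℕ) (L : List (ℕ × List ℕ)) : Bool :=
  allL L fun p => band (slp O R p.2 (ins MH p.1)) (subM MG (insL p.2 (ins MH p.1)))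

/-- the registers in a list fix a point -/
def fixL (app : ℕ → ℕ → ℕ) (key : ℕ → ℕ) (R : ℕ → ℕ) (L : List ℕ) (b : ℕ) : Bool :=
  allL L fun e => Nat.beq (fH (app (force (hd e) R) b) key) (key b)

def kids (app : ℕ → ℕ → ℕ) (R : ℕ → ℕ) (ih : ℕ → ℕ → ℕ) (v : ℕ) (gs : List ℕ) : ℕ → ℕ → ℕ :=
  List.rec (motive := fun _ => ℕ → ℕ → ℕ) (fun _ acc => acc)
    (fun g _ rec m acc => bif' (Nat.beq m 0) acc (force (Nat.shiftRight m 1) fun m' =>
      bif' (Nat.beq (Nat.land m 1) 0) (rec m' acc)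
        (force (fH (app (R g) v) fun v' => ih v' acc) fun a =>
          bif' (Nat.beq a 0) 0 (rec m' a)))) gs

/-- depth first traversal of a tree of points, numbered by the table `tab` -/
def walk (app : ℕ → ℕ → ℕ) (key tab : ℕ → ℕ) (R : ℕ → ℕ) (gs : List ℕ) (fuel : ℕ) : ℕ → ℕ → ℕ :=
  Nat.rec (motive := fun _ => ℕ → ℕ → ℕ) (fun _ _ => 0)
    (fun _ ih v k => force (fH (key v) tab) fun e => bif' (Nat.beq (Nat.shiftRight e 16) k)
      (force (Nat.land e 65535) fun m => force (Nat.succ k) (kids app R ih v gs m)) 0) fuel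

/-- pieces `(τ, ρ, s, e)` of a forest -/
def pieces (app : ℕ → ℕ → ℕ) (key tab : ℕ → ℕ) (R : ℕ → ℕ) (MT : ℕ) (gs : List ℕ) (b : ℕ)
    (L : List (ℕ × ℕ × ℕ × ℕ)) : Bool :=
  band (allL gs (tb MT)) (allL L fun p => band (subW MT p.1)
    (Nat.beq (fH (appW app R p.2.1 b) fun v => fH (appW app R p.1 v) fun v' =>
      walk app key tab R gs 64 v' p.2.2.1) p.2.2.2))

/-- the intervals of the pieces cover `[s, n)`, their roots come from the list `Q` -/
def cover (n : ℕ) (Q : List ℕ) (L : List (ℕ × ℕ × ℕ × ℕ)) : ℕ → Bool :=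
  List.rec (motive := fun _ => ℕ → Bool) (fun s => Nat.ble n s)
    (fun p _ ih s => band (Nat.ble p.2.2.1 s) (band (anyL Q (Nat.beq p.2.1)) (ih p.2.2.2))) L

theorem cover_sound {n : ℕ} {Q : List ℕ} {L : List (ℕ × ℕ × ℕ × ℕ)} {s : ℕ}
    (h : cover n Q L s = true) {k : ℕ} (h1 : s ≤ k) (h2 : k < n) :
    ∃ p ∈ L, p.2.1 ∈ Q ∧ p.2.2.1 ≤ k ∧ k < p.2.2.2 := by
  induction L generalizing s with
  | nil =>
    have : n ≤ s := (ble_true_iff _ _).1 h
    omega
  | cons p L ih =>
    have h : band (Nat.ble p.2.2.1 s) (band (anyL Q (Nat.beq p.2.1)) (cover n Q L p.2.2.2)) = true := h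
    simp only [band_eq, Bool.and_eq_true, ble_true_iff, anyL_iff, beq_true_iff] at h
    obtain ⟨h3, ⟨q, hq, e⟩, h4⟩ := h
    by_cases hk : k < p.2.2.2
    · exact ⟨p, List.mem_cons_self, e ▸ hq, by omega, hk⟩
    · obtain ⟨p', hp', h5⟩ := ih h4 (by omega)
      exact ⟨p', List.mem_cons_of_mem _ hp', h5⟩

variable {O : GOps} {Γ : Type*} [Group Γ]

namespace GC

variable (C : GC O Γ) (R : ℕ → ℕ)

/-- `p` is the code of an element of `H` -/
def In (H : Subgroup Γ) (p : ℕ) : Prop := ∃ g ∈ H, C.code g = p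

/-- the element with a given code -/
def el (p : ℕ) : Γ := Function.invFun C.code p

/-- the registers of the set `M` lie in `H` -/
def Mem (H : Subgroup Γ) (M : ℕ) : Prop := ∀ i, M.testBit i = true → C.In H (R i)

/-- the elements in the registers of the set `M` -/
def els (M : ℕ) : Set Γ := {g | ∃ i, M.testBit i = true ∧ g = C.el (R i)}

/-- the group generated by the registers of the set `M` -/
def gen (M : ℕ) : Subgroup Γ := closure (C.els R M)

/-- the element given by a word -/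
def wd (w : ℕ) : Γ := ((Nat.digits 1024 w).map fun i => C.el (R i)).prod

/-- the elements given by a list of words -/
def wds (Q : List ℕ) : Set Γ := {g | ∃ w ∈ Q, g = C.wd R w}

variable {C R}

@[simp] theorem el_code (g : Γ) : C.el (C.code g) = g := Function.leftInverse_invFun C.inj g

theorem In.code_el {H : Subgroup Γ} {p : ℕ} (h : C.In H p) : C.code (C.el p) = p := by
  obtain ⟨g, -, rfl⟩ := h; rw [el_code]

theorem In.el_mem {H : Subgroup Γ} {p : ℕ} (h : C.In H p) : C.el p ∈ H := by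
  obtain ⟨g, hg, rfl⟩ := h; rwa [el_code]

theorem In.mono {H K : Subgroup Γ} {p : ℕ} (hp : C.In H p) (h : H ≤ K) : C.In K p := by
  obtain ⟨g, hg, rfl⟩ := hp; exact ⟨g, h hg, rfl⟩

theorem In.top {H : Subgroup Γ} {p : ℕ} (hp : C.In H p) : C.In ⊤ p := hp.mono le_top

theorem In.of_mem {H K : Subgroup Γ} {p : ℕ} (hp : C.In H p) (h : C.el p ∈ K) : C.In K p :=
  ⟨_, h, hp.code_el⟩

theorem Mem.mono {H K : Subgroup Γ} {M : ℕ} (hp : C.Mem R H M) (h : H ≤ K) : C.Mem R K M :=
  fun i hi => (hp i hi).mono h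

theorem Mem.top {H : Subgroup Γ} {M : ℕ} (hp : C.Mem R H M) : C.Mem R ⊤ M := hp.mono le_top

theorem Mem.sub {H : Subgroup Γ} {M M' : ℕ} (hp : C.Mem R H M) (h : subM M' M = true) :
    C.Mem R H M' := fun i hi => hp i (subM_sound h hi)

theorem Mem.get {H : Subgroup Γ} {M i : ℕ} (hp : C.Mem R H M) (h : tb M i = true) :
    C.In H (R i) := hp i (by simpa using h)

theorem Mem.ins {H : Subgroup Γ} {M i : ℕ} (hp : C.Mem R H M) (h : C.In H (R i)) :
    C.Mem R H (ins M i) := fun j hj => by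
  rcases (testBit_ins _ _ _).1 hj with hj | rfl
  · exact hp j hj
  · exact h

theorem Mem.zero (H : Subgroup Γ) : C.Mem R H 0 := fun i hi => by simp at hi

theorem Mem.lor {H : Subgroup Γ} {M M' : ℕ} (hp : C.Mem R H M) (h : C.Mem R H M') :
    C.Mem R H (Nat.lor M M') := fun j hj => by
  simp only [Nat.lor_eq, Nat.testBit_or, Bool.or_eq_true] at hj
  exact hj.elim (hp j) (h j)

theorem Mem.gen_le {H : Subgroup Γ} {M : ℕ} (hp : C.Mem R H M) : C.gen R M ≤ H := by
  rw [gen, closure_le]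
  rintro _ ⟨i, hi, rfl⟩
  exact (hp i hi).el_mem

theorem Mem.gen {H : Subgroup Γ} {M : ℕ} (hp : C.Mem R H M) : C.Mem R (C.gen R M) M :=
  fun i hi => (hp i hi).of_mem (subset_closure ⟨i, hi, rfl⟩)

theorem gen_mono {M M' : ℕ} (h : subM M M' = true) : C.gen R M ≤ C.gen R M' :=
  closure_mono fun _ hg => hg.imp fun _ hi => ⟨subM_sound h hi.1, hi.2⟩

theorem gen_zero : C.gen R 0 = ⊥ := by simp [gen, els]

theorem gen_ins (M i : ℕ) : C.gen R (ins M i) = C.gen R M ⊔ zpowers (C.el (R i)) := by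
  rw [gen, gen, zpowers_eq_closure, ← Subgroup.closure_union]
  congr 1
  ext g
  simp only [els, testBit_ins, Set.mem_ofPred_eq, Set.mem_union, Set.mem_singleton_iff]
  constructor
  · rintro ⟨j, hj | rfl, rfl⟩
    · exact Or.inl ⟨j, hj, rfl⟩
    · exact Or.inr rfl
  · rintro (⟨j, hj, rfl⟩ | rfl)
    · exact ⟨j, Or.inl hj, rfl⟩
    · exact ⟨i, Or.inr rfl, rfl⟩

theorem wd_zero : C.wd R 0 = 1 := by simp [wd]

theorem wd_pos {w : ℕ} (h : w ≠ 0) : C.wd R w = C.el (R (hd w)) * C.wd R (tl w) := by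
  rw [wd, Nat.digits_def' (by norm_num) (Nat.pos_of_ne_zero h), hd_eq, tl_eq]; simp [wd]

theorem tl_le {w n : ℕ} (h : w ≠ 0) (hn : w ≤ n + 1) : tl w ≤ n := by rw [tl_eq]; omega

theorem word_spec {H : Subgroup Γ} {M : ℕ} (hM : C.Mem R H M) (n : ℕ) : ∀ w m, w ≤ n → w ≤ m →
    subWF M m w = true → C.wd R w ∈ H ∧ ∀ g, mulWF O R n (C.code g) w = C.code (g * C.wd R w) := by
  induction n with
  | zero =>
    intro w m hw _ _
    obtain rfl : w = 0 := by omega
    rw [wd_zero]; exact ⟨H.one_mem, fun g => by rw [mul_one]; rfl⟩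
  | succ n ih =>
    intro w m hw hm hs
    by_cases h0 : w = 0
    · subst h0
      rw [wd_zero]; exact ⟨H.one_mem, fun g => by rw [mul_one]; rfl⟩
    · obtain ⟨m, rfl⟩ : ∃ k, m = k + 1 := ⟨m - 1, by omega⟩
      have hs : bor (Nat.beq w 0) (band (tb M (hd w)) (force (tl w) (subWF M m))) = true := hs
      simp only [bor_eq, band_eq, force_eq, Bool.or_eq_true, Bool.and_eq_true, beq_true_iff, h0,
        false_or] at hs
      obtain ⟨h1, h2⟩ := ih (tl w) m (tl_le h0 hw) (tl_le h0 hm) hs.2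
      have h3 := hM.get hs.1
      rw [wd_pos h0]
      refine ⟨H.mul_mem h3.el_mem h1, fun g => ?_⟩
      show bif' (Nat.beq w 0) _ (fH (O.mul (C.code g) (force (hd w) R)) fun a =>
        force (tl w) (mulWF O R n a)) = _
      rw [bif'_eq, if_neg (by rwa [beq_true_iff]), fH_eq, force_eq, force_eq, ← mul_assoc, ← h2,
        C.code_mul, h3.code_el]

theorem Mem.wd_mem {H : Subgroup Γ} {M w : ℕ} (hM : C.Mem R H M) (h : subW M w = true) :
    C.wd R w ∈ H := (word_spec hM w w w le_rfl le_rfl h).1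

theorem Mem.mulW {H : Subgroup Γ} {M w : ℕ} (hM : C.Mem R H M) (h : subW M w = true) (g : Γ) :
    mulW O R (C.code g) w = C.code (g * C.wd R w) := (word_spec hM w w w le_rfl le_rfl h).2 g

theorem subW_pos {M w : ℕ} (h0 : w ≠ 0) (h : subW M w = true) :
    tb M (hd w) = true ∧ ∃ m, tl w ≤ m ∧ subWF M m (tl w) = true := by
  obtain ⟨m, hm⟩ : ∃ k, w = k + 1 := ⟨w - 1, by omega⟩
  have hs : subWF M (m + 1) w = true := by rw [← hm]; exact h
  have hs : bor (Nat.beq w 0) (band (tb M (hd w)) (force (tl w) (subWF M m))) = true := hs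
  simp only [bor_eq, band_eq, force_eq, Bool.or_eq_true, Bool.and_eq_true, beq_true_iff, h0,
    false_or] at hs
  exact ⟨hs.1, m, tl_le h0 hm.le, hs.2⟩

theorem Mem.evalW {H : Subgroup Γ} {M w : ℕ} (hM : C.Mem R H M) (h : subW M w = true) :
    evalW O R w = C.code (C.wd R w) := by
  rw [CfsgH6.evalW, bif'_eq]
  split_ifs with h0
  · rw [beq_true_iff] at h0; rw [h0, wd_zero, C.code_one]
  · rw [beq_true_iff] at h0
    obtain ⟨h1, m, h2, h3⟩ := subW_pos h0 h
    rw [force_eq, force_eq, wd_pos h0, ← (word_spec hM (tl w) (tl w) m le_rfl h2 h3).2,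
      (hM.get h1).code_el]
    rfl

theorem Mem.evalW2 {H : Subgroup Γ} {M w : ℕ} (hM : C.Mem R H M) (h : subW M w = true) (g : Γ) :
    evalW2 O R w (C.code g) = C.code (C.wd R w * g) := by
  rw [CfsgH6.evalW2, bif'_eq]
  split_ifs with h0
  · rw [beq_true_iff] at h0; rw [h0, wd_zero, one_mul]
  · rw [fH_eq, hM.evalW h, C.code_mul]

theorem Mem.slp {H : Subgroup Γ} {L : List ℕ} {M : ℕ} (hM : C.Mem R H M)
    (h : slp O R L M = true) : C.Mem R H (insL L M) := by
  induction L generalizing M with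
  | nil => exact hM
  | cons e L ih =>
    have h : band (subW M (tl e)) (band (Nat.beq (force (tl e) (CfsgH6.evalW O R)) (force (hd e) R))
      (force (CfsgH6.ins M (hd e)) (CfsgH6.slp O R L))) = true := h
    simp only [band_eq, force_eq, Bool.and_eq_true, beq_true_iff] at h
    show C.Mem R H (force (CfsgH6.ins M (hd e)) (insL L))
    rw [force_eq]
    exact ih (hM.ins ⟨_, hM.wd_mem h.1, by rw [← hM.evalW h.1, h.2.1]⟩) h.2.2

/-- a straight line program, with the final set given as a number -/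
theorem Mem.slp' {H : Subgroup Γ} {L : List ℕ} {M M' : ℕ} (hM : C.Mem R H M)
    (h : band (CfsgH6.slp O R L M) (subM M' (insL L M)) = true) : C.Mem R H M' := by
  simp only [band_eq, Bool.and_eq_true] at h
  exact (hM.slp h.1).sub h.2

theorem gen_induction [Finite Γ] {M : ℕ} {P : Γ → Prop} (h1 : P 1)
    (hm : ∀ a b, P a → P b → P (a * b)) (h : ∀ i, M.testBit i = true → P (C.el (R i))) :
    ∀ g ∈ C.gen R M, P g := by
  intro x hx
  have hx' : x ∈ Submonoid.closure (C.els R M) := by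
    rw [← Subgroup.closure_toSubmonoid_of_finite]; exact hx
  clear hx
  induction hx' using Submonoid.closure_induction with
  | mem x hx => obtain ⟨i, hi, rfl⟩ := hx; exact h i hi
  | one => exact h1
  | mul x y _ _ ihx ihy => exact hm _ _ ihx ihy

theorem Mem.conjA [Finite Γ] {H : Subgroup Γ} {MH M g : ℕ} {L : List ℕ} (hH : C.Mem R H MH)
    (hg : C.In ⊤ (R g)) (hM : C.Mem R ⊤ M)
    (h : band (conjA O R MH g L) (subM M (insL L 0)) = true) :
    ∀ τ ∈ C.gen R M, C.el (R g) * τ * (C.el (R g))⁻¹ ∈ H := by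
  simp only [CfsgH6.conjA, band_eq, allL_iff, Bool.and_eq_true, force_eq, beq_true_iff] at h
  refine gen_induction (by simp) (fun a b ha hb => by simpa [mul_assoc] using H.mul_mem ha hb) ?_
  intro i hi
  obtain ⟨e, he, rfl⟩ := ((testBit_insL _ _ _).1 (subM_sound h.2 hi)).resolve_left (by simp)
  obtain ⟨h1, h2⟩ := h.1 e he
  rw [← hg.code_el, hH.evalW2 h1, ← (hM _ hi).code_el, ← C.code_mul, C.inj.eq_iff] at h2
  rw [h2, mul_inv_cancel_right]
  exact hH.wd_mem h1

theorem Mem.conjB [Finite Γ] {H : Subgroup Γ} {MH M t : ℕ} {L : List ℕ} (hH : C.Mem R H MH)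
    (ht : C.In ⊤ (R t)) (hM : C.Mem R ⊤ M)
    (h : band (conjB O R MH t L) (subM M (insL L 0)) = true) :
    ∀ κ ∈ C.gen R M, (C.el (R t))⁻¹ * κ * C.el (R t) ∈ H := by
  simp only [CfsgH6.conjB, band_eq, allL_iff, Bool.and_eq_true, force_eq, beq_true_iff] at h
  refine gen_induction (by simp) (fun a b ha hb => by simpa [mul_assoc] using H.mul_mem ha hb) ?_
  intro i hi
  obtain ⟨e, he, rfl⟩ := ((testBit_insL _ _ _).1 (subM_sound h.2 hi)).resolve_left (by simp)
  obtain ⟨h1, h2⟩ := h.1 e he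
  rw [← ht.code_el, hH.mulW h1, ← (hM _ hi).code_el, ← C.code_mul, C.inj.eq_iff] at h2
  rw [mul_assoc, h2, inv_mul_cancel_left]
  exact hH.wd_mem h1

theorem Mem.inDC {H : Subgroup Γ} {MH MI h₁ e : ℕ} (hH : C.Mem R H MH) (hI : C.Mem R ⊤ MI) {x : Γ}
    (h : inDC O R MH MI (C.code x) h₁ e = true) : x ∈ DCs H (C.els R MI) := by
  simp only [CfsgH6.inDC, band_eq, Bool.and_eq_true, bif'_eq, beq_true_iff, fH_eq, force_eq] at h
  obtain ⟨h1, h⟩ := h
  split_ifs at h with h0
  · rw [beq_true_iff, hH.evalW h1, C.inj.eq_iff] at h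
    exact Or.inl (h ▸ hH.wd_mem h1)
  · simp only [Bool.and_eq_true, beq_true_iff] at h
    obtain ⟨h2, h3, h4⟩ := h
    rw [← (hI.get h2).code_el, hH.evalW2 h1, hH.mulW h3, C.inj.eq_iff] at h4
    exact Or.inr ⟨_, ⟨hd e, by simpa using h2, rfl⟩, _, hH.wd_mem h1, _, hH.wd_mem h3, h4⟩

theorem Mem.inDC' {H : Subgroup Γ} {MH MI h₁ e t : ℕ} (hH : C.Mem R H MH) (hI : C.Mem R ⊤ MI)
    (ht : C.In ⊤ (R t)) (h : CfsgH6.inDC O R MH MI (R t) h₁ e = true) :
    C.el (R t) ∈ DCs H (C.els R MI) := hH.inDC hI (by rwa [ht.code_el])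

theorem Mem.dcRel {H : Subgroup Γ} {MH MI g t : ℕ} {L : List (ℕ × ℕ × ℕ)} (hH : C.Mem R H MH)
    (hI : C.Mem R ⊤ MI) (hg : C.In ⊤ (R g)) (ht : C.In ⊤ (R t))
    (h : dcRel O R MH MI g t L = true) :
    ∀ p ∈ L, C.wd R p.1 ∈ H ∧ C.el (R g) * C.wd R p.1 * C.el (R t) ∈ DCs H (C.els R MI) := by
  simp only [CfsgH6.dcRel, band_eq, allL_iff, Bool.and_eq_true, fH_eq] at h
  intro p hp
  obtain ⟨h1, h2⟩ := h p hp
  rw [← hg.code_el, hH.mulW h1, ← ht.code_el, ← C.code_mul] at h2
  exact ⟨hH.wd_mem h1, hH.inDC hI h2⟩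

theorem Mem.nconj {G N : Subgroup Γ} {MG MN M' : ℕ} {L : List ℕ} (hG : C.Mem R G MG)
    (hN : C.Mem R N MN) (hn : NormBy G N) (hv : C.Mem R ⊤ M')
    (h : band (nconj O R MG MN L) (subM M' (insL L MN)) = true) : C.Mem R N M' := by
  simp only [CfsgH6.nconj, band_eq, allL_iff, Bool.and_eq_true, force_eq, beq_true_iff] at h
  intro i hi
  rcases (testBit_insL _ _ _).1 (subM_sound h.2 hi) with h' | ⟨e, he, rfl⟩
  · exact hN i h'
  · obtain ⟨h1, h2, h3⟩ := h.1 e he
    have h4 := hN.get h1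
    rw [← (hv _ hi).code_el, hG.mulW h2, ← h4.code_el, hG.evalW2 h2, C.inj.eq_iff] at h3
    refine (hv _ hi).of_mem ?_
    rw [eq_mul_inv_of_mul_eq h3]
    exact hn _ (hG.wd_mem h2) _ h4.el_mem

theorem Mem.maxChk {H : Subgroup Γ} {MH MG MI : ℕ} {L : List (ℕ × List ℕ)} (hH : C.Mem R H MH)
    (hI : C.Mem R ⊤ MI)
    (h : band (maxChk O R MH MG L) (subM MI (insL (L.map Prod.fst) 0)) = true)
    (hL : allL L (fun p => Nat.blt p.1 1024) = true) :
    ∀ g ∈ C.els R MI, ∀ K : Subgroup Γ, H ≤ K → g ∈ K → C.gen R MG ≤ K := by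
  simp only [CfsgH6.maxChk, band_eq, allL_iff, Bool.and_eq_true, blt_true_iff] at h hL
  rintro _ ⟨i, hi, rfl⟩ K hK hg
  obtain ⟨e, he, rfl⟩ := ((testBit_insL _ _ _).1 (subM_sound h.2 hi)).resolve_left (by simp)
  obtain ⟨p, hp, rfl⟩ := List.mem_map.1 he
  obtain ⟨h1, h2⟩ := h.1 p hp
  have h3 : hd p.1 = p.1 := by rw [hd_eq, Nat.mod_eq_of_lt (hL p hp)]
  rw [h3] at hi hg
  exact ((((hH.mono hK).ins ((hI _ hi).of_mem hg)).slp h1).sub h2).gen_le

theorem code_pow (g : Γ) {m : ℕ} (h : m ≠ 0) : powC O (C.code g) m = C.code (g ^ m) := by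
  have key : ∀ n m, m ≠ 0 → m ≤ n → powF O (C.code g) n m = C.code (g ^ m) := by
    intro n
    induction n with
    | zero => intro m h1 h2; omega
    | succ n ih =>
      intro m h1 h2
      show bif' (Nat.ble m 1) _ (fH (force (Nat.shiftRight m 1) (powF O (C.code g) n)) fun a =>
        bif' (Nat.beq (Nat.land m 1) 0) (O.mul a a) (fH (O.mul a a) fun b => O.mul b (C.code g))) = _
      simp only [bif'_eq, fH_eq, force_eq, ble_true_iff, beq_true_iff, Nat.shiftRight_eq,
        Nat.land_eq, Nat.and_one_is_mod, Nat.shiftRight_eq_div_pow, pow_one]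
      split_ifs with h3 h4
      · rw [show m = 1 by omega, pow_one]
      · rw [ih _ (by omega) (by omega), ← C.code_mul, ← pow_add]; congr 2; omega
      · rw [ih _ (by omega) (by omega), ← C.code_mul, ← C.code_mul, ← pow_add, ← pow_succ]
        congr 2; omega
  exact key m m h le_rfl

theorem Mem.pow_mem {H : Subgroup Γ} {MH t w m : ℕ} (hH : C.Mem R H MH) (ht : C.In ⊤ (R t))
    (h : band (Nat.ble 1 m) (band (subW MH w) (Nat.beq (powC O (R t) m) (CfsgH6.evalW O R w))) = true) :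
    C.el (R t) ^ m ∈ H := by
  simp only [band_eq, Bool.and_eq_true, beq_true_iff, ble_true_iff] at h
  obtain ⟨h1, h2, h3⟩ := h
  rw [← ht.code_el, code_pow _ (by omega), hH.evalW h2, C.inj.eq_iff] at h3
  rw [h3]; exact hH.wd_mem h2

/-- The normal step. -/
theorem Mem.pc [Finite Γ] {MH M t w m : ℕ} {L : List ℕ} (hH : C.Mem R (C.gen R M) MH)
    (ht : C.In ⊤ (R t)) (hM : C.Mem R ⊤ M)
    (h : band (CfsgH6.conjB O R MH t L) (subM M (insL L 0)) = true)
    (h' : band (Nat.ble 1 m) (band (subW MH w) (Nat.beq (powC O (R t) m) (CfsgH6.evalW O R w))) = true) :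
    Nat.card (C.gen R (CfsgH6.ins M t)) ∣ m * Nat.card (C.gen R M) := by
  rw [gen_ins]
  exact card_sup_dvd (hH.conjB ht hM h) (hH.pow_mem ht h')

/-- an element of prime order -/
theorem In.prime_dvd [Finite Γ] {G : Subgroup Γ} {c p : ℕ} (hc : C.In G c) (hp : p.Prime)
    (h : band (Nat.beq (powC O c p) O.one) (bnot (Nat.beq c O.one)) = true) :
    (C.el c ^ p = 1 ∧ C.el c ≠ 1) ∧ p ∣ Nat.card G := by
  simp only [band_eq, Bool.and_eq_true, beq_true_iff, bnot_eq, Bool.not_eq_true',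
    ← Bool.not_eq_true] at h
  obtain ⟨h1, h2⟩ := h
  rw [← hc.code_el, code_pow _ hp.ne_zero, ← C.code_one, C.inj.eq_iff] at h1
  rw [← hc.code_el, ← C.code_one, C.inj.eq_iff] at h2
  exact ⟨⟨h1, h2⟩, prime_dvd_card hp hc.el_mem h1 h2⟩

/-- two words with the same value -/
theorem Mem.wd_eq {M u v : ℕ} (hM : C.Mem R ⊤ M) (h : band (subW M u) (band (subW M v)
    (Nat.beq (CfsgH6.evalW O R u) (CfsgH6.evalW O R v))) = true) : C.wd R u = C.wd R v := by
  simp only [band_eq, Bool.and_eq_true, beq_true_iff] at h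
  rw [hM.evalW h.1, hM.evalW h.2.1, C.inj.eq_iff] at h
  exact h.2.2

/-- two words with different values -/
theorem Mem.wd_ne {M u v : ℕ} (hM : C.Mem R ⊤ M) (h : band (subW M u) (band (subW M v)
    (bnot (Nat.beq (CfsgH6.evalW O R u) (CfsgH6.evalW O R v)))) = true) : C.wd R u ≠ C.wd R v := by
  simp only [band_eq, Bool.and_eq_true, bnot_eq, Bool.not_eq_true', ← Bool.not_eq_true,
    beq_true_iff] at h
  rw [hM.evalW h.1, hM.evalW h.2.1, C.inj.eq_iff] at h
  exact h.2.2

/-- The double coset step: the bound on the order. `L` lists registers and indices. -/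
theorem card_dc [Finite Γ] {G H : Subgroup Γ} {MI : ℕ} (L : List (ℕ × ℕ))
    (hG : ∀ x ∈ G, x ∈ DCs H (C.els R MI))
    (hL : ∀ p ∈ L, (DC1 H (C.el (R p.1))).ncard ≤ Nat.card H * p.2) {n : ℕ}
    (h : band (allL L fun p => Nat.blt p.1 1024) (band (subM MI (insL (L.map Prod.fst) 0))
      (Nat.beq n (1 + (L.map Prod.snd).sum))) = true) : Nat.card G ≤ n * Nat.card H := by
  simp only [band_eq, Bool.and_eq_true, beq_true_iff, allL_iff, blt_true_iff] at h
  have := card_le_DCs (G := G) (H := H) (L.map fun p => (C.el (R p.1), p.2)) (fun x hx => ?_) (by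
    intro p hp
    obtain ⟨q, hq, rfl⟩ := List.mem_map.1 hp
    exact hL q hq)
  · rw [List.map_map] at this
    rw [h.2.2, mul_comm]; exact this
  · rcases hG x hx with h' | ⟨_, ⟨i, hi, rfl⟩, h'⟩
    · exact Or.inl h'
    · obtain ⟨e, he, rfl⟩ := ((testBit_insL _ _ _).1 (subM_sound h.2.1 hi)).resolve_left (by simp)
      obtain ⟨p, hp, rfl⟩ := List.mem_map.1 he
      rw [hd_eq, Nat.mod_eq_of_lt (h.1 p hp)] at h'
      exact Or.inr ⟨_, List.mem_map.2 ⟨_, List.mem_map.2 ⟨p, hp, rfl⟩, rfl⟩, h'⟩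

/-- if the count is exact, the subgroups `T` are the full intersections -/
theorem exact_dc [Finite Γ] {G H T : Subgroup Γ} {MI : ℕ} (L : List (ℕ × ℕ))
    (hG : ∀ x ∈ G, x ∈ DCs H (C.els R MI))
    (hL : ∀ p ∈ L, (DC1 H (C.el (R p.1))).ncard ≤ Nat.card H * p.2) {n : ℕ}
    (h : band (allL L fun p => Nat.blt p.1 1024) (band (subM MI (insL (L.map Prod.fst) 0))
      (Nat.beq n (1 + (L.map Prod.snd).sum))) = true) (hc : n * Nat.card H ≤ Nat.card G)
    {p : ℕ × ℕ} (hp : p ∈ L) (hTH : T ≤ H)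
    (hT : ∀ τ ∈ T, C.el (R p.1) * τ * (C.el (R p.1))⁻¹ ∈ H) (hm : Nat.card H ≤ p.2 * Nat.card T) :
    ∀ N : Subgroup Γ, C.el (R p.1) ∈ G → N ≤ H → NormBy G N → N ≤ T := by
  simp only [band_eq, Bool.and_eq_true, beq_true_iff, allL_iff, blt_true_iff] at h
  have := exact_DCs (G := G) (H := H) (T := T) (L.map fun p => (C.el (R p.1), p.2)) (fun x hx => ?_) (by
    intro p hp
    obtain ⟨q, hq, rfl⟩ := List.mem_map.1 hp
    exact hL q hq) (by rw [List.map_map, mul_comm]; rw [h.2.2] at hc; exact hc)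
    (List.mem_map.2 ⟨p, hp, rfl⟩) hTH hT hm
  · exact fun N hg hNH hN x hx => this x (hNH hx) (hNH (hN _ hg x hx))
  · rcases hG x hx with h' | ⟨_, ⟨i, hi, rfl⟩, h'⟩
    · exact Or.inl h'
    · obtain ⟨e, he, rfl⟩ := ((testBit_insL _ _ _).1 (subM_sound h.2.1 hi)).resolve_left (by simp)
      obtain ⟨p, hp, rfl⟩ := List.mem_map.1 he
      rw [hd_eq, Nat.mod_eq_of_lt (h.1 p hp)] at h'
      exact Or.inr ⟨_, List.mem_map.2 ⟨_, List.mem_map.2 ⟨p, hp, rfl⟩, rfl⟩, h'⟩

/-- statements on all registers of a set, through a list -/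
theorem forall_els {M : ℕ} {L : List ℕ} {P : Γ → Prop} (hP : ∀ i ∈ L, P (C.el (R i)))
    (h : band (allL L fun i => Nat.blt i 1024) (subM M (insL L 0)) = true) :
    ∀ g ∈ C.els R M, P g := by
  simp only [band_eq, Bool.and_eq_true, allL_iff, blt_true_iff] at h
  rintro _ ⟨i, hi, rfl⟩
  obtain ⟨e, he, rfl⟩ := ((testBit_insL _ _ _).1 (subM_sound h.2 hi)).resolve_left (by simp)
  rw [hd_eq, Nat.mod_eq_of_lt (h.1 e he)]
  exact hP e he

/-- The double coset step: the closure. -/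
theorem dc_gen [Finite Γ] {H : Subgroup Γ} {MH MU MG : ℕ} {S : Set Γ} (hH : C.Mem R H MH)
    (h : subM MG (Nat.lor MH MU) = true) (h1 : ∀ t ∈ C.els R MU, t ∈ DCs H S ∧
      ∀ g ∈ S, ∀ x ∈ DC1 H g, x * t ∈ DCs H S) : ∀ x ∈ C.gen R MG, x ∈ DCs H S := by
  refine dc_closure (U := C.els R MU) ?_ (fun t ht => (h1 t ht).1) fun t ht => (h1 t ht).2
  rintro _ ⟨i, hi, rfl⟩
  have := subM_sound h hi
  simp only [Nat.lor_eq, Nat.testBit_or, Bool.or_eq_true] at this
  rcases this with h' | h'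
  · exact Or.inl (hH i h').el_mem
  · exact Or.inr ⟨i, h', rfl⟩

theorem wds_sub {H : Subgroup Γ} {M : ℕ} {Q : List ℕ} (hM : C.Mem R H M)
    (h : allL Q (subW M) = true) : C.wds R Q ⊆ H := by
  rintro _ ⟨w, hw, rfl⟩
  exact hM.wd_mem ((allL_iff _ _).1 h w hw)

theorem wds_zero (H : Subgroup Γ) : C.wds R [0] ⊆ H := by
  rintro _ ⟨w, hw, rfl⟩
  rw [List.mem_singleton.1 hw, wd_zero]; exact H.one_mem

theorem wds_rel {L : List (ℕ × ℕ × ℕ)} {P : Γ → Prop} (h : ∀ p ∈ L, P (C.wd R p.1)) :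
    ∀ ρ ∈ C.wds R (L.map Prod.fst), P ρ := by
  rintro _ ⟨w, hw, rfl⟩
  obtain ⟨p, hp, rfl⟩ := List.mem_map.1 hw
  exact h p hp

end GC

namespace Act

variable {C : GC O Γ} {α : Type*} [MulAction Γ α] {app : ℕ → ℕ → ℕ} {key : ℕ → ℕ}
  (A : Act C α app key) {R : ℕ → ℕ}

variable {A}

theorem app_el {p v : ℕ} {x : α} {H : Subgroup Γ} (hp : C.In H p) (h : A.Rep v x) :
    A.Rep (app p v) (C.el p • x) := by
  have := A.app_ok (C.el p) v x h
  rwa [hp.code_el] at this

theorem appW_ok {M w v : ℕ} {x : α} {H : Subgroup Γ} (hM : C.Mem R H M) (hw : subW M w = true)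
    (h : A.Rep v x) : A.Rep (appW app R w v) (C.wd R w • x) := by
  have key : ∀ n w m, w ≤ n → w ≤ m → subWF M m w = true →
      A.Rep (appWF app R v n w) (C.wd R w • x) := by
    intro n
    induction n with
    | zero =>
      intro w m hw _ _
      obtain rfl : w = 0 := by omega
      rw [GC.wd_zero, one_smul]; exact h
    | succ n ih =>
      intro w m hw hm hs
      by_cases h0 : w = 0
      · subst h0
        rw [GC.wd_zero, one_smul]; exact h
      · obtain ⟨m, rfl⟩ : ∃ k, m = k + 1 := ⟨m - 1, by omega⟩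
        have hs : bor (Nat.beq w 0) (band (tb M (hd w)) (force (tl w) (subWF M m))) = true := hs
        simp only [bor_eq, band_eq, force_eq, Bool.or_eq_true, Bool.and_eq_true, beq_true_iff, h0,
          false_or] at hs
        have h1 := ih (tl w) m (GC.tl_le h0 hw) (GC.tl_le h0 hm) hs.2
        show A.Rep (bif' (Nat.beq w 0) v (fH (force (tl w) (appWF app R v n))
          (app (force (hd w) R)))) _
        rw [bif'_eq, if_neg (by rwa [beq_true_iff]), fH_eq, force_eq, force_eq, GC.wd_pos h0,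
          mul_smul]
        exact app_el (hM.get hs.1) h1
  exact key w w w le_rfl le_rfl hw

theorem fix_sound [Finite Γ] {M b : ℕ} {L : List ℕ} {β : α} (hM : C.Mem R ⊤ M) (hb : A.Rep b β)
    (h : band (fixL app key R L b) (subM M (insL L 0)) = true) : C.gen R M ≤ stabilizer Γ β := by
  simp only [fixL, band_eq, allL_iff, Bool.and_eq_true, force_eq, fH_eq, beq_true_iff] at h
  rw [GC.gen, closure_le]
  rintro _ ⟨i, hi, rfl⟩
  obtain ⟨e, he, rfl⟩ := ((testBit_insL _ _ _).1 (subM_sound h.2 hi)).resolve_left (by simp)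
  exact (A.key_iff _ _ _ _ (app_el (hM _ hi) hb) hb).1 (h.1 e he)

/-- the points numbered from `s` to `e` lie in the orbit of `x` -/
def Seen (A : Act C α app key) (tab : ℕ → ℕ) (T : Subgroup Γ) (x : α) (s e : ℕ) : Prop :=
  ∀ k, s ≤ k → k < e → ∃ τ ∈ T, ∃ v, A.Rep v (τ • x) ∧ tab (key v) >>> 16 = k

theorem walk_sound {tab : ℕ → ℕ} {T : Subgroup Γ} {gs : List ℕ} (hg : ∀ g ∈ gs, C.In T (R g))
    (fuel : ℕ) : ∀ v k x, A.Rep v x → walk app key tab R gs fuel v k ≠ 0 →
      A.Seen tab T x k (walk app key tab R gs fuel v k) := by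
  induction fuel with
  | zero => intro v k x _ h; exact absurd rfl h
  | succ n ih =>
    intro v k x hv
    have hk : ∀ l : List ℕ, (∀ g ∈ l, C.In T (R g)) → ∀ m acc,
        kids app R (walk app key tab R gs n) v l m acc ≠ 0 →
        A.Seen tab T x acc (kids app R (walk app key tab R gs n) v l m acc) := by
      intro l
      induction l with
      | nil => intro _ m acc _ j h1 h2; exact absurd h2 (not_lt.2 h1)
      | cons g l ihl =>
        intro hl m acc
        have e : kids app R (walk app key tab R gs n) v (g :: l) m acc =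
            bif' (Nat.beq m 0) acc (force (Nat.shiftRight m 1) fun m' =>
              bif' (Nat.beq (Nat.land m 1) 0) (kids app R (walk app key tab R gs n) v l m' acc)
              (force (fH (app (R g) v) fun v' => walk app key tab R gs n v' acc) fun a =>
                bif' (Nat.beq a 0) 0 (kids app R (walk app key tab R gs n) v l m' a))) := rfl
        rw [e]
        simp only [bif'_eq, force_eq, fH_eq, beq_true_iff]
        have hl' : ∀ g ∈ l, C.In T (R g) := fun g hg => hl g (List.mem_cons_of_mem _ hg)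
        split_ifs with h1 h2 h3
        · intro _ j h1 h2; exact absurd h2 (not_lt.2 h1)
        · exact ihl hl' _ _
        · intro h; exact absurd rfl h
        · intro h j h4 h5
          by_cases hj : j < walk app key tab R gs n (app (R g) v) acc
          · have hgT := hl g List.mem_cons_self
            obtain ⟨τ, hτ, w, hw, e⟩ := ih _ _ _ (app_el hgT hv) h3 j h4 hj
            exact ⟨τ * C.el (R g), T.mul_mem hτ hgT.el_mem, w, by rwa [mul_smul], e⟩
          · exact ihl hl' _ _ h j (not_lt.1 hj) h5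
    have e : walk app key tab R gs (n + 1) v k = force (fH (key v) tab) fun e =>
        bif' (Nat.beq (Nat.shiftRight e 16) k) (force (Nat.land e 65535) fun m =>
          force (Nat.succ k) (kids app R (walk app key tab R gs n) v gs m)) 0 := rfl
    rw [e]
    simp only [bif'_eq, force_eq, fH_eq, beq_true_iff]
    split_ifs with h1
    · intro h j h2 h3
      rcases Nat.eq_or_lt_of_le h2 with rfl | h2
      · exact ⟨1, T.one_mem, v, by rwa [one_smul], h1⟩
      · exact hk gs hg _ _ h j h2 h3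
    · intro h; exact absurd rfl h

theorem pieces_sound {tab : ℕ → ℕ} {T : Subgroup Γ} {MT M b : ℕ} {gs : List ℕ} {β : α}
    {L : List (ℕ × ℕ × ℕ × ℕ)} (hT : C.Mem R T MT) (hM : C.Mem R ⊤ M) (hb : A.Rep b β)
    (h : band (pieces app key tab R MT gs b L) (allL L fun p => subW M p.2.1) = true) :
    ∀ p ∈ L, A.Seen tab T (C.wd R p.2.1 • β) p.2.2.1 p.2.2.2 := by
  simp only [pieces, band_eq, allL_iff, Bool.and_eq_true, fH_eq, beq_true_iff] at h
  intro p hp k h1 h2
  obtain ⟨h3, h4⟩ := h.1.2 p hp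
  have := walk_sound (tab := tab) (fun g hg => hT.get (h.1.1 g hg)) 64 _ p.2.2.1 _
    (appW_ok hT h3 (appW_ok hM (h.2 p hp) hb)) (by rw [h4]; omega)
  rw [h4] at this
  obtain ⟨τ, hτ, v, hv, e⟩ := this k h1 h2
  exact ⟨τ * C.wd R p.1, T.mul_mem hτ (hT.wd_mem h3), v, by rwa [mul_smul], e⟩

theorem cov_of_seen {tab : ℕ → ℕ} {T : Subgroup Γ} {β : α} {L : List (ℕ × ℕ × ℕ × ℕ)}
    {Q : List ℕ} {n : ℕ} (h : ∀ p ∈ L, A.Seen tab T (C.wd R p.2.1 • β) p.2.2.1 p.2.2.2)
    (hc : cover n Q L 0 = true) : Cov T (C.wds R Q) β n := by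
  have : ∀ k : Fin n, ∃ y : α, (∃ τ ∈ T, ∃ ρ ∈ C.wds R Q, y = τ • ρ • β) ∧
      ∃ v, A.Rep v y ∧ tab (key v) >>> 16 = k := by
    intro k
    obtain ⟨p, hp, h1, h2, h3⟩ := cover_sound hc (Nat.zero_le _) k.2
    obtain ⟨τ, hτ, v, hv, e⟩ := h p hp k h2 h3
    exact ⟨_, ⟨τ, hτ, _, ⟨_, h1, rfl⟩, rfl⟩, v, hv, e⟩
  choose y hy using this
  refine ⟨y, fun i j hij => ?_, fun k => (hy k).1⟩
  obtain ⟨v, hv, e⟩ := (hy i).2
  obtain ⟨w, hw, e'⟩ := (hy j).2
  rw [(A.key_iff _ _ _ _ hv hw).2 hij] at e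
  exact Fin.ext (e.symm.trans e')

end Act

end

end CfsgH6
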