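/-
Numbers as vectors of digits of a fixed width; matrix products on packed matrices.
-/
import Cfsg.Agent.H6.DCb

set_option autoImplicit false

namespace CfsgH6

open CfsgH5 Finset

noncomputable section

/-- digit `k` of width `W` -/
def dgt (W x k : ℕ) : ℕ := (x >>> (W * k)) &&& (2 ^ W - 1)

/-- the number with digits `f 0, …, f (n-1)` -/
def evd (W n : ℕ) (f : ℕ → ℕ) : ℕ := ∑ k ∈ range n, f k * 2 ^ (W * k)

theorem dgt_eq (W x k : ℕ) : dgt W x k = x / 2 ^ (W * k) % 2 ^ W := by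
  rw [dgt, Nat.and_two_pow_sub_one_eq_mod, Nat.shiftRight_eq_div_pow]

theorem dgt_lt (W x k : ℕ) : dgt W x k < 2 ^ W := by
  rw [dgt_eq]; exact Nat.mod_lt _ (by positivity)

theorem testBit_dgt (W x k j : ℕ) :
    (dgt W x k).testBit j = (decide (j < W) && x.testBit (W * k + j)) := by
  rw [dgt, Nat.testBit_and, Nat.testBit_shiftRight, Nat.testBit_two_pow_sub_one, Bool.and_comm]

theorem evd_succ (W n : ℕ) (f : ℕ → ℕ) : evd W (n + 1) f = evd W n f + f n * 2 ^ (W * n) :=
  sum_range_succ _ _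

theorem evd_congr {W n : ℕ} {f g : ℕ → ℕ} (h : ∀ k, k < n → f k = g k) : evd W n f = evd W n g :=
  sum_congr rfl fun k hk => by rw [h k (mem_range.1 hk)]

theorem evd_lt {W n : ℕ} {f : ℕ → ℕ} (h : ∀ k, k < n → f k < 2 ^ W) : evd W n f < 2 ^ (W * n) := by
  induction n with
  | zero => simp [evd]
  | succ n ih =>
    rw [evd_succ, Nat.mul_succ, pow_add]
    have h1 := ih fun k hk => h k (by omega)
    have h2 : (f n + 1) * 2 ^ (W * n) ≤ 2 ^ W * 2 ^ (W * n) := Nat.mul_le_mul_right _ (h n (by omega))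
    nlinarith

theorem dgt_evd {W n : ℕ} {f : ℕ → ℕ} (h : ∀ k, k < n → f k < 2 ^ W) (k : ℕ) :
    dgt W (evd W n f) k = if k < n then f k else 0 := by
  induction n with
  | zero => simp [evd, dgt]
  | succ n ih =>
    have h1 := evd_lt (n := n) fun k hk => h k (by omega)
    have ih := ih fun k hk => h k (by omega)
    rw [dgt_eq] at ih ⊢
    rw [evd_succ]
    rcases lt_trichotomy k n with hk | rfl | hk
    · obtain ⟨d, rfl⟩ := Nat.exists_eq_add_of_lt hk
      rw [if_pos hk] at ih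
      rw [if_pos (by omega), ← ih, show W * (k + d + 1) = W * d + W + W * k by ring, pow_add, pow_add,
        ← mul_assoc, Nat.add_mul_div_right _ _ (by positivity), ← mul_assoc, Nat.add_mul_mod_self_right]
    · rw [if_pos (by omega), Nat.add_mul_div_right _ _ (by positivity), Nat.div_eq_of_lt h1, zero_add,
        Nat.mod_eq_of_lt (h k (by omega))]
    · rw [if_neg (by omega), ← evd_succ, Nat.div_eq_of_lt, Nat.zero_mod]
      exact lt_of_lt_of_le (evd_lt h) (Nat.pow_le_pow_right (by norm_num) (Nat.mul_le_mul_left _ hk))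

theorem eq_of_dgt {W x y : ℕ} (hW : 0 < W) (h : ∀ k, dgt W x k = dgt W y k) : x = y := by
  apply Nat.eq_of_testBit_eq
  intro j
  have h1 := congrArg (·.testBit (j % W)) (h (j / W))
  simpa [testBit_dgt, Nat.mod_lt _ hW, Nat.div_add_mod] using h1

theorem eq_evd {W n x : ℕ} {f : ℕ → ℕ} (hW : 0 < W) (h : ∀ k, k < n → f k < 2 ^ W)
    (h' : ∀ k, dgt W x k = if k < n then f k else 0) : x = evd W n f :=
  eq_of_dgt hW fun k => by rw [h', dgt_evd h]

theorem evd_dgt {W n x : ℕ} (hW : 0 < W) (h : x < 2 ^ (W * n)) : x = evd W n (dgt W x) :=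
  eq_evd hW (fun _ _ => dgt_lt _ _ _) fun k => by
    split_ifs with hk
    · rfl
    · rw [dgt_eq, Nat.div_eq_of_lt, Nat.zero_mod]
      exact lt_of_lt_of_le h (Nat.pow_le_pow_right (by norm_num) (Nat.mul_le_mul_left _ (by omega)))

theorem dgt_land (W a b k : ℕ) : dgt W (a &&& b) k = dgt W a k &&& dgt W b k := by
  apply Nat.eq_of_testBit_eq; intro j
  simp only [testBit_dgt, Nat.testBit_and]
  cases decide (j < W) <;> simp

theorem dgt_dgt (W m x k i : ℕ) : dgt W (dgt (W * m) x k) i = if i < m then dgt W x (m * k + i) else 0 := by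
  apply Nat.eq_of_testBit_eq; intro j
  split_ifs with h
  · simp only [testBit_dgt]
    by_cases hj : j < W
    · have : W * i + j < W * m := by nlinarith
      simp only [hj, this, decide_true, Bool.true_and]
      congr 1; ring
    · simp [hj]
  · have : ¬ W * i + j < W * m := by
      have := Nat.mul_le_mul_left W (not_lt.1 h); omega
    simp [testBit_dgt, this]

theorem evd_add (W n : ℕ) (f g : ℕ → ℕ) : evd W n f + evd W n g = evd W n fun k => f k + g k := by
  simp [evd, add_mul, sum_add_distrib]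

theorem evd_mul (W n : ℕ) (f : ℕ → ℕ) (c : ℕ) : evd W n f * c = evd W n fun k => f k * c := by
  simp only [evd, sum_mul]; exact sum_congr rfl fun _ _ => by ring

theorem evd_sub (W n : ℕ) {f g : ℕ → ℕ} (h : ∀ k, k < n → g k ≤ f k) :
    evd W n f - evd W n g = evd W n fun k => f k - g k := by
  rw [Nat.sub_eq_iff_eq_add, evd_add]
  · exact evd_congr fun k hk => by have := h k hk; omega
  · exact sum_le_sum fun k hk => Nat.mul_le_mul_right _ (h k (mem_range.1 hk))

theorem evd_block (W m n : ℕ) (f : ℕ → ℕ) :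
    evd W (m * n) f = evd (W * m) n fun k => evd W m fun i => f (m * k + i) := by
  induction n with
  | zero => simp [evd]
  | succ n ih =>
    have : ∑ x ∈ range m, f (m * n + x) * 2 ^ (W * (m * n + x)) =
        (evd W m fun i => f (m * n + i)) * 2 ^ (W * m * n) := by
      simp only [evd, sum_mul]
      exact sum_congr rfl fun _ _ => by ring
    rw [evd_succ, ← ih, Nat.mul_succ, evd, sum_range_add, this]
    rfl

theorem evd_outer (W m n : ℕ) (hm : 0 < m) (a b : ℕ → ℕ) :
    evd (W * m) n a * evd W m b = evd W (m * n) fun p => a (p / m) * b (p % m) := by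
  rw [evd_block, evd_mul]
  refine evd_congr fun k _ => ?_
  rw [mul_comm, evd_mul]
  refine evd_congr fun i hi => ?_
  rw [Nat.mul_add_div hm, Nat.div_eq_of_lt hi, Nat.mul_add_mod, Nat.mod_eq_of_lt hi, mul_comm, add_zero]

/-- the number with all digits one -/
def ones (W n : ℕ) : ℕ := Nat.div (Nat.pow 2 (Nat.mul W n)) (Nat.sub (Nat.pow 2 W) 1)

theorem ones_eq {W : ℕ} (hW : 2 ≤ W) (n : ℕ) : ones W n = evd W n fun _ => 1 := by
  have h1 : ∀ n, 2 ^ (W * n) = (evd W n fun _ => 1) * (2 ^ W - 1) + 1 := by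
    intro n
    have : 1 ≤ 2 ^ W := Nat.one_le_two_pow
    induction n with
    | zero => simp [evd]
    | succ n ih =>
      rw [evd_succ, Nat.mul_succ, pow_add, add_mul, one_mul]
      obtain ⟨c, hc⟩ := Nat.exists_eq_add_of_le' this
      rw [hc, Nat.add_sub_cancel] at ih ⊢
      nlinarith
  have h2 : 4 ≤ 2 ^ W := Nat.pow_le_pow_right (n := 2) (by norm_num) hW
  show 2 ^ (W * n) / (2 ^ W - 1) = _
  rw [h1, add_comm, Nat.add_mul_div_right _ _ (by omega), Nat.div_eq_of_lt (by omega), zero_add]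

theorem ones_mul {W : ℕ} (hW : 2 ≤ W) (n c : ℕ) : ones W n * c = evd W n fun _ => c := by
  rw [ones_eq hW, evd_mul]; simp

/-- shifting inside the digits and masking -/
theorem shift_mask {W n s w x : ℕ} (hW : 0 < W) (h : s + w ≤ W) :
    (x >>> s) &&& (evd W n fun _ => 2 ^ w - 1) =
      evd W n fun k => (dgt W x k >>> s) &&& (2 ^ w - 1) := by
  have h1 : 2 ^ w - 1 < 2 ^ W := by
    have := Nat.pow_le_pow_right (n := 2) (by norm_num) (show w ≤ W by omega)
    have : 1 ≤ 2 ^ w := Nat.one_le_two_pow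
    omega
  refine eq_evd hW (fun k _ => lt_of_le_of_lt Nat.and_le_right h1) fun k => ?_
  rw [dgt_land, dgt_evd fun _ _ => h1]
  split_ifs
  · apply Nat.eq_of_testBit_eq; intro j
    simp only [Nat.testBit_and, Nat.testBit_shiftRight, testBit_dgt, Nat.testBit_two_pow_sub_one]
    by_cases hj : j < w
    · simp only [hj, show j < W by omega, show s + j < W by omega, decide_true, Bool.true_and]
      congr 2; ring
    · simp [hj]
  · simp

/-! ### Reduction of all digits modulo `p` -/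

/-- one reduction step on a digit -/
def stepF (q : ℕ × ℕ × ℕ × ℕ) (x : ℕ) : ℕ :=
  Nat.sub x (Nat.mul (Nat.shiftRight (Nat.add (Nat.mul x q.2.1) q.1) q.2.2.1) q.2.2.2)

def stepOK (W : ℕ) (q : ℕ × ℕ × ℕ × ℕ) (x : ℕ) : Bool :=
  band (Nat.blt (Nat.add (Nat.mul x q.2.1) q.1) (Nat.pow 2 W))
    (band (Nat.ble (Nat.mul (Nat.shiftRight (Nat.add (Nat.mul x q.2.1) q.1) q.2.2.1) q.2.2.2) x)
      (Nat.ble q.2.2.1 W))

/-- one reduction step on all digits -/
def stepB (W on : ℕ) (q : ℕ × ℕ × ℕ × ℕ) (X : ℕ) : ℕ :=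
  Nat.sub X (Nat.mul (Nat.land (Nat.shiftRight
    (bif' (Nat.beq q.1 0) (bif' (Nat.beq q.2.1 1) X (Nat.mul X q.2.1))
      (Nat.add (bif' (Nat.beq q.2.1 1) X (Nat.mul X q.2.1)) (Nat.mul on q.1))) q.2.2.1)
    (Nat.mul on (Nat.sub (Nat.pow 2 (Nat.sub W q.2.2.1)) 1))) q.2.2.2)

theorem stepB_evd {W n : ℕ} (hW : 2 ≤ W) (q : ℕ × ℕ × ℕ × ℕ) {f : ℕ → ℕ}
    (h : ∀ k, k < n → stepOK W q (f k) = true) (hs : q.2.2.1 ≤ W) :
    stepB W (ones W n) q (evd W n f) = evd W n fun k => stepF q (f k) := by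
  obtain ⟨a, mu, s, c⟩ := q
  simp only [stepOK, band_eq, Bool.and_eq_true, blt_true_iff, ble_true_iff, Nat.add_eq, Nat.mul_eq,
    Nat.pow_eq, Nat.shiftRight_eq] at h
  have h1 : bif' (Nat.beq a 0) (bif' (Nat.beq mu 1) (evd W n f) (Nat.mul (evd W n f) mu))
      (Nat.add (bif' (Nat.beq mu 1) (evd W n f) (Nat.mul (evd W n f) mu)) (Nat.mul (ones W n) a)) =
      evd W n fun k => f k * mu + a := by
    have : bif' (Nat.beq mu 1) (evd W n f) (Nat.mul (evd W n f) mu) = evd W n fun k => f k * mu := by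
      rw [bif'_eq, ← evd_mul]
      split_ifs with h
      · rw [(beq_true_iff _ _).1 h, mul_one]
      · rfl
    rw [this, bif'_eq]
    split_ifs with h
    · rw [(beq_true_iff _ _).1 h]; rfl
    · rw [Nat.add_eq, Nat.mul_eq, ones_eq hW, evd_mul, evd_add]; simp
  unfold stepB
  simp only [h1]
  simp only [Nat.mul_eq, Nat.sub_eq, Nat.land_eq, Nat.pow_eq, Nat.shiftRight_eq]
  rw [ones_mul hW, shift_mask (by omega) (by simp at hs; omega), evd_mul]
  have h2 : ∀ k, k < n → (dgt W (evd W n fun k => f k * mu + a) k >>> s &&& (2 ^ (W - s) - 1)) =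
      (f k * mu + a) >>> s := by
    intro k hk
    rw [dgt_evd fun k hk => (h k hk).1, if_pos hk, Nat.and_two_pow_sub_one_eq_mod, Nat.mod_eq_of_lt]
    rw [Nat.shiftRight_eq_div_pow, Nat.div_lt_iff_lt_mul (by positivity), ← pow_add,
      Nat.sub_add_cancel (by simpa using hs)]
    exact (h k hk).1
  rw [evd_sub _ _ fun k hk => by rw [h2 k hk]; exact (h k hk).2.1]
  exact evd_congr fun k hk => by rw [h2 k hk]; rfl

def redF (L : List (ℕ × ℕ × ℕ × ℕ)) : ℕ → ℕ :=
  List.rec (motive := fun _ => ℕ → ℕ) (fun x => x) (fun q _ ih x => force (stepF q x) ih) L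

def redOK (W : ℕ) (L : List (ℕ × ℕ × ℕ × ℕ)) : ℕ → Bool :=
  List.rec (motive := fun _ => ℕ → Bool) (fun _ => true)
    (fun q _ ih x => band (stepOK W q x) (force (stepF q x) ih)) L

def redB (W on : ℕ) (L : List (ℕ × ℕ × ℕ × ℕ)) : ℕ → ℕ :=
  List.rec (motive := fun _ => ℕ → ℕ) (fun x => x) (fun q _ ih x => ih (stepB W on q x)) L

theorem redB_evd {W n : ℕ} (hW : 2 ≤ W) (L : List (ℕ × ℕ × ℕ × ℕ)) (h0 : redOK W L 0 = true)
    {f : ℕ → ℕ} (h : ∀ k, k < n → redOK W L (f k) = true) :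
    redB W (ones W n) L (evd W n f) = evd W n fun k => redF L (f k) := by
  have key : ∀ L : List (ℕ × ℕ × ℕ × ℕ), ∀ x, redOK W L x = true → ∀ q ∈ L, q.2.2.1 ≤ W := by
    intro L
    induction L with
    | nil => simp
    | cons q L ih =>
      intro x h
      have h : band (stepOK W q x) (force (stepF q x) (redOK W L)) = true := h
      simp only [stepOK, band_eq, force_eq, Bool.and_eq_true, ble_true_iff] at h
      exact List.forall_mem_cons.2 ⟨h.1.2.2, ih _ h.2⟩
  have hs := key L 0 h0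
  clear h0
  induction L generalizing f with
  | nil => rfl
  | cons q L ih =>
    have h' : ∀ k, k < n → stepOK W q (f k) = true ∧ redOK W L (stepF q (f k)) = true := by
      intro k hk
      have : band (stepOK W q (f k)) (force (stepF q (f k)) (redOK W L)) = true := h k hk
      simpa using this
    show redB W (ones W n) L (stepB W (ones W n) q (evd W n f)) = _
    rw [stepB_evd hW q (fun k hk => (h' k hk).1) (hs q List.mem_cons_self),
      ih (fun k hk => (h' k hk).2) fun q hq => hs q (List.mem_cons_of_mem _ hq)]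
    exact evd_congr fun k _ => (force_eq _ _).symm

/-! ### Products modulo `p` -/

/-- parameters: prime, dimension, width, period of the reductions, bound after a reduction -/
structure PP where
  p : ℕ
  n : ℕ
  W : ℕ
  k : ℕ
  b : ℕ
  r₁ : List (ℕ × ℕ × ℕ × ℕ)
  r₂ : List (ℕ × ℕ × ℕ × ℕ)

/-- validity of the parameters -/
def PP.ok (P : PP) : Bool :=
  band (Nat.ble 2 P.W) <| band (Nat.blt 0 P.n) <| band (Nat.blt 0 P.k) <|
  band (Nat.ble P.p (Nat.pow 2 P.W)) <|
  allLt (P.b + P.k * ((P.p - 1) * (P.p - 1)) + 1) fun x =>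
    band (redOK P.W P.r₁ x) <| band (Nat.ble (redF P.r₁ x) P.b) <|
    band (Nat.beq (Nat.mod (redF P.r₁ x) P.p) (Nat.mod x P.p)) <|
    band (redOK P.W P.r₂ x) (Nat.beq (redF P.r₂ x) (Nat.mod x P.p))

/-- term `j` of the product -/
def PP.term (P : PP) (r A B j : ℕ) : ℕ :=
  Nat.mul (Nat.land (Nat.shiftRight B (Nat.mul P.W j))
      (Nat.mul (ones (Nat.mul P.W P.n) r) (Nat.sub (Nat.pow 2 P.W) 1)))
    (Nat.land (Nat.shiftRight A (Nat.mul (Nat.mul P.W P.n) j))
      (Nat.sub (Nat.pow 2 (Nat.mul P.W P.n)) 1))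

def PP.acc (P : PP) (r A B j : ℕ) : ℕ :=
  Nat.rec (motive := fun _ => ℕ) 0 (fun j acc =>
    bif' (Nat.beq (Nat.mod (Nat.succ j) P.k) 0)
      (redB P.W (ones P.W (Nat.mul P.n r)) P.r₁ (Nat.add acc (P.term r A B j)))
      (Nat.add acc (P.term r A B j))) j

/-- product of an `n × n` and an `n × r` matrix, stored by columns -/
def PP.mul (P : PP) (r A B : ℕ) : ℕ :=
  redB P.W (ones P.W (Nat.mul P.n r)) P.r₂ (P.acc r A B P.n)

theorem PP.mul_evd {P : PP} (h : P.ok = true) (r : ℕ) {a b : ℕ → ℕ → ℕ} (ha : ∀ i j, a i j < P.p)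
    (hb : ∀ i j, b i j < P.p) :
    P.mul r (evd P.W (P.n * P.n) fun q => a (q % P.n) (q / P.n))
      (evd P.W (P.n * r) fun q => b (q % P.n) (q / P.n)) =
    evd P.W (P.n * r) fun q => (∑ j ∈ range P.n, a (q % P.n) j * b j (q / P.n)) % P.p := by
  obtain ⟨p, n, W, k, b0, r₁, r₂⟩ := P
  simp only [PP.ok, band_eq, Bool.and_eq_true, ble_true_iff, blt_true_iff, allLt_iff, beq_true_iff,
    Nat.pow_eq, show ∀ a b, Nat.mod a b = a % b from fun _ _ => rfl] at h
  simp only at ha hb ⊢
  obtain ⟨hW, hn, hk, hp, h⟩ := h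
  set A := evd W (n * n) fun q => a (q % n) (q / n)
  set B := evd W (n * r) fun q => b (q % n) (q / n)
  have hWn : 2 ≤ W * n := by nlinarith
  have ht : ∀ j, j < n → PP.term ⟨p, n, W, k, b0, r₁, r₂⟩ r A B j =
      evd W (n * r) fun q => a (q % n) j * b j (q / n) := by
    intro j hj
    show ((B >>> (W * j)) &&& (ones (W * n) r * (2 ^ W - 1))) * dgt (W * n) A j = _
    rw [ones_mul hWn, shift_mask (by omega) (by nlinarith)]
    have h1 : dgt (W * n) A j = evd W n fun i => a i j := by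
      refine eq_evd (by omega) (fun i _ => lt_of_lt_of_le (ha _ _) hp) fun i => ?_
      rw [dgt_dgt]
      split_ifs with hi
      · rw [dgt_evd fun _ _ => lt_of_lt_of_le (ha _ _) hp, if_pos (by nlinarith), Nat.mul_add_mod,
          Nat.mod_eq_of_lt hi, Nat.mul_add_div hn, Nat.div_eq_of_lt hi, add_zero]
      · rfl
    rw [h1, evd_congr (g := fun t => b j t), evd_outer _ _ _ hn]
    · exact evd_congr fun _ _ => mul_comm _ _
    · intro t ht
      show dgt W (dgt (W * n) B t) j = _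
      rw [dgt_dgt, if_pos hj, dgt_evd fun _ _ => lt_of_lt_of_le (hb _ _) hp, if_pos (by nlinarith),
        Nat.mul_add_mod, Nat.mod_eq_of_lt hj, Nat.mul_add_div hn, Nat.div_eq_of_lt hj, add_zero]
  have hab : ∀ i j t, a i j * b j t ≤ (p - 1) * (p - 1) := fun i j t =>
    Nat.mul_le_mul (Nat.le_sub_one_of_lt (ha i j)) (Nat.le_sub_one_of_lt (hb j t))
  have key : ∀ j, j ≤ n → ∃ f : ℕ → ℕ, PP.acc ⟨p, n, W, k, b0, r₁, r₂⟩ r A B j = evd W (n * r) f ∧
      ∀ q, f q ≤ b0 + (j % k) * ((p - 1) * (p - 1)) ∧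
        f q % p = (∑ t ∈ range j, a (q % n) t * b t (q / n)) % p := by
    intro j
    induction j with
    | zero => exact fun _ => ⟨fun _ => 0, by simp [PP.acc, evd], fun q => by simp⟩
    | succ j ih =>
      intro hj
      obtain ⟨f, h1, h2⟩ := ih (by omega)
      have e : PP.acc ⟨p, n, W, k, b0, r₁, r₂⟩ r A B (j + 1) = bif' (Nat.beq ((j + 1) % k) 0)
        (redB W (ones W (n * r)) r₁ (PP.acc ⟨p, n, W, k, b0, r₁, r₂⟩ r A B j +
          PP.term ⟨p, n, W, k, b0, r₁, r₂⟩ r A B j))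
        (PP.acc ⟨p, n, W, k, b0, r₁, r₂⟩ r A B j + PP.term ⟨p, n, W, k, b0, r₁, r₂⟩ r A B j) := rfl
      rw [e, h1, ht j (by omega), evd_add, bif'_eq]
      have h3 : ∀ q, f q + a (q % n) j * b j (q / n) ≤ b0 + (j % k + 1) * ((p - 1) * (p - 1)) := by
        intro q
        have := (h2 q).1
        have := hab (q % n) j (q / n)
        rw [add_mul]; omega
      have h4 : ∀ q, (f q + a (q % n) j * b j (q / n)) % p =
          (∑ t ∈ range (j + 1), a (q % n) t * b t (q / n)) % p := by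
        intro q
        rw [sum_range_succ, Nat.add_mod, (h2 q).2, ← Nat.add_mod]
      have h5 : ∀ q, f q + a (q % n) j * b j (q / n) < b0 + k * ((p - 1) * (p - 1)) + 1 := by
        intro q
        have := h3 q
        have := Nat.mul_le_mul_right ((p - 1) * (p - 1)) (show j % k + 1 ≤ k from Nat.mod_lt _ hk)
        omega
      split_ifs with h6
      · rw [redB_evd hW _ (h 0 (by omega)).1 fun q _ => (h _ (h5 q)).1]
        exact ⟨_, rfl, fun q => ⟨(h _ (h5 q)).2.1.trans (by omega), (h _ (h5 q)).2.2.1.trans (h4 q)⟩⟩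
      · refine ⟨_, rfl, fun q => ⟨(h3 q).trans (le_of_eq ?_), h4 q⟩⟩
        rw [beq_true_iff] at h6
        congr 2
        have h7 := Nat.mod_lt j hk
        rw [Nat.add_mod] at h6 ⊢
        rcases Nat.lt_or_ge 1 k with h8 | h8
        · rw [Nat.mod_eq_of_lt h8] at h6 ⊢
          rcases Nat.lt_or_ge (j % k + 1) k with h9 | h9
          · rw [Nat.mod_eq_of_lt h9]
          · rw [show j % k + 1 = k by omega, Nat.mod_self] at h6; exact absurd rfl h6
        · obtain rfl : k = 1 := by omega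
          simp [Nat.mod_one] at h6
  obtain ⟨f, h1, h2⟩ := key n le_rfl
  have h5 : ∀ q, f q < b0 + k * ((p - 1) * (p - 1)) + 1 := by
    intro q
    have := (h2 q).1
    have := Nat.mul_le_mul_right ((p - 1) * (p - 1)) (show n % k ≤ k from (Nat.mod_lt _ hk).le)
    omega
  show redB W (ones W (n * r)) r₂ (PP.acc ⟨p, n, W, k, b0, r₁, r₂⟩ r A B n) = _
  rw [h1, redB_evd hW _ (h 0 (by omega)).2.2.2.1 fun q _ => (h _ (h5 q)).2.2.2.1]
  exact evd_congr fun q _ => (h _ (h5 q)).2.2.2.2.trans (h2 q).2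

/-- matrix times vector by one multiplication; needs `n < k`. -/
def PP.app (P : PP) (A v : ℕ) : ℕ :=
  redB P.W (ones P.W P.n) P.r₂ (Nat.land (Nat.shiftRight (Nat.mul A
    (Nat.land (Nat.shiftRight (Nat.mul v (ones (Nat.mul P.W (Nat.succ P.n)) P.n))
        (Nat.mul P.W (Nat.pred P.n)))
      (Nat.mul (ones (Nat.mul P.W P.n) P.n) (Nat.sub (Nat.pow 2 P.W) 1))))
    (Nat.mul (Nat.mul P.W P.n) (Nat.pred P.n))) (Nat.sub (Nat.pow 2 (Nat.mul P.W P.n)) 1))

theorem PP.app_evd {P : PP} (h : P.ok = true) (hk : P.n ≤ P.k)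
    (hb : P.n * ((P.p - 1) * (P.p - 1)) < 2 ^ P.W) {a : ℕ → ℕ → ℕ} {v : ℕ → ℕ}
    (ha : ∀ i j, a i j < P.p) (hv : ∀ i, v i < P.p) :
    P.app (evd P.W (P.n * P.n) fun q => a (q % P.n) (q / P.n)) (evd P.W P.n v) =
    evd P.W P.n fun i => (∑ j ∈ range P.n, a i j * v j) % P.p := by
  obtain ⟨p, n, W, k, b0, r₁, r₂⟩ := P
  simp only [PP.ok, band_eq, Bool.and_eq_true, ble_true_iff, blt_true_iff, allLt_iff, beq_true_iff,
    Nat.pow_eq, show ∀ a b, Nat.mod a b = a % b from fun _ _ => rfl] at h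
  simp only at ha hv hk hb ⊢
  obtain ⟨hW, hn, -, hp, h⟩ := h
  obtain ⟨m, rfl⟩ : ∃ m, n = m + 1 := ⟨n - 1, by omega⟩
  have hWn : 2 ≤ W * (m + 1) := by nlinarith
  have hv' : ∀ i, v i < 2 ^ W := fun i => lt_of_lt_of_le (hv i) hp
  have h1 : ((evd W (m + 1) v * ones (W * (m + 2)) (m + 1)) >>> (W * m)) &&&
      (ones (W * (m + 1)) (m + 1) * (2 ^ W - 1)) = evd (W * (m + 1)) (m + 1) fun t => v (m - t) := by
    rw [ones_mul hWn, shift_mask (by omega) (by nlinarith)]
    refine evd_congr fun t ht => ?_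
    show dgt W (dgt (W * (m + 1)) _ t) m = _
    have hlt : evd W (m + 1) v < 2 ^ (W * (m + 2)) := lt_of_lt_of_le (evd_lt fun i _ => hv' i)
      (Nat.pow_le_pow_right (by norm_num) (by nlinarith))
    rw [dgt_dgt, if_pos (by omega), show (m + 1) * t + m = (m + 2) * t + (m - t) by
      have : m = t + (m - t) := by omega
      nlinarith, ← if_pos (show m - t < m + 2 by omega) (t := dgt W _ _) (e := 0), ← dgt_dgt,
      ones_eq (by nlinarith), mul_comm (evd W _ v), evd_mul, dgt_evd (fun _ _ => by rwa [one_mul]),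
      if_pos ht, one_mul, dgt_evd fun i _ => hv' i, if_pos (by omega)]
  let c : ℕ → ℕ → ℕ := fun s i => ∑ j ∈ range (m + 1), if j ≤ s ∧ s - j < m + 1 then
    a i j * v (m - (s - j)) else 0
  have hc : ∀ s i, c s i ≤ (m + 1) * ((p - 1) * (p - 1)) := by
    intro s i
    refine (sum_le_card_nsmul _ _ ((p - 1) * (p - 1)) fun j _ => ?_).trans (by simp)
    split_ifs
    · exact Nat.mul_le_mul (Nat.le_sub_one_of_lt (ha _ _)) (Nat.le_sub_one_of_lt (hv _))
    · exact Nat.zero_le _
  have h2 : (evd W ((m + 1) * (m + 1)) fun q => a (q % (m + 1)) (q / (m + 1))) *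
      (evd (W * (m + 1)) (m + 1) fun t => v (m - t)) =
      evd (W * (m + 1)) (2 * (m + 1)) fun s => evd W (m + 1) (c s) := by
    rw [evd_block]
    have : ∀ s, evd W (m + 1) (c s) = ∑ j ∈ range (m + 1), if j ≤ s ∧ s - j < m + 1 then
        (evd W (m + 1) fun i => a i j) * v (m - (s - j)) else 0 := by
      intro s
      simp only [c, evd, sum_mul]
      rw [sum_comm]
      refine sum_congr rfl fun j _ => ?_
      split_ifs
      · exact sum_congr rfl fun _ _ => by ring
      · simp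
    simp only [this]
    rw [evd, evd, evd, sum_mul]
    simp only [sum_mul]
    rw [sum_comm]
    refine sum_congr rfl fun j hj => ?_
    rw [mem_range] at hj
    rw [mul_sum, show 2 * (m + 1) = j + (m + 1) + (m + 1 - j) by omega,
      sum_range_add _ (j + (m + 1)), sum_range_add _ j,
      sum_eq_zero (s := range j), sum_eq_zero (s := range (m + 1 - j)), zero_add, add_zero]
    · refine sum_congr rfl fun t ht => ?_
      rw [mem_range] at ht
      rw [if_pos (by omega), Nat.add_sub_cancel_left, evd_congr (g := fun i => a i j)]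
      · ring
      · intro i hi
        rw [Nat.mul_add_mod, Nat.mod_eq_of_lt hi, Nat.mul_add_div hn, Nat.div_eq_of_lt hi, add_zero]
    · intro t _; rw [if_neg (by omega), zero_mul]
    · intro t ht; rw [mem_range] at ht; rw [if_neg (by omega), zero_mul]
  show redB W (ones W (m + 1)) r₂ (dgt (W * (m + 1)) (_ * (((evd W (m + 1) v *
    ones (W * (m + 2)) (m + 1)) >>> (W * m)) &&& (ones (W * (m + 1)) (m + 1) * (2 ^ W - 1)))) m) = _
  have h5 : ∀ i, c m i < b0 + k * ((p - 1) * (p - 1)) + 1 := by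
    intro i
    have := hc m i
    have := Nat.mul_le_mul_right ((p - 1) * (p - 1)) hk
    omega
  rw [h1, h2, dgt_evd fun s _ => evd_lt fun i _ => lt_of_le_of_lt (hc s i) hb, if_pos (by omega),
    redB_evd hW _ (h 0 (by omega)).2.2.2.1 fun q _ => (h _ (h5 q)).2.2.2.1]
  refine evd_congr fun i _ => ?_
  rw [(h _ (h5 i)).2.2.2.2]
  congr 1
  refine sum_congr rfl fun j hj => ?_
  rw [mem_range] at hj
  rw [if_pos (by omega), show m - (m - j) = j by omega]

/-! ### Products modulo two -/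

/-- bit `i` as an element of `ZMod 2` -/
def bz (x i : ℕ) : ZMod 2 := if x.testBit i then 1 else 0

theorem bz_xor (x y i : ℕ) : bz (x ^^^ y) i = bz x i + bz y i := by
  simp only [bz, Nat.testBit_xor]
  cases x.testBit i <;> cases y.testBit i <;> decide

theorem bz_and (x y i : ℕ) : bz (x &&& y) i = bz x i * bz y i := by
  simp only [bz, Nat.testBit_and]
  cases x.testBit i <;> cases y.testBit i <;> decide

theorem bz_shift (x s i : ℕ) : bz (x >>> s) i = bz x (s + i) := by
  simp only [bz, Nat.testBit_shiftRight]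

theorem eq_of_bz {x y : ℕ} (h : ∀ i, bz x i = bz y i) : x = y := by
  apply Nat.eq_of_testBit_eq
  intro i
  have := h i
  simp only [bz] at this
  revert this
  cases x.testBit i <;> cases y.testBit i <;> decide

theorem bz_eq_dgt (x i : ℕ) : bz x i = (dgt 1 x i : ℕ) := by
  have h1 := testBit_dgt 1 x i 0
  have h2 := dgt_lt 1 x i
  simp only [Nat.lt_one_iff, decide_true, one_mul, add_zero, Bool.true_and] at h1
  rw [bz, ← h1]
  obtain h | h : dgt 1 x i = 0 ∨ dgt 1 x i = 1 := by omega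
  all_goals rw [h]; rfl

theorem bz_evd {n : ℕ} {f : ℕ → ℕ} (h : ∀ k, k < n → f k < 2) (i : ℕ) :
    bz (evd 1 n f) i = if i < n then (f i : ZMod 2) else 0 := by
  rw [bz_eq_dgt, dgt_evd h]; split_ifs <;> simp

/-- product of matrices over the field with two elements, columns at distance `m` -/
def mul2 (n m A B : ℕ) : ℕ :=
  Nat.rec (motive := fun _ => ℕ) 0 (fun j acc => Nat.xor acc
    (Nat.mul (Nat.land (Nat.shiftRight B j) (ones m m))
      (Nat.land (Nat.shiftRight A (Nat.mul m j)) (Nat.sub (Nat.pow 2 m) 1)))) n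

theorem bz_mul2 {n m : ℕ} (hm : 2 ≤ m) (hn : n ≤ m) (A B q : ℕ) : bz (mul2 n m A B) q =
    if q < m * m then ∑ j ∈ range n, bz A (m * j + q % m) * bz B (m * (q / m) + j) else 0 := by
  induction n with
  | zero => simp [mul2, bz]
  | succ n ih =>
    show bz (mul2 n m A B ^^^ (((B >>> n) &&& ones m m) * dgt m A n)) q = _
    have h1 : dgt m A n = evd 1 m (dgt 1 (dgt m A n)) := evd_dgt one_pos (by simpa using dgt_lt _ _ _)
    have h2 := evd_outer 1 m m (by omega) (fun k => dgt m B k >>> n &&& (2 ^ 1 - 1)) (dgt 1 (dgt m A n))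
    rw [one_mul] at h2
    rw [bz_xor, ih (by omega), ones_eq hm, show (fun _ : ℕ => 1) = fun _ => 2 ^ 1 - 1 from rfl,
      shift_mask (by omega) (by omega), h1, h2, bz_evd, sum_range_succ]
    · split_ifs with hq
      · congr 1
        have h3 := dgt_dgt 1 m A n (q % m)
        have h4 := dgt_dgt 1 m B (q / m) n
        rw [one_mul] at h3 h4
        rw [if_pos (Nat.mod_lt _ (by omega))] at h3
        rw [if_pos (by omega), dgt, one_mul] at h4
        rw [Nat.cast_mul, h3, h4, ← bz_eq_dgt, ← bz_eq_dgt, mul_comm]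
      · simp
    · intro k _
      have h3 := dgt_lt 1 (dgt m A n) (k % m)
      have h4 : dgt m B (k / m) >>> n &&& (2 ^ 1 - 1) ≤ 1 := Nat.and_le_right
      nlinarith

def fold2 (m x d : ℕ) : ℕ :=
  Nat.rec (motive := fun _ => ℕ) x (fun s acc =>
    Nat.xor acc (Nat.shiftRight acc (Nat.mul m (Nat.pow 2 s)))) d

theorem bz_fold2 (m x d q : ℕ) : bz (fold2 m x d) q = ∑ t ∈ range (2 ^ d), bz x (m * t + q) := by
  induction d generalizing q with
  | zero => simp [fold2]
  | succ d ih =>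
    show bz (fold2 m x d ^^^ (fold2 m x d >>> (m * 2 ^ d))) q = _
    rw [bz_xor, bz_shift, ih, ih, pow_succ, mul_two, sum_range_add]
    congr 1
    exact sum_congr rfl fun t _ => by congr 1; ring

/-- matrix times vector over the field with two elements, `m = n + 1`, `n ≤ 2 ^ d` -/
def app2 (n m d A v : ℕ) : ℕ :=
  Nat.land (fold2 m (Nat.land A (Nat.mul (Nat.land (Nat.mul v (ones n n)) (ones m n))
    (Nat.sub (Nat.pow 2 m) 1))) d) (Nat.sub (Nat.pow 2 n) 1)

theorem bz_app2 {n d : ℕ} (hn : 2 ≤ n) (hd : n ≤ 2 ^ d) (A : ℕ) {v : ℕ} (hv : v < 2 ^ n) (i : ℕ) :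
    bz (app2 n (n + 1) d A v) i =
      if i < n then ∑ j ∈ range n, bz A ((n + 1) * j + i) * bz v j else 0 := by
  have h1 : (v * ones n n) &&& ones (n + 1) n = evd (n + 1) n fun t => dgt 1 v t := by
    have := shift_mask (W := n + 1) (n := n) (s := 0) (w := 1) (x := v * ones n n) (by omega) (by omega)
    rw [ones_eq (W := n + 1) (by omega)]
    refine this.trans (evd_congr fun t ht => ?_)
    have h3 := dgt_dgt 1 (n + 1) (v * ones n n) t 0
    have h4 := dgt_dgt 1 n (v * ones n n) t t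
    rw [one_mul, if_pos (by omega)] at h3 h4
    refine h3.trans ?_
    rw [show (n + 1) * t + 0 = n * t + t by ring, ← h4, ones_eq hn, mul_comm, evd_mul,
      dgt_evd (fun _ _ => by rwa [one_mul]), if_pos ht, one_mul]
  show bz (fold2 (n + 1) (A &&& (((v * ones n n) &&& ones (n + 1) n) * (2 ^ (n + 1) - 1))) d &&&
    (2 ^ n - 1)) i = _
  rw [bz_and, bz_fold2, h1, evd_mul]
  split_ifs with hi
  · rw [show bz (2 ^ n - 1) i = 1 by simp [bz, hi], mul_one]
    obtain ⟨c, hc⟩ := Nat.exists_eq_add_of_le hd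
    have h2 : ∀ t, bz (evd (n + 1) n fun k => dgt 1 v k * (2 ^ (n + 1) - 1)) ((n + 1) * t + i) =
        if t < n then bz v t else 0 := by
      intro t
      have h3 := dgt_dgt 1 (n + 1) (evd (n + 1) n fun k => dgt 1 v k * (2 ^ (n + 1) - 1)) t i
      rw [one_mul, if_pos (by omega), dgt_evd] at h3
      · rw [bz_eq_dgt, ← h3]
        split_ifs
        · rw [bz_eq_dgt v]
          have h2 := dgt_lt 1 v t
          obtain h | h : dgt 1 v t = 0 ∨ dgt 1 v t = 1 := by omega
          · rw [h]; simp [dgt]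
          · rw [h, one_mul, ← bz_eq_dgt]; simp [bz, show i < n + 1 by omega]
        · simp [dgt]
      · intro k _
        have h2 := dgt_lt 1 v k
        have : 1 ≤ 2 ^ (n + 1) := Nat.one_le_two_pow
        obtain h | h : dgt 1 v k = 0 ∨ dgt 1 v k = 1 := by omega
        all_goals rw [h]; omega
    simp only [bz_and, h2]
    rw [hc, sum_range_add, sum_eq_zero (s := range c) fun t _ => by simp, add_zero]
    exact sum_congr rfl fun t ht => by rw [if_pos (mem_range.1 ht)]
  · rw [show bz (2 ^ n - 1) i = 0 by simp [bz, hi], mul_zero]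

end

end CfsgH6
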