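import Cfsg.Agent.H6.RuK0

set_option autoImplicit false
set_option maxRecDepth 100000
set_option linter.all false

namespace CfsgH6.Ru

open CfsgH5 CfsgH6 Subgroup MulAction Pointwise

noncomputable section

theorem B0_m0 : C.Mem R (C.gen R 0) 0 := GC.Mem.gen (GC.Mem.zero ⊤)
theorem val3 : C.Mem R ⊤ 65534 := MC.mem_units (mc2 28) (can2_sound (by decide)) chk2
theorem B1_m0 : C.Mem R (C.gen R 16) 16 := GC.Mem.gen (val3.sub chk4)
theorem B1_dvd : Nat.card (C.gen R 16) ∣ 2 := GC.card_ins (dvd_step (B0_m0.pc (m := 2) (w := 0) (val3.get (i := 4) (by decide +kernel)) B0_m0.top chk6 chk7) GC.card_gen_zero (n := 2) (by decide +kernel)) (by decide +kernel)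
theorem B2_m0 : C.Mem R (C.gen R 48) 48 := GC.Mem.gen (val3.sub chk8)
theorem B2_dvd : Nat.card (C.gen R 48) ∣ 4 := GC.card_ins (dvd_step (B1_m0.pc (m := 2) (w := 0) (val3.get (i := 5) (by decide +kernel)) B1_m0.top chk10 chk11) B1_dvd (n := 4) (by decide +kernel)) (by decide +kernel)
theorem B3_m0 : C.Mem R (C.gen R 112) 112 := GC.Mem.gen (val3.sub chk12)
theorem B3_dvd : Nat.card (C.gen R 112) ∣ 8 := GC.card_ins (dvd_step (B2_m0.pc (m := 2) (w := 0) (val3.get (i := 6) (by decide +kernel)) B2_m0.top chk14 chk15) B2_dvd (n := 8) (by decide +kernel)) (by decide +kernel)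
theorem B4_m0 : C.Mem R (C.gen R 240) 240 := GC.Mem.gen (val3.sub chk16)
theorem B4_dvd : Nat.card (C.gen R 240) ∣ 16 := GC.card_ins (dvd_step (B3_m0.pc (m := 2) (w := 0) (val3.get (i := 7) (by decide +kernel)) B3_m0.top chk18 chk19) B3_dvd (n := 16) (by decide +kernel)) (by decide +kernel)
theorem B5_m0 : C.Mem R (C.gen R 496) 496 := GC.Mem.gen (val3.sub chk20)
theorem B5_dvd : Nat.card (C.gen R 496) ∣ 32 := GC.card_ins (dvd_step (B4_m0.pc (m := 2) (w := 0) (val3.get (i := 8) (by decide +kernel)) B4_m0.top chk22 chk23) B4_dvd (n := 32) (by decide +kernel)) (by decide +kernel)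
theorem B6_m0 : C.Mem R (C.gen R 1008) 1008 := GC.Mem.gen (val3.sub chk24)
theorem B6_dvd : Nat.card (C.gen R 1008) ∣ 64 := GC.card_ins (dvd_step (B5_m0.pc (m := 2) (w := 8) (val3.get (i := 9) (by decide +kernel)) B5_m0.top chk26 chk27) B5_dvd (n := 64) (by decide +kernel)) (by decide +kernel)
theorem B7_m0 : C.Mem R (C.gen R 2032) 2032 := GC.Mem.gen (val3.sub chk28)
theorem B7_dvd : Nat.card (C.gen R 2032) ∣ 128 := GC.card_ins (dvd_step (B6_m0.pc (m := 2) (w := 8800393238535) (val3.get (i := 10) (by decide +kernel)) B6_m0.top chk30 chk31) B6_dvd (n := 128) (by decide +kernel)) (by decide +kernel)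
theorem B8_m0 : C.Mem R (C.gen R 4080) 4080 := GC.Mem.gen (val3.sub chk32)
theorem B8_dvd : Nat.card (C.gen R 4080) ∣ 256 := GC.card_ins (dvd_step (B7_m0.pc (m := 2) (w := 8392709) (val3.get (i := 11) (by decide +kernel)) B7_m0.top chk34 chk35) B7_dvd (n := 256) (by decide +kernel)) (by decide +kernel)
theorem B9_m0 : C.Mem R (C.gen R 8176) 8176 := GC.Mem.gen (val3.sub chk36)
theorem B9_dvd : Nat.card (C.gen R 8176) ∣ 512 := GC.card_ins (dvd_step (B8_m0.pc (m := 2) (w := 0) (val3.get (i := 12) (by decide +kernel)) B8_m0.top chk38 chk39) B8_dvd (n := 512) (by decide +kernel)) (by decide +kernel)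
theorem B10_m0 : C.Mem R (C.gen R 16368) 16368 := GC.Mem.gen (val3.sub chk40)
theorem B10_dvd : Nat.card (C.gen R 16368) ∣ 2560 := GC.card_ins (dvd_step (B9_m0.pc (m := 5) (w := 0) (val3.get (i := 13) (by decide +kernel)) B9_m0.top chk42 chk43) B9_dvd (n := 2560) (by decide +kernel)) (by decide +kernel)
theorem B11_m0 : C.Mem R (C.gen R 32752) 32752 := GC.Mem.gen (val3.sub chk44)
theorem B11_dvd : Nat.card (C.gen R 32752) ∣ 5120 := GC.card_ins (dvd_step (B10_m0.pc (m := 2) (w := 8199) (val3.get (i := 14) (by decide +kernel)) B10_m0.top chk46 chk47) B10_dvd (n := 5120) (by decide +kernel)) (by decide +kernel)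
theorem B12_m0 : C.Mem R (C.gen R 65520) 65520 := GC.Mem.gen (val3.sub chk48)
theorem B12_dvd : Nat.card (C.gen R 65520) ∣ 10240 := GC.card_ins (dvd_step (B11_m0.pc (m := 2) (w := 14) (val3.get (i := 15) (by decide +kernel)) B11_m0.top chk50 chk51) B11_dvd (n := 10240) (by decide +kernel)) (by decide +kernel)
theorem B12_ub : Nat.card (C.gen R 65520) ≤ 10240 := le_of_dvd' B12_dvd (by decide +kernel)
theorem pt53e : ∃ x, A0.Rep pt53c x := act2_rep (n := 28) (d := 5) (by decide) (by decide) (c := 0xff01c96) (by decide +kernel)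
noncomputable def pt53 := Classical.choose pt53e
theorem pt53r : A0.Rep pt53c pt53 := Classical.choose_spec pt53e
theorem T_m0 : C.Mem R (C.gen R 65522) 65522 := GC.Mem.gen (val3.sub chk52)
theorem T_s0_56 : C.Mem R (C.gen R 65522) 524274 := T_m0.slp' chk55
theorem T_I : C.Mem R (C.gen R 65522) 458754 := T_s0_56.sub chk57
theorem TK_in82 : C.Mem R (C.gen R 65520) 3670016 := B12_m0.slp' chk81
theorem TK_m0 : C.Mem R (C.gen R 3670016) 3670016 := GC.Mem.gen TK_in82.top
theorem pt83e : ∃ x, A0.Rep pt83c x := act2_rep (n := 28) (d := 5) (by decide) (by decide) (c := 0xd78e9dd) (by decide +kernel)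
noncomputable def pt83 := Classical.choose pt83e
theorem pt83r : A0.Rep pt83c pt83 := Classical.choose_spec pt83e
theorem pt84e : ∃ x, A0.Rep pt84c x := act2_rep (n := 28) (d := 5) (by decide) (by decide) (c := 0x40d02da) (by decide +kernel)
noncomputable def pt84 := Classical.choose pt84e
theorem pt84r : A0.Rep pt84c pt84 := Classical.choose_spec pt84e
theorem pt85e : ∃ x, A0.Rep pt85c x := act2_rep (n := 28) (d := 5) (by decide) (by decide) (c := 0x9fa4007) (by decide +kernel)
noncomputable def pt85 := Classical.choose pt85e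
theorem pt85r : A0.Rep pt85c pt85 := Classical.choose_spec pt85e
theorem TK_s0_88 : C.Mem R (C.gen R 3670016) 536346624 := TK_m0.slp' chk87
theorem TK_c0i : C.Mem R (C.gen R 3670016) 532676608 := TK_s0_88.sub chk89
theorem TK_c0m : C.Mem R (C.gen R 532676608) 532676608 := TK_c0i.gen
theorem fx91 : C.gen R 532676608 ≤ stabilizer _ pt83 := Act.fix_sound TK_c0i.top pt83r chk90
theorem cov98 : Cov (C.gen R 3670016) (C.wds R [0]) pt83 8 := Act.cov_of_seen (Act.pieces_sound TK_s0_88 TK_s0_88.top pt83r chk96) chk97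
theorem TK_c1i : C.Mem R (C.gen R 532676608) 16777216 := TK_c0m.sub chk99
theorem TK_c1m : C.Mem R (C.gen R 16777216) 16777216 := TK_c1i.gen
theorem fx101 : C.gen R 16777216 ≤ stabilizer _ pt84 := Act.fix_sound TK_c1i.top pt84r chk100
theorem cov108 : Cov (C.gen R 532676608) (C.wds R [0]) pt84 64 := Act.cov_of_seen (Act.pieces_sound TK_c0m TK_c0m.top pt84r chk106) chk107
theorem TK_c2i : C.Mem R (C.gen R 16777216) 0 := TK_c1m.sub chk109
theorem TK_c2m : C.Mem R (C.gen R 0) 0 := TK_c2i.gen
theorem fx111 : C.gen R 0 ≤ stabilizer _ pt85 := Act.fix_sound TK_c2i.top pt85r chk110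
theorem cov118 : Cov (C.gen R 16777216) (C.wds R [0]) pt85 2 := Act.cov_of_seen (Act.pieces_sound TK_c1m TK_c1m.top pt85r chk116) chk117
theorem TK_lb3 : 1 ≤ Nat.card (C.gen R 0) := Nat.card_pos
theorem TK_lo2 : 2 * Nat.card (C.gen R 0) ≤ Nat.card (C.gen R 16777216) := cov118.low le_rfl (GC.wds_zero _) TK_c2i.gen_le fx111
theorem TK_lb2 : 2 ≤ Nat.card (C.gen R 16777216) := low_step TK_lo2 TK_lb3 (by decide +kernel)
theorem TK_lo1 : 64 * Nat.card (C.gen R 16777216) ≤ Nat.card (C.gen R 532676608) := cov108.low le_rfl (GC.wds_zero _) TK_c1i.gen_le fx101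
theorem TK_lb1 : 128 ≤ Nat.card (C.gen R 532676608) := low_step TK_lo1 TK_lb2 (by decide +kernel)
theorem TK_lo0 : 8 * Nat.card (C.gen R 532676608) ≤ Nat.card (C.gen R 3670016) := cov98.low le_rfl (GC.wds_zero _) TK_c0i.gen_le fx91
theorem TK_lb0 : 1024 ≤ Nat.card (C.gen R 3670016) := low_step TK_lo0 TK_lb1 (by decide +kernel)
theorem fx122 : C.gen R 3670016 ≤ stabilizer _ pt53 := Act.fix_sound TK_in82.top pt53r chk121
theorem T_Kc : ∀ κ ∈ (C.gen R 3670016), (C.el (R 1))⁻¹ * κ * C.el (R 1) ∈ (C.gen R 65520) := B12_m0.conjB (T_m0.get (i := 1) (by decide +kernel)).top TK_in82.top chk120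
theorem TT1_in136 : C.Mem R (C.gen R 65520) 1610612736 := B12_m0.slp' chk135
theorem TT1_m0 : C.Mem R (C.gen R 1610612736) 1610612736 := GC.Mem.gen TT1_in136.top
theorem pt137e : ∃ x, A0.Rep pt137c x := act2_rep (n := 28) (d := 5) (by decide) (by decide) (c := 0xbbbcdb2) (by decide +kernel)
noncomputable def pt137 := Classical.choose pt137e
theorem pt137r : A0.Rep pt137c pt137 := Classical.choose_spec pt137e
theorem pt138e : ∃ x, A0.Rep pt138c x := act2_rep (n := 28) (d := 5) (by decide) (by decide) (c := 0x19a21ed) (by decide +kernel)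
noncomputable def pt138 := Classical.choose pt138e
theorem pt138r : A0.Rep pt138c pt138 := Classical.choose_spec pt138e
theorem pt139e : ∃ x, A0.Rep pt139c x := act2_rep (n := 28) (d := 5) (by decide) (by decide) (c := 0x9fa4007) (by decide +kernel)
noncomputable def pt139 := Classical.choose pt139e
theorem pt139r : A0.Rep pt139c pt139 := Classical.choose_spec pt139e
theorem TT1_s0_142 : C.Mem R (C.gen R 1610612736) 274341036032 := TT1_m0.slp' chk141
theorem TT1_c0i : C.Mem R (C.gen R 1610612736) 272730423296 := TT1_s0_142.sub chk143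
theorem TT1_c0m : C.Mem R (C.gen R 272730423296) 272730423296 := TT1_c0i.gen
theorem fx145 : C.gen R 272730423296 ≤ stabilizer _ pt137 := Act.fix_sound TT1_c0i.top pt137r chk144
theorem cov152 : Cov (C.gen R 1610612736) (C.wds R [0]) pt137 8 := Act.cov_of_seen (Act.pieces_sound TT1_s0_142 TT1_s0_142.top pt137r chk150) chk151
theorem TT1_c1i : C.Mem R (C.gen R 272730423296) 77309411328 := TT1_c0m.sub chk153
theorem TT1_c1m : C.Mem R (C.gen R 77309411328) 77309411328 := TT1_c1i.gen
theorem fx155 : C.gen R 77309411328 ≤ stabilizer _ pt138 := Act.fix_sound TT1_c1i.top pt138r chk154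
theorem cov162 : Cov (C.gen R 272730423296) (C.wds R [0]) pt138 32 := Act.cov_of_seen (Act.pieces_sound TT1_c0m TT1_c0m.top pt138r chk160) chk161
theorem TT1_c2i : C.Mem R (C.gen R 77309411328) 0 := TT1_c1m.sub chk163
theorem TT1_c2m : C.Mem R (C.gen R 0) 0 := TT1_c2i.gen
theorem fx165 : C.gen R 0 ≤ stabilizer _ pt139 := Act.fix_sound TT1_c2i.top pt139r chk164
theorem cov172 : Cov (C.gen R 77309411328) (C.wds R [0]) pt139 4 := Act.cov_of_seen (Act.pieces_sound TT1_c1m TT1_c1m.top pt139r chk170) chk171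
theorem TT1_lb3 : 1 ≤ Nat.card (C.gen R 0) := Nat.card_pos
theorem TT1_lo2 : 4 * Nat.card (C.gen R 0) ≤ Nat.card (C.gen R 77309411328) := cov172.low le_rfl (GC.wds_zero _) TT1_c2i.gen_le fx165
theorem TT1_lb2 : 4 ≤ Nat.card (C.gen R 77309411328) := low_step TT1_lo2 TT1_lb3 (by decide +kernel)
theorem TT1_lo1 : 32 * Nat.card (C.gen R 77309411328) ≤ Nat.card (C.gen R 272730423296) := cov162.low le_rfl (GC.wds_zero _) TT1_c1i.gen_le fx155
theorem TT1_lb1 : 128 ≤ Nat.card (C.gen R 272730423296) := low_step TT1_lo1 TT1_lb2 (by decide +kernel)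
theorem TT1_lo0 : 8 * Nat.card (C.gen R 272730423296) ≤ Nat.card (C.gen R 1610612736) := cov152.low le_rfl (GC.wds_zero _) TT1_c0i.gen_le fx145
theorem TT1_lb0 : 1024 ≤ Nat.card (C.gen R 1610612736) := low_step TT1_lo0 TT1_lb1 (by decide +kernel)
theorem T_T1c : ∀ τ ∈ (C.gen R 1610612736), C.el (R 1) * τ * (C.el (R 1))⁻¹ ∈ (C.gen R 65520) := B12_m0.conjA (T_I.get (i := 1) (by decide +kernel)).top TT1_in136.top chk174
theorem cov183 : Cov (C.gen R 1610612736) (C.wds R (List.map Prod.fst (l175))) pt53 10 := Act.cov_of_seen (Act.pieces_sound TT1_s0_142 B12_m0.top pt53r chk181) chk182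
theorem T_T1d : Dec (C.gen R 65520) (C.gen R 1610612736) (C.wds R (List.map Prod.fst (l175))) (C.gen R 3670016) := cov183.dec TT1_in136.gen_le (GC.wds_sub B12_m0 chk184) TK_in82.gen_le fx122 (up_low B12_ub TK_lb0 (by decide +kernel))
theorem T_T1p : ∀ x ∈ DC1 (C.gen R 65520) (C.el (R 1)), x * C.el (R 1) ∈ DCs (C.gen R 65520) (C.els R 458754) := GC.dc_piece' T_T1d T_T1c T_Kc (B12_m0.dcRel T_I.top (T_I.get (i := 1) (by decide +kernel)).top (T_m0.get (i := 1) (by decide +kernel)).top chk176)
theorem T_T1u : Nat.card (C.gen R 65520) ≤ 10 * Nat.card (C.gen R 1610612736) := up_low B12_ub TT1_lb0 (by decide +kernel)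
theorem T_T1n : (DC1 (C.gen R 65520) (C.el (R 1))).ncard ≤ Nat.card (C.gen R 65520) * 10 := ncard_DC1 TT1_in136.gen_le T_T1c T_T1u
theorem TT2_in211 : C.Mem R (C.gen R 65520) 1924145348608 := B12_m0.slp' chk210
theorem TT2_m0 : C.Mem R (C.gen R 1924145348608) 1924145348608 := GC.Mem.gen TT2_in211.top
theorem pt212e : ∃ x, A0.Rep pt212c x := act2_rep (n := 28) (d := 5) (by decide) (by decide) (c := 0xf3893dd) (by decide +kernel)
noncomputable def pt212 := Classical.choose pt212e
theorem pt212r : A0.Rep pt212c pt212 := Classical.choose_spec pt212e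
theorem pt213e : ∃ x, A0.Rep pt213c x := act2_rep (n := 28) (d := 5) (by decide) (by decide) (c := 0x9fa4007) (by decide +kernel)
noncomputable def pt213 := Classical.choose pt213e
theorem pt213r : A0.Rep pt213c pt213 := Classical.choose_spec pt213e
theorem pt214e : ∃ x, A0.Rep pt214c x := act2_rep (n := 28) (d := 5) (by decide) (by decide) (c := 0x40d02da) (by decide +kernel)
noncomputable def pt214 := Classical.choose pt214e
theorem pt214r : A0.Rep pt214c pt214 := Classical.choose_spec pt214e
theorem TT2_s0_217 : C.Mem R (C.gen R 1924145348608) 34909494181888 := TT2_m0.slp' chk216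
theorem TT2_c0i : C.Mem R (C.gen R 1924145348608) 32985348833280 := TT2_s0_217.sub chk218
theorem TT2_c0m : C.Mem R (C.gen R 32985348833280) 32985348833280 := TT2_c0i.gen
theorem fx220 : C.gen R 32985348833280 ≤ stabilizer _ pt212 := Act.fix_sound TT2_c0i.top pt212r chk219
theorem cov227 : Cov (C.gen R 1924145348608) (C.wds R [0]) pt212 8 := Act.cov_of_seen (Act.pieces_sound TT2_s0_217 TT2_s0_217.top pt212r chk225) chk226
theorem TT2_c1i : C.Mem R (C.gen R 32985348833280) 17592186044416 := TT2_c0m.sub chk228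
theorem TT2_c1m : C.Mem R (C.gen R 17592186044416) 17592186044416 := TT2_c1i.gen
theorem fx230 : C.gen R 17592186044416 ≤ stabilizer _ pt213 := Act.fix_sound TT2_c1i.top pt213r chk229
theorem cov237 : Cov (C.gen R 32985348833280) (C.wds R [0]) pt213 8 := Act.cov_of_seen (Act.pieces_sound TT2_c0m TT2_c0m.top pt213r chk235) chk236
theorem TT2_c2i : C.Mem R (C.gen R 17592186044416) 0 := TT2_c1m.sub chk238
theorem TT2_c2m : C.Mem R (C.gen R 0) 0 := TT2_c2i.gen
theorem fx240 : C.gen R 0 ≤ stabilizer _ pt214 := Act.fix_sound TT2_c2i.top pt214r chk239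
theorem cov247 : Cov (C.gen R 17592186044416) (C.wds R [0]) pt214 2 := Act.cov_of_seen (Act.pieces_sound TT2_c1m TT2_c1m.top pt214r chk245) chk246
theorem TT2_lb3 : 1 ≤ Nat.card (C.gen R 0) := Nat.card_pos
theorem TT2_lo2 : 2 * Nat.card (C.gen R 0) ≤ Nat.card (C.gen R 17592186044416) := cov247.low le_rfl (GC.wds_zero _) TT2_c2i.gen_le fx240
theorem TT2_lb2 : 2 ≤ Nat.card (C.gen R 17592186044416) := low_step TT2_lo2 TT2_lb3 (by decide +kernel)
theorem TT2_lo1 : 8 * Nat.card (C.gen R 17592186044416) ≤ Nat.card (C.gen R 32985348833280) := cov237.low le_rfl (GC.wds_zero _) TT2_c1i.gen_le fx230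
theorem TT2_lb1 : 16 ≤ Nat.card (C.gen R 32985348833280) := low_step TT2_lo1 TT2_lb2 (by decide +kernel)
theorem TT2_lo0 : 8 * Nat.card (C.gen R 32985348833280) ≤ Nat.card (C.gen R 1924145348608) := cov227.low le_rfl (GC.wds_zero _) TT2_c0i.gen_le fx220
theorem TT2_lb0 : 128 ≤ Nat.card (C.gen R 1924145348608) := low_step TT2_lo0 TT2_lb1 (by decide +kernel)
theorem T_T2c : ∀ τ ∈ (C.gen R 1924145348608), C.el (R 16) * τ * (C.el (R 16))⁻¹ ∈ (C.gen R 65520) := B12_m0.conjA (T_I.get (i := 16) (by decide +kernel)).top TT2_in211.top chk249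
theorem cov258 : Cov (C.gen R 1924145348608) (C.wds R (List.map Prod.fst (l250))) pt53 10 := Act.cov_of_seen (Act.pieces_sound TT2_s0_217 B12_m0.top pt53r chk256) chk257
theorem T_T2d : Dec (C.gen R 65520) (C.gen R 1924145348608) (C.wds R (List.map Prod.fst (l250))) (C.gen R 3670016) := cov258.dec TT2_in211.gen_le (GC.wds_sub B12_m0 chk259) TK_in82.gen_le fx122 (up_low B12_ub TK_lb0 (by decide +kernel))
theorem T_T2p : ∀ x ∈ DC1 (C.gen R 65520) (C.el (R 16)), x * C.el (R 1) ∈ DCs (C.gen R 65520) (C.els R 458754) := GC.dc_piece' T_T2d T_T2c T_Kc (B12_m0.dcRel T_I.top (T_I.get (i := 16) (by decide +kernel)).top (T_m0.get (i := 1) (by decide +kernel)).top chk251)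
theorem T_T2u : Nat.card (C.gen R 65520) ≤ 80 * Nat.card (C.gen R 1924145348608) := up_low B12_ub TT2_lb0 (by decide +kernel)
theorem T_T2n : (DC1 (C.gen R 65520) (C.el (R 16))).ncard ≤ Nat.card (C.gen R 65520) * 80 := ncard_DC1 TT2_in211.gen_le T_T2c T_T2u
theorem TT3_in290 : C.Mem R (C.gen R 65520) 246290604621824 := B12_m0.slp' chk289
theorem TT3_m0 : C.Mem R (C.gen R 246290604621824) 246290604621824 := GC.Mem.gen TT3_in290.top
theorem pt291e : ∃ x, A0.Rep pt291c x := act2_rep (n := 28) (d := 5) (by decide) (by decide) (c := 0xbf9aeb7) (by decide +kernel)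
noncomputable def pt291 := Classical.choose pt291e
theorem pt291r : A0.Rep pt291c pt291 := Classical.choose_spec pt291e
theorem pt292e : ∃ x, A0.Rep pt292c x := act2_rep (n := 28) (d := 5) (by decide) (by decide) (c := 0x9fa4007) (by decide +kernel)
noncomputable def pt292 := Classical.choose pt292e
theorem pt292r : A0.Rep pt292c pt292 := Classical.choose_spec pt292e
theorem TT3_s0_295 : C.Mem R (C.gen R 246290604621824) 2216615441596416 := TT3_m0.slp' chk294
theorem TT3_c0i : C.Mem R (C.gen R 246290604621824) 1970324836974592 := TT3_s0_295.sub chk296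
theorem TT3_c0m : C.Mem R (C.gen R 1970324836974592) 1970324836974592 := TT3_c0i.gen
theorem fx298 : C.gen R 1970324836974592 ≤ stabilizer _ pt291 := Act.fix_sound TT3_c0i.top pt291r chk297
theorem cov305 : Cov (C.gen R 246290604621824) (C.wds R [0]) pt291 2 := Act.cov_of_seen (Act.pieces_sound TT3_s0_295 TT3_s0_295.top pt291r chk303) chk304
theorem TT3_c1i : C.Mem R (C.gen R 1970324836974592) 0 := TT3_c0m.sub chk306
theorem TT3_c1m : C.Mem R (C.gen R 0) 0 := TT3_c1i.gen
theorem fx308 : C.gen R 0 ≤ stabilizer _ pt292 := Act.fix_sound TT3_c1i.top pt292r chk307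
theorem cov315 : Cov (C.gen R 1970324836974592) (C.wds R [0]) pt292 8 := Act.cov_of_seen (Act.pieces_sound TT3_c0m TT3_c0m.top pt292r chk313) chk314
theorem TT3_lb2 : 1 ≤ Nat.card (C.gen R 0) := Nat.card_pos
theorem TT3_lo1 : 8 * Nat.card (C.gen R 0) ≤ Nat.card (C.gen R 1970324836974592) := cov315.low le_rfl (GC.wds_zero _) TT3_c1i.gen_le fx308
theorem TT3_lb1 : 8 ≤ Nat.card (C.gen R 1970324836974592) := low_step TT3_lo1 TT3_lb2 (by decide +kernel)
theorem TT3_lo0 : 2 * Nat.card (C.gen R 1970324836974592) ≤ Nat.card (C.gen R 246290604621824) := cov305.low le_rfl (GC.wds_zero _) TT3_c0i.gen_le fx298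
theorem TT3_lb0 : 16 ≤ Nat.card (C.gen R 246290604621824) := low_step TT3_lo0 TT3_lb1 (by decide +kernel)
theorem T_T3c : ∀ τ ∈ (C.gen R 246290604621824), C.el (R 17) * τ * (C.el (R 17))⁻¹ ∈ (C.gen R 65520) := B12_m0.conjA (T_I.get (i := 17) (by decide +kernel)).top TT3_in290.top chk317
theorem cov326 : Cov (C.gen R 246290604621824) (C.wds R (List.map Prod.fst (l318))) pt53 10 := Act.cov_of_seen (Act.pieces_sound TT3_s0_295 B12_m0.top pt53r chk324) chk325
theorem T_T3d : Dec (C.gen R 65520) (C.gen R 246290604621824) (C.wds R (List.map Prod.fst (l318))) (C.gen R 3670016) := cov326.dec TT3_in290.gen_le (GC.wds_sub B12_m0 chk327) TK_in82.gen_le fx122 (up_low B12_ub TK_lb0 (by decide +kernel))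
theorem T_T3p : ∀ x ∈ DC1 (C.gen R 65520) (C.el (R 17)), x * C.el (R 1) ∈ DCs (C.gen R 65520) (C.els R 458754) := GC.dc_piece' T_T3d T_T3c T_Kc (B12_m0.dcRel T_I.top (T_I.get (i := 17) (by decide +kernel)).top (T_m0.get (i := 1) (by decide +kernel)).top chk319)
theorem T_T3u : Nat.card (C.gen R 65520) ≤ 640 * Nat.card (C.gen R 246290604621824) := up_low B12_ub TT3_lb0 (by decide +kernel)
theorem T_T3n : (DC1 (C.gen R 65520) (C.el (R 17))).ncard ≤ Nat.card (C.gen R 65520) * 640 := ncard_DC1 TT3_in290.gen_le T_T3c T_T3u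
theorem TT4_in346 : C.Mem R (C.gen R 65520) 6755399441055744 := B12_m0.slp' chk345
theorem TT4_m0 : C.Mem R (C.gen R 6755399441055744) 6755399441055744 := GC.Mem.gen TT4_in346.top
theorem pt347e : ∃ x, A0.Rep pt347c x := act2_rep (n := 28) (d := 5) (by decide) (by decide) (c := 0xcb76326) (by decide +kernel)
noncomputable def pt347 := Classical.choose pt347e
theorem pt347r : A0.Rep pt347c pt347 := Classical.choose_spec pt347e
theorem pt348e : ∃ x, A0.Rep pt348c x := act2_rep (n := 28) (d := 5) (by decide) (by decide) (c := 0x9fa4007) (by decide +kernel)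
noncomputable def pt348 := Classical.choose pt348e
theorem pt348r : A0.Rep pt348c pt348 := Classical.choose_spec pt348e
theorem TT4_s0_351 : C.Mem R (C.gen R 6755399441055744) 15762598695796736 := TT4_m0.slp' chk350
theorem TT4_c0i : C.Mem R (C.gen R 6755399441055744) 9007199254740992 := TT4_s0_351.sub chk352
theorem TT4_c0m : C.Mem R (C.gen R 9007199254740992) 9007199254740992 := TT4_c0i.gen
theorem fx354 : C.gen R 9007199254740992 ≤ stabilizer _ pt347 := Act.fix_sound TT4_c0i.top pt347r chk353
theorem cov361 : Cov (C.gen R 6755399441055744) (C.wds R [0]) pt347 5 := Act.cov_of_seen (Act.pieces_sound TT4_s0_351 TT4_s0_351.top pt347r chk359) chk360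
theorem TT4_c1i : C.Mem R (C.gen R 9007199254740992) 0 := TT4_c0m.sub chk362
theorem TT4_c1m : C.Mem R (C.gen R 0) 0 := TT4_c1i.gen
theorem fx364 : C.gen R 0 ≤ stabilizer _ pt348 := Act.fix_sound TT4_c1i.top pt348r chk363
theorem cov371 : Cov (C.gen R 9007199254740992) (C.wds R [0]) pt348 2 := Act.cov_of_seen (Act.pieces_sound TT4_c0m TT4_c0m.top pt348r chk369) chk370
theorem TT4_lb2 : 1 ≤ Nat.card (C.gen R 0) := Nat.card_pos
theorem TT4_lo1 : 2 * Nat.card (C.gen R 0) ≤ Nat.card (C.gen R 9007199254740992) := cov371.low le_rfl (GC.wds_zero _) TT4_c1i.gen_le fx364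
theorem TT4_lb1 : 2 ≤ Nat.card (C.gen R 9007199254740992) := low_step TT4_lo1 TT4_lb2 (by decide +kernel)
theorem TT4_lo0 : 5 * Nat.card (C.gen R 9007199254740992) ≤ Nat.card (C.gen R 6755399441055744) := cov361.low le_rfl (GC.wds_zero _) TT4_c0i.gen_le fx354
theorem TT4_lb0 : 10 ≤ Nat.card (C.gen R 6755399441055744) := low_step TT4_lo0 TT4_lb1 (by decide +kernel)
theorem T_T4c : ∀ τ ∈ (C.gen R 6755399441055744), C.el (R 18) * τ * (C.el (R 18))⁻¹ ∈ (C.gen R 65520) := B12_m0.conjA (T_I.get (i := 18) (by decide +kernel)).top TT4_in346.top chk373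
theorem cov382 : Cov (C.gen R 6755399441055744) (C.wds R (List.map Prod.fst (l374))) pt53 10 := Act.cov_of_seen (Act.pieces_sound TT4_s0_351 B12_m0.top pt53r chk380) chk381
theorem T_T4d : Dec (C.gen R 65520) (C.gen R 6755399441055744) (C.wds R (List.map Prod.fst (l374))) (C.gen R 3670016) := cov382.dec TT4_in346.gen_le (GC.wds_sub B12_m0 chk383) TK_in82.gen_le fx122 (up_low B12_ub TK_lb0 (by decide +kernel))
theorem T_T4p : ∀ x ∈ DC1 (C.gen R 65520) (C.el (R 18)), x * C.el (R 1) ∈ DCs (C.gen R 65520) (C.els R 458754) := GC.dc_piece' T_T4d T_T4c T_Kc (B12_m0.dcRel T_I.top (T_I.get (i := 18) (by decide +kernel)).top (T_m0.get (i := 1) (by decide +kernel)).top chk375)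
theorem T_T4u : Nat.card (C.gen R 65520) ≤ 1024 * Nat.card (C.gen R 6755399441055744) := up_low B12_ub TT4_lb0 (by decide +kernel)
theorem T_T4n : (DC1 (C.gen R 65520) (C.el (R 18))).ncard ≤ Nat.card (C.gen R 65520) * 1024 := ncard_DC1 TT4_in346.gen_le T_T4c T_T4u
theorem T_dc : ∀ x ∈ (C.gen R 65522), x ∈ DCs (C.gen R 65520) (C.els R 458754) := GC.dc_gen (MU := 2) B12_m0 (by decide +kernel) (GC.forall_els (L := [1]) (forall_cons ⟨B12_m0.inDC' T_I.top (T_m0.get (i := 1) (by decide +kernel)).top chk384, GC.forall_els (L := [1, 16, 17, 18]) (forall_cons T_T1p (forall_cons T_T2p (forall_cons T_T3p (forall_cons T_T4p forall_nil)))) (by decide +kernel)⟩ forall_nil) (by decide +kernel))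
theorem T_cs : ∀ p ∈ ([(1, 10), (16, 80), (17, 640), (18, 1024)] : List (ℕ × ℕ)), (DC1 (C.gen R 65520) (C.el (R p.1))).ncard ≤ Nat.card (C.gen R 65520) * p.2 := (forall_cons T_T1n (forall_cons T_T2n (forall_cons T_T3n (forall_cons T_T4n forall_nil))))
theorem T_ix : Nat.card (C.gen R 65522) ≤ 1755 * Nat.card (C.gen R 65520) := GC.card_dc [(1, 10), (16, 80), (17, 640), (18, 1024)] T_dc T_cs (by decide +kernel)
theorem T_ub : Nat.card (C.gen R 65522) ≤ 17971200 := up_mul T_ix B12_ub (by decide +kernel)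
theorem T_max : ∀ L, (C.gen R 65520) ≤ L → L ≤ (C.gen R 65522) → L = (C.gen R 65520) ∨ L = (C.gen R 65522) := maximal_of_DCs T_dc (B12_m0.maxChk T_I.top chk386 chk387)
theorem pt388e : ∃ x, A0.Rep pt388c x := act2_rep (n := 28) (d := 5) (by decide) (by decide) (c := 0x88c2ccc) (by decide +kernel)
noncomputable def pt388 := Classical.choose pt388e
theorem pt388r : A0.Rep pt388c pt388 := Classical.choose_spec pt388e
theorem T_s1_391 : C.Mem R (C.gen R 65522) 126100789566898162 := T_s0_56.slp' chk390
noncomputable def pt392 := C.wd R 1157550310455 • pt388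
theorem pt392r : A0.Rep pt392c pt392 := Act.appW_ok T_s1_391 chk393 pt388r
theorem pt392g : C.wd R 1157550310455 ∈ (C.gen R 65522) := T_s1_391.wd_mem chk393
noncomputable def pt394 := C.wd R 1130421303 • pt388
theorem pt394r : A0.Rep pt394c pt394 := Act.appW_ok T_s1_391 chk395 pt388r
theorem pt394g : C.wd R 1130421303 ∈ (C.gen R 65522) := T_s1_391.wd_mem chk395
noncomputable def pt396 := C.wd R 63109827467992119 • pt388
theorem pt396r : A0.Rep pt396c pt396 := Act.appW_ok T_s1_391 chk397 pt388r
theorem pt396g : C.wd R 63109827467992119 ∈ (C.gen R 65522) := T_s1_391.wd_mem chk397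
theorem B12_s0_400 : C.Mem R (C.gen R 65520) 9079256848778985456 := B12_m0.slp' chk399
theorem B12_c0i : C.Mem R (C.gen R 65520) 9079256848778919936 := B12_s0_400.sub chk401
theorem B12_c0m : C.Mem R (C.gen R 9079256848778919936) 9079256848778919936 := B12_c0i.gen
theorem fx403 : C.gen R 9079256848778919936 ≤ stabilizer _ pt392 := Act.fix_sound B12_c0i.top pt392r chk402
theorem cov410 : Cov (C.gen R 65520) (C.wds R [0]) pt392 80 := Act.cov_of_seen (Act.pieces_sound B12_s0_400 B12_s0_400.top pt392r chk408) chk409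
theorem B12_c1i : C.Mem R (C.gen R 9079256848778919936) 7782220156096217088 := B12_c0m.sub chk411
theorem B12_c1m : C.Mem R (C.gen R 7782220156096217088) 7782220156096217088 := B12_c1i.gen
theorem fx413 : C.gen R 7782220156096217088 ≤ stabilizer _ pt394 := Act.fix_sound B12_c1i.top pt394r chk412
theorem cov420 : Cov (C.gen R 9079256848778919936) (C.wds R [0]) pt394 8 := Act.cov_of_seen (Act.pieces_sound B12_c0m B12_c0m.top pt394r chk418) chk419
theorem B12_c2i : C.Mem R (C.gen R 7782220156096217088) 0 := B12_c1m.sub chk421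
theorem B12_c2m : C.Mem R (C.gen R 0) 0 := B12_c2i.gen
theorem fx423 : C.gen R 0 ≤ stabilizer _ pt396 := Act.fix_sound B12_c2i.top pt396r chk422
theorem cov430 : Cov (C.gen R 7782220156096217088) (C.wds R [0]) pt396 16 := Act.cov_of_seen (Act.pieces_sound B12_c1m B12_c1m.top pt396r chk428) chk429
theorem B12_lb3 : 1 ≤ Nat.card (C.gen R 0) := Nat.card_pos
theorem B12_lo2 : 16 * Nat.card (C.gen R 0) ≤ Nat.card (C.gen R 7782220156096217088) := cov430.low le_rfl (GC.wds_zero _) B12_c2i.gen_le fx423
theorem B12_lb2 : 16 ≤ Nat.card (C.gen R 7782220156096217088) := low_step B12_lo2 B12_lb3 (by decide +kernel)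
theorem B12_lo1 : 8 * Nat.card (C.gen R 7782220156096217088) ≤ Nat.card (C.gen R 9079256848778919936) := cov420.low le_rfl (GC.wds_zero _) B12_c1i.gen_le fx413
theorem B12_lb1 : 128 ≤ Nat.card (C.gen R 9079256848778919936) := low_step B12_lo1 B12_lb2 (by decide +kernel)
theorem B12_lo0 : 80 * Nat.card (C.gen R 9079256848778919936) ≤ Nat.card (C.gen R 65520) := cov410.low le_rfl (GC.wds_zero _) B12_c0i.gen_le fx403
theorem B12_lb0 : 10240 ≤ Nat.card (C.gen R 65520) := low_step B12_lo0 B12_lb1 (by decide +kernel)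
theorem B12_st0 : (C.gen R 65520) ⊓ stabilizer _ pt392 = (C.gen R 9079256848778919936) ∧ (orbit (C.gen R 65520) pt392).ncard = 80 := cov410.stab le_rfl (GC.wds_zero _) B12_c0i.gen_le fx403 (up_low B12_ub B12_lb1 (by decide +kernel))
theorem B12_ub1 : Nat.card (C.gen R 9079256848778919936) ≤ 128 := up_step B12_lo0 B12_ub (by decide +kernel)
theorem B12_st1 : (C.gen R 9079256848778919936) ⊓ stabilizer _ pt394 = (C.gen R 7782220156096217088) ∧ (orbit (C.gen R 9079256848778919936) pt394).ncard = 8 := cov420.stab le_rfl (GC.wds_zero _) B12_c1i.gen_le fx413 (up_low B12_ub1 B12_lb2 (by decide +kernel))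
theorem B12_ub2 : Nat.card (C.gen R 7782220156096217088) ≤ 16 := up_step B12_lo1 B12_ub1 (by decide +kernel)
theorem B12_st2 : (C.gen R 7782220156096217088) ⊓ stabilizer _ pt396 = (C.gen R 0) ∧ (orbit (C.gen R 7782220156096217088) pt396).ncard = 16 := cov430.stab le_rfl (GC.wds_zero _) B12_c2i.gen_le fx423 (up_low B12_ub2 B12_lb3 (by decide +kernel))
theorem B12_ub3 : Nat.card (C.gen R 0) ≤ 1 := up_step B12_lo2 B12_ub2 (by decide +kernel)
theorem cov437 : Cov (C.gen R 65522) (C.wds R [0]) pt388 1755 := Act.cov_of_seen (Act.pieces_sound T_s1_391 T_s1_391.top pt388r chk435) chk436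
theorem fx439 : C.gen R 65520 ≤ stabilizer _ pt388 := Act.fix_sound (val3.sub chk48) pt388r chk438
theorem T_cov : Cov (C.gen R 65522) (C.wds R [0]) pt388 1755 := cov437
theorem T_lo : 1755 * Nat.card (C.gen R 65520) ≤ Nat.card (C.gen R 65522) := cov437.low le_rfl (GC.wds_zero _) (T_s1_391.sub chk440).gen_le fx439
theorem T_lb : 17971200 ≤ Nat.card (C.gen R 65522) := low_step T_lo B12_lb0 (by decide +kernel)
theorem coreT (N : Subgroup _) (h : N ≤ (C.gen R 65520)) (hN : NormBy (C.gen R 65522) N) : N ≤ (C.gen R 0) := (le_next B12_st2 (le_next B12_st1 (le_next B12_st0 h (hN.fix (h.trans fx439) pt392g)) (hN.fix (h.trans fx439) pt394g)) (hN.fix (h.trans fx439) pt396g))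
theorem T_m3 : C.Mem R (C.gen R 65522) 9205357638345818098 := T_s1_391.lor' (B12_s0_400.mono (T_s1_391.sub chk441).gen_le) chk442
theorem T_s3_445 : C.Mem R (C.gen R 65522) 18428729675200593906 := T_m3.slp' chk444
theorem T_s4_448 : C.Mem R (C.gen R 65522) 73768961896329248754 := T_s3_445.slp' chk447
theorem nclT (N : Subgroup _) (hN : NormBy (C.gen R 65522) N) (hz : C.el (R 63) ∈ N) : C.gen R 65522 ≤ N := by
  have h0 := (GC.Mem.single (T_s4_448.get (i := 63) (by decide +kernel)).top hz).lor' (T_s4_448.nconj (GC.Mem.single (T_s4_448.get (i := 63) (by decide +kernel)).top hz) hN (T_s4_448.sub chk449).top chk451) (M'' := 64563604257983430656) (by decide +kernel)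
  have h1 := T_s4_448.ncop h0 hN chk453
  exact h1.gen_le
theorem dichT (N : Subgroup _) (h : N ≤ (C.gen R 65522)) (hN : NormBy (C.gen R 65522) N) : N ≤ (C.gen R 0) ∨ N = (C.gen R 65522) :=
  normal_dichotomy (T_s4_448.sub chk455).gen_le T_max coreT (p := 13) (k := 1) (n := 1755) (by norm_num)
    (eq_mul_of T_ub T_lb B12_ub B12_lb0 (by decide +kernel)) (by norm_num)
    (not_dvd_of T_ub T_lb (by decide +kernel)) (T_s4_448.get (i := 63) (by decide +kernel)).el_mem ((T_s4_448.get (i := 63) (by decide +kernel)).prime_dvd (by norm_num) chk454).1.1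
    (fun N _ hN hz => nclT N hN hz) N h hN
theorem simpleT : IsSimpleGroup (C.gen R 65522) := simple_of_dichotomy (ne_bot_of T_lb (by decide +kernel)) fun N h hN => GC.gen_zero (C := C) (R := R) ▸ dichT N h hN
theorem cardT : Nat.card (C.gen R 65522) = 17971200 := le_antisymm T_ub T_lb
theorem H_m0 : C.Mem R (C.gen R 65526) 65526 := GC.Mem.gen (val3.sub chk456)
theorem H_m1 : C.Mem R (C.gen R 65526) 73768961896329248758 := H_m0.lor' (T_s4_448.mono (H_m0.sub chk457).gen_le) chk458
theorem H_dv : Nat.card (C.gen R 65526) ∣ 2 * Nat.card (C.gen R 65522) := GC.card_ins (T_s4_448.pc (m := 2) (w := 77173184341732499417952438959584895032) (val3.get (i := 2) (by decide +kernel)) T_m0.top chk460 chk461) (by decide +kernel)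
theorem H_ub : Nat.card (C.gen R 65526) ≤ 35942400 := up_mul (Nat.le_of_dvd (Nat.mul_pos (by decide) Nat.card_pos) H_dv) T_ub (by decide +kernel)
theorem pt462e : ∃ x, A0.Rep pt462c x := act2_rep (n := 28) (d := 5) (by decide) (by decide) (c := 0x88c2ccc) (by decide +kernel)
noncomputable def pt462 := Classical.choose pt462e
theorem pt462r : A0.Rep pt462c pt462 := Classical.choose_spec pt462e
theorem H_s1_465 : C.Mem R (C.gen R 65526) 37778913848558652751862 := H_m1.slp' chk464
theorem G_m0 : C.Mem R (C.gen R 65534) 65534 := GC.Mem.gen val3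
theorem G_m1 : C.Mem R (C.gen R 65534) 37778913848558652751870 := G_m0.lor' (H_s1_465.mono (G_m0.sub chk466).gen_le) chk467
theorem G_s1_470 : C.Mem R (C.gen R 65534) 75557845711515814461438 := G_m1.slp' chk469
theorem G_I : C.Mem R (C.gen R 65534) 37778931862957161709576 := G_s1_470.sub chk471
theorem GK_in481 : C.Mem R (C.gen R 65526) 226673591177742970257408 := H_s1_465.slp' chk480
theorem GK_m0 : C.Mem R (C.gen R 226673591177742970257408) 226673591177742970257408 := GC.Mem.gen GK_in481.top
theorem pt482e : ∃ x, A0.Rep pt482c x := act2_rep (n := 28) (d := 5) (by decide) (by decide) (c := 0xd78e9dd) (by decide +kernel)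
noncomputable def pt482 := Classical.choose pt482e
theorem pt482r : A0.Rep pt482c pt482 := Classical.choose_spec pt482e
theorem pt483e : ∃ x, A0.Rep pt483c x := act2_rep (n := 28) (d := 5) (by decide) (by decide) (c := 0xf3893dd) (by decide +kernel)
noncomputable def pt483 := Classical.choose pt483e
theorem pt483r : A0.Rep pt483c pt483 := Classical.choose_spec pt483e
theorem pt484e : ∃ x, A0.Rep pt484c x := act2_rep (n := 28) (d := 5) (by decide) (by decide) (c := 0x9fa4007) (by decide +kernel)
noncomputable def pt484 := Classical.choose pt484e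
theorem pt484r : A0.Rep pt484c pt484 := Classical.choose_spec pt484e
theorem pt485e : ∃ x, A0.Rep pt485c x := act2_rep (n := 28) (d := 5) (by decide) (by decide) (c := 0x40d02da) (by decide +kernel)
noncomputable def pt485 := Classical.choose pt485e
theorem pt485r : A0.Rep pt485c pt485 := Classical.choose_spec pt485e
theorem GK_s0_488 : C.Mem R (C.gen R 226673591177742970257408) 77295694591610352857776128 := GK_m0.slp' chk487
theorem GK_c0i : C.Mem R (C.gen R 226673591177742970257408) 77069021000432609887518720 := GK_s0_488.sub chk489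
theorem GK_c0m : C.Mem R (C.gen R 77069021000432609887518720) 77069021000432609887518720 := GK_c0i.gen
theorem fx491 : C.gen R 77069021000432609887518720 ≤ stabilizer _ pt482 := Act.fix_sound GK_c0i.top pt482r chk490
theorem cov498 : Cov (C.gen R 226673591177742970257408) (C.wds R [0]) pt482 10 := Act.cov_of_seen (Act.pieces_sound GK_s0_488 GK_s0_488.top pt482r chk496) chk497
theorem GK_c1i : C.Mem R (C.gen R 77069021000432609887518720) 69513234627841177545605120 := GK_c0m.sub chk499
theorem GK_c1m : C.Mem R (C.gen R 69513234627841177545605120) 69513234627841177545605120 := GK_c1i.gen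
theorem fx501 : C.gen R 69513234627841177545605120 ≤ stabilizer _ pt483 := Act.fix_sound GK_c1i.top pt483r chk500
theorem cov508 : Cov (C.gen R 77069021000432609887518720) (C.wds R [0]) pt483 8 := Act.cov_of_seen (Act.pieces_sound GK_c0m GK_c0m.top pt483r chk506) chk507
theorem GK_c2i : C.Mem R (C.gen R 69513234627841177545605120) 38685626227668133590597632 := GK_c1m.sub chk509
theorem GK_c2m : C.Mem R (C.gen R 38685626227668133590597632) 38685626227668133590597632 := GK_c2i.gen
theorem fx511 : C.gen R 38685626227668133590597632 ≤ stabilizer _ pt484 := Act.fix_sound GK_c2i.top pt484r chk510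
theorem cov518 : Cov (C.gen R 69513234627841177545605120) (C.wds R [0]) pt484 128 := Act.cov_of_seen (Act.pieces_sound GK_c1m GK_c1m.top pt484r chk516) chk517
theorem GK_c3i : C.Mem R (C.gen R 38685626227668133590597632) 0 := GK_c2m.sub chk519
theorem GK_c3m : C.Mem R (C.gen R 0) 0 := GK_c3i.gen
theorem fx521 : C.gen R 0 ≤ stabilizer _ pt485 := Act.fix_sound GK_c3i.top pt485r chk520
theorem cov528 : Cov (C.gen R 38685626227668133590597632) (C.wds R [0]) pt485 2 := Act.cov_of_seen (Act.pieces_sound GK_c2m GK_c2m.top pt485r chk526) chk527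
theorem GK_lb4 : 1 ≤ Nat.card (C.gen R 0) := Nat.card_pos
theorem GK_lo3 : 2 * Nat.card (C.gen R 0) ≤ Nat.card (C.gen R 38685626227668133590597632) := cov528.low le_rfl (GC.wds_zero _) GK_c3i.gen_le fx521
theorem GK_lb3 : 2 ≤ Nat.card (C.gen R 38685626227668133590597632) := low_step GK_lo3 GK_lb4 (by decide +kernel)
theorem GK_lo2 : 128 * Nat.card (C.gen R 38685626227668133590597632) ≤ Nat.card (C.gen R 69513234627841177545605120) := cov518.low le_rfl (GC.wds_zero _) GK_c2i.gen_le fx511
theorem GK_lb2 : 256 ≤ Nat.card (C.gen R 69513234627841177545605120) := low_step GK_lo2 GK_lb3 (by decide +kernel)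
theorem GK_lo1 : 8 * Nat.card (C.gen R 69513234627841177545605120) ≤ Nat.card (C.gen R 77069021000432609887518720) := cov508.low le_rfl (GC.wds_zero _) GK_c1i.gen_le fx501
theorem GK_lb1 : 2048 ≤ Nat.card (C.gen R 77069021000432609887518720) := low_step GK_lo1 GK_lb2 (by decide +kernel)
theorem GK_lo0 : 10 * Nat.card (C.gen R 77069021000432609887518720) ≤ Nat.card (C.gen R 226673591177742970257408) := cov498.low le_rfl (GC.wds_zero _) GK_c0i.gen_le fx491
theorem GK_lb0 : 20480 ≤ Nat.card (C.gen R 226673591177742970257408) := low_step GK_lo0 GK_lb1 (by decide +kernel)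
theorem fx532 : C.gen R 226673591177742970257408 ≤ stabilizer _ pt462 := Act.fix_sound GK_in481.top pt462r chk531
theorem G_Kc : ∀ κ ∈ (C.gen R 226673591177742970257408), (C.el (R 3))⁻¹ * κ * C.el (R 3) ∈ (C.gen R 65526) := H_s1_465.conjB (G_m1.get (i := 3) (by decide +kernel)).top GK_in481.top chk530
theorem GT1_in561 : C.Mem R (C.gen R 65526) 541598767187353870268366848 := H_s1_465.slp' chk560
theorem GT1_m0 : C.Mem R (C.gen R 541598767187353870268366848) 541598767187353870268366848 := GC.Mem.gen GT1_in561.top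
theorem pt562e : ∃ x, A0.Rep pt562c x := act2_rep (n := 28) (d := 5) (by decide) (by decide) (c := 0xd78e9dd) (by decide +kernel)
noncomputable def pt562 := Classical.choose pt562e
theorem pt562r : A0.Rep pt562c pt562 := Classical.choose_spec pt562e
theorem pt563e : ∃ x, A0.Rep pt563c x := act2_rep (n := 28) (d := 5) (by decide) (by decide) (c := 0x2029905) (by decide +kernel)
noncomputable def pt563 := Classical.choose pt563e
theorem pt563r : A0.Rep pt563c pt563 := Classical.choose_spec pt563e
theorem pt564e : ∃ x, A0.Rep pt564c x := act2_rep (n := 28) (d := 5) (by decide) (by decide) (c := 0x9fa4007) (by decide +kernel)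
noncomputable def pt564 := Classical.choose pt564e
theorem pt564r : A0.Rep pt564c pt564 := Classical.choose_spec pt564e
theorem pt565e : ∃ x, A0.Rep pt565c x := act2_rep (n := 28) (d := 5) (by decide) (by decide) (c := 0x40d02da) (by decide +kernel)
noncomputable def pt565 := Classical.choose pt565e
theorem pt565r : A0.Rep pt565c pt565 := Classical.choose_spec pt565e
theorem GT1_s0_568 : C.Mem R (C.gen R 541598767187353870268366848) 158378953776073338919906705408 := GT1_m0.slp' chk567
theorem GT1_c0i : C.Mem R (C.gen R 541598767187353870268366848) 157837355008885985049638338560 := GT1_s0_568.sub chk569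
theorem GT1_c0m : C.Mem R (C.gen R 157837355008885985049638338560) 157837355008885985049638338560 := GT1_c0i.gen
theorem fx571 : C.gen R 157837355008885985049638338560 ≤ stabilizer _ pt562 := Act.fix_sound GT1_c0i.top pt562r chk570
theorem cov578 : Cov (C.gen R 541598767187353870268366848) (C.wds R [0]) pt562 10 := Act.cov_of_seen (Act.pieces_sound GT1_s0_568 GT1_s0_568.top pt562r chk576) chk577
theorem GT1_c1i : C.Mem R (C.gen R 157837355008885985049638338560) 154742504910672534362390528000 := GT1_c0m.sub chk579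
theorem GT1_c1m : C.Mem R (C.gen R 154742504910672534362390528000) 154742504910672534362390528000 := GT1_c1i.gen
theorem fx581 : C.gen R 154742504910672534362390528000 ≤ stabilizer _ pt563 := Act.fix_sound GT1_c1i.top pt563r chk580
theorem cov588 : Cov (C.gen R 157837355008885985049638338560) (C.wds R [0]) pt563 8 := Act.cov_of_seen (Act.pieces_sound GT1_c0m GT1_c0m.top pt563r chk586) chk587
theorem GT1_c2i : C.Mem R (C.gen R 154742504910672534362390528000) 79228162514264337593543950336 := GT1_c1m.sub chk589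
theorem GT1_c2m : C.Mem R (C.gen R 79228162514264337593543950336) 79228162514264337593543950336 := GT1_c2i.gen
theorem fx591 : C.gen R 79228162514264337593543950336 ≤ stabilizer _ pt564 := Act.fix_sound GT1_c2i.top pt564r chk590
theorem cov598 : Cov (C.gen R 154742504910672534362390528000) (C.wds R [0]) pt564 128 := Act.cov_of_seen (Act.pieces_sound GT1_c1m GT1_c1m.top pt564r chk596) chk597
theorem GT1_c3i : C.Mem R (C.gen R 79228162514264337593543950336) 0 := GT1_c2m.sub chk599
theorem GT1_c3m : C.Mem R (C.gen R 0) 0 := GT1_c3i.gen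
theorem fx601 : C.gen R 0 ≤ stabilizer _ pt565 := Act.fix_sound GT1_c3i.top pt565r chk600
theorem cov608 : Cov (C.gen R 79228162514264337593543950336) (C.wds R [0]) pt565 2 := Act.cov_of_seen (Act.pieces_sound GT1_c2m GT1_c2m.top pt565r chk606) chk607
theorem GT1_lb4 : 1 ≤ Nat.card (C.gen R 0) := Nat.card_pos
theorem GT1_lo3 : 2 * Nat.card (C.gen R 0) ≤ Nat.card (C.gen R 79228162514264337593543950336) := cov608.low le_rfl (GC.wds_zero _) GT1_c3i.gen_le fx601
theorem GT1_lb3 : 2 ≤ Nat.card (C.gen R 79228162514264337593543950336) := low_step GT1_lo3 GT1_lb4 (by decide +kernel)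
theorem GT1_lo2 : 128 * Nat.card (C.gen R 79228162514264337593543950336) ≤ Nat.card (C.gen R 154742504910672534362390528000) := cov598.low le_rfl (GC.wds_zero _) GT1_c2i.gen_le fx591
theorem GT1_lb2 : 256 ≤ Nat.card (C.gen R 154742504910672534362390528000) := low_step GT1_lo2 GT1_lb3 (by decide +kernel)
theorem GT1_lo1 : 8 * Nat.card (C.gen R 154742504910672534362390528000) ≤ Nat.card (C.gen R 157837355008885985049638338560) := cov588.low le_rfl (GC.wds_zero _) GT1_c1i.gen_le fx581
theorem GT1_lb1 : 2048 ≤ Nat.card (C.gen R 157837355008885985049638338560) := low_step GT1_lo1 GT1_lb2 (by decide +kernel)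
theorem GT1_lo0 : 10 * Nat.card (C.gen R 157837355008885985049638338560) ≤ Nat.card (C.gen R 541598767187353870268366848) := cov578.low le_rfl (GC.wds_zero _) GT1_c0i.gen_le fx571
theorem GT1_lb0 : 20480 ≤ Nat.card (C.gen R 541598767187353870268366848) := low_step GT1_lo0 GT1_lb1 (by decide +kernel)
theorem G_T1c : ∀ τ ∈ (C.gen R 541598767187353870268366848), C.el (R 3) * τ * (C.el (R 3))⁻¹ ∈ (C.gen R 65526) := H_s1_465.conjA (G_I.get (i := 3) (by decide +kernel)).top GT1_in561.top chk610
theorem cov619 : Cov (C.gen R 541598767187353870268366848) (C.wds R (List.map Prod.fst (l611))) pt462 1755 := Act.cov_of_seen (Act.pieces_sound GT1_s0_568 H_s1_465.top pt462r chk617) chk618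
theorem G_T1d : Dec (C.gen R 65526) (C.gen R 541598767187353870268366848) (C.wds R (List.map Prod.fst (l611))) (C.gen R 226673591177742970257408) := cov619.dec GT1_in561.gen_le (GC.wds_sub H_s1_465 chk620) GK_in481.gen_le fx532 (up_low H_ub GK_lb0 (by decide +kernel))
theorem G_T1p : ∀ x ∈ DC1 (C.gen R 65526) (C.el (R 3)), x * C.el (R 3) ∈ DCs (C.gen R 65526) (C.els R 37778931862957161709576) := GC.dc_piece' G_T1d G_T1c G_Kc (H_s1_465.dcRel G_I.top (G_I.get (i := 3) (by decide +kernel)).top (G_m1.get (i := 3) (by decide +kernel)).top chk612)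
theorem G_T1u : Nat.card (C.gen R 65526) ≤ 1755 * Nat.card (C.gen R 541598767187353870268366848) := up_low H_ub GT1_lb0 (by decide +kernel)
theorem G_T1n : (DC1 (C.gen R 65526) (C.el (R 3))).ncard ≤ Nat.card (C.gen R 65526) * 1755 := ncard_DC1 GT1_in561.gen_le G_T1c G_T1u
theorem GT2_in623 : C.Mem R (C.gen R 65526) 475368975085586025561263702016 := H_s1_465.slp' chk622
theorem GT2_m0 : C.Mem R (C.gen R 475368975085586025561263702016) 475368975085586025561263702016 := GC.Mem.gen GT2_in623.top
theorem pt624e : ∃ x, A0.Rep pt624c x := act2_rep (n := 28) (d := 5) (by decide) (by decide) (c := 0x9fa4007) (by decide +kernel)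
noncomputable def pt624 := Classical.choose pt624e
theorem pt624r : A0.Rep pt624c pt624 := Classical.choose_spec pt624e
theorem pt625e : ∃ x, A0.Rep pt625c x := act2_rep (n := 28) (d := 5) (by decide) (by decide) (c := 0x40d02da) (by decide +kernel)
noncomputable def pt625 := Classical.choose pt625e
theorem pt625r : A0.Rep pt625c pt625 := Classical.choose_spec pt625e
theorem GT2_s0_628 : C.Mem R (C.gen R 475368975085586025561263702016) 40406362882274812172707414671360 := GT2_m0.slp' chk627
theorem GT2_c0i : C.Mem R (C.gen R 475368975085586025561263702016) 38029518006846882044901096161280 := GT2_s0_628.sub chk629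
theorem GT2_c0m : C.Mem R (C.gen R 38029518006846882044901096161280) 38029518006846882044901096161280 := GT2_c0i.gen
theorem fx631 : C.gen R 38029518006846882044901096161280 ≤ stabilizer _ pt624 := Act.fix_sound GT2_c0i.top pt624r chk630
theorem cov638 : Cov (C.gen R 475368975085586025561263702016) (C.wds R [0]) pt624 78 := Act.cov_of_seen (Act.pieces_sound GT2_s0_628 GT2_s0_628.top pt624r chk636) chk637
theorem GT2_c1i : C.Mem R (C.gen R 38029518006846882044901096161280) 0 := GT2_c0m.sub chk639
theorem GT2_c1m : C.Mem R (C.gen R 0) 0 := GT2_c1i.gen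
theorem fx641 : C.gen R 0 ≤ stabilizer _ pt625 := Act.fix_sound GT2_c1i.top pt625r chk640
theorem cov648 : Cov (C.gen R 38029518006846882044901096161280) (C.wds R [0]) pt625 200 := Act.cov_of_seen (Act.pieces_sound GT2_c0m GT2_c0m.top pt625r chk646) chk647
theorem GT2_lb2 : 1 ≤ Nat.card (C.gen R 0) := Nat.card_pos
theorem GT2_lo1 : 200 * Nat.card (C.gen R 0) ≤ Nat.card (C.gen R 38029518006846882044901096161280) := cov648.low le_rfl (GC.wds_zero _) GT2_c1i.gen_le fx641
theorem GT2_lb1 : 200 ≤ Nat.card (C.gen R 38029518006846882044901096161280) := low_step GT2_lo1 GT2_lb2 (by decide +kernel)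
theorem GT2_lo0 : 78 * Nat.card (C.gen R 38029518006846882044901096161280) ≤ Nat.card (C.gen R 475368975085586025561263702016) := cov638.low le_rfl (GC.wds_zero _) GT2_c0i.gen_le fx631
theorem GT2_lb0 : 15600 ≤ Nat.card (C.gen R 475368975085586025561263702016) := low_step GT2_lo0 GT2_lb1 (by decide +kernel)
theorem G_T2c : ∀ τ ∈ (C.gen R 475368975085586025561263702016), C.el (R 75) * τ * (C.el (R 75))⁻¹ ∈ (C.gen R 65526) := H_s1_465.conjA (G_I.get (i := 75) (by decide +kernel)).top GT2_in623.top chk650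
theorem cov659 : Cov (C.gen R 475368975085586025561263702016) (C.wds R (List.map Prod.fst (l651))) pt462 1755 := Act.cov_of_seen (Act.pieces_sound GT2_s0_628 H_s1_465.top pt462r chk657) chk658
theorem G_T2d : Dec (C.gen R 65526) (C.gen R 475368975085586025561263702016) (C.wds R (List.map Prod.fst (l651))) (C.gen R 226673591177742970257408) := cov659.dec GT2_in623.gen_le (GC.wds_sub H_s1_465 chk660) GK_in481.gen_le fx532 (up_low H_ub GK_lb0 (by decide +kernel))
theorem G_T2p : ∀ x ∈ DC1 (C.gen R 65526) (C.el (R 75)), x * C.el (R 3) ∈ DCs (C.gen R 65526) (C.els R 37778931862957161709576) := GC.dc_piece' G_T2d G_T2c G_Kc (H_s1_465.dcRel G_I.top (G_I.get (i := 75) (by decide +kernel)).top (G_m1.get (i := 3) (by decide +kernel)).top chk652)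
theorem G_T2u : Nat.card (C.gen R 65526) ≤ 2304 * Nat.card (C.gen R 475368975085586025561263702016) := up_low H_ub GT2_lb0 (by decide +kernel)
theorem G_T2n : (DC1 (C.gen R 65526) (C.el (R 75))).ncard ≤ Nat.card (C.gen R 65526) * 2304 := ncard_DC1 GT2_in623.gen_le G_T2c G_T2u
theorem G_dc : ∀ x ∈ (C.gen R 65534), x ∈ DCs (C.gen R 65526) (C.els R 37778931862957161709576) := GC.dc_gen (MU := 8) H_s1_465 (by decide +kernel) (GC.forall_els (L := [3]) (forall_cons ⟨H_s1_465.inDC' G_I.top (G_m1.get (i := 3) (by decide +kernel)).top chk661, GC.forall_els (L := [3, 75]) (forall_cons G_T1p (forall_cons G_T2p forall_nil)) (by decide +kernel)⟩ forall_nil) (by decide +kernel))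
theorem G_cs : ∀ p ∈ ([(3, 1755), (75, 2304)] : List (ℕ × ℕ)), (DC1 (C.gen R 65526) (C.el (R p.1))).ncard ≤ Nat.card (C.gen R 65526) * p.2 := (forall_cons G_T1n (forall_cons G_T2n forall_nil))
theorem G_ix : Nat.card (C.gen R 65534) ≤ 4060 * Nat.card (C.gen R 65526) := GC.card_dc [(3, 1755), (75, 2304)] G_dc G_cs (by decide +kernel)
theorem G_ub : Nat.card (C.gen R 65534) ≤ 145926144000 := up_mul G_ix H_ub (by decide +kernel)
theorem G_max : ∀ L, (C.gen R 65526) ≤ L → L ≤ (C.gen R 65534) → L = (C.gen R 65526) ∨ L = (C.gen R 65534) := maximal_of_DCs G_dc (H_s1_465.maxChk G_I.top chk663 chk664)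
theorem pt665e : ∃ x, A0.Rep pt665c x := act2_rep (n := 28) (d := 5) (by decide) (by decide) (c := 0x5f44511) (by decide +kernel)
noncomputable def pt665 := Classical.choose pt665e
theorem pt665r : A0.Rep pt665c pt665 := Classical.choose_spec pt665e
theorem G_s2_668 : C.Mem R (C.gen R 65534) 608472288185107958429933353041918 := G_s1_470.slp' chk667
noncomputable def pt669 := C.wd R 3579353566490503275 • pt665
theorem pt669r : A0.Rep pt669c pt669 := Act.appW_ok G_s2_668 chk670 pt665r
theorem pt669g : C.wd R 3579353566490503275 ∈ (C.gen R 65534) := G_s2_668.wd_mem chk670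
noncomputable def pt671 := C.wd R 3578225468743093355 • pt665
theorem pt671r : A0.Rep pt671c pt671 := Act.appW_ok G_s2_668 chk672 pt665r
theorem pt671g : C.wd R 3578225468743093355 ∈ (C.gen R 65534) := G_s2_668.wd_mem chk672
noncomputable def pt673 := C.wd R 123480938245895752810 • pt665
theorem pt673r : A0.Rep pt673c pt673 := Act.appW_ok G_s2_668 chk674 pt665r
theorem pt673g : C.wd R 123480938245895752810 ∈ (C.gen R 65534) := G_s2_668.wd_mem chk674
noncomputable def pt675 := C.wd R 3412461727851 • pt665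
theorem pt675r : A0.Rep pt675c pt675 := Act.appW_ok G_s2_668 chk676 pt665r
theorem pt675g : C.wd R 3412461727851 ∈ (C.gen R 65534) := G_s2_668.wd_mem chk676
theorem H_s2_679 : C.Mem R (C.gen R 65526) 1328578958677636798364089306891943926 := H_s1_465.slp' chk678
theorem H_c0i : C.Mem R (C.gen R 65526) 1328578958677599019450240748239192064 := H_s2_679.sub chk680
theorem H_c0m : C.Mem R (C.gen R 1328578958677599019450240748239192064) 1328578958677599019450240748239192064 := H_c0i.gen
theorem fx682 : C.gen R 1328578958677599019450240748239192064 ≤ stabilizer _ pt669 := Act.fix_sound H_c0i.top pt669r chk681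
theorem cov689 : Cov (C.gen R 65526) (C.wds R [0]) pt669 1755 := Act.cov_of_seen (Act.pieces_sound H_s2_679 H_s2_679.top pt669r chk687) chk688
theorem H_c1i : C.Mem R (C.gen R 1328578958677599019450240748239192064) 1324035698926381045275276563951124480 := H_c0m.sub chk690
theorem H_c1m : C.Mem R (C.gen R 1324035698926381045275276563951124480) 1324035698926381045275276563951124480 := H_c1i.gen
theorem fx692 : C.gen R 1324035698926381045275276563951124480 ≤ stabilizer _ pt671 := Act.fix_sound H_c1i.top pt671r chk691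
theorem cov699 : Cov (C.gen R 1328578958677599019450240748239192064) (C.wds R [0]) pt671 80 := Act.cov_of_seen (Act.pieces_sound H_c0m H_c0m.top pt671r chk697) chk698
theorem H_c2i : C.Mem R (C.gen R 1324035698926381045275276563951124480) 1256535839765428286104380111671263232 := H_c1m.sub chk700
theorem H_c2m : C.Mem R (C.gen R 1256535839765428286104380111671263232) 1256535839765428286104380111671263232 := H_c2i.gen
theorem fx702 : C.gen R 1256535839765428286104380111671263232 ≤ stabilizer _ pt673 := Act.fix_sound H_c2i.top pt673r chk701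
theorem cov709 : Cov (C.gen R 1324035698926381045275276563951124480) (C.wds R [0]) pt673 8 := Act.cov_of_seen (Act.pieces_sound H_c1m H_c1m.top pt673r chk707) chk708
theorem H_c3i : C.Mem R (C.gen R 1256535839765428286104380111671263232) 0 := H_c2m.sub chk710
theorem H_c3m : C.Mem R (C.gen R 0) 0 := H_c3i.gen
theorem fx712 : C.gen R 0 ≤ stabilizer _ pt675 := Act.fix_sound H_c3i.top pt675r chk711
theorem cov719 : Cov (C.gen R 1256535839765428286104380111671263232) (C.wds R [0]) pt675 32 := Act.cov_of_seen (Act.pieces_sound H_c2m H_c2m.top pt675r chk717) chk718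
theorem H_lb4 : 1 ≤ Nat.card (C.gen R 0) := Nat.card_pos
theorem H_lo3 : 32 * Nat.card (C.gen R 0) ≤ Nat.card (C.gen R 1256535839765428286104380111671263232) := cov719.low le_rfl (GC.wds_zero _) H_c3i.gen_le fx712
theorem H_lb3 : 32 ≤ Nat.card (C.gen R 1256535839765428286104380111671263232) := low_step H_lo3 H_lb4 (by decide +kernel)
theorem H_lo2 : 8 * Nat.card (C.gen R 1256535839765428286104380111671263232) ≤ Nat.card (C.gen R 1324035698926381045275276563951124480) := cov709.low le_rfl (GC.wds_zero _) H_c2i.gen_le fx702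
theorem H_lb2 : 256 ≤ Nat.card (C.gen R 1324035698926381045275276563951124480) := low_step H_lo2 H_lb3 (by decide +kernel)
theorem H_lo1 : 80 * Nat.card (C.gen R 1324035698926381045275276563951124480) ≤ Nat.card (C.gen R 1328578958677599019450240748239192064) := cov699.low le_rfl (GC.wds_zero _) H_c1i.gen_le fx692
theorem H_lb1 : 20480 ≤ Nat.card (C.gen R 1328578958677599019450240748239192064) := low_step H_lo1 H_lb2 (by decide +kernel)
theorem H_lo0 : 1755 * Nat.card (C.gen R 1328578958677599019450240748239192064) ≤ Nat.card (C.gen R 65526) := cov689.low le_rfl (GC.wds_zero _) H_c0i.gen_le fx682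
theorem H_lb0 : 35942400 ≤ Nat.card (C.gen R 65526) := low_step H_lo0 H_lb1 (by decide +kernel)
theorem H_st0 : (C.gen R 65526) ⊓ stabilizer _ pt669 = (C.gen R 1328578958677599019450240748239192064) ∧ (orbit (C.gen R 65526) pt669).ncard = 1755 := cov689.stab le_rfl (GC.wds_zero _) H_c0i.gen_le fx682 (up_low H_ub H_lb1 (by decide +kernel))
theorem H_ub1 : Nat.card (C.gen R 1328578958677599019450240748239192064) ≤ 20480 := up_step H_lo0 H_ub (by decide +kernel)
theorem H_st1 : (C.gen R 1328578958677599019450240748239192064) ⊓ stabilizer _ pt671 = (C.gen R 1324035698926381045275276563951124480) ∧ (orbit (C.gen R 1328578958677599019450240748239192064) pt671).ncard = 80 := cov699.stab le_rfl (GC.wds_zero _) H_c1i.gen_le fx692 (up_low H_ub1 H_lb2 (by decide +kernel))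
theorem H_ub2 : Nat.card (C.gen R 1324035698926381045275276563951124480) ≤ 256 := up_step H_lo1 H_ub1 (by decide +kernel)
theorem H_st2 : (C.gen R 1324035698926381045275276563951124480) ⊓ stabilizer _ pt673 = (C.gen R 1256535839765428286104380111671263232) ∧ (orbit (C.gen R 1324035698926381045275276563951124480) pt673).ncard = 8 := cov709.stab le_rfl (GC.wds_zero _) H_c2i.gen_le fx702 (up_low H_ub2 H_lb3 (by decide +kernel))
theorem H_ub3 : Nat.card (C.gen R 1256535839765428286104380111671263232) ≤ 32 := up_step H_lo2 H_ub2 (by decide +kernel)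
theorem H_st3 : (C.gen R 1256535839765428286104380111671263232) ⊓ stabilizer _ pt675 = (C.gen R 0) ∧ (orbit (C.gen R 1256535839765428286104380111671263232) pt675).ncard = 32 := cov719.stab le_rfl (GC.wds_zero _) H_c3i.gen_le fx712 (up_low H_ub3 H_lb4 (by decide +kernel))
theorem H_ub4 : Nat.card (C.gen R 0) ≤ 1 := up_step H_lo3 H_ub3 (by decide +kernel)
theorem cov730 : Cov (C.gen R 65534) (C.wds R [0]) pt665 4060 := Act.cov_of_seen (Act.pieces_sound G_s2_668 G_s2_668.top pt665r chk728) chk729
theorem fx732 : C.gen R 65526 ≤ stabilizer _ pt665 := Act.fix_sound (val3.sub chk456) pt665r chk731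
theorem G_cov : Cov (C.gen R 65534) (C.wds R [0]) pt665 4060 := cov730
theorem G_lo : 4060 * Nat.card (C.gen R 65526) ≤ Nat.card (C.gen R 65534) := cov730.low le_rfl (GC.wds_zero _) (G_s2_668.sub chk733).gen_le fx732
theorem G_lb : 145926144000 ≤ Nat.card (C.gen R 65534) := low_step G_lo H_lb0 (by decide +kernel)
theorem core (N : Subgroup _) (h : N ≤ (C.gen R 65526)) (hN : NormBy (C.gen R 65534) N) : N ≤ (C.gen R 0) := (le_next H_st3 (le_next H_st2 (le_next H_st1 (le_next H_st0 h (hN.fix (h.trans fx732) pt669g)) (hN.fix (h.trans fx732) pt671g)) (hN.fix (h.trans fx732) pt673g)) (hN.fix (h.trans fx732) pt675g))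
theorem G_m4 : C.Mem R (C.gen R 65534) 1329187430965784127408670681592233982 := G_s2_668.lor' (H_s2_679.mono (G_s2_668.sub chk734).gen_le) chk735
theorem G_s4_738 : C.Mem R (C.gen R 65534) 2658415426750700000312477741872578558 := G_m4.slp' chk737
theorem G_s5_741 : C.Mem R (C.gen R 65534) 10633783401460195237735320103554646014 := G_s4_738.slp' chk740
theorem ncl (N : Subgroup _) (hN : NormBy (C.gen R 65534) N) (hz : C.el (R 120) ∈ N) : C.gen R 65534 ≤ N := by
  have h0 := (GC.Mem.single (G_s5_741.get (i := 120) (by decide +kernel)).top hz).lor' (G_s5_741.nconj (GC.Mem.single (G_s5_741.get (i := 120) (by decide +kernel)).top hz) hN (G_s5_741.sub chk742).top chk744) (M'' := 9304595970494411110326649421962412032) (by decide +kernel)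
  have h1 := G_s5_741.ncop h0 hN chk746
  exact h1.gen_le
theorem dich (N : Subgroup _) (h : N ≤ (C.gen R 65534)) (hN : NormBy (C.gen R 65534) N) : N ≤ (C.gen R 0) ∨ N = (C.gen R 65534) :=
  normal_dichotomy (G_s5_741.sub chk748).gen_le G_max core (p := 29) (k := 1) (n := 4060) (by norm_num)
    (eq_mul_of G_ub G_lb H_ub H_lb0 (by decide +kernel)) (by norm_num)
    (not_dvd_of G_ub G_lb (by decide +kernel)) (G_s5_741.get (i := 120) (by decide +kernel)).el_mem ((G_s5_741.get (i := 120) (by decide +kernel)).prime_dvd (by norm_num) chk747).1.1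
    (fun N _ hN hz => ncl N hN hz) N h hN
theorem simple : IsSimpleGroup (C.gen R 65534) := simple_of_dichotomy (ne_bot_of G_lb (by decide +kernel)) fun N h hN => GC.gen_zero (C := C) (R := R) ▸ dich N h hN
theorem cardG : Nat.card (C.gen R 65534) = 145926144000 := le_antisymm G_ub G_lb
theorem cardH : Nat.card (C.gen R 65526) = 35942400 := le_antisymm H_ub H_lb0
theorem H_le : (C.gen R 65526) ≤ (C.gen R 65534) := (G_s5_741.sub chk749).gen_le
theorem T_le : (C.gen R 65522) ≤ (C.gen R 65526) := (H_s2_679.sub chk750).gen_le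
theorem main : ∃ G H T : Subgroup (Matrix (Fin 28) (Fin 28) (ZMod 2))ˣ, H ≤ G ∧ T ≤ H ∧ IsSimpleGroup G ∧ Nat.card G = 145926144000 ∧ Nat.card H = 35942400 ∧ IsSimpleGroup T ∧ Nat.card T = 17971200 := ⟨_, _, _, H_le, T_le, simple, cardG, cardH, simpleT, cardT⟩
end

end CfsgH6.Ru
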