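/-
Codes for matrix groups over prime fields, for products, and for their actions.
-/
import Cfsg.Agent.H6.Dig

set_option autoImplicit false

namespace CfsgH6

open CfsgH5 Finset Matrix

noncomputable section

/-- an injective coding of a monoid -/
structure MC (O : GOps) (M : Type*) [Monoid M] where
  code : M → ℕ
  inj : Function.Injective code
  code_one : code 1 = O.one
  code_mul : ∀ g h, code (g * h) = O.mul (code g) (code h)

namespace MC

variable {O : GOps} {M : Type*} [Monoid M] (C : MC O M)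

/-- pull back along an injective homomorphism -/
def comap {N : Type*} [Monoid N] (f : N →* M) (hf : Function.Injective f) : MC O N where
  code x := C.code (f x)
  inj := C.inj.comp hf
  code_one := by rw [map_one, C.code_one]
  code_mul g h := by rw [map_mul, C.code_mul]

/-- the coding of the group of units -/
def units : GC O Mˣ where
  code g := C.code g
  inj := C.inj.comp Units.val_injective
  code_one := C.code_one
  code_mul _ _ := C.code_mul _ _

theorem code_pow (g : M) {m : ℕ} (h : m ≠ 0) : powC O (C.code g) m = C.code (g ^ m) := by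
  have key : ∀ n m, m ≠ 0 → m ≤ n → powF O (C.code g) n m = C.code (g ^ m) := by
    intro n
    induction n with
    | zero => intro m h1 h2; omega
    | succ n ih =>
      intro m h1 h2
      show bif' (Nat.ble m 1) _ (fH (force (Nat.shiftRight m 1) (powF O (C.code g) n)) fun a =>
        bif' (Nat.beq (Nat.land m 1) 0) (O.mul a a) (fH (O.mul a a) fun b => O.mul b (C.code g))) = _
      simp only [bif'_eq, fH_eq, force_eq, ble_true_iff, beq_true_iff, Nat.shiftRight_eq,
        Nat.land_eq, Nat.and_one_is_mod, Nat.shiftRight_eq_div_pow, pow_one]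
      split_ifs with h3 h4
      · rw [show m = 1 by omega, pow_one]
      · rw [ih _ (by omega) (by omega), ← C.code_mul, ← pow_add]; congr 2; omega
      · rw [ih _ (by omega) (by omega), ← C.code_mul, ← C.code_mul, ← pow_add, ← pow_succ]
        congr 2; omega
  exact key m m h le_rfl

theorem in_units {c k : ℕ} (hc : ∃ x, C.code x = c)
    (h : band (Nat.ble 1 k) (Nat.beq (powC O c k) O.one) = true) : C.units.In ⊤ c := by
  simp only [band_eq, Bool.and_eq_true, ble_true_iff, beq_true_iff] at h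
  obtain ⟨x, rfl⟩ := hc
  rw [C.code_pow _ (by omega), ← C.code_one, C.inj.eq_iff] at h
  obtain ⟨u, rfl⟩ := IsUnit.of_pow_eq_one h.2 (by omega)
  exact ⟨u, trivial, rfl⟩

/-- registers `hd e` hold units of order dividing `tl e` -/
theorem mem_units {R : ℕ → ℕ} {can : ℕ → Bool} (hcan : ∀ c, can c = true → ∃ x, C.code x = c)
    {L : List ℕ} {M' : ℕ} (h : band (allL L fun e => band (can (force (hd e) R))
      (band (Nat.ble 1 (tl e)) (Nat.beq (powC O (force (hd e) R) (tl e)) O.one)))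
      (subM M' (insL L 0)) = true) : C.units.Mem R ⊤ M' := by
  rw [band_eq, Bool.and_eq_true, allL_iff] at h
  intro i hi
  obtain ⟨e, he, rfl⟩ := ((testBit_insL _ _ _).1 (subM_sound h.2 hi)).resolve_left (by simp)
  have := h.1 e he
  rw [band_eq, Bool.and_eq_true, force_eq] at this
  exact C.in_units (hcan _ this.1) this.2

end MC

/-- pull back along an injective homomorphism -/
def GC.comap {O : GOps} {Γ Γ' : Type*} [Group Γ] [Group Γ'] (C : GC O Γ) (f : Γ' →* Γ)
    (hf : Function.Injective f) : GC O Γ' where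
  code x := C.code (f x)
  inj := C.inj.comp hf
  code_one := by rw [map_one, C.code_one]
  code_mul g h := by rw [map_mul, C.code_mul]

/-! ### Matrices -/

section mat

variable {p n : ℕ}

/-- entries of a vector as numbers -/
def entV (v : Fin n → ZMod p) (i : ℕ) : ℕ := if h : i < n then (v ⟨i, h⟩).val else 0

/-- entries of a matrix as numbers -/
def ent (M : Matrix (Fin n) (Fin n) (ZMod p)) (i j : ℕ) : ℕ :=
  if h : i < n ∧ j < n then (M ⟨i, h.1⟩ ⟨j, h.2⟩).val else 0

theorem entV_lt [NeZero p] (v : Fin n → ZMod p) (i : ℕ) : entV v i < p := by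
  unfold entV; split_ifs
  · exact ZMod.val_lt _
  · exact Nat.pos_of_ne_zero (NeZero.ne p)

theorem ent_lt [NeZero p] (M : Matrix (Fin n) (Fin n) (ZMod p)) (i j : ℕ) : ent M i j < p := by
  unfold ent; split_ifs
  · exact ZMod.val_lt _
  · exact Nat.pos_of_ne_zero (NeZero.ne p)

theorem entV_fin (v : Fin n → ZMod p) (i : Fin n) : entV v i = (v i).val := dif_pos i.2

theorem ent_fin (M : Matrix (Fin n) (Fin n) (ZMod p)) (i j : Fin n) : ent M i j = (M i j).val :=
  dif_pos ⟨i.2, j.2⟩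

theorem cast_ent_mul [NeZero p] (M N : Matrix (Fin n) (Fin n) (ZMod p)) (i k : ℕ) :
    (ent (M * N) i k : ZMod p) = ∑ j ∈ range n, (ent M i j : ZMod p) * ent N j k := by
  by_cases h : i < n ∧ k < n
  · rw [ent_fin _ ⟨i, h.1⟩ ⟨k, h.2⟩, ZMod.natCast_zmod_val, Matrix.mul_apply, ← Fin.sum_univ_eq_sum_range
      (fun j => (ent M i j : ZMod p) * ent N j k)]
    exact sum_congr rfl fun j _ => by
      rw [ent_fin _ ⟨i, h.1⟩, ent_fin _ _ ⟨k, h.2⟩, ZMod.natCast_zmod_val, ZMod.natCast_zmod_val]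
  · rw [ent, dif_neg h, Nat.cast_zero, sum_eq_zero]
    intro j _
    by_cases hi : i < n
    · rw [ent.eq_def N, dif_neg (by tauto)]; simp
    · rw [ent.eq_def M, dif_neg (by tauto)]; simp

theorem cast_entV_mul [NeZero p] (M : Matrix (Fin n) (Fin n) (ZMod p)) (v : Fin n → ZMod p) (i : ℕ) :
    (entV (M *ᵥ v) i : ZMod p) = ∑ j ∈ range n, (ent M i j : ZMod p) * entV v j := by
  by_cases h : i < n
  · rw [entV_fin _ ⟨i, h⟩, ZMod.natCast_zmod_val, Matrix.mulVec, dotProduct, ← Fin.sum_univ_eq_sum_range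
      (fun j => (ent M i j : ZMod p) * entV v j)]
    exact sum_congr rfl fun j _ => by
      rw [ent_fin _ ⟨i, h⟩, entV_fin, ZMod.natCast_zmod_val, ZMod.natCast_zmod_val]
  · rw [entV, dif_neg h, Nat.cast_zero, sum_eq_zero]
    intro j _
    rw [ent.eq_def M, dif_neg (by tauto)]; simp

theorem eq_mod_of_cast [NeZero p] {a b : ℕ} (ha : a < p) (h : (a : ZMod p) = b) : a = b % p := by
  rw [← ZMod.val_natCast, ← h, ZMod.val_natCast, Nat.mod_eq_of_lt ha]

/-- code of a vector -/
def vcode (W : ℕ) (v : Fin n → ZMod p) : ℕ := evd W n (entV v)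

/-- code of a matrix, columns at distance `m` -/
def mcode (W m : ℕ) (M : Matrix (Fin n) (Fin n) (ZMod p)) : ℕ :=
  evd W (m * m) fun q => ent M (q % m) (q / m)

theorem vcode_inj [NeZero p] {W : ℕ} (hp : p ≤ 2 ^ W) :
    Function.Injective (vcode W : (Fin n → ZMod p) → ℕ) := by
  intro v w h
  ext i
  have := congrArg (dgt W · i) h
  simp only [vcode, dgt_evd fun k _ => lt_of_lt_of_le (entV_lt _ k) hp, i.2, if_true, entV_fin] at this
  exact ZMod.val_injective _ this

theorem dgt_mcode [NeZero p] {W m : ℕ} (hp : p ≤ 2 ^ W) (hm : n ≤ m)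
    (M : Matrix (Fin n) (Fin n) (ZMod p)) {i : ℕ} (hi : i < m) (j : ℕ) :
    dgt W (mcode W m M) (m * j + i) = ent M i j := by
  rw [mcode, dgt_evd fun k _ => lt_of_lt_of_le (ent_lt _ _ _) hp, Nat.mul_add_mod,
    Nat.mod_eq_of_lt hi, Nat.mul_add_div (by omega), Nat.div_eq_of_lt hi, add_zero]
  split_ifs with h
  · rfl
  · rw [ent, dif_neg]
    rintro ⟨-, hj⟩
    have := Nat.mul_le_mul_left m (show j + 1 ≤ m by omega)
    rw [Nat.mul_succ] at this; omega

theorem mcode_inj [NeZero p] {W m : ℕ} (hp : p ≤ 2 ^ W) (hm : n ≤ m) :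
    Function.Injective (mcode W m : Matrix (Fin n) (Fin n) (ZMod p) → ℕ) := by
  intro v w h
  ext i j
  have := congrArg (dgt W · (m * j + i)) h
  simp only [dgt_mcode hp hm _ (lt_of_lt_of_le i.2 hm), ent_fin] at this
  exact ZMod.val_injective _ this

theorem mcode_lt [NeZero p] {W m : ℕ} (hp : p ≤ 2 ^ W) (M : Matrix (Fin n) (Fin n) (ZMod p)) :
    mcode W m M < 2 ^ (W * (m * m)) := evd_lt fun _ _ => lt_of_lt_of_le (ent_lt _ _ _) hp

theorem mcode_one [Fact (1 < p)] {W m : ℕ} (hW : 0 < W) (hp : p ≤ 2 ^ W) (hm : n ≤ m) (h2 : 1 ≤ m) :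
    mcode W m (1 : Matrix (Fin n) (Fin n) (ZMod p)) = ones (W * (m + 1)) n := by
  have : NeZero p := ⟨by have := Fact.out (p := 1 < p); omega⟩
  rw [ones_eq (by nlinarith)]
  refine (eq_evd hW (fun _ _ => lt_of_lt_of_le (ent_lt _ _ _) hp) fun k => ?_).symm
  have h1 := dgt_dgt W (m + 1) (evd (W * (m + 1)) n fun _ => 1) (k / (m + 1)) (k % (m + 1))
  rw [if_pos (Nat.mod_lt _ (by omega)), Nat.div_add_mod, dgt_evd fun _ _ =>
    Nat.one_lt_two_pow (by nlinarith)] at h1
  have h3 : dgt W 1 (k % (m + 1)) = if k % (m + 1) = 0 then 1 else 0 := by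
    have := dgt_evd (W := W) (n := 1) (f := fun _ => 1) (fun _ _ => Nat.one_lt_two_pow (by omega))
      (k % (m + 1))
    simpa [evd] using this
  have h4 : (k % m < n ∧ k / m < n ∧ k % m = k / m) ↔ (k / (m + 1) < n ∧ k % (m + 1) = 0) := by
    constructor
    · rintro ⟨h5, -, h6⟩
      have : k = (m + 1) * (k % m) := by
        have := Nat.div_add_mod k m
        rw [← h6] at this; linarith
      generalize k % m = t at this h5
      rw [this, Nat.mul_div_cancel_left _ (by omega), Nat.mul_mod_right]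
      exact ⟨h5, rfl⟩
    · rintro ⟨h5, h6⟩
      have h7 := Nat.div_add_mod k (m + 1)
      set t := k / (m + 1)
      have : k = m * t + t := by linarith
      rw [this, Nat.mul_add_mod, Nat.mod_eq_of_lt (by omega), Nat.mul_add_div (by omega),
        Nat.div_eq_of_lt (by omega)]
      omega
  rw [← h1]
  by_cases h5 : k / (m + 1) < n ∧ k % (m + 1) = 0
  · obtain ⟨h6, h7, h8⟩ := h4.2 h5
    have : k < m * m := by
      have := Nat.div_add_mod k m
      have := Nat.mul_le_mul_left m (show k / m + 1 ≤ m by omega)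
      rw [Nat.mul_succ] at this; omega
    rw [if_pos h5.1, h3, if_pos h5.2, if_pos this, ent, dif_pos ⟨h6, h7⟩, Matrix.one_apply,
      if_pos (Fin.ext h8), ZMod.val_one]
  · have : ent (1 : Matrix (Fin n) (Fin n) (ZMod p)) (k % m) (k / m) = 0 := by
      unfold ent
      split_ifs with h
      · rw [Matrix.one_apply, if_neg fun e => h5 (h4.1 ⟨h.1, h.2, Fin.val_eq_of_eq e⟩), ZMod.val_zero]
      · rfl
    rw [this, ite_self]
    split_ifs with h
    · rw [h3, if_neg (by tauto)]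
    · simp [dgt]

theorem exists_mcode [NeZero p] {W m c : ℕ} (hW : 0 < W) (h1 : c < 2 ^ (W * (m * m)))
    (h : ∀ i j, i < m → j < m → dgt W c (m * j + i) < p ∧ (i < n ∧ j < n ∨ dgt W c (m * j + i) = 0)) :
    ∃ M : Matrix (Fin n) (Fin n) (ZMod p), mcode W m M = c := by
  refine ⟨Matrix.of fun i j => (dgt W c (m * j + i) : ℕ), ?_⟩
  rw [evd_dgt hW h1, mcode]
  refine evd_congr fun k hk => ?_
  rw [← evd_dgt hW h1]
  have hm : 0 < m := Nat.pos_of_ne_zero (by rintro rfl; simp at hk)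
  have := h (k % m) (k / m) (Nat.mod_lt _ hm) (Nat.div_lt_of_lt_mul hk)
  rw [Nat.div_add_mod] at this
  unfold ent
  split_ifs with h2
  · simp only [Matrix.of_apply, Nat.div_add_mod, ZMod.val_natCast, Nat.mod_eq_of_lt this.1]
  · exact (this.2.resolve_left h2).symm

theorem exists_vcode [NeZero p] {W c : ℕ} (hW : 0 < W) (h1 : c < 2 ^ (W * n))
    (h : ∀ i, i < n → dgt W c i < p) : ∃ v : Fin n → ZMod p, vcode W v = c := by
  refine ⟨fun i => (dgt W c i : ℕ), ?_⟩
  rw [evd_dgt hW h1, vcode]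
  refine evd_congr fun k hk => ?_
  rw [← evd_dgt hW h1, entV, dif_pos hk, ZMod.val_natCast, Nat.mod_eq_of_lt (h k hk)]

end mat

/-! ### The field with two elements -/

/-- operations on `n × n` matrices over the field with two elements -/
def ops2 (n : ℕ) : GOps := ⟨ones (n + 2) n, mul2 n (n + 1)⟩

theorem bz_mcode {n m : ℕ} (M : Matrix (Fin n) (Fin n) (ZMod 2)) (q : ℕ) :
    bz (mcode 1 m M) q = if q < m * m then (ent M (q % m) (q / m) : ZMod 2) else 0 :=
  bz_evd (fun _ _ => ent_lt _ _ _) q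

/-- codes of matrices over the field with two elements -/
def mc2 (n : ℕ) : MC (ops2 n) (Matrix (Fin n) (Fin n) (ZMod 2)) where
  code := mcode 1 (n + 1)
  inj := mcode_inj (by norm_num) (by omega)
  code_one := by rw [mcode_one one_pos (by norm_num) (by omega) (by omega), one_mul]; rfl
  code_mul M N := eq_of_bz fun q => by
    rcases Nat.eq_zero_or_pos n with rfl | hn
    · simp [ops2, mul2, mcode, evd, ent]
    show _ = bz (mul2 n (n + 1) _ _) q
    rw [bz_mul2 (by omega) (by omega), bz_mcode, cast_ent_mul]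
    split_ifs with hq
    · refine sum_congr rfl fun j hj => ?_
      rw [mem_range] at hj
      rw [bz_eq_dgt, bz_eq_dgt, dgt_mcode (by norm_num) (by omega) _ (Nat.mod_lt _ (by omega)),
        dgt_mcode (by norm_num) (by omega) _ (by omega)]
    · rfl

/-- test for the code of a matrix -/
def can2 (n c : ℕ) : Bool :=
  Nat.beq (Nat.land c (Nat.mul (ones (n + 1) n) (Nat.sub (Nat.pow 2 n) 1))) c

theorem can2_sound {n : ℕ} (hn : 1 ≤ n) (c : ℕ) (h : can2 n c = true) : ∃ x, (mc2 n).code x = c := by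
  rw [can2, beq_true_iff] at h
  have h : c &&& (ones (n + 1) n * (2 ^ n - 1)) = c := h
  have h1 : 2 ^ n - 1 < 2 ^ (n + 1) := by
    have : 1 ≤ 2 ^ n := Nat.one_le_two_pow
    rw [pow_succ]; omega
  rw [ones_mul (by omega)] at h
  refine exists_mcode one_pos ?_ fun i j hi hj => ⟨dgt_lt _ _ _, ?_⟩
  · rw [← h]
    refine lt_of_le_of_lt Nat.and_le_right (lt_of_lt_of_le (evd_lt fun _ _ => h1) ?_)
    exact Nat.pow_le_pow_right (by norm_num) (by nlinarith)
  · by_contra hc
    push Not at hc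
    apply hc.2
    have h3 := dgt_dgt 1 (n + 1) (evd (n + 1) n fun _ => 2 ^ n - 1) j i
    rw [one_mul, if_pos hi, dgt_evd fun _ _ => h1] at h3
    rw [← h, dgt_land, ← h3]
    split_ifs with h4
    · obtain rfl : i = n := by have := fun h => hc.1 h; omega
      have : dgt 1 (2 ^ i - 1) i = 0 := by
        rw [dgt_eq, one_mul, Nat.div_eq_of_lt (by have : 1 ≤ 2 ^ i := Nat.one_le_two_pow; omega)]
        rfl
      rw [this]; simp
    · simp [dgt]

theorem app2_code {n d : ℕ} (hn : 2 ≤ n) (hd : n ≤ 2 ^ d) (M : Matrix (Fin n) (Fin n) (ZMod 2))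
    (v : Fin n → ZMod 2) : app2 n (n + 1) d ((mc2 n).code M) (vcode 1 v) = vcode 1 (M *ᵥ v) := by
  refine eq_of_bz fun i => ?_
  rw [bz_app2 hn hd _ (by simpa [vcode] using evd_lt (W := 1) (n := n) fun k _ => entV_lt v k), vcode, vcode,
    bz_evd fun k _ => entV_lt _ k, cast_entV_mul]
  split_ifs with hi
  · refine sum_congr rfl fun j hj => ?_
    rw [mem_range] at hj
    rw [bz_evd fun k _ => entV_lt _ k, if_pos hj, bz_eq_dgt]
    exact congrArg (fun x : ℕ => (x : ZMod 2) * _) (dgt_mcode (by norm_num) (by omega) _ (by omega) _)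
  · rfl

/-- An action with injective codes of points. -/
def Act.ofEnc {O : GOps} {Γ : Type*} [Group Γ] (C : GC O Γ) {α : Type*} [MulAction Γ α]
    (app : ℕ → ℕ → ℕ) (enc : α → ℕ) (hi : Function.Injective enc)
    (h : ∀ (g : Γ) x, app (C.code g) (enc x) = enc (g • x)) : Act C α app (fun x => x) where
  Rep v x := v = enc x
  app_ok g v x hv := by rw [hv, h]
  key_iff v w x y hv hw := by rw [hv, hw, hi.eq_iff]

/-- the action on vectors over the field with two elements -/
def act2 (n d : ℕ) (hn : 2 ≤ n) (hd : n ≤ 2 ^ d) :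
    Act (mc2 n).units (Fin n → ZMod 2) (app2 n (n + 1) d) (fun x => x) :=
  Act.ofEnc _ _ (vcode 1) (vcode_inj (by norm_num)) fun g x => app2_code hn hd g x

theorem act2_rep {n d : ℕ} (hn : 2 ≤ n) (hd : n ≤ 2 ^ d) {c : ℕ} (h : Nat.blt c (Nat.pow 2 n) = true) :
    ∃ x, (act2 n d hn hd).Rep c x := by
  obtain ⟨v, hv⟩ := exists_vcode (p := 2) (n := n) (c := c) one_pos
    (by simpa using (blt_true_iff _ _).1 h) fun i _ => dgt_lt _ _ _
  exact ⟨v, hv.symm⟩

/-! ### Odd primes -/

namespace PP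

variable (P : PP)

/-- operations on matrices modulo `p` -/
def ops : GOps := ⟨ones (P.W * (P.n + 1)) P.n, P.mul P.n⟩

variable {P}

theorem ok_spec (h : P.ok = true) : 2 ≤ P.W ∧ 0 < P.n ∧ P.p ≤ 2 ^ P.W := by
  simp only [PP.ok, band_eq, Bool.and_eq_true, ble_true_iff, blt_true_iff, Nat.pow_eq] at h
  exact ⟨h.1, h.2.1, h.2.2.2.1⟩

/-- codes of matrices modulo `p` -/
def mc [Fact (1 < P.p)] (h : P.ok = true) : MC P.ops (Matrix (Fin P.n) (Fin P.n) (ZMod P.p)) :=
  have : NeZero P.p := ⟨by have := Fact.out (p := 1 < P.p); omega⟩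
  { code := mcode P.W P.n
    inj := mcode_inj (ok_spec h).2.2 le_rfl
    code_one := mcode_one (by have := ok_spec h; omega) (ok_spec h).2.2 le_rfl (ok_spec h).2.1
    code_mul := fun M N => by
      refine Eq.trans (evd_congr fun q _ => ?_) (mul_evd h P.n (ent_lt M) (ent_lt N)).symm
      exact eq_mod_of_cast (ent_lt _ _ _) (by rw [cast_ent_mul]; simp) }

variable (P) in
/-- test for the code of a vector -/
def canV (c : ℕ) : Bool :=
  band (Nat.blt c (Nat.pow 2 (Nat.mul P.W P.n))) (allLt P.n fun i =>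
    Nat.blt (Nat.land (Nat.shiftRight c (Nat.mul P.W i)) (Nat.sub (Nat.pow 2 P.W) 1)) P.p)

variable (P) in
/-- test for the code of a matrix -/
def can (c : ℕ) : Bool :=
  band (Nat.blt c (Nat.pow 2 (Nat.mul P.W (Nat.mul P.n P.n)))) (allLt P.n fun j =>
    fH (Nat.land (Nat.shiftRight c (Nat.mul (Nat.mul P.W P.n) j))
      (Nat.sub (Nat.pow 2 (Nat.mul P.W P.n)) 1)) P.canV)

theorem canV_spec {c : ℕ} (h : P.canV c = true) :
    c < 2 ^ (P.W * P.n) ∧ ∀ i, i < P.n → dgt P.W c i < P.p := by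
  simp only [canV, band_eq, Bool.and_eq_true, blt_true_iff, allLt_iff] at h
  exact h

theorem can_sound [Fact (1 < P.p)] (h : P.ok = true) (c : ℕ) (hc : P.can c = true) :
    ∃ x, (mc h).code x = c := by
  have : NeZero P.p := ⟨by have := Fact.out (p := 1 < P.p); omega⟩
  simp only [can, band_eq, Bool.and_eq_true, blt_true_iff, allLt_iff, fH_eq] at hc
  refine exists_mcode (by have := ok_spec h; omega) hc.1 fun i j hi hj => ⟨?_, Or.inl ⟨hi, hj⟩⟩
  have := (canV_spec (hc.2 j hj)).2 i hi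
  have h2 := dgt_dgt P.W P.n c j i
  rw [if_pos hi] at h2
  rw [← h2]; exact this

theorem mul1_code [Fact (1 < P.p)] (h : P.ok = true) (M : Matrix (Fin P.n) (Fin P.n) (ZMod P.p))
    (v : Fin P.n → ZMod P.p) : P.mul 1 ((mc h).code M) (vcode P.W v) = vcode P.W (M *ᵥ v) := by
  have : NeZero P.p := ⟨by have := Fact.out (p := 1 < P.p); omega⟩
  have h1 := mul_evd h 1 (a := ent M) (b := fun i _ => entV v i) (ent_lt M) fun i _ => entV_lt v i
  rw [mul_one, evd_congr (n := P.n) (f := fun q => entV v (q % P.n)) (g := entV v)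
    fun q hq => by rw [Nat.mod_eq_of_lt hq]] at h1
  refine h1.trans (evd_congr fun q hq => ?_)
  rw [Nat.mod_eq_of_lt hq]
  exact (eq_mod_of_cast (entV_lt _ _) (by rw [cast_entV_mul]; simp)).symm

theorem app_code [Fact (1 < P.p)] (h : P.ok = true) (hk : P.n ≤ P.k)
    (hb : P.n * ((P.p - 1) * (P.p - 1)) < 2 ^ P.W) (M : Matrix (Fin P.n) (Fin P.n) (ZMod P.p))
    (v : Fin P.n → ZMod P.p) : P.app ((mc h).code M) (vcode P.W v) = vcode P.W (M *ᵥ v) := by
  have : NeZero P.p := ⟨by have := Fact.out (p := 1 < P.p); omega⟩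
  refine (app_evd h hk hb (ent_lt M) (entV_lt v)).trans (evd_congr fun q _ => ?_)
  exact (eq_mod_of_cast (entV_lt _ _) (by rw [cast_entV_mul]; simp)).symm

/-- the action on vectors, by a loop -/
def actL [Fact (1 < P.p)] (h : P.ok = true) :
    Act (mc h).units (Fin P.n → ZMod P.p) (P.mul 1) (fun x => x) :=
  have : NeZero P.p := ⟨by have := Fact.out (p := 1 < P.p); omega⟩
  Act.ofEnc _ _ (vcode P.W) (vcode_inj (ok_spec h).2.2) fun g x => mul1_code h g x

/-- the action on vectors, by one multiplication -/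
def actK [Fact (1 < P.p)] (h : P.ok = true) (hk : P.n ≤ P.k)
    (hb : P.n * ((P.p - 1) * (P.p - 1)) < 2 ^ P.W) :
    Act (mc h).units (Fin P.n → ZMod P.p) P.app (fun x => x) :=
  have : NeZero P.p := ⟨by have := Fact.out (p := 1 < P.p); omega⟩
  Act.ofEnc _ _ (vcode P.W) (vcode_inj (ok_spec h).2.2) fun g x => app_code h hk hb g x

theorem exists_vec [Fact (1 < P.p)] (h : P.ok = true) {c : ℕ} (hc : P.canV c = true) :
    ∃ x : Fin P.n → ZMod P.p, c = vcode P.W x := by
  have : NeZero P.p := ⟨by have := Fact.out (p := 1 < P.p); omega⟩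
  obtain ⟨v, hv⟩ := exists_vcode (p := P.p) (by have := ok_spec h; omega) (canV_spec hc).1
    (canV_spec hc).2
  exact ⟨v, hv.symm⟩

end PP

/-! ### Products of two coded groups -/

/-- first component of a code -/
def pr1 (B c : ℕ) : ℕ := Nat.land c (Nat.sub (Nat.pow 2 B) 1)
/-- second component of a code -/
def pr2 (B c : ℕ) : ℕ := Nat.shiftRight c B
/-- a pair of codes -/
def pair (B a b : ℕ) : ℕ := Nat.add a (Nat.shiftLeft b B)

theorem pr1_pair {B a : ℕ} (h : a < 2 ^ B) (b : ℕ) : pr1 B (pair B a b) = a := by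
  show (a + b <<< B) &&& (2 ^ B - 1) = a
  rw [Nat.and_two_pow_sub_one_eq_mod, Nat.shiftLeft_eq, Nat.add_mul_mod_self_right, Nat.mod_eq_of_lt h]

theorem pr2_pair {B a : ℕ} (h : a < 2 ^ B) (b : ℕ) : pr2 B (pair B a b) = b := by
  show (a + b <<< B) >>> B = b
  rw [Nat.shiftRight_eq_div_pow, Nat.shiftLeft_eq, Nat.add_mul_div_right _ _ (by positivity),
    Nat.div_eq_of_lt h, zero_add]

theorem pair_pr (B c : ℕ) : pair B (pr1 B c) (pr2 B c) = c := by
  show (c &&& (2 ^ B - 1)) + (c >>> B) <<< B = c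
  rw [Nat.and_two_pow_sub_one_eq_mod, Nat.shiftRight_eq_div_pow, Nat.shiftLeft_eq, mul_comm,
    Nat.mod_add_div]

/-- operations on pairs of codes -/
def prodOps (B : ℕ) (O₁ O₂ : GOps) : GOps :=
  ⟨pair B O₁.one O₂.one, fun x y => pair B (O₁.mul (pr1 B x) (pr1 B y)) (O₂.mul (pr2 B x) (pr2 B y))⟩

section prod

variable {O₁ O₂ : GOps} {Γ₁ Γ₂ : Type*} [Group Γ₁] [Group Γ₂]

/-- codes for a product of groups -/
def GC.prod (C₁ : GC O₁ Γ₁) (C₂ : GC O₂ Γ₂) (B : ℕ) (h : ∀ g, C₁.code g < 2 ^ B) :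
    GC (prodOps B O₁ O₂) (Γ₁ × Γ₂) where
  code g := pair B (C₁.code g.1) (C₂.code g.2)
  inj g g' e := Prod.ext (C₁.inj (by simpa [pr1_pair (h _)] using congrArg (pr1 B) e))
    (C₂.inj (by simpa [pr2_pair (h _)] using congrArg (pr2 B) e))
  code_one := by simp [prodOps, C₁.code_one, C₂.code_one]
  code_mul g g' := by simp [prodOps, C₁.code_mul, C₂.code_mul, pr1_pair (h _), pr2_pair (h _)]

variable {C₁ : GC O₁ Γ₁} {C₂ : GC O₂ Γ₂} {B : ℕ} {h : ∀ g, C₁.code g < 2 ^ B}

theorem GC.prod_fst (g : Γ₁ × Γ₂) :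
    C₁.code (MonoidHom.fst Γ₁ Γ₂ g) = pr1 B ((C₁.prod C₂ B h).code g) := (pr1_pair (h _) _).symm

theorem GC.prod_snd (g : Γ₁ × Γ₂) :
    C₂.code (MonoidHom.snd Γ₁ Γ₂ g) = pr2 B ((C₁.prod C₂ B h).code g) := (pr2_pair (h _) _).symm

theorem GC.mem_prod {R : ℕ → ℕ} {M : ℕ} {H₁ : Subgroup Γ₁} {H₂ : Subgroup Γ₂}
    (h₁ : C₁.Mem (fun i => pr1 B (R i)) H₁ M) (h₂ : C₂.Mem (fun i => pr2 B (R i)) H₂ M) :
    (C₁.prod C₂ B h).Mem R (H₁.prod H₂) M := by
  intro i hi
  obtain ⟨a, ha, ea⟩ := h₁ i hi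
  obtain ⟨b, hb, eb⟩ := h₂ i hi
  exact ⟨(a, b), ⟨ha, hb⟩, by
    show pair B (C₁.code a) (C₂.code b) = _
    rw [ea, eb, pair_pr]⟩

end prod

/-! ### Transfer along a homomorphism -/

section hom

variable {O O' : GOps} {Γ Γ' : Type*} [Group Γ] [Group Γ'] {C : GC O Γ} {C' : GC O' Γ'}
  {f : Γ →* Γ'} {pr : ℕ → ℕ} (hf : ∀ g, C'.code (f g) = pr (C.code g)) {R : ℕ → ℕ}

include hf

theorem GC.In.map {H : Subgroup Γ} {c : ℕ} (h : C.In H c) : C'.In (H.map f) (pr c) := by
  obtain ⟨g, hg, rfl⟩ := h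
  exact ⟨f g, ⟨g, hg, rfl⟩, hf g⟩

theorem GC.In.el_map {H : Subgroup Γ} {c : ℕ} (h : C.In H c) : C'.el (pr c) = f (C.el c) := by
  obtain ⟨g, -, rfl⟩ := h
  rw [← hf, GC.el_code, GC.el_code]

theorem GC.Mem.map {H : Subgroup Γ} {M : ℕ} (h : C.Mem R H M) :
    C'.Mem (fun i => pr (R i)) (H.map f) M := fun i hi => (h i hi).map hf

theorem GC.Mem.gen_map {H : Subgroup Γ} {M : ℕ} (h : C.Mem R H M) :
    C'.gen (fun i => pr (R i)) M = (C.gen R M).map f := by
  rw [GC.gen, GC.gen, MonoidHom.map_closure]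
  congr 1
  ext g
  constructor
  · rintro ⟨i, hi, rfl⟩; exact ⟨_, ⟨i, hi, rfl⟩, ((h i hi).el_map hf).symm⟩
  · rintro ⟨_, ⟨i, hi, rfl⟩, rfl⟩; exact ⟨i, hi, ((h i hi).el_map hf).symm⟩

theorem GC.Mem.wd_map {H : Subgroup Γ} {M w : ℕ} (h : C.Mem R H M) (hw : subW M w = true) :
    C'.wd (fun i => pr (R i)) w = f (C.wd R w) := by
  have key : ∀ n w, w ≤ n → subWF M n w = true → C'.wd (fun i => pr (R i)) w = f (C.wd R w) := by
    intro n
    induction n with
    | zero =>
      intro w hw _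
      obtain rfl : w = 0 := by omega
      simp [GC.wd_zero]
    | succ n ih =>
      intro w hw hs
      by_cases h0 : w = 0
      · subst h0; simp [GC.wd_zero]
      · have hs : bor (Nat.beq w 0) (band (tb M (hd w)) (force (tl w) (subWF M n))) = true := hs
        simp only [bor_eq, band_eq, force_eq, Bool.or_eq_true, Bool.and_eq_true, beq_true_iff, h0,
          false_or] at hs
        rw [GC.wd_pos h0, GC.wd_pos h0, map_mul, ih _ (GC.tl_le h0 hw) hs.2, (h.get hs.1).el_map hf]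
  exact key w w le_rfl hw

/-- a decomposition passes to the image -/
theorem GC.dec_map {MH MT MK M : ℕ} {Q : List ℕ} (hH : C.Mem R ⊤ MH) (hT : C.Mem R ⊤ MT)
    (hK : C.Mem R ⊤ MK) (hM : C.Mem R ⊤ M) (hQ : allL Q (subW M) = true)
    (h : Dec (C.gen R MH) (C.gen R MT) (C.wds R Q) (C.gen R MK)) :
    Dec (C'.gen (fun i => pr (R i)) MH) (C'.gen (fun i => pr (R i)) MT)
      (C'.wds (fun i => pr (R i)) Q) (C'.gen (fun i => pr (R i)) MK) := by
  rw [hH.gen_map hf, hT.gen_map hf, hK.gen_map hf]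
  have : C'.wds (fun i => pr (R i)) Q = f '' C.wds R Q := by
    ext g
    constructor
    · rintro ⟨w, hw, rfl⟩
      exact ⟨_, ⟨w, hw, rfl⟩, (hM.wd_map hf ((allL_iff _ _).1 hQ w hw)).symm⟩
    · rintro ⟨_, ⟨w, hw, rfl⟩, rfl⟩
      exact ⟨w, hw, (hM.wd_map hf ((allL_iff _ _).1 hQ w hw)).symm⟩
  rw [this]; exact h.map f

omit hf in
/-- a type with the action through a homomorphism -/
def Via (_ : Γ →* Γ') (α : Type*) : Type _ := α

omit hf in
instance viaAction (f : Γ →* Γ') (α : Type*) [MulAction Γ' α] : MulAction Γ (Via f α) :=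
  MulAction.compHom α f

/-- an action through a homomorphism -/
def Act.via {α : Type*} [MulAction Γ' α] {app : ℕ → ℕ → ℕ} {key : ℕ → ℕ} (A : Act C' α app key) :
    Act C (Via f α) (fun c v => app (pr c) v) key where
  Rep := A.Rep
  app_ok g v x h := by rw [← hf]; exact A.app_ok (f g) v x h
  key_iff := A.key_iff

end hom

/-! ### Orbits of a central element -/

open scoped Pointwise

/-- the least key in the orbit under `z` -/
def keyL (app : ℕ → ℕ → ℕ) (key : ℕ → ℕ) (z m : ℕ) : ℕ → ℕ :=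
  Nat.rec (motive := fun _ => ℕ → ℕ) key (fun _ ih v => force (key v) fun a =>
    force (fH (app z v) ih) fun b => bif' (Nat.ble a b) a b) m

/-- The action on the orbits of a central element of order dividing `m + 1`. -/
def Act.line {O : GOps} {Γ : Type*} [Group Γ] {C : GC O Γ} {α : Type*} [MulAction Γ α]
    {app : ℕ → ℕ → ℕ} {key : ℕ → ℕ} (A : Act C α app key) (z : Γ) (zc m : ℕ) (hc : C.code z = zc)
    (hz : ∀ g, g * z = z * g) (hm : z ^ (m + 1) = 1) :
    Act C (Set α) app (keyL app key zc m) where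
  Rep v X := ∃ x, A.Rep v x ∧ X = {y | ∃ i : ℕ, y = z ^ i • x}
  app_ok g v X := by
    rintro ⟨x, hx, rfl⟩
    refine ⟨_, A.app_ok g v x hx, ?_⟩
    have : ∀ i : ℕ, g • z ^ i • x = z ^ i • g • x := fun i => by
      rw [← mul_smul, ← mul_smul, (Commute.pow_right (hz g) i).eq]
    ext y
    constructor
    · rintro ⟨_, ⟨i, rfl⟩, rfl⟩; exact ⟨i, this i⟩
    · rintro ⟨i, rfl⟩; exact ⟨_, ⟨i, rfl⟩, this i⟩
  key_iff := by
    have k1 : ∀ m v x, A.Rep v x → (∃ i ≤ m, ∃ w, A.Rep w (z ^ i • x) ∧ keyL app key zc m v = key w) ∧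
        ∀ i ≤ m, ∀ w, A.Rep w (z ^ i • x) → keyL app key zc m v ≤ key w := by
      intro m
      induction m with
      | zero =>
        intro v x hx
        refine ⟨⟨0, le_rfl, v, by simpa using hx, rfl⟩, fun i hi w hw => ?_⟩
        obtain rfl : i = 0 := by omega
        exact le_of_eq ((A.key_iff _ _ _ _ hx hw).2 (by simp))
      | succ m ih =>
        intro v x hx
        have e : keyL app key zc (m + 1) v = min (key v) (keyL app key zc m (app zc v)) := by
          show force (key v) (fun a => force (fH (app zc v) (keyL app key zc m)) fun b =>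
            bif' (Nat.ble a b) a b) = _
          simp only [force_eq, fH_eq, bif'_eq, ble_true_iff, min_def]
        obtain ⟨⟨i, hi, w, hw, h1⟩, h2⟩ := ih _ _ (hc ▸ A.app_ok z v x hx)
        rw [e]
        refine ⟨?_, fun j hj w hw => ?_⟩
        · rcases min_choice (key v) (keyL app key zc m (app zc v)) with h | h
          · exact ⟨0, by omega, v, by simpa using hx, h⟩
          · exact ⟨i + 1, by omega, w, by rwa [pow_succ, mul_smul], h.trans h1⟩
        · rcases j with _ | j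
          · exact (min_le_left _ _).trans (le_of_eq ((A.key_iff _ _ _ _ hx hw).2 (by simp)))
          · exact (min_le_right _ _).trans (h2 j (by omega) w (by rwa [← mul_smul, ← pow_succ]))
    have k2 : ∀ (x : α) (i j : ℕ), ∃ k ≤ m, z ^ k • z ^ i • x = z ^ j • x := by
      intro x i j
      refine ⟨(j + m * i) % (m + 1), Nat.le_of_lt_succ (Nat.mod_lt _ (by omega)), ?_⟩
      rw [← pow_eq_pow_mod _ hm, ← mul_smul, ← pow_add, show j + m * i + i = j + (m + 1) * i by ring,
        pow_add, pow_mul, hm, one_pow, mul_one]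
    rintro v w _ _ ⟨x, hx, rfl⟩ ⟨y, hy, rfl⟩
    obtain ⟨⟨i, -, v', hv', h1⟩, h2⟩ := k1 m v x hx
    obtain ⟨⟨j, -, w', hw', h3⟩, h4⟩ := k1 m w y hy
    constructor
    · intro h
      have := (A.key_iff _ _ _ _ hv' hw').1 (h1.symm.trans (h.trans h3))
      ext u
      constructor
      · rintro ⟨k, rfl⟩
        obtain ⟨l, -, e⟩ := k2 x i k
        exact ⟨l + j, by rw [← e, this, pow_add, mul_smul]⟩
      · rintro ⟨k, rfl⟩
        obtain ⟨l, -, e⟩ := k2 y j k
        exact ⟨l + i, by rw [← e, ← this, pow_add, mul_smul]⟩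
    · intro h
      apply le_antisymm
      · obtain ⟨k, e⟩ : z ^ j • y ∈ {u | ∃ i : ℕ, u = z ^ i • x} := h ▸ ⟨j, rfl⟩
        obtain ⟨l, hl, e'⟩ := k2 x 0 k
        rw [h3]
        exact h2 l hl w' (by rwa [← e, pow_zero, one_smul, eq_comm] at e' ▸ hw')
      · obtain ⟨k, e⟩ : z ^ i • x ∈ {u | ∃ i : ℕ, u = z ^ i • y} := h.symm ▸ ⟨i, rfl⟩
        obtain ⟨l, hl, e'⟩ := k2 y 0 k
        rw [h1]
        exact h4 l hl v' (by rwa [← e, pow_zero, one_smul, eq_comm] at e' ▸ hv')

end

end CfsgH6
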