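/-
Glue lemmas for generated double coset certificates.
-/
import Cfsg.Agent.H6.MatC

set_option autoImplicit false

namespace CfsgH6

open CfsgH5 Subgroup MulAction

noncomputable section

/-- widens `2 ^ d` fields of width `w` to width `W` -/
def spread (w W d x : ℕ) : ℕ :=
  Nat.rec (motive := fun _ => ℕ → ℕ) (fun x => x) (fun s ih x =>
    force (Nat.pow 2 s) fun e => force (Nat.mul (ones (Nat.mul (Nat.mul W 2) e) (Nat.pow 2 (Nat.sub (Nat.pred d) s)))
      (Nat.sub (Nat.pow 2 (Nat.mul w e)) 1)) fun lo =>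
      fH (Nat.lor (Nat.land x lo) (Nat.shiftLeft (Nat.land (Nat.shiftRight x (Nat.mul w e)) lo)
        (Nat.mul W e))) ih) d x

theorem low_step {s c c' n n' : ℕ} (h : s * c' ≤ c) (h' : n' ≤ c')
    (e : Nat.ble n (Nat.mul s n') = true) : n ≤ c :=
  ((ble_true_iff _ _).1 e).trans ((Nat.mul_le_mul_left s h').trans h)

theorem up_low {s c c' n n' : ℕ} (h : c ≤ n) (h' : n' ≤ c')
    (e : Nat.ble n (Nat.mul s n') = true) : c ≤ s * c' :=
  h.trans (((ble_true_iff _ _).1 e).trans (Nat.mul_le_mul_left s h'))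

theorem up_step {s c c' n n' : ℕ} (h : s * c' ≤ c) (h' : c ≤ n)
    (e : band (Nat.blt 0 s) (Nat.ble n (Nat.mul s n')) = true) : c' ≤ n' := by
  simp only [band_eq, Bool.and_eq_true, blt_true_iff, ble_true_iff, Nat.mul_eq] at e
  exact Nat.le_of_mul_le_mul_left (h.trans (h'.trans e.2)) e.1

theorem up_mul {s c c' n n' : ℕ} (h : c ≤ s * c') (h' : c' ≤ n')
    (e : Nat.ble (Nat.mul s n') n = true) : c ≤ n :=
  h.trans ((Nat.mul_le_mul_left s h').trans ((ble_true_iff _ _).1 e))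

theorem dvd_step {m c c' n n' : ℕ} (h : c ∣ m * c') (h' : c' ∣ n')
    (e : Nat.beq (Nat.mul m n') n = true) : c ∣ n :=
  h.trans (((beq_true_iff _ _).1 e) ▸ Nat.mul_dvd_mul_left m h')

theorem le_of_dvd' {c n : ℕ} (h : c ∣ n) (e : Nat.blt 0 n = true) : c ≤ n :=
  Nat.le_of_dvd ((blt_true_iff _ _).1 e) h

theorem forall_app {α : Type*} {P : α → Prop} {L L' : List α} (h : ∀ p ∈ L, P p)
    (h' : ∀ p ∈ L', P p) : ∀ p ∈ L ++ L', P p := List.forall_mem_append.2 ⟨h, h'⟩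

theorem forall_cons {α : Type*} {P : α → Prop} {a : α} {L : List α} (h : P a)
    (h' : ∀ p ∈ L, P p) : ∀ p ∈ a :: L, P p := List.forall_mem_cons.2 ⟨h, h'⟩

theorem forall_nil {α : Type*} {P : α → Prop} : ∀ p ∈ ([] : List α), P p := by simp

variable {O : GOps} {Γ : Type*} [Group Γ] {C : GC O Γ} {R : ℕ → ℕ}

theorem GC.card_gen_zero : Nat.card (C.gen R 0) ∣ 1 := by rw [GC.gen_zero]; simp

theorem GC.Mem.lor' {H : Subgroup Γ} {M M' M'' : ℕ} (h : C.Mem R H M) (h' : C.Mem R H M')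
    (e : subM M'' (Nat.lor M M') = true) : C.Mem R H M'' := (h.lor h').sub e

theorem GC.card_ins {M M' t n : ℕ} (h : Nat.card (C.gen R (ins M t)) ∣ n)
    (e : Nat.beq (ins M t) M' = true) : Nat.card (C.gen R M') ∣ n := ((beq_true_iff _ _).1 e) ▸ h

theorem le_next {α : Type*} [MulAction Γ α] {N A K : Subgroup Γ} {β : α} {n : ℕ}
    (h : A ⊓ stabilizer Γ β = K ∧ (orbit A β).ncard = n) (h1 : N ≤ A) (h2 : N ≤ stabilizer Γ β) :
    N ≤ K := h.1 ▸ le_inf h1 h2

/-- the roots of a forest, as used for a double coset -/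
theorem GC.dc_piece' {H T K : Subgroup Γ} {S : Set Γ} {g t : Γ} {L : List (ℕ × ℕ × ℕ)}
    (hd : Dec H T (C.wds R (L.map Prod.fst)) K) (hT : ∀ τ ∈ T, g * τ * g⁻¹ ∈ H)
    (hK : ∀ κ ∈ K, t⁻¹ * κ * t ∈ H)
    (hR : ∀ p ∈ L, C.wd R p.1 ∈ H ∧ g * C.wd R p.1 * t ∈ DCs H S) :
    ∀ x ∈ DC1 H g, x * t ∈ DCs H S :=
  dc_piece hd hT hK (GC.wds_rel (P := fun ρ => g * ρ * t ∈ DCs H S) fun p hp => (hR p hp).2)

/-- a normal subgroup of `G` inside a simple subgroup `H` that is not normal is trivial -/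
theorem core_of_simple {G H : Subgroup Γ} (hH : IsSimpleGroup H) (hHG : H ≤ G) (hn : ¬ NormBy G H)
    (N : Subgroup Γ) (h : N ≤ H) (hN : NormBy G N) : N ≤ ⊥ := by
  have : (N.subgroupOf H).Normal := ⟨fun a ha g => hN g (hHG g.2) a ha⟩
  rcases this.eq_bot_or_eq_top with h1 | h1
  · intro x hx
    have : (⟨x, h hx⟩ : H) ∈ N.subgroupOf H := hx
    rw [h1, mem_bot] at this
    exact mem_bot.2 (congrArg Subtype.val this)
  · exact absurd (le_antisymm h (subgroupOf_eq_top.1 h1) ▸ hN) hn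

theorem card_map_le [Finite Γ] {Γ' : Type*} [Group Γ'] (f : Γ →* Γ') (H : Subgroup Γ) :
    Nat.card (H.map f) ≤ Nat.card H := Nat.le_of_dvd Nat.card_pos (card_map_dvd H f)

theorem ncard_DC1_map [Finite Γ] {Γ' : Type*} [Group Γ'] [Finite Γ'] (f : Γ →* Γ')
    {H T : Subgroup Γ} {H' T' : Subgroup Γ'} (eH : H' = H.map f) (eT : T' = T.map f) {g : Γ'}
    (hTH : T ≤ H) (hT : ∀ τ ∈ T', g * τ * g⁻¹ ∈ H') {m : ℕ}
    (hm : Nat.card H ≤ m * Nat.card T) : (DC1 H' g).ncard ≤ Nat.card H' * m := by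
  refine (ncard_DC1_le hT).trans (Nat.mul_le_mul_left _ (le_trans ?_ (relIndex_le hTH hm)))
  subst eH eT
  rw [← relIndex_comap]
  exact relIndex_le_of_le_left (le_comap_map f T) index_ne_zero_of_finite

/-- removing a central kernel -/
theorem card_map_mul_le [Finite Γ] {Γ' : Type*} [Group Γ'] (f : Γ →* Γ') {H Z : Subgroup Γ}
    (hZ : Z ≤ H) (hf : Z ≤ f.ker) : Nat.card Z * Nat.card (H.map f) ≤ Nat.card H := by
  have h1 := card_mul_index (f.ker.subgroupOf H)
  have h2 : (f.ker.subgroupOf H).index = Nat.card (H.map f) := by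
    rw [← relIndex, relIndex_ker]
  rw [← h1, h2]
  refine Nat.mul_le_mul_right _ ?_
  rw [← Nat.card_congr (subgroupOfEquivOfLe hZ).toEquiv]
  exact card_le_of_le fun x hx => hf hx

/-- a subgroup of a product whose projections have the same order as itself -/
theorem equiv_of_prod {A B : Type*} [Group A] [Group B] [Finite A] [Finite B] (D : Subgroup (A × B))
    (h1 : Nat.card D ≤ Nat.card (D.map (MonoidHom.fst A B)))
    (h2 : Nat.card D ≤ Nat.card (D.map (MonoidHom.snd A B))) :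
    Nonempty (D.map (MonoidHom.fst A B) ≃* D.map (MonoidHom.snd A B)) := by
  have key : ∀ {X : Type _} [Group X] [Finite X] (f : A × B →* X), Nat.card D ≤ Nat.card (D.map f) →
      Nonempty (D ≃* D.map f) := by
    intro X _ _ f h
    exact ⟨MulEquiv.ofBijective (f.subgroupMap D) ((Nat.bijective_iff_surjective_and_card _).2
      ⟨f.subgroupMap_surjective D, le_antisymm h (card_map_le f D)⟩)⟩
  obtain ⟨e1⟩ := key _ h1
  have key' : ∀ {X : Type _} [Group X] [Finite X] (f : A × B →* X), Nat.card D ≤ Nat.card (D.map f) →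
      Nonempty (D ≃* D.map f) := by
    intro X _ _ f h
    exact ⟨MulEquiv.ofBijective (f.subgroupMap D) ((Nat.bijective_iff_surjective_and_card _).2
      ⟨f.subgroupMap_surjective D, le_antisymm h (card_map_le f D)⟩)⟩
  obtain ⟨e2⟩ := key' _ h2
  exact ⟨e1.symm.trans e2⟩

end

end CfsgH6
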