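/-
Normal closures through coprime orders, and more glue for generated certificates.
-/
import Cfsg.Agent.H6.DCc

set_option autoImplicit false

namespace CfsgH6

open CfsgH5 Subgroup MulAction

noncomputable section

variable {O : GOps} {Γ : Type*} [Group Γ] {C : GC O Γ} {R : ℕ → ℕ}

theorem mem_of_coprime {G N : Subgroup Γ} (hn : NormBy G N) {a b : Γ} (ha : a ∈ N) (hb : b ∈ G)
    {m n : ℕ} (h1 : (a * b) ^ m = 1) (h2 : b ^ n = 1) (h : Nat.gcd m n = 1) : b ∈ N := by
  have key : ∀ k : ℕ, (a * b) ^ k * (b ^ k)⁻¹ ∈ N := by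
    intro k
    induction k with
    | zero => simpa using N.one_mem
    | succ k ih =>
      have : (a * b) ^ (k + 1) * (b ^ (k + 1))⁻¹ = a * (b * ((a * b) ^ k * (b ^ k)⁻¹) * b⁻¹) := by
        rw [pow_succ' (a * b), pow_succ' b]; group
      rw [this]; exact N.mul_mem ha (hn b hb _ ih)
  have h3 : b ^ m ∈ N := by simpa [h1] using key m
  have h4 : b ^ (Nat.gcd m n) ∈ N := by
    rw [← zpow_natCast, Nat.gcd_eq_gcd_ab, zpow_add, zpow_mul, zpow_mul, zpow_natCast, zpow_natCast,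
      h2, one_zpow, mul_one]
    exact N.zpow_mem h3 _
  rwa [h, pow_one] at h4

/-- entries `(e, m, n)`: the register `hd e` has order dividing `n`, and its product with the word
`tl e` has order dividing `m` -/
def ncop (O : GOps) (R : ℕ → ℕ) (MG MN : ℕ) (L : List (ℕ × ℕ × ℕ)) : Bool :=
  allL L fun p => band (tb MG (hd p.1)) <| band (subW MN (tl p.1)) <|
    band (Nat.beq (Nat.gcd p.2.1 p.2.2) 1) <| band (Nat.ble 1 p.2.1) <| band (Nat.ble 1 p.2.2) <|
    band (Nat.beq (fH (force (tl p.1) fun w => evalW2 O R w (force (hd p.1) R)) fun c =>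
      powC O c p.2.1) O.one) (Nat.beq (powC O (force (hd p.1) R) p.2.2) O.one)

theorem GC.Mem.ncop {G N : Subgroup Γ} {MG MN M' : ℕ} {L : List (ℕ × ℕ × ℕ)} (hG : C.Mem R G MG)
    (hN : C.Mem R N MN) (hn : NormBy G N)
    (h : band (ncop O R MG MN L) (subM M' (insL (L.map Prod.fst) MN)) = true) : C.Mem R N M' := by
  simp only [CfsgH6.ncop, band_eq, allL_iff, Bool.and_eq_true, force_eq, fH_eq, beq_true_iff,
    ble_true_iff] at h
  intro i hi
  rcases (testBit_insL _ _ _).1 (subM_sound h.2 hi) with h' | ⟨e, he, rfl⟩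
  · exact hN i h'
  · obtain ⟨p, hp, rfl⟩ := List.mem_map.1 he
    obtain ⟨h1, h2, h3, h4, h5, h6, h7⟩ := h.1 p hp
    have h8 := hG.get h1
    rw [← h8.code_el, hN.evalW2 h2, GC.code_pow _ (by omega), ← C.code_one, C.inj.eq_iff] at h6
    rw [← h8.code_el, GC.code_pow _ (by omega), ← C.code_one, C.inj.eq_iff] at h7
    exact h8.of_mem (mem_of_coprime hn (hN.wd_mem h2) h8.el_mem h6 h7 h3)

theorem GC.Mem.single {N : Subgroup Γ} {z : ℕ} (hv : C.In ⊤ (R z)) (h : C.el (R z) ∈ N) :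
    C.Mem R N (CfsgH6.ins 0 z) := (GC.Mem.zero N).ins (hv.of_mem h)

theorem eq_mul_of {c c' s n n' : ℕ} (h1 : c ≤ n) (h2 : n ≤ c) (h3 : c' ≤ n') (h4 : n' ≤ c')
    (e : Nat.beq n (Nat.mul s n') = true) : c = s * c' := by
  rw [le_antisymm h1 h2, le_antisymm h3 h4]; exact (beq_true_iff _ _).1 e

theorem not_dvd_of {c n q : ℕ} (h1 : c ≤ n) (h2 : n ≤ c)
    (e : bnot (Nat.beq (Nat.mod n q) 0) = true) : ¬ q ∣ c := by
  rw [le_antisymm h1 h2]
  simp only [bnot_eq, Bool.not_eq_true', ← Bool.not_eq_true, beq_true_iff] at e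
  exact fun h => e (Nat.mod_eq_zero_of_dvd h)

theorem ne_bot_of {G : Subgroup Γ} {n : ℕ} (h : n ≤ Nat.card G) (e : Nat.blt 1 n = true) : G ≠ ⊥ := by
  rintro rfl
  rw [blt_true_iff] at e
  simp at h
  omega

theorem GC.gen_pair {x y : Γ} {i j M : ℕ} (hx : C.code x = R i) (hy : C.code y = R j)
    (e : Nat.beq M (CfsgH6.ins (CfsgH6.ins 0 i) j) = true) : closure {x, y} = C.gen R M := by
  rw [(beq_true_iff _ _).1 e, GC.gen_ins, GC.gen_ins, GC.gen_zero, ← hx, ← hy, GC.el_code, GC.el_code,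
    bot_sup_eq, zpowers_eq_closure, zpowers_eq_closure, ← Subgroup.closure_union]
  rfl

/-- registers commute with one register -/
def commL (O : GOps) (R : ℕ → ℕ) (z : ℕ) (L : List ℕ) : Bool :=
  allL L fun e => Nat.beq (O.mul (force (hd e) R) (R z)) (O.mul (R z) (force (hd e) R))

theorem GC.Mem.commL {M z : ℕ} {L : List ℕ} (hM : C.Mem R ⊤ M) (hz : C.In ⊤ (R z))
    (h : band (commL O R z L) (subM M (insL L 0)) = true) :
    ∀ g ∈ C.gen R M, g * C.el (R z) = C.el (R z) * g := by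
  simp only [CfsgH6.commL, band_eq, allL_iff, Bool.and_eq_true, force_eq, beq_true_iff] at h
  have : C.gen R M ≤ centralizer {C.el (R z)} := by
    rw [GC.gen, closure_le]
    rintro _ ⟨i, hi, rfl⟩
    obtain ⟨e, he, rfl⟩ := ((testBit_insL _ _ _).1 (subM_sound h.2 hi)).resolve_left (by simp)
    have h1 := h.1 e he
    rw [← (hM _ hi).code_el, ← hz.code_el, ← C.code_mul, ← C.code_mul, C.inj.eq_iff] at h1
    exact mem_centralizer_singleton_iff.2 h1
  exact fun g hg => mem_centralizer_singleton_iff.1 (this hg)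

end

end CfsgH6
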