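/-
Matrices over an extension field as matrices over the prime field.
-/
import Cfsg.Agent.H6.DCd
import Cfsg.Agent.H5.Mat

set_option autoImplicit false

namespace CfsgH6

open CfsgH5 Subgroup MulAction Matrix

noncomputable section

section blow

variable {F S ι : Type*} [Ring F] [Ring S] [Fintype ι] [DecidableEq ι] {d m : ℕ}
  (φ : F →+* Matrix (Fin d) (Fin d) S) (e : Fin m ≃ ι × Fin d)

/-- replaces each entry by a block -/
def blow : Matrix ι ι F →* Matrix (Fin m) (Fin m) S where
  toFun M := Matrix.of fun p q => φ (M (e p).1 (e q).1) (e p).2 (e q).2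
  map_one' := by
    ext p q
    simp only [of_apply, one_apply, apply_ite φ, map_one, map_zero]
    by_cases h : p = q
    · subst h; simp
    · rw [if_neg h]
      split_ifs with h1
      · exact one_apply_ne fun h2 => h (e.injective (Prod.ext h1 h2))
      · rfl
  map_mul' M N := by
    ext p q
    simp only [of_apply, mul_apply, map_sum, map_mul, Matrix.sum_apply]
    rw [← Equiv.sum_comp e.symm, Fintype.sum_prod_type]
    simp

theorem blow_apply (M : Matrix ι ι F) (p q : Fin m) :
    blow φ e M p q = φ (M (e p).1 (e q).1) (e p).2 (e q).2 := rfl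

theorem blow_inj (h : Function.Injective φ) : Function.Injective (blow φ e) := by
  intro M N hM
  ext i j
  apply h
  ext k l
  have := congrFun (congrFun hM (e.symm (i, k))) (e.symm (j, l))
  simpa [blow_apply] using this

theorem blow_comp {F' : Type*} [Ring F'] (σ : F' →+* F) (M : Matrix ι ι F') :
    blow (φ.comp σ) e M = blow φ e (M.map σ) := rfl

/-- the corresponding map of vectors -/
def blowV (k : Fin d) (v : ι → F) : Fin m → S := fun p => φ (v (e p).1) (e p).2 k

theorem blow_mulVec (k : Fin d) (M : Matrix ι ι F) (v : ι → F) :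
    blow φ e M *ᵥ blowV φ e k v = blowV φ e k (M *ᵥ v) := by
  ext p
  simp only [mulVec, dotProduct, blowV, blow_apply, map_sum, map_mul, Matrix.sum_apply, mul_apply]
  rw [← Equiv.sum_comp e.symm, Fintype.sum_prod_type]
  simp

omit [Fintype ι] [DecidableEq ι] in
theorem blowV_inj {k : Fin d} (h : Function.Injective fun x i => φ x i k) :
    Function.Injective (blowV φ e k : (ι → F) → _) := by
  intro v w hv
  ext i
  apply h
  ext j
  have := congrFun hv (e.symm (i, j))
  simpa [blowV] using this

end blow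

/-- the regular representation of the field with four elements -/
def phi4 : F4 →+* Matrix (Fin 2) (Fin 2) (ZMod 2) where
  toFun a := Matrix.of fun i j => ((Nat.shiftRight (Fin.val (if j = 0 then a else a * F4.w)) i : ℕ) : ZMod 2)
  map_one' := by decide
  map_mul' := by decide
  map_zero' := by decide
  map_add' := by decide

theorem phi4_col : Function.Injective fun x i => phi4 x i 0 := by decide

theorem phi4_inj : Function.Injective phi4 := by decide

theorem exists_equiv_F4 {K : Type*} [Field K] [Fintype K] (h : Fintype.card K = 4) {ω : K}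
    (hω : ω ^ 2 + ω + 1 = 0) : ∃ e : K ≃+* F4, e ω = F4.w := by
  obtain ⟨e⟩ := nonempty_equiv_F4 h
  have h1 : e ω ^ 2 + e ω + 1 = 0 := by simpa using congrArg e hω
  have h2 : ∀ x : F4, x ^ 2 + x + 1 = 0 → x = F4.w ∨ x * x = F4.w := by decide
  rcases h2 _ h1 with h3 | h3
  · exact ⟨e, h3⟩
  · let σ : F4 ≃+* F4 :=
      { toFun x := x * x, invFun x := x * x, left_inv := by decide, right_inv := by decide,
        map_mul' := by decide, map_add' := by decide }
    exact ⟨e.trans σ, h3⟩

/-- the image of a group generated by matrices -/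
theorem closure_map_eq {O : GOps} {M N : Type*} [Monoid M] [Monoid N] [Finite M] (CM : MC O M)
    {b : N →* M} (hb : Function.Injective b) {S : Set N} {R : ℕ → ℕ} {Mk : ℕ}
    (hv : CM.units.Mem R ⊤ Mk) (h1 : ∀ x ∈ S, ∃ i, Mk.testBit i = true ∧ CM.code (b x) = R i)
    (h2 : ∀ i, Mk.testBit i = true → ∃ x ∈ S, CM.code (b x) = R i) :
    (closure {g : Nˣ | (g : N) ∈ S}).map (Units.map b) = CM.units.gen R Mk := by
  rw [MonoidHom.map_closure, GC.gen]
  congr 1
  ext g
  constructor
  · rintro ⟨x, hx, rfl⟩
    obtain ⟨i, hi, e⟩ := h1 _ hx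
    exact ⟨i, hi, by rw [← e]; exact (GC.el_code (C := CM.units) (Units.map b x)).symm⟩
  · rintro ⟨i, hi, rfl⟩
    obtain ⟨x, hx, e⟩ := h2 i hi
    have h3 : b x = CM.units.el (R i) := CM.inj (e.trans (hv i hi).code_el.symm)
    have h4 : x ^ orderOf (CM.units.el (R i)) = 1 := hb (by
      rw [map_pow, h3, ← Units.val_pow_eq_pow_val, pow_orderOf_eq_one, map_one, Units.val_one])
    obtain ⟨u, rfl⟩ := IsUnit.of_pow_eq_one h4 (orderOf_pos _).ne'
    exact ⟨u, hx, Units.ext h3⟩

theorem card_map_mk {G : Type*} [Group G] [Finite G] {N L : Subgroup G} [N.Normal] (h : N ≤ L) :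
    Nat.card L = Nat.card (L.map (QuotientGroup.mk' N)) * Nat.card N := by
  have h1 := card_mul_index (N.subgroupOf L)
  have h2 : (N.subgroupOf L).index = Nat.card (L.map (QuotientGroup.mk' N)) := by
    rw [← relIndex_ker, QuotientGroup.ker_mk', relIndex]
  rw [← h1, h2, Nat.card_congr (subgroupOfEquivOfLe h).toEquiv, mul_comm]

theorem comm_gen1 {O : GOps} {Γ : Type*} [Group Γ] {C : GC O Γ} {R : ℕ → ℕ} {G : Subgroup Γ}
    {z M : ℕ} (h : ∀ g ∈ G, g * C.el (R z) = C.el (R z) * g) (e : Nat.beq M (ins 0 z) = true) :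
    ∀ y ∈ C.gen R M, ∀ g ∈ G, g * y = y * g := by
  rw [(beq_true_iff _ _).1 e, GC.gen_ins, GC.gen_zero, bot_sup_eq]
  rintro _ ⟨k, rfl⟩ g hg
  exact (Commute.zpow_right (h g hg) k).eq

/-- orders of the centre and the central quotient -/
theorem card_center_quot {Γ : Type*} [Group Γ] [Finite Γ] {G Z : Subgroup Γ} (hZ : Z ≤ G)
    (h : center G = Z.subgroupOf G) {z n : ℕ} (hz : Nat.card Z = z) (hn : Nat.card G = n * z) :
    Nat.card (center G) = z ∧ Nat.card (G ⧸ center G) = n := by
  have h1 : Nat.card (center G) = z := by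
    rw [h, Nat.card_congr (subgroupOfEquivOfLe hZ).toEquiv, hz]
  refine ⟨h1, ?_⟩
  have h2 := card_eq_card_quotient_mul_card_subgroup (center G)
  rw [h1, hn] at h2
  exact (Nat.eq_of_mul_eq_mul_right (hz ▸ Nat.card_pos) h2).symm

/-- transport of the centre -/
theorem card_center_congr {G H : Type*} [Group G] [Group H] (e : G ≃* H) :
    Nat.card (center G) = Nat.card (center H) := Nat.card_congr (centerCongr e).toEquiv

end

end CfsgH6
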