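/-
Coded matrices and vectors over the field with four elements.
-/
import Cfsg.Agent.H6.Blow

set_option autoImplicit false

namespace CfsgH6

open CfsgH5 Subgroup MulAction Matrix Pointwise

noncomputable section

variable {ι : Type} [Fintype ι] [DecidableEq ι] {m : ℕ} (e : Fin m ≃ ι × Fin 2)

/-- codes of matrices -/
def mc4 : MC (ops2 m) (Matrix ι ι F4) := (mc2 m).comap (blow phi4 e) (blow_inj _ _ phi4_inj)

/-- codes of vectors -/
def enc4 (v : ι → F4) : ℕ := vcode 1 (blowV phi4 e 0 v)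

omit [Fintype ι] [DecidableEq ι] in
theorem enc4_inj : Function.Injective (enc4 e) :=
  (vcode_inj (by norm_num)).comp (blowV_inj phi4 e phi4_col)

/-- the action on vectors -/
def act4 (d : ℕ) (hn : 2 ≤ m) (hd : m ≤ 2 ^ d) :
    Act (mc4 e).units (ι → F4) (app2 m (m + 1) d) (fun x => x) :=
  Act.ofEnc _ _ (enc4 e) (enc4_inj e) fun g x =>
    (app2_code hn hd _ _).trans (congrArg (vcode 1) (blow_mulVec phi4 e 0 g x))

/-- decoding of vectors -/
def decV4 (c : ℕ) : ι → F4 := fun i => Fin.ofNat 4 (Nat.shiftRight c (e.symm (i, 0)).val)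

/-- decoding of matrices -/
def decM4 (c : ℕ) : Matrix ι ι F4 :=
  Matrix.of fun i j => decV4 e (Nat.shiftRight c (Nat.mul (m + 1) (e.symm (j, 0)).val)) i

/-- test for codes of matrices -/
def can4 (c : ℕ) : Bool := Nat.beq ((mc4 e).code (decM4 e c)) c

theorem can4_sound (c : ℕ) (h : can4 e c = true) : ∃ x, (mc4 e).code x = c :=
  ⟨_, (beq_true_iff _ _).1 h⟩

theorem act4_rep {d : ℕ} (hn : 2 ≤ m) (hd : m ≤ 2 ^ d) {c : ℕ}
    (h : Nat.beq c (enc4 e (decV4 e c)) = true) : ∃ x, (act4 e d hn hd).Rep c x :=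
  ⟨_, (beq_true_iff _ _).1 h⟩

/-- the scalar matrix of a primitive cube root of unity -/
def om4 (ι : Type) [Fintype ι] [DecidableEq ι] : (Matrix ι ι F4)ˣ :=
  Units.map (Matrix.scalar ι).toMonoidHom (Units.mk0 F4.w (by decide))

theorem om4_comm (g : (Matrix ι ι F4)ˣ) : g * om4 ι = om4 ι * g :=
  Units.ext (Matrix.scalar_commute F4.w (fun _ => Commute.all _ _) (g : Matrix ι ι F4)).eq.symm

theorem om4_pow : om4 ι ^ (2 + 1) = 1 := by
  rw [om4, ← map_pow, show Units.mk0 F4.w (by decide) ^ (2 + 1) = 1 from Units.ext (by decide), map_one]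

theorem om4_smul (k : ℕ) (v : ι → F4) : om4 ι ^ k • v = F4.w ^ k • v := by
  rw [om4, ← map_pow]
  show Matrix.scalar ι ((Units.mk0 F4.w _ ^ k : F4ˣ) : F4) *ᵥ v = _
  ext i
  simp [Matrix.mulVec_diagonal]

/-- the action on lines -/
def line4 (d : ℕ) (hn : 2 ≤ m) (hd : m ≤ 2 ^ d) (zc : ℕ) (hc : (mc4 e).units.code (om4 ι) = zc) :
    Act (mc4 e).units (Set (ι → F4)) (app2 m (m + 1) d) (keyL (app2 m (m + 1) d) (fun x => x) zc 2) :=
  (act4 e d hn hd).line (om4 ι) zc 2 hc om4_comm om4_pow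

/-- the standard numbering -/
def eFin (n : ℕ) : Fin (n * 2) ≃ Fin n × Fin 2 := finProdFinEquiv.symm

end

end CfsgH6
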