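/-
The standard cross and its stabiliser, the monomial group; words in coded elements.
-/
import Cfsg.Agent.H6.Pass
import Cfsg.Agent.H5.Trans
import Cfsg.Prelude.Def_SporadicCombinatorics

set_option autoImplicit false
set_option linter.unusedSimpArgs false
set_option linter.unusedVariables false

namespace CfsgH6

open CfsgH5 Cfsg Finset
open scoped Pointwise

noncomputable section

/-- eight times a unit vector -/
def e8 (i : GolayPt) : LL := ⟨Pi.single i 8, eight_single_mem i⟩

theorem coe_e8 (i : GolayPt) : (e8 i : V) = Pi.single i 8 := rfl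

theorem sqNorm_single (i : GolayPt) (s : ℤ) : sqNorm (Pi.single i s : V) = s ^ 2 := by
  rw [sqNorm_eq_dot, dot_single_left]; simp [sq]

theorem norm_e8 (i : GolayPt) : sqNorm (e8 i : V) = 64 := by rw [coe_e8, sqNorm_single]; rfl

theorem norm_of_cross {x : V} (h : x ∈ stdCross) : sqNorm x = 64 := by
  obtain ⟨i, s, hs, rfl⟩ := h
  rw [sqNorm_single]; rcases hs with rfl | rfl <;> rfl

theorem e8_cross (i : GolayPt) : (e8 i : V) ∈ stdCross := ⟨i, 8, Or.inl rfl, rfl⟩

theorem neg_cross {x : V} (h : x ∈ stdCross) : -x ∈ stdCross := by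
  obtain ⟨i, s, hs, rfl⟩ := h
  exact ⟨i, -s, by omega, by rw [Pi.single_neg]⟩

theorem cross_of_mod {x : V} (h : ∀ i, x i % 8 = 0) (hn : sqNorm x = 64) : x ∈ stdCross := by
  obtain ⟨i, hi⟩ : ∃ i, x i ≠ 0 := by
    by_contra hc; push Not at hc
    rw [show x = 0 from funext hc] at hn; simp [sqNorm] at hn
  have h1 := bd_of_sqNorm hn.le i
  have h2 := h i
  have h3 : x i = 8 ∨ x i = -8 := by omega
  have h4 : x i ^ 2 = 64 := by rcases h3 with h | h <;> rw [h] <;> rfl
  refine ⟨i, x i, h3, funext fun j => ?_⟩
  rw [sqNorm, sum_erase_eq _ i] at hn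
  by_cases hj : j = i
  · subst hj; simp
  · rw [Pi.single_apply, if_neg hj]
    have := all_zero (s := univ.erase i) (f := fun j => x j ^ 2) (fun j => sq_nonneg _) (by omega) j
      (by simp [hj])
    simpa using this

theorem cross_iff {v : LL} :
    (v : V) ∈ stdCross ↔ sqNorm (v : V) = 64 ∧ ∃ z : LL, v = e8 none + z + z := by
  constructor
  · intro h
    refine ⟨norm_of_cross h, ?_⟩
    obtain ⟨i, s, hs, e⟩ := h
    have hz : (4 : ℤ) • (Pi.single i (s / 8) - Pi.single none 1 : V) ∈ leechLattice := by
      apply four_smul_mem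
      simp only [Pi.sub_apply, sum_sub_distrib, sum_pi_single', mem_univ, if_true]
      omega
    refine ⟨⟨_, hz⟩, Subtype.ext (funext fun j => ?_)⟩
    simp only [e, AddSubgroup.coe_add, coe_e8, Pi.add_apply, Pi.smul_apply, Pi.sub_apply,
      Pi.single_apply, smul_eq_mul]
    split_ifs <;> omega
  · rintro ⟨hn, z, e⟩
    have hv : ∀ i, (v : V) i = (if i = none then 8 else 0) + 2 * (z : V) i := fun i => by
      rw [e]; simp only [AddSubgroup.coe_add, coe_e8, Pi.add_apply, Pi.single_apply]; ring
    rcases (mem_leech_iff.1 z.2).cases with ⟨c, hc, h1, h2⟩ | ⟨c, hc, h1, h2⟩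
    · have h3 : ∑ i, (if i ∈ c then (16 : ℤ) else 0) ≤ sqNorm (v : V) := sum_le_sum fun i _ => by
        have := hv i; have := h1 i
        split_ifs at *
        all_goals first | exact sq_nonneg _ | skip
        all_goals
          have h5 : 4 ≤ (v : V) i ∨ (v : V) i ≤ -4 := by omega
          rcases h5 with h | h <;> nlinarith
      rw [sum_ite_mem'] at h3
      have h4 : c = ∅ := by
        rcases card_of_mem_Sup hc with h | h | h | h | h
        · exact card_eq_zero.1 h
        all_goals omega
      subst h4
      refine cross_of_mod (fun i => ?_) hn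
      have := hv i; have := h1 i
      simp only [notMem_empty, if_false] at this
      split_ifs at * <;> omega
    · have h3 : ∑ i : GolayPt, (4 : ℤ) ≤ sqNorm (v : V) := sum_le_sum fun i _ => by
        have := hv i; have := h1 i
        have h5 : 2 ≤ (v : V) i ∨ (v : V) i ≤ -2 := by split_ifs at * <;> omega
        rcases h5 with h | h <;> nlinarith
      simp at h3; omega

/-- the stabiliser of the standard cross -/
def NN : Subgroup Co0 where
  carrier := {g | ∃ z : LL, g • e8 none = e8 none + z + z}
  one_mem' := ⟨0, by simp⟩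
  mul_mem' := by
    rintro g h ⟨y, hy⟩ ⟨z, hz⟩
    exact ⟨y + g • z, by rw [mul_smul, hz, co_add, co_add, hy]; abel⟩
  inv_mem' := by
    rintro g ⟨y, hy⟩
    refine ⟨-(g⁻¹ • y), ?_⟩
    have := congrArg (g⁻¹ • ·) hy
    simp only [inv_smul_smul, co_add] at this
    nth_rewrite 2 [this]; abel

theorem NN_cross {g : Co0} (hg : g ∈ NN) {v : LL} (hv : (v : V) ∈ stdCross) :
    ((g • v : LL) : V) ∈ stdCross := by
  obtain ⟨y, hy⟩ := hg
  obtain ⟨hn, z, rfl⟩ := cross_iff.1 hv
  exact cross_iff.2 ⟨by rwa [co_norm], y + g • z, by rw [co_add, co_add, hy]; abel⟩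

theorem mem_NN_of {g : Co0} {v : LL} (hv : (v : V) ∈ stdCross) (h : ((g • v : LL) : V) ∈ stdCross) :
    g ∈ NN := by
  obtain ⟨-, z, rfl⟩ := cross_iff.1 hv
  obtain ⟨-, y, hy⟩ := cross_iff.1 h
  refine ⟨y - g • z, ?_⟩
  rw [co_add, co_add] at hy
  rw [← sub_eq_zero] at hy ⊢
  rw [← hy]; abel

theorem mem_NN {g : Co0} :
    g ∈ NN ↔ ∀ v : LL, (v : V) ∈ stdCross → ((g • v : LL) : V) ∈ stdCross :=
  ⟨fun h _ hv => NN_cross h hv, fun h => mem_NN_of (e8_cross none) (h _ (e8_cross none))⟩

/-! ### Monomial maps -/

theorem eight_smul_eq (v : LL) : (8 : ℤ) • v = ∑ i, (v : V) i • e8 i := by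
  apply Subtype.ext
  funext j
  simp only [AddSubgroup.coe_zsmul, AddSubgroup.val_finsetSum, coe_e8, Finset.sum_apply,
    Pi.smul_apply, Pi.single_apply, smul_eq_mul, mul_ite, mul_zero]
  rw [sum_ite_eq]; simp [mul_comm]

theorem co_ext_e8 {g h : Co0} (e : ∀ i, g • e8 i = h • e8 i) : g = h := by
  refine co_ext fun v => ?_
  apply Subtype.ext
  apply smul_right_injective V (by norm_num : (8 : ℤ) ≠ 0)
  have : (8 : ℤ) • (g • v) = (8 : ℤ) • (h • v) := by
    rw [← co_zsmul, ← co_zsmul, eight_smul_eq, co_sum, co_sum]
    exact sum_congr rfl fun i _ => by rw [co_zsmul, co_zsmul, e]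
  exact congrArg Subtype.val this

theorem mem_smul_iff' (σ : Equiv.Perm GolayPt) (c : Finset GolayPt) (i : GolayPt) :
    i ∈ σ • c ↔ σ.symm i ∈ c := by
  rw [← Finset.inv_smul_mem_iff]; rfl

theorem sum_signedPerm (σ : Equiv.Perm GolayPt) (c : Finset GolayPt) (x : V) :
    ∑ i, signedPerm σ c x i = ∑ i, x i - 2 * ∑ i ∈ c, x (σ.symm i) := by
  rw [← Equiv.sum_comp σ.symm x, ← sum_ite_mem_eq c, mul_sum, ← sum_sub_distrib]
  exact sum_congr rfl fun i _ => by unfold signedPerm; split_ifs <;> ring

theorem sum_mod_four {c : Finset GolayPt} {f g : GolayPt → ℤ} (h : ∀ i ∈ c, f i % 4 = g i % 4) :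
    (∑ i ∈ c, f i) % 4 = (∑ i ∈ c, g i) % 4 := by
  rw [sum_int_mod, sum_congr rfl h, ← sum_int_mod]

theorem sum_ite_inter (c d : Finset GolayPt) (a b : ℤ) :
    ∑ i ∈ c, (if i ∈ d then a else b) = (a - b) * (c ∩ d).card + b * c.card := by
  have : ∀ i ∈ c, (if i ∈ d then a else b) = (if i ∈ d then a - b else 0) + b := fun i _ => by
    split_ifs <;> ring
  rw [sum_congr rfl this, sum_add_distrib, sum_ite_mem]
  simp only [sum_const, nsmul_eq_mul]; ring

theorem signedPerm_mem {σ : Equiv.Perm GolayPt} (hσ : σ ∈ M24) {c : Finset GolayPt} (hc : c ∈ Sup)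
    {x : V} (hx : x ∈ leechLattice) : signedPerm σ c x ∈ leechLattice := by
  have h4 := card_mod_four hc
  rcases (mem_leech_iff.1 hx).cases with ⟨d, hd, h1, h2⟩ | ⟨d, hd, h1, h2⟩
  · have hd' := smul_mem_Sup hσ hd
    have h5 := inter_card_even hc hd'
    refine mem_of_even hd' (fun i => ?_) ?_
    · have := h1 (σ.symm i)
      simp only [signedPerm, mem_smul_iff']
      split_ifs at * <;> omega
    · have := sum_mod_four (c := c) (f := fun i => x (σ.symm i))
        (g := fun i => if i ∈ σ • d then 2 else 0) fun i _ => by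
          have := h1 (σ.symm i)
          simp only [mem_smul_iff']
          split_ifs at * <;> omega
      rw [sum_ite_inter] at this
      rw [sum_signedPerm]; omega
  · have hd' := smul_mem_Sup hσ hd
    have h5 := inter_card_even hc hd'
    refine mem_of_odd (symmDiff_mem_Sup hc hd') (fun i => ?_) ?_
    · have := h1 (σ.symm i)
      by_cases k1 : i ∈ c <;> by_cases k2 : σ.symm i ∈ d <;>
        simp only [signedPerm, mem_symmDiff, mem_smul_iff', k1, k2, if_true, if_false, not_true,
          not_false_iff, and_true, and_false, true_and, false_and, or_false, false_or, true_or,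
          or_self] at * <;> omega
    · have := sum_mod_four (c := c) (f := fun i => x (σ.symm i))
        (g := fun i => if i ∈ σ • d then 3 else 1) fun i _ => by
          have := h1 (σ.symm i)
          simp only [mem_smul_iff']
          split_ifs at * <;> omega
      rw [sum_ite_inter] at this
      rw [sum_signedPerm]; omega

theorem sqNorm_signedPerm (σ : Equiv.Perm GolayPt) (c : Finset GolayPt) (x : V) :
    sqNorm (signedPerm σ c x) = sqNorm x := by
  rw [sqNorm, sqNorm, ← Equiv.sum_comp σ.symm fun i => x i ^ 2]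
  exact sum_congr rfl fun i _ => by unfold signedPerm; split_ifs <;> ring

/-- `g` acts as a signed permutation -/
def Mono (g : Co0) (σ : Equiv.Perm GolayPt) (c : Finset GolayPt) : Prop :=
  ∀ v : LL, ((g • v : LL) : V) = signedPerm σ c (v : V)

theorem exists_mono {σ : Equiv.Perm GolayPt} (hσ : σ ∈ M24) {c : Finset GolayPt} (hc : c ∈ Sup) :
    ∃ g, Mono g σ c := by
  obtain ⟨g, hg⟩ := exists_co (fun v => ⟨_, signedPerm_mem hσ hc v.2⟩) (fun v w => by
    apply Subtype.ext; funext i
    simp only [signedPerm, AddSubgroup.coe_add, Pi.add_apply]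
    split_ifs <;> ring) fun v => sqNorm_signedPerm _ _ _
  exact ⟨g, fun v => by rw [hg]⟩

theorem signedPerm_single (σ : Equiv.Perm GolayPt) (c : Finset GolayPt) (i : GolayPt) (s : ℤ) :
    signedPerm σ c (Pi.single i s) = Pi.single (σ i) (if σ i ∈ c then -s else s) := by
  funext j
  by_cases h : j = σ i
  · subst h; simp [signedPerm]
  · have : σ.symm j ≠ i := fun e => h (by rw [← e]; simp)
    simp [signedPerm, h, this]

theorem Mono.mem_NN {g : Co0} {σ : Equiv.Perm GolayPt} {c : Finset GolayPt} (h : Mono g σ c) :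
    g ∈ NN := mem_NN_of (e8_cross none) (by
  rw [h, coe_e8, signedPerm_single]
  exact ⟨_, _, by split_ifs <;> simp, rfl⟩)

theorem mono_of_NN {g : Co0} (hg : g ∈ NN) : ∃ σ ∈ M24, ∃ c ∈ Sup, Mono g σ c := by
  choose f s hs hf using fun i => NN_cross hg (e8_cross i)
  have hinj : Function.Injective f := fun i j e => by
    by_contra hne
    have := co_dot g (e8 i) (e8 j)
    rw [hf, hf, coe_e8, coe_e8, dot_single_left, dot_single_left, e] at this
    simp only [Pi.single_eq_same, Pi.single_apply, hne, if_false] at this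
    rcases hs i with h | h <;> rcases hs j with h' | h' <;> rw [h, h'] at this <;> omega
  let σ : Equiv.Perm GolayPt := Equiv.ofBijective f (Finite.injective_iff_bijective.1 hinj)
  have hσ : ∀ i, σ i = f i := fun _ => rfl
  let c : Finset GolayPt := univ.filter fun j => s (σ.symm j) = -8
  have hm : Mono g σ c := fun v => by
    apply smul_right_injective V (by norm_num : (8 : ℤ) ≠ 0)
    have h1 := congrArg Subtype.val (congrArg (g • ·) (eight_smul_eq v))
    simp only [co_zsmul, co_sum, AddSubgroup.coe_zsmul, AddSubgroup.val_finsetSum, hf] at h1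
    simp only
    rw [h1]
    funext j
    obtain ⟨i, rfl⟩ := σ.surjective j
    simp only [Finset.sum_apply, Pi.smul_apply, Pi.single_apply, ← hσ, EmbeddingLike.apply_eq_iff_eq,
      smul_eq_mul, mul_ite, mul_zero, signedPerm, Equiv.symm_apply_apply, c, mem_filter, mem_univ,
      true_and]
    rw [sum_ite_eq]
    rcases hs i with h | h <;> simp [h] <;> ring
  refine ⟨σ, mem_M24_of fun d hd => ?_, c, ?_, hm⟩
  · have h1 := (g • (⟨_, two_mem hd⟩ : LL)).2
    rw [hm] at h1
    rcases (mem_leech_iff.1 h1).cases with ⟨d', hd', h2, -⟩ | ⟨d', hd', h2, -⟩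
    · convert hd' using 1
      ext i
      have := h2 i
      simp only [signedPerm, two, mem_smul_iff'] at *
      split_ifs at this <;> simp_all
    · have := h2 none
      simp only [signedPerm, two] at this
      split_ifs at this <;> omega
  · have h1 := (g • (⟨_, odd0_mem⟩ : LL)).2
    rw [hm] at h1
    rcases (mem_leech_iff.1 h1).cases with ⟨d', hd', h2, -⟩ | ⟨d', hd', h2, -⟩
    · have := h2 none
      simp only [signedPerm, odd0] at this
      split_ifs at this <;> omega
    · convert hd' using 1
      ext i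
      have := h2 i
      simp only [signedPerm, odd0] at this
      split_ifs at this <;> simp_all

theorem Mono.unique {g : Co0} {σ τ : Equiv.Perm GolayPt} {c d : Finset GolayPt} (h : Mono g σ c)
    (h' : Mono g τ d) : σ = τ ∧ c = d := by
  have key : ∀ i, (Pi.single (σ i) (if σ i ∈ c then -8 else 8) : V) =
      Pi.single (τ i) (if τ i ∈ d then -8 else 8) := fun i => by
    rw [← signedPerm_single, ← signedPerm_single, ← coe_e8, ← h, ← h']
  have h1 : σ = τ := Equiv.ext fun i => by
    have := congrFun (key i) (σ i)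
    rw [Pi.single_eq_same, Pi.single_apply] at this
    by_contra hne
    rw [if_neg hne] at this
    split_ifs at this
    omega
  subst h1
  refine ⟨rfl, ext fun j => ?_⟩
  obtain ⟨i, rfl⟩ := σ.surjective j
  have := congrFun (key i) (σ i)
  rw [Pi.single_eq_same, Pi.single_eq_same] at this
  split_ifs at this <;> simp_all

theorem card_NN : Nat.card NN = 4096 * 244823040 := by
  choose F hF using fun p : Sup × M24 => exists_mono p.2.2 p.1.2
  have hb : Function.Bijective fun p : Sup × M24 => (⟨F p, (hF p).mem_NN⟩ : NN) := by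
    constructor
    · intro p q e
      have e : F p = F q := congrArg Subtype.val e
      obtain ⟨h1, h2⟩ := (hF p).unique (e ▸ hF q)
      exact Prod.ext (Subtype.ext h2) (Subtype.ext h1)
    · rintro ⟨g, hg⟩
      obtain ⟨σ, hσ, c, hc, hm⟩ := mono_of_NN hg
      exact ⟨(⟨c, hc⟩, ⟨σ, hσ⟩), Subtype.ext (co_ext fun v => Subtype.ext (by rw [hF, hm]))⟩
  rw [← Nat.card_eq_of_bijective _ hb, Nat.card_prod, card_M24, Nat.card_coe_set_eq,
    ncard_Sup' Sup (fun _ => true) (by simp)]
  decide +kernel

/-! ### Words -/

/-- the code of the identity -/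
def IDc : ℕ := 0x800080008000800080008000800080008000800080008000800080008000800080008000800080008000800080010000000080008000800080008000800080008000800080008000800080008000800080008000800080008000800080010000800000008000800080008000800080008000800080008000800080008000800080008000800080008000800080010000800080000000800080008000800080008000800080008000800080008000800080008000800080008000800080010000800080008000000080008000800080008000800080008000800080008000800080008000800080008000800080010000800080008000800000008000800080008000800080008000800080008000800080008000800080008000800080010000800080008000800080000000800080008000800080008000800080008000800080008000800080008000800080010000800080008000800080008000000080008000800080008000800080008000800080008000800080008000800080010000800080008000800080008000800000008000800080008000800080008000800080008000800080008000800080010000800080008000800080008000800080000000800080008000800080008000800080008000800080008000800080010000800080008000800080008000800080008000000080008000800080008000800080008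00080008000800080008001000080008000800080008000800080008000800080000000800080008000800080008000800080008000800080008001000080008000800080008000800080008000800080008000000080008000800080008000800080008000800080008001000080008000800080008000800080008000800080008000800000008000800080008000800080008000800080008001000080008000800080008000800080008000800080008000800080000000800080008000800080008000800080008001000080008000800080008000800080008000800080008000800080008000000080008000800080008000800080008001000080008000800080008000800080008000800080008000800080008000800000008000800080008000800080008001000080008000800080008000800080008000800080008000800080008000800080000000800080008000800080008001000080008000800080008000800080008000800080008000800080008000800080008000000080008000800080008001000080008000800080008000800080008000800080008000800080008000800080008000800000008000800080008001000080008000800080008000800080008000800080008000800080008000800080008000800080000000800080008001000080008000800080008000800080008000800080008000800080008000800080008000800080008000000080008001000080008000800080008000800080008000800080008000800080008000800080008000800080008000800000008001000080008000800080008000800080008000800080008000800080008000800080008000800080008000800080000001000080008000800080008000800080008000800080008000800080008000800080008000800080008000800080008000b0006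

theorem in_ID (H : Subgroup Co0) : In H IDc := by
  obtain ⟨g, hg⟩ := exists_rep (a := IDc) (by decide +kernel)
  have : g = 1 := co_ext_e8 fun i => by
    rw [one_smul]
    refine hg.smul_eq (norm_e8 i).le (bd_of_sqNorm (norm_e8 i).le) ?_
    rw [coe_e8]
    revert i; decide +kernel
  exact ⟨g, this ▸ H.one_mem, hg⟩

/-- apply the elements of `pool` with the numbers in `w`, first entry first -/
def runW (pool : List ℕ) (w : List ℕ) : ℕ → ℕ :=
  List.rec (motive := fun _ => ℕ → ℕ) (fun n => n)
    (fun i _ ih n => forceH (act (nthD pool IDc i) n) ih) w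

theorem runW_sound {H : Subgroup Co0} {pool : List ℕ} (hv : ∀ a ∈ pool, In H a) (w : List ℕ) :
    ∃ g ∈ H, ∀ v : LL, sqNorm (v : V) ≤ 64 → enc ((g • v : LL) : V) = runW pool w (enc (v : V)) := by
  induction w with
  | nil => exact ⟨1, H.one_mem, fun v _ => by rw [one_smul]; rfl⟩
  | cons i w ih =>
    obtain ⟨g, hg, h⟩ := ih
    obtain ⟨k, hk, hr⟩ : In H (nthD pool IDc i) := by
      rcases nthD_mem pool IDc i with h | h
      · rw [h]; exact in_ID H
      · exact hv _ h
    refine ⟨g * k, H.mul_mem hg hk, fun v hn => ?_⟩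
    rw [mul_smul, h _ (by rwa [co_norm]), ← hr.act v hn]
    exact (forceH_eq _ _).symm

/-- the word `w` maps the first entries of the pairs to the second entries -/
def mapsW (pool w : List ℕ) (l : List (ℕ × ℕ)) : Bool :=
  allL l fun p => band (okV p.1) (band (okV p.2) (Nat.beq (runW pool w p.1) p.2))

theorem mapsW_sound {H : Subgroup Co0} {pool : List ℕ} (hv : ∀ a ∈ pool, In H a) {w : List ℕ}
    {l : List (ℕ × ℕ)} (h : mapsW pool w l = true) : ∃ g ∈ H, ∀ p ∈ l, g • vec p.1 = vec p.2 := by
  simp only [mapsW, band_eq, Bool.and_eq_true, allL_iff, beq_true_iff] at h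
  obtain ⟨g, hg, hr⟩ := runW_sound hv w
  refine ⟨g, hg, fun p hp => ?_⟩
  obtain ⟨h1, h2, h3⟩ := h p hp
  refine eq_vec (okV_inL h2) (bd_of_sqNorm (by rw [co_norm]; exact okV_norm h1)) ?_
  rw [hr _ (okV_norm h1), enc_vec (okV_inL h1), h3]

/-- every code in `rs` is mapped to `b` by the word listed with it -/
def linkW (pool : List ℕ) (b : ℕ) (l : List (ℕ × List ℕ)) : Bool :=
  band (okV b) (allL l fun p => Nat.beq (runW pool p.2 p.1) b)

theorem linkW_sound {H : Subgroup Co0} {pool : List ℕ} (hv : ∀ a ∈ pool, In H a) {b : ℕ}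
    {l : List (ℕ × List ℕ)} (h : linkW pool b l = true) {v : LL} (hn : sqNorm (v : V) ≤ 64)
    (hl : enc (v : V) ∈ l.map Prod.fst) : ∃ g ∈ H, g • v = vec b := by
  simp only [linkW, band_eq, Bool.and_eq_true, allL_iff, beq_true_iff] at h
  obtain ⟨p, hp, e⟩ := List.mem_map.1 hl
  obtain ⟨g, hg, hr⟩ := runW_sound hv p.2
  refine ⟨g, hg, eq_vec (okV_inL h.1) (bd_of_sqNorm (by rwa [co_norm])) ?_⟩
  rw [hr _ hn, ← e, h.2 p hp]

/-- every code is mapped into `bs` by the word listed with it -/
def linkL (pool bs : List ℕ) (l : List (ℕ × List ℕ)) : Bool :=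
  allL l fun p => forceH (runW pool p.2 p.1) (memL bs)

theorem linkL_sound {H : Subgroup Co0} {pool : List ℕ} (hv : ∀ a ∈ pool, In H a) {bs : List ℕ}
    {l : List (ℕ × List ℕ)} (h : linkL pool bs l = true) {v : LL} (hn : sqNorm (v : V) ≤ 64)
    (hl : enc (v : V) ∈ l.map Prod.fst) : ∃ g ∈ H, enc ((g • v : LL) : V) ∈ bs := by
  simp only [linkL, forceH_eq, allL_iff, memL_iff] at h
  obtain ⟨p, hp, e⟩ := List.mem_map.1 hl
  obtain ⟨g, hg, hr⟩ := runW_sound hv p.2
  exact ⟨g, hg, by rw [hr _ hn, ← e]; exact h p hp⟩

/-- the pairs `(b, p.1)` are mapped to `(b, c)` by the listed words -/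
def link2 (pool : List ℕ) (b c : ℕ) (l : List (ℕ × List ℕ)) : Bool :=
  band (okV b) (band (okV c)
    (allL l fun p => band (Nat.beq (runW pool p.2 b) b) (Nat.beq (runW pool p.2 p.1) c)))

theorem link2_sound {H : Subgroup Co0} {pool : List ℕ} (hv : ∀ a ∈ pool, In H a) {b c : ℕ}
    {l : List (ℕ × List ℕ)} (h : link2 pool b c l = true) {v : LL} (hn : sqNorm (v : V) ≤ 64)
    (hl : enc (v : V) ∈ l.map Prod.fst) : ∃ g ∈ H, g • vec b = vec b ∧ g • v = vec c := by
  simp only [link2, band_eq, Bool.and_eq_true, allL_iff, beq_true_iff] at h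
  obtain ⟨p, hp, e⟩ := List.mem_map.1 hl
  obtain ⟨g, hg, hr⟩ := runW_sound hv p.2
  obtain ⟨h1, h2, h3⟩ := h
  refine ⟨g, hg, eq_vec (okV_inL h1) (bd_of_sqNorm (by rw [co_norm]; exact okV_norm h1)) ?_,
    eq_vec (okV_inL h2) (bd_of_sqNorm (by rwa [co_norm])) ?_⟩
  · rw [hr _ (okV_norm h1), enc_vec (okV_inL h1), (h3 p hp).1]
  · rw [hr _ hn, ← e, (h3 p hp).2]

theorem valid_append {H : Subgroup Co0} {l l' : List ℕ} (h : ∀ a ∈ l, In H a) (h' : ∀ a ∈ l', In H a) :
    ∀ a ∈ l ++ l', In H a := fun a ha => (List.mem_append.1 ha).elim (h a) (h' a)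

theorem valid_cons {H : Subgroup Co0} {b : ℕ} {l : List ℕ} (h : In H b) (h' : ∀ a ∈ l, In H a) :
    ∀ a ∈ b :: l, In H a := fun a ha => (List.mem_cons.1 ha).elim (fun e => e ▸ h) (h' a)

theorem valid_mono {H K : Subgroup Co0} (hHK : H ≤ K) {l : List ℕ} (h : ∀ a ∈ l, In H a) :
    ∀ a ∈ l, In K a := fun a ha => (h a ha).mono hHK

/-- the code of `8 e_∞` -/
def E8c : ℕ := Nat.add ZERO (U 8 23)

theorem enc_e8 : enc (e8 none : V) = E8c := by rw [coe_e8]; decide +kernel

/-- test for the vectors of the standard cross -/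
def isCr (n : ℕ) : Bool := anyL R24 fun i => bor (Nat.beq n (Nat.add ZERO (U 8 i))) (Nat.beq n (Nat.sub ZERO (U 8 i)))

theorem isCr_sound {x : V} (hx : Bd 8 x) (h : isCr (enc x) = true) : x ∈ stdCross := by
  simp only [isCr, anyL_iff, bor_eq, Bool.or_eq_true, beq_true_iff, mem_R24] at h
  have h1 : ∀ i, i < 24 → Nat.add ZERO (U 8 i) = enc (Pi.single (pt i) 8) ∧
      Nat.sub ZERO (U 8 i) = enc (Pi.single (pt i) (-8)) := by decide +kernel
  obtain ⟨i, hi, h | h⟩ := h
  · rw [(h1 i hi).1] at h
    exact ⟨_, 8, Or.inl rfl, enc_inj hx (bd_of_sqNorm (by rw [sqNorm_single]; rfl)) h⟩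
  · rw [(h1 i hi).2] at h
    exact ⟨_, -8, Or.inr rfl, enc_inj hx (bd_of_sqNorm (by rw [sqNorm_single]; rfl)) h⟩

theorem in_NN {H : Subgroup Co0} {gs : List ℕ} (hv : ∀ a ∈ gs, In H a)
    (h : allL gs (fun a => forceH (act a E8c) isCr) = true) : ∀ a ∈ gs, In (H ⊓ NN) a := by
  simp only [allL_iff, forceH_eq] at h
  intro a ha
  obtain ⟨g, hg, hr⟩ := hv a ha
  refine ⟨g, ⟨hg, mem_NN_of (e8_cross none) (isCr_sound (bd_of_sqNorm (by rw [co_norm, norm_e8])) ?_)⟩, hr⟩
  rw [← hr.act _ (norm_e8 none).le, enc_e8]; exact h a ha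

end

end CfsgH6
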