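/-
More glue: membership of decoded matrices, dichotomy for images, classes of 3-transpositions.
-/
import Cfsg.Agent.H6.Blow4

set_option autoImplicit false

namespace CfsgH6

open CfsgH5 Subgroup MulAction Matrix Pointwise

noncomputable section

theorem gen_le_dec4 {ι : Type} [Fintype ι] [DecidableEq ι] {m : ℕ} (e : Fin m ≃ ι × Fin 2) {R : ℕ → ℕ}
    {M : ℕ} (hv : (mc4 e).units.Mem R ⊤ M) {S : Subgroup (Matrix ι ι F4)ˣ} (P : Matrix ι ι F4 → Prop)
    (hS : ∀ g : (Matrix ι ι F4)ˣ, P g → g ∈ S) (L : List ℕ)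
    (h : ∀ i ∈ L, can4 e (R i) = true ∧ P (decM4 e (R i)))
    (h' : band (allL L fun i => Nat.blt i 1024) (subM M (insL L 0)) = true) :
    (mc4 e).units.gen R M ≤ S := by
  simp only [band_eq, Bool.and_eq_true, allL_iff, blt_true_iff] at h'
  rw [GC.gen, closure_le]
  rintro _ ⟨i, hi, rfl⟩
  obtain ⟨j, hj, rfl⟩ := ((testBit_insL _ _ _).1 (subM_sound h'.2 hi)).resolve_left (by simp)
  rw [hd_eq, Nat.mod_eq_of_lt (h'.1 j hj)] at hi ⊢
  refine hS _ ?_
  have : ((mc4 e).units.el (R j) : Matrix ι ι F4) = decM4 e (R j) :=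
    (mc4 e).inj ((hv j hi).code_el.trans ((beq_true_iff _ _).1 (h j hj).1).symm)
  rw [this]; exact (h j hj).2

variable {Γ : Type*} [Group Γ]

/-- the dichotomy passes to images -/
theorem dichotomy_map {Γ' : Type*} [Group Γ'] (f : Γ →* Γ') {G Z : Subgroup Γ}
    (h : ∀ N : Subgroup Γ, N ≤ G → NormBy G N → N ≤ Z ∨ N = G) (N : Subgroup Γ') (h1 : N ≤ G.map f)
    (h2 : NormBy (G.map f) N) : N ≤ Z.map f ∨ N = G.map f := by
  rcases h (N.comap f ⊓ G) inf_le_right (fun g hg n hn => ⟨by
    have := h2 _ ⟨g, hg, rfl⟩ _ hn.1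
    simpa using this, G.mul_mem (G.mul_mem hg hn.2) (G.inv_mem hg)⟩) with h | h
  · refine Or.inl fun x hx => ?_
    obtain ⟨y, hy, rfl⟩ := h1 hx
    exact ⟨y, h ⟨hx, hy⟩, rfl⟩
  · exact Or.inr (le_antisymm h1 (map_le_iff_le_comap.2 (h ▸ inf_le_left)))

/-- a subgroup of index two, transported to an isomorphic group -/
theorem exists_index_two {S K : Type*} [Group S] [Group K] [Finite Γ] {G H N : Subgroup Γ} (hH : H ≤ G)
    (hN : N ≤ H) (E : H.subgroupOf G ≃* S) (hc : Nat.card H = 2 * Nat.card N) (e : N ≃* K) :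
    ∃ M : Subgroup S, M.index = 2 ∧ Nonempty (M ≃* K) := by
  let E' : H ≃* S := (subgroupOfEquivOfLe hH).symm.trans E
  refine ⟨(N.subgroupOf H).map E'.toMonoidHom, ?_,
    ⟨((equivMapOfInjective _ _ E'.injective).symm.trans (subgroupOfEquivOfLe hN)).trans e⟩⟩
  rw [index_map_of_bijective E'.bijective]
  have := index_mul_card (N.subgroupOf H)
  rw [Nat.card_congr (subgroupOfEquivOfLe hN).toEquiv, hc] at this
  exact Nat.eq_of_mul_eq_mul_right Nat.card_pos this

/-- The class of an element `d` whose centraliser is a maximal subgroup `H`. -/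
theorem transposition_class [Finite Γ] {G H : Subgroup Γ} {S : Set Γ} [IsSimpleGroup G] (hH : H ≤ G)
    (hdc : ∀ x ∈ G, x ∈ DCs H S) (hmax : ∀ L, H ≤ L → L ≤ G → L = H ∨ L = G) {d : Γ} (hd : d ∈ G)
    (h1 : d ≠ 1) (h2 : d * d = 1) (hc : ∀ h ∈ H, h * d = d * h) (hn : ∃ t ∈ G, t * d ≠ d * t)
    (hS : ∀ g ∈ S, (d * (g * d * g⁻¹)) ^ 2 = 1 ∨ (d * (g * d * g⁻¹)) ^ 3 = 1) {n : ℕ}
    (hcard : Nat.card G = n * Nat.card H) :
    let D := conjugatesOf (⟨d, hd⟩ : G)
    (∀ x ∈ D, orderOf x = 2) ∧ (∀ x ∈ D, ∀ y ∈ D, (x * y) ^ 2 = 1 ∨ (x * y) ^ 3 = 1) ∧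
      closure D = ⊤ ∧ Nat.card D = n ∧ ∀ x ∈ D, Nonempty (centralizer {x} ≃* H) := by
  intro D
  set d' : G := ⟨d, hd⟩
  have hC : centralizer {d'} = H.subgroupOf G := by
    have h3 : H ≤ centralizer {d} ⊓ G := fun h hh => ⟨mem_centralizer_singleton_iff.2 (hc h hh), hH hh⟩
    rcases hmax _ h3 inf_le_right with h | h
    · ext x
      rw [mem_subgroupOf, ← h, mem_centralizer_singleton_iff, Subtype.ext_iff]
      simp [mem_centralizer_singleton_iff, d']
    · obtain ⟨t, ht, h'⟩ := hn
      rw [← h] at ht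
      exact absurd (mem_centralizer_singleton_iff.1 ht.1) h'
  have key : ∀ g ∈ G, (d * (g * d * g⁻¹)) ^ 2 = 1 ∨ (d * (g * d * g⁻¹)) ^ 3 = 1 := by
    intro g hg
    rcases hdc g hg with h | ⟨s, hs, a, ha, b, hb, rfl⟩
    · left; rw [hc g h, mul_inv_cancel_right, h2, one_pow]
    · have : d * (a * s * b * d * (a * s * b)⁻¹) = a * (d * (s * d * s⁻¹)) * a⁻¹ := by
        rw [mul_assoc _ b d, hc b hb, ← mul_assoc a d, hc a ha]; group
      rw [this, conj_pow, conj_pow]
      rcases hS s hs with h | h <;> simp [h]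
  refine ⟨?_, ?_, ?_, ?_, ?_⟩
  · intro x hx
    obtain ⟨g, rfl⟩ := isConj_iff.1 hx
    have : Fact (Nat.Prime 2) := ⟨Nat.prime_two⟩
    refine orderOf_eq_prime ?_ ?_
    · rw [conj_pow, show d' ^ 2 = 1 from Subtype.ext (by simpa [pow_two] using h2)]; simp
    · intro h
      exact h1 (congrArg Subtype.val (conj_eq_one_iff.1 h))
  · intro x hx y hy
    obtain ⟨a, rfl⟩ := isConj_iff.1 hx
    obtain ⟨b, rfl⟩ := isConj_iff.1 hy
    have : a * d' * a⁻¹ * (b * d' * b⁻¹) = a * (d' * ((a⁻¹ * b) * d' * (a⁻¹ * b)⁻¹)) * a⁻¹ := by group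
    rw [this, conj_pow, conj_pow, conj_eq_one_iff, conj_eq_one_iff, Subtype.ext_iff, Subtype.ext_iff]
    exact key _ (a⁻¹ * b).2
  · have : (closure D).Normal := by
      have : closure D = normalClosure {d'} := by
        rw [normalClosure]; congr 1; ext x
        rw [Group.mem_conjugatesOfSet_iff]
        exact ⟨fun h => ⟨_, rfl, h⟩, fun ⟨_, e, h⟩ => by rwa [Set.mem_singleton_iff.1 e] at h⟩
      rw [this]; infer_instance
    refine this.eq_bot_or_eq_top.resolve_left fun h => h1 ?_
    have : d' ∈ closure D := subset_closure (IsConj.refl _)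
    rw [h] at this
    exact congrArg Subtype.val (mem_bot.1 this)
  · have h3 : D = orbit (ConjAct G) d' := by
      ext x; rw [ConjAct.mem_orbit_conjAct, isConj_comm]; rfl
    have h4 := index_mul_card (stabilizer (ConjAct G) d')
    rw [index_stabilizer, ← nat_card_centralizer_nat_card_stabilizer, hC,
      Nat.card_congr (subgroupOfEquivOfLe hH).toEquiv, ← Nat.card_congr ConjAct.toConjAct.toEquiv,
      hcard] at h4
    rw [h3]
    exact Nat.eq_of_mul_eq_mul_right Nat.card_pos h4
  · intro x hx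
    obtain ⟨g, rfl⟩ := isConj_iff.1 hx
    have : centralizer {g * d' * g⁻¹} = (centralizer {d'}).map (MulAut.conj g).toMonoidHom := by
      ext y
      simp only [mem_centralizer_singleton_iff, mem_map_equiv, MulAut.conj_symm_apply]
      constructor
      · intro h
        calc g⁻¹ * y * g * d' = g⁻¹ * (y * (g * d' * g⁻¹)) * g := by group
          _ = _ := by rw [h]; group
      · intro h
        calc y * (g * d' * g⁻¹) = g * (g⁻¹ * y * g * d') * g⁻¹ := by group
          _ = _ := by rw [h]; group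
    rw [this, hC]
    exact ⟨(equivMapOfInjective _ _ (MulAut.conj g).injective).symm.trans (subgroupOfEquivOfLe hH)⟩

/-- a central involution that is a product of squares has no complement -/
theorem not_isComplement {H : Type*} [Group H] [Finite H] (hc : Nat.card (center H) = 2) {z x y : H}
    (hz : z ∈ center H) (h1 : z ≠ 1) (h : z = x * x * (y * y)) (L : Subgroup H) :
    ¬ (center H).IsComplement' L := by
  intro hL
  have hi : L.index = 2 := hL.index_eq_card.trans hc
  have : z ∈ L := h ▸ L.mul_mem (mul_self_mem_of_index_two hi x) (mul_self_mem_of_index_two hi y)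
  exact h1 (disjoint_def.1 hL.disjoint hz this)

/-- two central quotients of a subdirect product -/
theorem quot_equiv_of_prod {A B : Type*} [Group A] [Group B] [Finite A] [Finite B]
    {D Z : Subgroup (A × B)} (hZ : Z ≤ D) (hc : ∀ z ∈ Z, ∀ g ∈ D, g * z = z * g) {u : ℕ}
    (hD : Nat.card D ≤ u * Nat.card Z)
    (h1 : Nat.card (D.map (MonoidHom.fst A B) ⧸ center (D.map (MonoidHom.fst A B))) = u)
    (h2 : Nat.card (D.map (MonoidHom.snd A B) ⧸ center (D.map (MonoidHom.snd A B))) = u) :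
    Nonempty ((D.map (MonoidHom.fst A B) ⧸ center (D.map (MonoidHom.fst A B))) ≃*
      (D.map (MonoidHom.snd A B) ⧸ center (D.map (MonoidHom.snd A B)))) := by
  have hN : (Z.subgroupOf D).Normal := ⟨fun a ha g => by
    rw [mem_subgroupOf] at ha ⊢
    simpa [hc _ ha _ g.2] using ha⟩
  have key : ∀ {X : Type _} [Group X] [Finite X] (f : A × B →* X),
      Nat.card (D.map f ⧸ center (D.map f)) = u →
      Nonempty (D ⧸ Z.subgroupOf D ≃* D.map f ⧸ center (D.map f)) := by
    intro X _ _ f h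
    let p := (QuotientGroup.mk' (center (D.map f))).comp (f.subgroupMap D)
    have hp : Function.Surjective p := (QuotientGroup.mk'_surjective _).comp (f.subgroupMap_surjective D)
    have h3 : Z.subgroupOf D ≤ p.ker := fun z hz => by
      rw [MonoidHom.mem_ker]
      refine (QuotientGroup.eq_one_iff _).2 (mem_center_iff.2 ?_)
      rintro ⟨_, g, hg, rfl⟩
      exact Subtype.ext (by simpa using congrArg f (hc _ hz g hg))
    have h4 : Z.subgroupOf D = p.ker := eq_of_le_of_card_ge h3 (by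
      have := card_eq_card_quotient_mul_card_subgroup p.ker
      rw [Nat.card_congr (QuotientGroup.quotientKerEquivOfSurjective p hp).toEquiv, h] at this
      rw [Nat.card_congr (subgroupOfEquivOfLe hZ).toEquiv]
      exact Nat.le_of_mul_le_mul_left (this ▸ hD) (h ▸ Nat.card_pos))
    exact ⟨(QuotientGroup.quotientMulEquivOfEq h4).trans (QuotientGroup.quotientKerEquivOfSurjective p hp)⟩
  have key' : ∀ {X : Type _} [Group X] [Finite X] (f : A × B →* X),
      Nat.card (D.map f ⧸ center (D.map f)) = u →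
      Nonempty (D ⧸ Z.subgroupOf D ≃* D.map f ⧸ center (D.map f)) := by
    intro X _ _ f h
    let p := (QuotientGroup.mk' (center (D.map f))).comp (f.subgroupMap D)
    have hp : Function.Surjective p := (QuotientGroup.mk'_surjective _).comp (f.subgroupMap_surjective D)
    have h3 : Z.subgroupOf D ≤ p.ker := fun z hz => by
      rw [MonoidHom.mem_ker]
      refine (QuotientGroup.eq_one_iff _).2 (mem_center_iff.2 ?_)
      rintro ⟨_, g, hg, rfl⟩
      exact Subtype.ext (by simpa using congrArg f (hc _ hz g hg))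
    have h4 : Z.subgroupOf D = p.ker := eq_of_le_of_card_ge h3 (by
      have := card_eq_card_quotient_mul_card_subgroup p.ker
      rw [Nat.card_congr (QuotientGroup.quotientKerEquivOfSurjective p hp).toEquiv, h] at this
      rw [Nat.card_congr (subgroupOfEquivOfLe hZ).toEquiv]
      exact Nat.le_of_mul_le_mul_left (this ▸ hD) (h ▸ Nat.card_pos))
    exact ⟨(QuotientGroup.quotientMulEquivOfEq h4).trans (QuotientGroup.quotientKerEquivOfSurjective p hp)⟩
  obtain ⟨e1⟩ := key _ h1
  obtain ⟨e2⟩ := key' _ h2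
  exact ⟨e1.symm.trans e2⟩

end

end CfsgH6
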