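/-
More glue: central subgroups, non-split double covers.
-/
import Cfsg.Agent.H6.DCe
import Cfsg.Prelude.Def_SporadicB

set_option autoImplicit false

namespace CfsgH6

open CfsgH5 Subgroup MulAction

noncomputable section

variable {O : GOps} {Γ : Type*} [Group Γ] {C : GC O Γ} {R : ℕ → ℕ}

theorem comm_genL {G : Subgroup Γ} {M : ℕ} {L : List ℕ}
    (h : ∀ z ∈ L, ∀ g ∈ G, g * C.el (R z) = C.el (R z) * g)
    (e : band (allL L fun i => Nat.blt i 1024) (subM M (insL L 0)) = true) :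
    ∀ y ∈ C.gen R M, ∀ g ∈ G, g * y = y * g := by
  have : C.gen R M ≤ centralizer (G : Set Γ) := by
    rw [GC.gen, closure_le]
    exact GC.forall_els (P := fun y => y ∈ centralizer (G : Set Γ)) h e
  exact fun y hy => this hy

theorem gen1_le_ker {O' : GOps} {Γ' : Type*} [Group Γ'] {C' : GC O' Γ'} {f : Γ →* Γ'} {pr : ℕ → ℕ}
    (hf : ∀ g, C'.code (f g) = pr (C.code g)) {z M : ℕ} (hz : C.In ⊤ (R z))
    (h : band (Nat.beq M (ins 0 z)) (Nat.beq (pr (R z)) O'.one) = true) : C.gen R M ≤ f.ker := by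
  simp only [band_eq, Bool.and_eq_true, beq_true_iff] at h
  rw [h.1, GC.gen_ins, GC.gen_zero, bot_sup_eq, zpowers_le, MonoidHom.mem_ker]
  exact C'.inj (by rw [hf, hz.code_el, h.2, C'.code_one])

theorem card_gen1 [Finite Γ] {z M p : ℕ} (hz : C.In ⊤ (R z)) (hp : p.Prime)
    (h : band (Nat.beq (powC O (R z) p) O.one) (bnot (Nat.beq (R z) O.one)) = true)
    (e : Nat.beq M (ins 0 z) = true) : Nat.card (C.gen R M) = p := by
  have := Fact.mk hp
  obtain ⟨⟨h1, h2⟩, -⟩ := hz.prime_dvd hp h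
  rw [(beq_true_iff _ _).1 e, GC.gen_ins, GC.gen_zero, bot_sup_eq, Nat.card_zpowers,
    orderOf_eq_prime h1 h2]

theorem up_div {z c c' n n' : ℕ} (h : z * c ≤ c') (h' : c' ≤ n')
    (e : band (Nat.blt 0 z) (Nat.ble n' (Nat.mul z n)) = true) : c ≤ n := up_step h h' e

/-- the order of the product of `d` with a conjugate -/
def conjOrd (O : GOps) (R : ℕ → ℕ) (M d g c k : ℕ) : Bool :=
  band (tb M d) <| band (tb M g) <| band (tb M c) <| band (Nat.ble 1 k) <|
    band (Nat.beq (O.mul (R c) (R g)) (O.mul (R g) (R d)))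
      (Nat.beq (fH (O.mul (R d) (R c)) fun x => powC O x k) O.one)

theorem GC.Mem.conjOrd {M d g c k : ℕ} (hM : C.Mem R ⊤ M) (h : conjOrd O R M d g c k = true) :
    (C.el (R d) * (C.el (R g) * C.el (R d) * (C.el (R g))⁻¹)) ^ k = 1 := by
  simp only [CfsgH6.conjOrd, band_eq, Bool.and_eq_true, beq_true_iff, ble_true_iff, fH_eq] at h
  obtain ⟨h1, h2, h3, h4, h5, h6⟩ := h
  rw [← (hM.get h1).code_el, ← (hM.get h3).code_el] at h5 h6
  rw [← (hM.get h2).code_el, ← C.code_mul, ← C.code_mul, C.inj.eq_iff] at h5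
  rw [← C.code_mul, GC.code_pow _ (by omega), ← C.code_one, C.inj.eq_iff] at h6
  rw [← h5, mul_inv_cancel_right, h6]

theorem GC.In.not_comm {a b : ℕ} (ha : C.In ⊤ (R a)) (hb : C.In ⊤ (R b))
    (h : bnot (Nat.beq (O.mul (R a) (R b)) (O.mul (R b) (R a))) = true) :
    C.el (R a) * C.el (R b) ≠ C.el (R b) * C.el (R a) := by
  simp only [bnot_eq, Bool.not_eq_true', ← Bool.not_eq_true, beq_true_iff] at h
  rwa [← ha.code_el, ← hb.code_el, ← C.code_mul, ← C.code_mul, C.inj.eq_iff] at h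

theorem index_ne_two [Finite Γ] {G Z : Subgroup Γ}
    (h : ∀ N : Subgroup Γ, N ≤ G → NormBy G N → N ≤ Z ∨ N = G) (hc : 2 * Nat.card Z < Nat.card G)
    (L : Subgroup G) : L.index ≠ 2 := by
  intro hL
  have hN := normal_of_index_eq_two hL
  have h1 := index_mul_card L
  have h2 : Nat.card (L.map G.subtype) = Nat.card L := card_map_of_injective G.subtype_injective
  rcases h (L.map G.subtype) (map_subtype_le L) (by
    rintro g hg _ ⟨x, hx, rfl⟩
    exact ⟨_, hN.conj_mem x hx ⟨g, hg⟩, rfl⟩) with h | h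
  · have := card_le_of_le h
    rw [hL] at h1; omega
  · rw [h] at h2
    have : 0 < Nat.card L := Nat.card_pos
    rw [hL] at h1; omega

theorem nonsplit_of {H H' K : Type*} [Group H] [Group H'] [Group K] [Finite H] (e : H' ≃* H)
    (h1 : Nat.card (center H) = 2) (h2 : Nonempty (H ⧸ center H ≃* K))
    (h3 : ∀ L : Subgroup H, L.index ≠ 2) : Cfsg.IsNonsplitDoubleCover H' K := by
  obtain ⟨e'⟩ := h2
  have h4 := (card_center_congr e).trans h1
  refine ⟨h4, ⟨(quotCenterEquiv e).trans e'⟩, fun L hL => h3 (L.map e.toMonoidHom) ?_⟩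
  rw [index_map_of_bijective e.bijective, hL.index_eq_card, h4]

theorem dichotomy_mono {G Z Z' : Subgroup Γ} (h : ∀ N : Subgroup Γ, N ≤ G → NormBy G N → N ≤ Z ∨ N = G)
    (hZ : Z ≤ Z') (N : Subgroup Γ) (h1 : N ≤ G) (h2 : NormBy G N) : N ≤ Z' ∨ N = G :=
  (h N h1 h2).imp_left fun h => h.trans hZ

/-- a forest for the image of a subgroup -/
theorem Cov.of_map {Γ' : Type*} [Group Γ'] (f : Γ →* Γ') {α : Type*} [MulAction Γ' α] {T : Subgroup Γ}
    {Rs : Set Γ} {β : α} {n : ℕ} (h : Cov (T.map f) (f '' Rs) β n) :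
    Cov (α := Via f α) T Rs β n := by
  obtain ⟨y, hy, h⟩ := h
  refine ⟨y, hy, fun k => ?_⟩
  obtain ⟨_, ⟨τ, hτ, rfl⟩, _, ⟨ρ, hρ, rfl⟩, e⟩ := h k
  exact ⟨τ, hτ, ρ, hρ, e⟩

end

end CfsgH6
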