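/-
Sums over the 196560 minimal vectors, computed on codes.
-/
import Cfsg.Agent.H6.Leech

set_option autoImplicit false
set_option linter.unusedSimpArgs false
set_option linter.unusedVariables false

namespace CfsgH6

open CfsgH5 Cfsg Finset

noncomputable section

/-- strict evaluation of a large number; the value is kept with well spread low bits -/
def forceH {α : Type} (n : ℕ) (k : ℕ → α) : α :=
  Nat.rec (motive := fun _ => α) (k 0) (fun h _ => k (Nat.shiftRight h 64))
    (Nat.succ (Nat.add (Nat.shiftLeft n 64) (Nat.mod n 18446744073709551557)))

@[simp] theorem forceH_eq {α : Type} (n : ℕ) (k : ℕ → α) : forceH n k = k n := by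
  show k ((n <<< 64 + n % 18446744073709551557) >>> 64) = k n
  have := Nat.mod_lt n (by norm_num : 0 < 18446744073709551557)
  rw [Nat.shiftLeft_eq, Nat.shiftRight_eq_div_pow]
  congr 1; omega

/-- `a` in the digit `i` -/
def U (a i : ℕ) : ℕ := Nat.shiftLeft a (Nat.mul 16 i)

/-- the number with given digits, as a loop -/
def evK (n : ℕ) (f : ℕ → ℕ) : ℕ :=
  Nat.rec (motive := fun _ => ℕ) 0 (fun k acc => Nat.add acc (U (f k) k)) n

theorem U_eq (a i : ℕ) : U a i = a * 65536 ^ i := by
  show a <<< (16 * i) = _
  rw [Nat.shiftLeft_eq, pow_mul]; rfl

theorem evK_eq (n : ℕ) (f : ℕ → ℕ) : evK n f = ev n f := by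
  induction n with
  | zero => rfl
  | succ n ih => rw [ev_succ, ← ih, ← U_eq]; rfl

theorem U_eq_ev (a : ℕ) {i : ℕ} (hi : i < 24) : U a i = ev 24 fun j => if j = i then a else 0 := by
  rw [U_eq, ev, sum_eq_single i] <;> simp +contextual [hi]

theorem U_lt {a i : ℕ} (ha : a < 65536) (hi : i < 24) : U a i < 65536 ^ 24 := by
  rw [U_eq_ev a hi]; exact ev_lt fun k _ => by split_ifs <;> omega

theorem dg_U {a i : ℕ} (ha : a < 65536) (hi : i < 24) {j : ℕ} (hj : j < 24) :
    dg (U a i) j = if j = i then a else 0 := by
  rw [U_eq_ev a hi, dg_ev (fun k _ => by split_ifs <;> omega), if_pos hj]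

theorem mul_ev (c n : ℕ) (f : ℕ → ℕ) : c * ev n f = ev n fun k => c * f k := by
  unfold ev; rw [mul_sum]; exact sum_congr rfl fun k _ => by ring

/-- the code word `cw k` spread over the digits -/
def scw (k : ℕ) : ℕ :=
  Nat.xor (Nat.land (Nat.shiftRight 0x100010000000000010000000100010001000000000000000000000000000100010001000100010001000100010000000100010001000100000000000000010000000000000000000000000000000100010001000100010000000000010000000100000000000000000001000000000000000000000000000000000000000100010001000100000001000100000000000100000001000100010001000100000001000000000000000000000000000100010001000100000000000100010000000000010001000000010001000100000000000000000000000000000000000100010001000000010001000000000000000000010000000100000001000000000001000000000000000000000000000100010001000000010000000100000000000000000001000000000000000000010001000000000000000000000000000100010001000000000001000000010000000000000000000100010000000100010000000000000000000000000000000100010001000000000000000000010001000100000001000100010000000100000000000000000000000000000000000100010000000100010001000100000001000100000000000000000000000000000001000000000000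000000000000000100010000000100010000000000000001000100010001000100000001000000010001000000000000000000000000000100010000000100000001000100010001000100010000000000010001000100010000000000000000000000000000000100010000000100000000000100000001000000000000000100010001000100010001000000000000000000000000000100010000000000010001000000010001000000000001000000000001000000010000000000000000000000000000000100010000000000010000000100010001000000010000000100000000000000000000000000000000000000000000000100010000000000000001000000000001000000010001000000010000000100000001000000000000000000000000000100010000000000000000000100000000000000000000000100000000000100000000000000000000000000000000000100000001000100010001000000010000000000000001000000010000000000000001000000000000000000000000000100000001000100010000000100010000000000010000000100010001000000010001000000000000000000000000000100000001000100000001000000000000000000010001000000000001000100010000000000000000000000000000000100000001000100000000000000010000000100000001000100000001000100010001000000000000000000000000000100000001000000010001000100000000000100000000000000010001000000010000000000000000000000000000000100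000001000000010000000000000000000100010001000100010000000000000000000000000000000000000000000100000001000000000001000100010000000100010000000000000000000100000001000000000000000000000000000100000001000000000000000100010001000000010001000000000000000100010001000000000000000000000000000100000000000100010001000000000001000000010000000100010000000000010000000000000000000000000000000100000000000100010000000100000001000000000001000000010001000000000000000000000000000000000000000100000000000100000001000000010001000000000000000100000001000100000001000000000000000000000000000100000000000100000000000000000001000100010000000000000001000100000000000000000000000000000000000100000000000000010001000100010001000100010001000100010001000000000001000000000000000000000000000100000000000000010000000000010001000100000000000000010000000000010001000000000000000000000000000100000000000000000001000100000001000100000001000100000000000100010000000000000000000000000000000100000000000000000000000100000001000000010001000100010000000000000001000000000000000000000000000000010001000100010001000000010001000000010000000000000000000100000000000000000000000000000000000000010001000100010000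000100010001000000000001000100000001000100010000000000000000000000000000000000010001000100000001000000000001000000000000000000010001000000010001000000000000000000000000000000010001000100000000000000010001000100010000000100010001000000010000000000000000000000000000000000010001000000010001000100000001000100010001000000000001000100010001000000000000000000000000000000010001000000010000000000000001000100000000000100000000000100000001000000000000000000000000000000010001000000000001000100010001000100000001000000010000000000000000000000000000000000000000000000010001000000000000000100010000000000000000000000010000000000010000000000000000000000000000000000010000000100010001000000000000000000000001000100000000000100010001000000000000000000000000000000010000000100010000000100000000000000010000000000000001000100000001000000000000000000000000000000010000000100000001000000010000000000010001000100010001000000000000000000000000000000000000000000010000000100000000000000000000000100000001000000010001000000000001000000000000000000000000000000010000000000010001000100010000000100000000000100000001000100000000000000000000000000000000000000010000000000010000000000010000000100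010001000000000000000100010000000000000000000000000000000000010000000000000001000100000000000100010000000100010000000000010001000000000000000000000000000000010000000000000000000000000001000100000001000000000000000000010000000000000000000000000000000000000001000100010001000100010001000100000000000100010000000100010001000000000000000000000000000000000001000100010000000000010001000100010001000000010001000100000001000000000000000000000000000000000001000100000001000100000001000100010000000100000001000000000000000000000000000000000000000000000001000100000000000100010001000000000000000000000001000000000001000000000000000000000000000000000001000000010001000000000001000000000001000100010001000100000000000000000000000000000000000000000001000000010000000100000001000000010000000000010000000100010000000000000000000000000000000000000001000000000001000000010001000000010001000100000000000000010001000000000000000000000000000000000001000000000000000000010000000100010000000100000000000000000001000000000000000000000000000000000000000100010001000100000000000100010001000000010000000100000000000000000000000000000000000000000000000100010000000000000000000100000000000100010001000100010000000000000000000000000000000000000000000100000001000100010000000100000001000000000001000000010001000000000000000000000000000000000000000100000000000100000000000000010001000100000001000000010000000000000000000000000000000000000000000000010001000000010000000000010000000000010001000100010001000000000000000000000000000000000000000000010000000100010000000000000001000100010000000100000001000000000000000000000000000000000000000000000001000000000000000000000000000000000000000000000000000000000000000000000000000000000000000000000000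 (Nat.mul 384 (Nat.land k 63))) 0xffffffffffffffffffffffffffffffffffffffffffffffffffffffffffffffffffffffffffffffffffffffffffffffff)
    (Nat.land (Nat.shiftRight 0x1000100010000000000010001000000010000000000000001000100010001000100010000000000000000000000000000000000000000000100000001000000000001000000000001000100010001000100000000000000000000000000000001000100010001000100000000000000000001000000010001000100010001000000010000000000000000000000000000000000000001000000010000000000010000000000010001000100010001000000000000000000000000000000000001000100000001000100000001000100000000000100000001000100010000000100010000000000000000000000000000000000010001000000010001000100010001000100000001000100010000000100000000000000000000000000000001000100000000000000010000000100010001000100010001000100010000000000010000000000000000000000000000000000010000000100000000000100000000000100010001000100010000000000000000000000000000000000000001000000000001000100010000000100010001000000000001000100000001000100010000000000000000000000000000000100010001000000000000000100000000000000000001000100000001000100000000000000000000000000000001000000000000000000000001000100000000000000010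001000100000001000000010000000000000000000000000000000100010000000100010001000100010001000000010001000100000001000000000000000000000000000000000001000000010000000000000000000000000001000100000001000100000000000100010000000000000000000000000000000100000000000100010000000000010000000100000001000100000000000100000000000000000000000000000001000000010001000100010001000000010000000100010001000100000000000000010000000000000000000000000000000100000001000000000001000000000001000100010001000100000000000000000000000000000000000000000000000100000001000000010001000100000001000000010001000000010001000100010000000000000000000000000001000000010001000100000001000100010000000000010001000000010001000100000000000000000000000000000000000100000000000100000000000100010000000000000001000000010001000000010000000000000000000000000001000000010000000000010000000100000001000000000001000000010001000000000000000000000000000000000000000100010000000100000001000000010001000100010001000000010000000100010000000000000000000000000001000000000000000000010001000000000000000100010001000000010000000100000000000000000000000000000000000100010001000000010000000000000000000100000001000000010000000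000010000000000000000000000000001000000000001000100000000000000010001000100000001000000010000000000000000000000000000000000000000000000010000000100010000000000000000000000010001000000000001000100010000000000000000000000000001000100000000000000000000000000010001000000010001000000000001000100000000000000000000000000000000000000010001000000000001000000010001000000000001000000000001000000010000000000000000000000000001000100000001000100010001000000000000000000000001000000000001000000000000000000000000000000000000000000000001000000000000000100010000000100010001000000000000000100010000000000000000000000000001000100010001000100010000000100000001000100010001000000000000000100000000000000000000000000000000000000000000000100010001000100000001000100000001000000000000000000010000000000000000000000000001000100010000000000000001000100010000000100000001000000000000000000000000000000000000000000000000000000000000000000010000000100000000000100000000000100010001000100010000000000000000000000000001000100010000000100000000000100010001000100000000000100010001000100000000000000000000000000000000000000000001000100000001000100010001000100010000000100010001000000010000000000000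000000000000001000100010001000000010001000100000000000100010000000100010001000000000000000000000000000000000000000000010001000100000000000000010000000000000000000100010000000100010000000000000000000000000001000100000001000000010000000000000001000000000000000100010000000100000000000000000000000000000000000000010000000000010001000000000001000000010000000100010000000000010000000000000000000000000001000100000000000100000001000000010000000000010000000100010000000000000000000000000000000000000000000100010001000100010001000000000001000100000000000100000001000100010000000000000000000000000001000000000001000000000001000000010000000100000000000100000001000100000000000000000000000000000000000100010000000000000000000000010000000100010000000100000001000000010000000000000000000000000001000000000000000100010000000000000001000100010000000100000001000000000000000000000000000000000000000100000000000000000001000100010001000000000000000100000000000100010000000000000000000000000001000000010000000100010001000100000000000000000000000100000000000100000000000000000000000000000000000100000001000100010000000100000000000000010000000100000000000000010000000000000000000000000001000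00001000100000000000000010001000100000001000000010000000000000000000000000000000000000000000100000001000100000001000000000001000100010001000000000001000100010001000000000000000000000000000000010000000100010000000000000000000000010001000000000001000100010000000000000000000000000000000100000001000000010000000100000000000000010000000000000001000100000001000000000000000000000000000000010000000000000001000100000001000100010000000000000001000100000000000000000000000000000000000100000000000000010000000000010000000100000001000000000001000000010001000000000000000000000000000000010001000000000001000000010001000000000001000000000001000000010000000000000000000000000000000100000000000100000001000100010001000000000000000000000001000000000001000000000000000000000000000000010001000100010000000100010000000100000000000000000001000000000000000000000000000000000000000100010000000000010001000100010001000000010001000000000000000100010001000000000000000000000000000000000001000000000000000100010000000100010001000000000000000100010000000000000000000000000000000100010000000100000000000000010000000100010000000000000000000100000001000000000000000000000000000000000001000100010001000000010001000000010000000000000000000100000000000000000000000000000000000100010001000100000000000100000000000000000001000000000000000000010001000000000000000000000000000000000000000100010001000100000001000100000001000000000000000000010000000000000000000000000000000100010001000000010001000000000001000100000000000000000000000000000001000000000000000000000000000000000000000000000000000000000000000000000000000000000000000000000000000000000000000000000000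 (Nat.mul 384 (Nat.shiftRight k 6))) 0xffffffffffffffffffffffffffffffffffffffffffffffffffffffffffffffffffffffffffffffffffffffffffffffff)

theorem scw_chk : allLt 4096 (fun k => force (cw k) fun c => Nat.beq (scw k) (evK 24 (bit c))) = true := by
  decide +kernel

theorem scw_eq {k : ℕ} (hk : k < 4096) : scw k = ev 24 (bit (cw k)) := by
  have := (allLt_iff _ _).1 scw_chk k hk
  rwa [force_eq, beq_true_iff, evK_eq] at this

theorem bit_le (m i : ℕ) : bit m i ≤ 1 := by rw [bit_eq]; split_ifs <;> omega

theorem mul_scw_lt {k : ℕ} (hk : k < 4096) {c : ℕ} (hc : c < 65536) : c * scw k < 65536 ^ 24 := by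
  rw [scw_eq hk, mul_ev]
  exact ev_lt fun i _ => lt_of_le_of_lt (Nat.mul_le_mul_left _ (bit_le _ _)) (by omega)

theorem dg_mul_scw {k : ℕ} (hk : k < 4096) {c : ℕ} (hc : c < 65536) (i : GolayPt) :
    dg (c * scw k) (pn i) = if i ∈ ts (cw k) then c else 0 := by
  rw [scw_eq hk, mul_ev, dg_ev (fun i _ => lt_of_le_of_lt (Nat.mul_le_mul_left _ (bit_le _ _))
    (by omega)), if_pos (pn_lt i), bit_eq]
  simp

/-- all digits equal to nine -/
def NINES : ℕ := 0x900090009000900090009000900090009000900090009000900090009000900090009000900090009000900090009

theorem NINES_lt : NINES < 65536 ^ 24 := by decide +kernel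
theorem ZERO_lt : ZERO < 65536 ^ 24 := by decide +kernel
theorem dg_NINES (i : GolayPt) : dg NINES (pn i) = 9 := by revert i; decide +kernel
theorem dg_ZERO (i : GolayPt) : dg ZERO (pn i) = 8 := by revert i; decide +kernel

theorem pn_eq_iff {j : GolayPt} {i : ℕ} (hi : i < 24) : pn j = i ↔ j = pt i :=
  ⟨fun h => by rw [← h, pt_pn], fun h => by rw [h, pn_pt hi]⟩

theorem code_vc {k i : ℕ} (hk : k < 4096) (hi : i < 24) :
    Nat.xor (Nat.xor NINES (Nat.mul 14 (scw k))) (U 12 i) = enc (vc (ts (cw k)) (pt i)) := by
  apply eq_enc (xor_lt_pow (xor_lt_pow NINES_lt (mul_scw_lt hk (by norm_num))) (U_lt (by norm_num) hi))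
  intro j
  rw [dg_xor, dg_xor, dg_NINES, dg_mul_scw hk (by norm_num), dg_U (by norm_num) hi (pn_lt j)]
  simp only [pn_eq_iff hi, vc]
  split_ifs <;> rfl

theorem code_two {k : ℕ} (hk : k < 4096) :
    Nat.xor ZERO (Nat.mul 2 (scw k)) = enc (vb (ts (cw k)) ∅) := by
  apply eq_enc (xor_lt_pow ZERO_lt (mul_scw_lt hk (by norm_num)))
  intro j
  rw [dg_xor, dg_ZERO, dg_mul_scw hk (by norm_num)]
  simp only [vb, notMem_empty, if_false]
  split_ifs <;> rfl

theorem bd_vb (O S : Finset GolayPt) : Bd 8 (vb O S) := fun i => by unfold vb; split_ifs <;> omega

theorem code_flip {O : Finset GolayPt} (S : Finset GolayPt) {p : GolayPt} (hp : p ∈ O) :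
    Nat.xor (enc (vb O S)) (U 12 (pn p)) = enc (vb O (symmDiff S {p})) := by
  apply eq_enc (xor_lt_pow (enc_lt (bd_vb O S)) (U_lt (by norm_num) (pn_lt p)))
  intro j
  have h := dg_enc (bd_vb O S) j
  rw [dg_xor, dg_U (by norm_num) (pn_lt p) (pn_lt j)]
  simp only [pn_eq_iff (pn_lt p), pt_pn]
  by_cases hj : j = p
  · subst hj
    by_cases hS : j ∈ S
    · have : dg (enc (vb O S)) (pn j) = 6 := by simp [vb, hp, hS] at h; omega
      rw [this]; simp [vb, hp, hS, mem_symmDiff]
    · have : dg (enc (vb O S)) (pn j) = 10 := by simp [vb, hp, hS] at h; omega
      rw [this]; simp [vb, hp, hS, mem_symmDiff]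
  · simp only [hj, if_false, Nat.xor_eq, Nat.xor_zero, h]
    simp [vb, mem_symmDiff, hj]

theorem code_va {i j : ℕ} (hi : i < 24) (hj : j < i) (s t : Bool) :
    Nat.xor (Nat.xor ZERO (U (if s then 12 else 4) i)) (U (if t then 12 else 4) j) =
      enc (va (pt i) (pt j) s t) := by
  have hs : (if s then 12 else 4) < 65536 := by split_ifs <;> omega
  have ht : (if t then 12 else 4) < 65536 := by split_ifs <;> omega
  have hj' : j < 24 := by omega
  apply eq_enc (xor_lt_pow (xor_lt_pow ZERO_lt (U_lt hs hi)) (U_lt ht hj'))
  intro k
  rw [dg_xor, dg_xor, dg_ZERO, dg_U hs hi (pn_lt k), dg_U ht hj' (pn_lt k)]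
  have hne : pt i ≠ pt j := fun h => by have := E24.dec_inj hi hj' h; omega
  simp only [pn_eq_iff hi, pn_eq_iff hj', va]
  by_cases h1 : k = pt i
  · subst h1; simp only [hne, if_true, if_false]; cases s <;> rfl
  · simp only [h1, if_false]
    split_ifs <;> rfl

/-! ### The loops -/

/-- sum of `f` over a list -/
def sumL (l : List ℕ) (f : ℕ → ℕ) : ℕ :=
  List.rec (motive := fun _ => ℕ) 0 (fun a _ ih => Nat.add (f a) ih) l

theorem sumL_eq (l : List ℕ) (f : ℕ → ℕ) : sumL l f = (l.map f).sum := by
  induction l with
  | nil => rfl
  | cons a l ih => show f a + sumL l f = _; simp [ih]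

/-- the numbers below 24 -/
def R24 : List ℕ := [0, 1, 2, 3, 4, 5, 6, 7, 8, 9, 10, 11, 12, 13, 14, 15, 16, 17, 18, 19, 20, 21, 22, 23]

theorem R24_eq : R24 = List.range 24 := by decide +kernel

/-- positions of the set bits below `n`, in decreasing order -/
def posL (m n : ℕ) : List ℕ :=
  Nat.rec (motive := fun _ => List ℕ) [] (fun i ih => bif' (tb m i) (i :: ih) ih) n

theorem mem_posL (m n i : ℕ) : i ∈ posL m n ↔ i < n ∧ m.testBit i = true := by
  induction n with
  | zero => simp [posL]
  | succ n ih =>
    show i ∈ bif' (tb m n) (n :: posL m n) (posL m n) ↔ _
    rw [tb_eq]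
    by_cases h : i = n
    · subst h; cases hb : m.testBit i <;> simp [ih]
    · cases hb : m.testBit n <;> simp [ih, h] <;> intro _ <;> omega

theorem nodup_posL (m n : ℕ) : (posL m n).Nodup := by
  induction n with
  | zero => simp [posL]
  | succ n ih =>
    show (bif' (tb m n) (n :: posL m n) (posL m n)).Nodup
    cases tb m n <;> simp [ih, mem_posL]

/-- sum over all sign changes on pairs `{p, p0}`, `p` in a list -/
def goSub (f : ℕ → ℕ) (w0 : ℕ) (l : List ℕ) : ℕ → ℕ :=
  List.rec (motive := fun _ => ℕ → ℕ) f
    (fun p _ ih n => Nat.add (ih n) (forceH (Nat.xor n (Nat.xor (U 12 p) w0)) ih)) l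

/-- completes a set to even size by the point `p0` -/
def evenUp (p0 : GolayPt) (T : Finset GolayPt) : Finset GolayPt :=
  if T.card % 2 = 0 then T else insert p0 T

theorem evenUp_insert (S : Finset GolayPt) {T : Finset GolayPt} {p p0 : GolayPt} (h1 : p ∉ T)
    (h2 : p0 ∉ T) (h3 : p ≠ p0) :
    symmDiff (symmDiff (symmDiff S {p}) {p0}) (evenUp p0 T) = symmDiff S (evenUp p0 (insert p T)) := by
  unfold evenUp
  rw [card_insert_of_notMem h1]
  ext x
  by_cases h : T.card % 2 = 0
  · rw [if_pos h, if_neg (by omega)]
    simp only [mem_symmDiff, mem_singleton, mem_insert]
    by_cases hx1 : x = p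
    · subst hx1; simp [h1, h3]
    by_cases hx2 : x = p0
    · subst hx2; simp [h2, hx1]
    · simp [hx1, hx2]
  · rw [if_neg h, if_pos (by omega)]
    simp only [mem_symmDiff, mem_singleton, mem_insert]
    by_cases hx1 : x = p
    · subst hx1; simp [h1, h3]
    by_cases hx2 : x = p0
    · subst hx2; simp [h2, hx1]
    · simp [hx1, hx2]

theorem list_sum_range (n : ℕ) (f : ℕ → ℕ) : ((List.range n).map f).sum = ∑ i ∈ range n, f i := by
  induction n with
  | zero => rfl
  | succ n ih => rw [List.range_succ, List.map_append, List.sum_append, ih, sum_range_succ]; simp

theorem goSub_spec (f : ℕ → ℕ) {O : Finset GolayPt} {p0 : GolayPt} (h0 : p0 ∈ O) (l : List ℕ)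
    (hl : ∀ p ∈ l, p < 24 ∧ pt p ∈ O ∧ pt p ≠ p0) (hn : l.Nodup) (S : Finset GolayPt) :
    goSub f (U 12 (pn p0)) l (enc (vb O S)) =
      ∑ T ∈ (l.map pt).toFinset.powerset, f (enc (vb O (symmDiff S (evenUp p0 T)))) := by
  induction l generalizing S with
  | nil =>
    simp only [List.map_nil, List.toFinset_nil, powerset_empty, sum_singleton, evenUp, card_empty,
      if_true]
    rw [show (∅ : Finset GolayPt) = ⊥ from rfl, symmDiff_bot]; rfl
  | cons p l ih =>
    have hp := hl p List.mem_cons_self
    have hl' : ∀ q ∈ l, q < 24 ∧ pt q ∈ O ∧ pt q ≠ p0 := fun q hq => hl q (List.mem_cons_of_mem _ hq)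
    rw [List.nodup_cons] at hn
    have hnot : pt p ∉ (l.map pt).toFinset := by
      simp only [List.mem_toFinset, List.mem_map, not_exists, not_and]
      intro q hq h
      exact hn.1 (E24.dec_inj (hl' q hq).1 hp.1 h ▸ hq)
    show goSub f _ l _ + forceH _ (goSub f _ l) = _
    have e : Nat.xor (enc (vb O S)) (Nat.xor (U 12 p) (U 12 (pn p0))) =
        enc (vb O (symmDiff (symmDiff S {pt p}) {p0})) := by
      rw [← code_flip _ h0, ← code_flip _ hp.2.1, pn_pt hp.1]
      exact (Nat.xor_assoc _ _ _).symm
    rw [forceH_eq, e, ih hl' hn.2, ih hl' hn.2, List.map_cons, List.toFinset_cons,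
      sum_powerset_insert hnot]
    refine congrArg₂ (· + ·) rfl (sum_congr rfl fun T hT => ?_)
    rw [mem_powerset] at hT
    have h1 : pt p ∉ T := fun h => hnot (hT h)
    have h2 : p0 ∉ T := fun h => by
      have := hT h
      simp only [List.mem_toFinset, List.mem_map] at this
      obtain ⟨q, hq, e⟩ := this
      exact (hl' q hq).2.2 e
    have h3 := hp.2.2
    refine congrArg (fun S => f (enc (vb O S))) ?_
    exact evenUp_insert S h1 h2 h3

theorem sum_evenUp {O : Finset GolayPt} {p0 : GolayPt} (h0 : p0 ∈ O) (F : Finset GolayPt → ℕ) :
    ∑ T ∈ (O.erase p0).powerset, F (evenUp p0 T) =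
      ∑ S ∈ O.powerset.filter (fun S => S.card % 2 = 0), F S := by
  refine sum_nbij' (evenUp p0) (fun S => S.erase p0) ?_ ?_ ?_ ?_ fun _ _ => rfl
  · intro T hT
    simp only [mem_powerset, mem_filter, subset_erase] at *
    unfold evenUp
    split_ifs with h
    · exact ⟨hT.1, h⟩
    · exact ⟨insert_subset h0 hT.1, by rw [card_insert_of_notMem hT.2]; omega⟩
  · intro S hS
    simp only [mem_powerset, mem_filter] at *
    exact erase_subset_erase _ hS.1
  · intro T hT
    simp only [mem_powerset, subset_erase] at hT
    unfold evenUp
    split_ifs with h
    · exact erase_eq_of_notMem hT.2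
    · exact erase_insert hT.2
  · intro S hS
    simp only [mem_powerset, mem_filter] at hS
    unfold evenUp
    by_cases h : p0 ∈ S
    · have := card_erase_add_one h
      rw [if_neg (by omega), insert_erase h]
    · rw [erase_eq_of_notMem h, if_pos hS.2]

/-- sum over the even sign patterns on the code word `m` with spread `s` -/
def octSum (f : ℕ → ℕ) (m s : ℕ) : ℕ :=
  List.rec (motive := fun _ => ℕ) 0
    (fun p0 l _ => forceH (Nat.xor ZERO (Nat.mul 2 s)) (goSub f (U 12 p0) l))
    (posL m 24)

theorem octSum_spec (f : ℕ → ℕ) {k : ℕ} (hk : k < 4096) (h8 : pop24 (cw k) = 8) :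
    octSum f (cw k) (scw k) =
      ∑ S ∈ (ts (cw k)).powerset.filter (fun S => S.card % 2 = 0), f (enc (vb (ts (cw k)) S)) := by
  have hm := mem_posL (cw k) 24
  have hn := nodup_posL (cw k) 24
  have hm' : ∀ i, i ∈ posL (cw k) 24 ↔ i < 24 ∧ pt i ∈ ts (cw k) := fun i => by
    rw [hm, Enc.mem_toSet]
    exact and_congr_right fun hi => by rw [show E24.enc (pt i) = i from pn_pt hi]
  unfold octSum
  generalize posL (cw k) 24 = L at *
  cases L with
  | nil =>
    exfalso
    have : (ts (cw k)).card = 8 := by rw [card_ts (cw_lt hk), h8]
    obtain ⟨a, ha⟩ := card_pos.1 (by omega : 0 < (ts (cw k)).card)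
    have := (hm' (pn a)).2 ⟨pn_lt a, by rwa [pt_pn]⟩
    simp at this
  | cons p0 l =>
    have h0 := (hm' p0).1 List.mem_cons_self
    rw [List.nodup_cons] at hn
    have hl : ∀ p ∈ l, p < 24 ∧ pt p ∈ ts (cw k) ∧ pt p ≠ pt p0 := fun p hp => by
      have := (hm' p).1 (List.mem_cons_of_mem _ hp)
      exact ⟨this.1, this.2, fun h => hn.1 (E24.dec_inj this.1 h0.1 h ▸ hp)⟩
    show forceH _ _ = _
    rw [forceH_eq, code_two hk, ← sum_evenUp h0.2]
    nth_rewrite 1 [← pn_pt h0.1]
    rw [goSub_spec f h0.2 l hl hn.2]
    have : (l.map pt).toFinset = (ts (cw k)).erase (pt p0) := by
      ext a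
      simp only [List.mem_toFinset, List.mem_map, mem_erase]
      constructor
      · rintro ⟨p, hp, rfl⟩; exact ⟨(hl p hp).2.2, (hl p hp).2.1⟩
      · rintro ⟨h1, h2⟩
        have := (hm' (pn a)).2 ⟨pn_lt a, by rwa [pt_pn]⟩
        rcases List.mem_cons.1 this with h | h
        · exact absurd (by rw [← h, pt_pn]) h1
        · exact ⟨_, h, pt_pn a⟩
    rw [this]
    exact sum_congr rfl fun T _ => by rw [show (∅ : Finset GolayPt) = ⊥ from rfl, bot_symmDiff]

/-- the minimal vectors attached to the code word number `k` -/
def sumK (f : ℕ → ℕ) (k : ℕ) : ℕ :=
  forceH (scw k) fun s => Nat.add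
    (forceH (Nat.xor NINES (Nat.mul 14 s)) fun b => sumL R24 fun i => forceH (Nat.xor b (U 12 i)) f)
    (force (cw k) fun c => bif' (Nat.beq (pop24 c) 8) (octSum f c s) 0)

/-- the minimal vectors with two coordinates `±4` -/
def sumA (f : ℕ → ℕ) : ℕ :=
  sumLt 24 fun i => sumLt i fun j =>
    Nat.add (Nat.add (forceH (Nat.xor (Nat.xor ZERO (U 4 i)) (U 4 j)) f)
      (forceH (Nat.xor (Nat.xor ZERO (U 4 i)) (U 12 j)) f))
      (Nat.add (forceH (Nat.xor (Nat.xor ZERO (U 12 i)) (U 4 j)) f)
      (forceH (Nat.xor (Nat.xor ZERO (U 12 i)) (U 12 j)) f))

theorem sumK_spec (f : ℕ → ℕ) {k : ℕ} (hk : k < 4096) : sumK f k =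
    ∑ i ∈ range 24, f (enc (vc (ts (cw k)) (pt i))) + if pop24 (cw k) = 8 then
      ∑ S ∈ (ts (cw k)).powerset.filter (fun S => S.card % 2 = 0), f (enc (vb (ts (cw k)) S))
      else 0 := by
  simp only [sumK, force_eq, forceH_eq, Nat.add_eq, sumL_eq, R24_eq, bif'_eq, beq_true_iff]
  refine congrArg₂ (· + ·) ?_ ?_
  · rw [list_sum_range]
    exact sum_congr rfl fun i hi => by
      rw [code_vc hk (mem_range.1 hi)]
  · split_ifs with h
    · exact octSum_spec f hk h
    · rfl

theorem sumA_spec (f : ℕ → ℕ) : sumA f = ∑ i ∈ range 24, ∑ j ∈ range i, ∑ p : Bool × Bool,
    f (enc (va (pt i) (pt j) p.1 p.2)) := by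
  simp only [sumA, sumLt_eq, forceH_eq, Nat.add_eq]
  refine sum_congr rfl fun i hi => sum_congr rfl fun j hj => ?_
  rw [mem_range] at hi hj
  simp only [Fintype.sum_prod_type, Fintype.sum_bool, ← code_va hi hj]
  simp only [if_true, Bool.false_eq_true, if_false]
  ring

/-- the finite set of minimal vectors -/
def L2F : Finset V := L2_finite.toFinset

theorem mem_L2F {x : V} : x ∈ L2F ↔ x ∈ L2 := Set.Finite.mem_toFinset _

theorem vc_inj {c d : Finset GolayPt} {i j : GolayPt} (h : vc c i = vc d j) : c = d ∧ i = j := by
  constructor
  · ext k; have := congrFun h k
    unfold vc at this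
    split_ifs at this <;> simp_all
  · by_contra hij
    have := congrFun h i
    unfold vc at this
    split_ifs at this <;> simp_all

theorem vb_inj {O O' S S' : Finset GolayPt} (hS : S ⊆ O) (hS' : S' ⊆ O') (h : vb O S = vb O' S') :
    O = O' ∧ S = S' := by
  constructor <;> ext k <;> have := congrFun h k <;> have := @hS k <;> have := @hS' k <;>
    unfold vb at * <;> split_ifs at * <;> simp_all

theorem va_inj {i j i' j' : GolayPt} {s t s' t' : Bool} (hij : pn j < pn i) (hij' : pn j' < pn i')
    (h : va i j s t = va i' j' s' t') : i = i' ∧ j = j' ∧ s = s' ∧ t = t' := by
  have hne := ne_of_pn_lt hij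
  have hne' := ne_of_pn_lt hij'
  have nz : ∀ {i j : GolayPt} {s t : Bool} (k : GolayPt), va i j s t k ≠ 0 ↔ k = i ∨ k = j := by
    intro i j s t k; unfold va; split_ifs <;> simp_all
  have h1 : va i j s t i ≠ 0 := (nz i).2 (Or.inl rfl)
  have h2 : va i j s t j ≠ 0 := (nz j).2 (Or.inr rfl)
  rw [h, nz] at h1 h2
  have hi : i = i' ∧ j = j' := by
    rcases h1 with h1 | h1 <;> rcases h2 with h2 | h2
    · exact absurd (h1.trans h2.symm) hne
    · exact ⟨h1, h2⟩
    · subst h1 h2; omega
    · exact absurd (h1.trans h2.symm) hne
  obtain ⟨rfl, rfl⟩ := hi
  have h1 := congrFun h i
  have h2 := congrFun h j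
  unfold va at h1 h2
  refine ⟨rfl, rfl, ?_, ?_⟩
  · cases s <;> cases s' <;> simp_all
  · cases t <;> cases t' <;> simp_all [hne.symm]

theorem ts_cw_inj {j k : ℕ} (hj : j < 4096) (hk : k < 4096) (h : ts (cw j) = ts (cw k)) : j = k :=
  cw_inj hj hk (E24.toSet_inj (cw_lt hj) (cw_lt hk) h)

theorem sum_L2F (F : V → ℕ) (R R' : Finset ℕ) (hR : ∀ k, k ∈ R ↔ k < 4096)
    (hR' : ∀ k, k ∈ R' ↔ k < 24) : ∑ x ∈ L2F, F x =
    ∑ k ∈ R, (∑ i ∈ R', F (vc (ts (cw k)) (pt i)) + if pop24 (cw k) = 8 then
      ∑ S ∈ (ts (cw k)).powerset.filter (fun S => S.card % 2 = 0), F (vb (ts (cw k)) S) else 0) +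
    ∑ i ∈ R', ∑ j ∈ range i, ∑ p : Bool × Bool, F (va (pt i) (pt j) p.1 p.2) := by
  classical
  let FC : Finset V := (R ×ˢ R').image fun p => vc (ts (cw p.1)) (pt p.2)
  let FB : Finset V := (((R).filter fun k => pop24 (cw k) = 8).sigma fun k =>
    (ts (cw k)).powerset.filter fun S => S.card % 2 = 0).image fun p => vb (ts (cw p.1)) p.2
  let FA : Finset V := ((R').sigma fun i => range i ×ˢ (univ : Finset (Bool × Bool))).image
    fun p => va (pt p.1) (pt p.2.1) p.2.2.1 p.2.2.2
  have hC : ∀ x, x ∈ FC ↔ ∃ c ∈ Sup, ∃ i, x = vc c i := fun x => by
    simp only [FC, mem_image, mem_product, mem_range, hR, hR', mem_Sup_iff]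
    constructor
    · rintro ⟨p, ⟨h1, -⟩, rfl⟩; exact ⟨_, ⟨_, h1, rfl⟩, _, rfl⟩
    · rintro ⟨_, ⟨k, hk, rfl⟩, i, rfl⟩; exact ⟨(k, pn i), ⟨hk, pn_lt i⟩, by rw [pt_pn]⟩
  have hB : ∀ x, x ∈ FB ↔ ∃ O ∈ octads, ∃ S ⊆ O, S.card % 2 = 0 ∧ x = vb O S := fun x => by
    simp only [FB, mem_image, mem_sigma, mem_filter, mem_range, hR, hR', mem_powerset, mem_octads, mem_Sup_iff]
    constructor
    · rintro ⟨p, ⟨⟨h1, h2⟩, h3, h4⟩, rfl⟩
      exact ⟨_, ⟨⟨_, h1, rfl⟩, by rw [card_ts (cw_lt h1), h2]⟩, _, h3, h4, rfl⟩
    · rintro ⟨_, ⟨⟨k, hk, rfl⟩, h2⟩, S, h3, h4, rfl⟩
      exact ⟨⟨k, S⟩, ⟨⟨hk, by rwa [card_ts (cw_lt hk)] at h2⟩, h3, h4⟩, rfl⟩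
  have hA : ∀ x, x ∈ FA ↔ ∃ i j s t, pn j < pn i ∧ x = va i j s t := fun x => by
    simp only [FA, mem_image, mem_sigma, mem_range, hR, hR', mem_product, mem_univ, and_true]
    constructor
    · rintro ⟨p, ⟨h1, h2⟩, rfl⟩
      exact ⟨_, _, _, _, by rw [pn_pt h1, pn_pt (h2.trans h1)]; exact h2, rfl⟩
    · rintro ⟨i, j, s, t, h, rfl⟩
      exact ⟨⟨pn i, pn j, s, t⟩, ⟨pn_lt i, h⟩, by simp [pt_pn]⟩
  have hU : L2F = FC ∪ FB ∪ FA := by
    ext x; rw [mem_L2F, mem_L2_iff, mem_union, mem_union, hC, hB, hA, or_assoc]
  have d1 : Disjoint FC FB := by
    rw [disjoint_left]
    intro x h1 h2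
    obtain ⟨c, -, i, rfl⟩ := (hC x).1 h1
    obtain ⟨O, -, S, -, -, h⟩ := (hB _).1 h2
    have := congrFun h none
    unfold vc vb at this
    split_ifs at this <;> omega
  have d2 : Disjoint (FC ∪ FB) FA := by
    rw [disjoint_left]
    intro x h1 h2
    obtain ⟨i, j, s, t, -, rfl⟩ := (hA x).1 h2
    rcases mem_union.1 h1 with h1 | h1
    · obtain ⟨c, -, i, h⟩ := (hC _).1 h1
      have := congrFun h none
      unfold vc va at this
      split_ifs at this <;> omega
    · obtain ⟨O, hO, S, -, -, h⟩ := (hB _).1 h1
      obtain ⟨a, ha⟩ := card_pos.1 (by rw [hO.2]; norm_num : 0 < O.card)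
      have := congrFun h a
      unfold vb va at this
      split_ifs at this <;> omega
  rw [hU, sum_union d2, sum_union d1, sum_add_distrib]
  refine congrArg₂ (· + ·) (congrArg₂ (· + ·) ?_ ?_) ?_
  · rw [sum_image, sum_product]
    rintro ⟨k, i⟩ hp ⟨k', i'⟩ hp' h
    simp only [mem_coe, mem_product, hR, hR'] at hp hp'
    obtain ⟨h1, h2⟩ := vc_inj h
    rw [ts_cw_inj hp.1 hp'.1 h1, E24.dec_inj hp.2 hp'.2 h2]
  · rw [sum_image, sum_sigma, sum_filter]
    rintro ⟨k, S⟩ hp ⟨k', S'⟩ hp' h
    simp only [mem_coe, mem_sigma, mem_filter, mem_range, hR, hR', mem_powerset] at hp hp'
    obtain ⟨h1, h2⟩ := vb_inj hp.2.1 hp'.2.1 h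
    obtain rfl := ts_cw_inj hp.1.1 hp'.1.1 h1
    rw [show S = S' from h2]
  · rw [sum_image, sum_sigma]
    · exact sum_congr rfl fun i _ => by rw [sum_product]
    rintro ⟨i, j, s, t⟩ hp ⟨i', j', s', t'⟩ hp' h
    simp only [mem_coe, mem_sigma, mem_range, hR, hR', mem_product, mem_univ, and_true] at hp hp'
    have hj := hp.2.trans hp.1
    have hj' := hp'.2.trans hp'.1
    obtain ⟨h1, h2, h3, h4⟩ := va_inj (by rw [pn_pt hp.1, pn_pt hj]; exact hp.2)
      (by rw [pn_pt hp'.1, pn_pt hj']; exact hp'.2) h
    obtain rfl := E24.dec_inj hp.1 hp'.1 h1
    obtain rfl := E24.dec_inj hj hj' h2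
    simp only at h3 h4
    rw [h3, h4]

/-- the part of the sum over the code words `lo ≤ k < lo + 2 ^ d` -/
def sumP (f : ℕ → ℕ) (d lo : ℕ) : ℕ := sumBin (sumK f) 4096 d lo

theorem sumP_add (f : ℕ → ℕ) (d lo : ℕ) (h : lo < 4096) :
    sumP f (d + 1) lo = sumP f d lo + sumP f d (lo + 2 ^ d) := by
  show bif' (Nat.blt lo 4096) (Nat.add (sumP f d lo) (force (Nat.add lo (Nat.pow 2 d)) (sumP f d))) 0 = _
  rw [(blt_true_iff _ _).2 h, force_eq]; rfl

/-- the sum over all minimal vectors -/
theorem sum_min (f : ℕ → ℕ) : ∑ x ∈ L2F, f (enc x) = sumP f 12 0 + sumA f := by
  have hR : ∀ k, k ∈ Ico 0 (0 + 2 ^ 12) ↔ k < 4096 := fun k => by rw [mem_Ico]; omega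
  rw [sum_L2F (fun x => f (enc x)) _ (range 24) hR (fun _ => mem_range), sumA_spec, sumP, sumBin_spec]
  refine congrArg₂ (· + ·) ?_ rfl
  exact sum_congr rfl fun k hk => by rw [if_pos ((hR k).1 hk), sumK_spec f ((hR k).1 hk)]


end

end CfsgH6
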