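import Cfsg.Agent.H6.Fi22K0

set_option autoImplicit false
set_option maxRecDepth 100000
set_option linter.all false

namespace CfsgH6.Fi22

open CfsgH5 CfsgH6 Subgroup MulAction Pointwise

noncomputable section

theorem B0_m0 : CD.Mem R (CD.gen R 0) 0 := GC.Mem.gen (GC.Mem.zero ⊤)
theorem val3 : C1.Mem R1 ⊤ 16382 := MC.mem_units (mc2 79) (can2_sound (by decide)) chk2
theorem val6 : C2.Mem R2 ⊤ 16382 := MC.mem_units (mc4 e12) (can4_sound e12) chk5
theorem valp7 : CD.Mem R ⊤ 16382 := (GC.mem_prod val3 val6).top
theorem B1_m0 : CD.Mem R (CD.gen R 16) 16 := GC.Mem.gen (valp7.sub chk8)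
theorem B1_dvd : Nat.card (CD.gen R 16) ∣ 3 := GC.card_ins (dvd_step (B0_m0.pc (m := 3) (w := 0) (valp7.get (i := 4) (by decide +kernel)) B0_m0.top chk10 chk11) GC.card_gen_zero (n := 3) (by decide +kernel)) (by decide +kernel)
theorem B2_m0 : CD.Mem R (CD.gen R 48) 48 := GC.Mem.gen (valp7.sub chk12)
theorem B2_dvd : Nat.card (CD.gen R 48) ∣ 9 := GC.card_ins (dvd_step (B1_m0.pc (m := 3) (w := 0) (valp7.get (i := 5) (by decide +kernel)) B1_m0.top chk14 chk15) B1_dvd (n := 9) (by decide +kernel)) (by decide +kernel)
theorem B3_m0 : CD.Mem R (CD.gen R 112) 112 := GC.Mem.gen (valp7.sub chk16)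
theorem B3_dvd : Nat.card (CD.gen R 112) ∣ 27 := GC.card_ins (dvd_step (B2_m0.pc (m := 3) (w := 0) (valp7.get (i := 6) (by decide +kernel)) B2_m0.top chk18 chk19) B2_dvd (n := 27) (by decide +kernel)) (by decide +kernel)
theorem B4_m0 : CD.Mem R (CD.gen R 240) 240 := GC.Mem.gen (valp7.sub chk20)
theorem B4_dvd : Nat.card (CD.gen R 240) ∣ 54 := GC.card_ins (dvd_step (B3_m0.pc (m := 2) (w := 0) (valp7.get (i := 7) (by decide +kernel)) B3_m0.top chk22 chk23) B3_dvd (n := 54) (by decide +kernel)) (by decide +kernel)
theorem B5_m0 : CD.Mem R (CD.gen R 496) 496 := GC.Mem.gen (valp7.sub chk24)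
theorem B5_dvd : Nat.card (CD.gen R 496) ∣ 108 := GC.card_ins (dvd_step (B4_m0.pc (m := 2) (w := 5502934192134) (valp7.get (i := 8) (by decide +kernel)) B4_m0.top chk26 chk27) B4_dvd (n := 108) (by decide +kernel)) (by decide +kernel)
theorem B6_m0 : CD.Mem R (CD.gen R 1008) 1008 := GC.Mem.gen (valp7.sub chk28)
theorem B6_dvd : Nat.card (CD.gen R 1008) ∣ 216 := GC.card_ins (dvd_step (B5_m0.pc (m := 2) (w := 5502934192134) (valp7.get (i := 9) (by decide +kernel)) B5_m0.top chk30 chk31) B5_dvd (n := 216) (by decide +kernel)) (by decide +kernel)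
theorem B7_m0 : CD.Mem R (CD.gen R 2032) 2032 := GC.Mem.gen (valp7.sub chk32)
theorem B7_dvd : Nat.card (CD.gen R 2032) ∣ 432 := GC.card_ins (dvd_step (B6_m0.pc (m := 2) (w := 0) (valp7.get (i := 10) (by decide +kernel)) B6_m0.top chk34 chk35) B6_dvd (n := 432) (by decide +kernel)) (by decide +kernel)
theorem B8_m0 : CD.Mem R (CD.gen R 4080) 4080 := GC.Mem.gen (valp7.sub chk36)
theorem B8_dvd : Nat.card (CD.gen R 4080) ∣ 1296 := GC.card_ins (dvd_step (B7_m0.pc (m := 3) (w := 10) (valp7.get (i := 11) (by decide +kernel)) B7_m0.top chk38 chk39) B7_dvd (n := 1296) (by decide +kernel)) (by decide +kernel)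
theorem B9_m0 : CD.Mem R (CD.gen R 8176) 8176 := GC.Mem.gen (valp7.sub chk40)
theorem B9_dvd : Nat.card (CD.gen R 8176) ∣ 3888 := GC.card_ins (dvd_step (B8_m0.pc (m := 3) (w := 10) (valp7.get (i := 12) (by decide +kernel)) B8_m0.top chk42 chk43) B8_dvd (n := 3888) (by decide +kernel)) (by decide +kernel)
theorem B10_m0 : CD.Mem R (CD.gen R 16368) 16368 := GC.Mem.gen (valp7.sub chk44)
theorem B10_dvd : Nat.card (CD.gen R 16368) ∣ 11664 := GC.card_ins (dvd_step (B9_m0.pc (m := 3) (w := 10) (valp7.get (i := 13) (by decide +kernel)) B9_m0.top chk46 chk47) B9_dvd (n := 11664) (by decide +kernel)) (by decide +kernel)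
theorem B10_ub : Nat.card (CD.gen R 16368) ≤ 11664 := le_of_dvd' B10_dvd (by decide +kernel)
theorem pt49e : ∃ x, D1.Rep pt49c x := (act4_rep e12 (d := 4) (by decide) (by decide) (c := 0x40) (by decide +kernel)).elim fun x hx => ⟨_, x, hx, rfl⟩
noncomputable def pt49 := Classical.choose pt49e
theorem pt49r : D1.Rep pt49c pt49 := Classical.choose_spec pt49e
theorem D2_m0 : CD.Mem R (CD.gen R 16376) 16376 := GC.Mem.gen (valp7.sub chk48)
theorem D2_s0_52 : CD.Mem R (CD.gen R 16376) 32760 := D2_m0.slp' chk51
theorem D2_I : CD.Mem R (CD.gen R 16376) 16392 := D2_s0_52.sub chk53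
theorem D2K_in112 : CD.Mem R (CD.gen R 16368) 491520 := B10_m0.slp' chk111
theorem D2K_m0 : CD.Mem R (CD.gen R 491520) 491520 := GC.Mem.gen D2K_in112.top
theorem pt113e : ∃ x, D1.Rep pt113c x := (act4_rep e12 (d := 4) (by decide) (by decide) (c := 0x11) (by decide +kernel)).elim fun x hx => ⟨_, x, hx, rfl⟩
noncomputable def pt113 := Classical.choose pt113e
theorem pt113r : D1.Rep pt113c pt113 := Classical.choose_spec pt113e
theorem pt114e : ∃ x, D1.Rep pt114c x := (act4_rep e12 (d := 4) (by decide) (by decide) (c := 0x5) (by decide +kernel)).elim fun x hx => ⟨_, x, hx, rfl⟩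
noncomputable def pt114 := Classical.choose pt114e
theorem pt114r : D1.Rep pt114c pt114 := Classical.choose_spec pt114e
theorem pt115e : ∃ x, D1.Rep pt115c x := (act4_rep e12 (d := 4) (by decide) (by decide) (c := 0x100) (by decide +kernel)).elim fun x hx => ⟨_, x, hx, rfl⟩
noncomputable def pt115 := Classical.choose pt115e
theorem pt115r : D1.Rep pt115c pt115 := Classical.choose_spec pt115e
theorem pt116e : ∃ x, D1.Rep pt116c x := (act4_rep e12 (d := 4) (by decide) (by decide) (c := 0x41) (by decide +kernel)).elim fun x hx => ⟨_, x, hx, rfl⟩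
noncomputable def pt116 := Classical.choose pt116e
theorem pt116r : D1.Rep pt116c pt116 := Classical.choose_spec pt116e
theorem pt117e : ∃ x, D1.Rep pt117c x := (act4_rep e12 (d := 4) (by decide) (by decide) (c := 0x101) (by decide +kernel)).elim fun x hx => ⟨_, x, hx, rfl⟩
noncomputable def pt117 := Classical.choose pt117e
theorem pt117r : D1.Rep pt117c pt117 := Classical.choose_spec pt117e
theorem pt118e : ∃ x, E0.Rep pt118c x := act2_rep (n := 79) (d := 7) (by decide) (by decide) (c := 0x2) (by decide +kernel)
noncomputable def pt118 := Classical.choose pt118e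
theorem pt118r : E0.Rep pt118c pt118 := Classical.choose_spec pt118e
theorem pt119e : ∃ x, D0.Rep pt119c x := act4_rep e12 (d := 4) (by decide) (by decide) (c := 0x1) (by decide +kernel)
noncomputable def pt119 := Classical.choose pt119e
theorem pt119r : D0.Rep pt119c pt119 := Classical.choose_spec pt119e
theorem D2K_s0_122 : CD.Mem R (CD.gen R 491520) 33521664 := D2K_m0.slp' chk121
theorem D2K_c0i : CD.Mem R (CD.gen R 491520) 33030144 := D2K_s0_122.sub chk123
theorem D2K_c0m : CD.Mem R (CD.gen R 33030144) 33030144 := D2K_c0i.gen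
theorem fx125 : CD.gen R 33030144 ≤ stabilizer _ pt113 := Act.fix_sound D2K_c0i.top pt113r chk124
theorem cov132 : Cov (CD.gen R 491520) (CD.wds R [0]) pt113 3 := Act.cov_of_seen (Act.pieces_sound D2K_s0_122 D2K_s0_122.top pt113r chk130) chk131
theorem D2K_c1i : CD.Mem R (CD.gen R 33030144) 32505856 := D2K_c0m.sub chk133
theorem D2K_c1m : CD.Mem R (CD.gen R 32505856) 32505856 := D2K_c1i.gen
theorem fx135 : CD.gen R 32505856 ≤ stabilizer _ pt114 := Act.fix_sound D2K_c1i.top pt114r chk134
theorem cov142 : Cov (CD.gen R 33030144) (CD.wds R [0]) pt114 3 := Act.cov_of_seen (Act.pieces_sound D2K_c0m D2K_c0m.top pt114r chk140) chk141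
theorem D2K_c2i : CD.Mem R (CD.gen R 32505856) 31457280 := D2K_c1m.sub chk143
theorem D2K_c2m : CD.Mem R (CD.gen R 31457280) 31457280 := D2K_c2i.gen
theorem fx145 : CD.gen R 31457280 ≤ stabilizer _ pt115 := Act.fix_sound D2K_c2i.top pt115r chk144
theorem cov152 : Cov (CD.gen R 32505856) (CD.wds R [0]) pt115 2 := Act.cov_of_seen (Act.pieces_sound D2K_c1m D2K_c1m.top pt115r chk150) chk151
theorem D2K_c3i : CD.Mem R (CD.gen R 31457280) 29360128 := D2K_c2m.sub chk153
theorem D2K_c3m : CD.Mem R (CD.gen R 29360128) 29360128 := D2K_c3i.gen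
theorem fx155 : CD.gen R 29360128 ≤ stabilizer _ pt116 := Act.fix_sound D2K_c3i.top pt116r chk154
theorem cov162 : Cov (CD.gen R 31457280) (CD.wds R [0]) pt116 3 := Act.cov_of_seen (Act.pieces_sound D2K_c2m D2K_c2m.top pt116r chk160) chk161
theorem D2K_c4i : CD.Mem R (CD.gen R 29360128) 25165824 := D2K_c3m.sub chk163
theorem D2K_c4m : CD.Mem R (CD.gen R 25165824) 25165824 := D2K_c4i.gen
theorem fx165 : CD.gen R 25165824 ≤ stabilizer _ pt117 := Act.fix_sound D2K_c4i.top pt117r chk164
theorem cov172 : Cov (CD.gen R 29360128) (CD.wds R [0]) pt117 3 := Act.cov_of_seen (Act.pieces_sound D2K_c3m D2K_c3m.top pt117r chk170) chk171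
theorem D2K_c5i : CD.Mem R (CD.gen R 25165824) 16777216 := D2K_c4m.sub chk173
theorem D2K_c5m : CD.Mem R (CD.gen R 16777216) 16777216 := D2K_c5i.gen
theorem fx175 : CD.gen R 16777216 ≤ stabilizer _ pt118 := Act.fix_sound D2K_c5i.top pt118r chk174
theorem cov182 : Cov (CD.gen R 25165824) (CD.wds R [0]) pt118 2 := Act.cov_of_seen (Act.pieces_sound D2K_c4m D2K_c4m.top pt118r chk180) chk181
theorem D2K_c6i : CD.Mem R (CD.gen R 16777216) 0 := D2K_c5m.sub chk183
theorem D2K_c6m : CD.Mem R (CD.gen R 0) 0 := D2K_c6i.gen
theorem fx185 : CD.gen R 0 ≤ stabilizer _ pt119 := Act.fix_sound D2K_c6i.top pt119r chk184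
theorem cov192 : Cov (CD.gen R 16777216) (CD.wds R [0]) pt119 3 := Act.cov_of_seen (Act.pieces_sound D2K_c5m D2K_c5m.top pt119r chk190) chk191
theorem D2K_lb7 : 1 ≤ Nat.card (CD.gen R 0) := Nat.card_pos
theorem D2K_lo6 : 3 * Nat.card (CD.gen R 0) ≤ Nat.card (CD.gen R 16777216) := cov192.low le_rfl (GC.wds_zero _) D2K_c6i.gen_le fx185
theorem D2K_lb6 : 3 ≤ Nat.card (CD.gen R 16777216) := low_step D2K_lo6 D2K_lb7 (by decide +kernel)
theorem D2K_lo5 : 2 * Nat.card (CD.gen R 16777216) ≤ Nat.card (CD.gen R 25165824) := cov182.low le_rfl (GC.wds_zero _) D2K_c5i.gen_le fx175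
theorem D2K_lb5 : 6 ≤ Nat.card (CD.gen R 25165824) := low_step D2K_lo5 D2K_lb6 (by decide +kernel)
theorem D2K_lo4 : 3 * Nat.card (CD.gen R 25165824) ≤ Nat.card (CD.gen R 29360128) := cov172.low le_rfl (GC.wds_zero _) D2K_c4i.gen_le fx165
theorem D2K_lb4 : 18 ≤ Nat.card (CD.gen R 29360128) := low_step D2K_lo4 D2K_lb5 (by decide +kernel)
theorem D2K_lo3 : 3 * Nat.card (CD.gen R 29360128) ≤ Nat.card (CD.gen R 31457280) := cov162.low le_rfl (GC.wds_zero _) D2K_c3i.gen_le fx155
theorem D2K_lb3 : 54 ≤ Nat.card (CD.gen R 31457280) := low_step D2K_lo3 D2K_lb4 (by decide +kernel)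
theorem D2K_lo2 : 2 * Nat.card (CD.gen R 31457280) ≤ Nat.card (CD.gen R 32505856) := cov152.low le_rfl (GC.wds_zero _) D2K_c2i.gen_le fx145
theorem D2K_lb2 : 108 ≤ Nat.card (CD.gen R 32505856) := low_step D2K_lo2 D2K_lb3 (by decide +kernel)
theorem D2K_lo1 : 3 * Nat.card (CD.gen R 32505856) ≤ Nat.card (CD.gen R 33030144) := cov142.low le_rfl (GC.wds_zero _) D2K_c1i.gen_le fx135
theorem D2K_lb1 : 324 ≤ Nat.card (CD.gen R 33030144) := low_step D2K_lo1 D2K_lb2 (by decide +kernel)
theorem D2K_lo0 : 3 * Nat.card (CD.gen R 33030144) ≤ Nat.card (CD.gen R 491520) := cov132.low le_rfl (GC.wds_zero _) D2K_c0i.gen_le fx125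
theorem D2K_lb0 : 972 ≤ Nat.card (CD.gen R 491520) := low_step D2K_lo0 D2K_lb1 (by decide +kernel)
theorem fx196 : CD.gen R 491520 ≤ stabilizer _ pt49 := Act.fix_sound D2K_in112.top pt49r chk195
theorem D2_Kc : ∀ κ ∈ (CD.gen R 491520), (CD.el (R 3))⁻¹ * κ * CD.el (R 3) ∈ (CD.gen R 16368) := B10_m0.conjB (D2_m0.get (i := 3) (by decide +kernel)).top D2K_in112.top chk194
theorem D2T1_in253 : CD.Mem R (CD.gen R 16368) 503316480 := B10_m0.slp' chk252
theorem D2T1_m0 : CD.Mem R (CD.gen R 503316480) 503316480 := GC.Mem.gen D2T1_in253.top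
theorem pt254e : ∃ x, D1.Rep pt254c x := (act4_rep e12 (d := 4) (by decide) (by decide) (c := 0x5) (by decide +kernel)).elim fun x hx => ⟨_, x, hx, rfl⟩
noncomputable def pt254 := Classical.choose pt254e
theorem pt254r : D1.Rep pt254c pt254 := Classical.choose_spec pt254e
theorem pt255e : ∃ x, D1.Rep pt255c x := (act4_rep e12 (d := 4) (by decide) (by decide) (c := 0x440) (by decide +kernel)).elim fun x hx => ⟨_, x, hx, rfl⟩
noncomputable def pt255 := Classical.choose pt255e
theorem pt255r : D1.Rep pt255c pt255 := Classical.choose_spec pt255e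
theorem pt256e : ∃ x, D1.Rep pt256c x := (act4_rep e12 (d := 4) (by decide) (by decide) (c := 0x40) (by decide +kernel)).elim fun x hx => ⟨_, x, hx, rfl⟩
noncomputable def pt256 := Classical.choose pt256e
theorem pt256r : D1.Rep pt256c pt256 := Classical.choose_spec pt256e
theorem pt257e : ∃ x, D1.Rep pt257c x := (act4_rep e12 (d := 4) (by decide) (by decide) (c := 0x41) (by decide +kernel)).elim fun x hx => ⟨_, x, hx, rfl⟩
noncomputable def pt257 := Classical.choose pt257e
theorem pt257r : D1.Rep pt257c pt257 := Classical.choose_spec pt257e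
theorem pt258e : ∃ x, E0.Rep pt258c x := act2_rep (n := 79) (d := 7) (by decide) (by decide) (c := 0x2) (by decide +kernel)
noncomputable def pt258 := Classical.choose pt258e
theorem pt258r : E0.Rep pt258c pt258 := Classical.choose_spec pt258e
theorem pt259e : ∃ x, D0.Rep pt259c x := act4_rep e12 (d := 4) (by decide) (by decide) (c := 0x1) (by decide +kernel)
noncomputable def pt259 := Classical.choose pt259e
theorem pt259r : D0.Rep pt259c pt259 := Classical.choose_spec pt259e
theorem D2T1_s0_262 : CD.Mem R (CD.gen R 503316480) 68685922304 := D2T1_m0.slp' chk261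
theorem D2T1_c0i : CD.Mem R (CD.gen R 503316480) 68182605824 := D2T1_s0_262.sub chk263
theorem D2T1_c0m : CD.Mem R (CD.gen R 68182605824) 68182605824 := D2T1_c0i.gen
theorem fx265 : CD.gen R 68182605824 ≤ stabilizer _ pt254 := Act.fix_sound D2T1_c0i.top pt254r chk264
theorem cov272 : Cov (CD.gen R 503316480) (CD.wds R [0]) pt254 3 := Act.cov_of_seen (Act.pieces_sound D2T1_s0_262 D2T1_s0_262.top pt254r chk270) chk271
theorem D2T1_c1i : CD.Mem R (CD.gen R 68182605824) 50465865728 := D2T1_c0m.sub chk273
theorem D2T1_c1m : CD.Mem R (CD.gen R 50465865728) 50465865728 := D2T1_c1i.gen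
theorem fx275 : CD.gen R 50465865728 ≤ stabilizer _ pt255 := Act.fix_sound D2T1_c1i.top pt255r chk274
theorem cov282 : Cov (CD.gen R 68182605824) (CD.wds R [0]) pt255 3 := Act.cov_of_seen (Act.pieces_sound D2T1_c0m D2T1_c0m.top pt255r chk280) chk281
theorem D2T1_c2i : CD.Mem R (CD.gen R 50465865728) 15032385536 := D2T1_c1m.sub chk283
theorem D2T1_c2m : CD.Mem R (CD.gen R 15032385536) 15032385536 := D2T1_c2i.gen
theorem fx285 : CD.gen R 15032385536 ≤ stabilizer _ pt256 := Act.fix_sound D2T1_c2i.top pt256r chk284
theorem cov292 : Cov (CD.gen R 50465865728) (CD.wds R [0]) pt256 6 := Act.cov_of_seen (Act.pieces_sound D2T1_c1m D2T1_c1m.top pt256r chk290) chk291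
theorem D2T1_c3i : CD.Mem R (CD.gen R 15032385536) 12884901888 := D2T1_c2m.sub chk293
theorem D2T1_c3m : CD.Mem R (CD.gen R 12884901888) 12884901888 := D2T1_c3i.gen
theorem fx295 : CD.gen R 12884901888 ≤ stabilizer _ pt257 := Act.fix_sound D2T1_c3i.top pt257r chk294
theorem cov302 : Cov (CD.gen R 15032385536) (CD.wds R [0]) pt257 3 := Act.cov_of_seen (Act.pieces_sound D2T1_c2m D2T1_c2m.top pt257r chk300) chk301
theorem D2T1_c4i : CD.Mem R (CD.gen R 12884901888) 8589934592 := D2T1_c3m.sub chk303
theorem D2T1_c4m : CD.Mem R (CD.gen R 8589934592) 8589934592 := D2T1_c4i.gen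
theorem fx305 : CD.gen R 8589934592 ≤ stabilizer _ pt258 := Act.fix_sound D2T1_c4i.top pt258r chk304
theorem cov312 : Cov (CD.gen R 12884901888) (CD.wds R [0]) pt258 2 := Act.cov_of_seen (Act.pieces_sound D2T1_c3m D2T1_c3m.top pt258r chk310) chk311
theorem D2T1_c5i : CD.Mem R (CD.gen R 8589934592) 0 := D2T1_c4m.sub chk313
theorem D2T1_c5m : CD.Mem R (CD.gen R 0) 0 := D2T1_c5i.gen
theorem fx315 : CD.gen R 0 ≤ stabilizer _ pt259 := Act.fix_sound D2T1_c5i.top pt259r chk314
theorem cov322 : Cov (CD.gen R 8589934592) (CD.wds R [0]) pt259 3 := Act.cov_of_seen (Act.pieces_sound D2T1_c4m D2T1_c4m.top pt259r chk320) chk321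
theorem D2T1_lb6 : 1 ≤ Nat.card (CD.gen R 0) := Nat.card_pos
theorem D2T1_lo5 : 3 * Nat.card (CD.gen R 0) ≤ Nat.card (CD.gen R 8589934592) := cov322.low le_rfl (GC.wds_zero _) D2T1_c5i.gen_le fx315
theorem D2T1_lb5 : 3 ≤ Nat.card (CD.gen R 8589934592) := low_step D2T1_lo5 D2T1_lb6 (by decide +kernel)
theorem D2T1_lo4 : 2 * Nat.card (CD.gen R 8589934592) ≤ Nat.card (CD.gen R 12884901888) := cov312.low le_rfl (GC.wds_zero _) D2T1_c4i.gen_le fx305
theorem D2T1_lb4 : 6 ≤ Nat.card (CD.gen R 12884901888) := low_step D2T1_lo4 D2T1_lb5 (by decide +kernel)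
theorem D2T1_lo3 : 3 * Nat.card (CD.gen R 12884901888) ≤ Nat.card (CD.gen R 15032385536) := cov302.low le_rfl (GC.wds_zero _) D2T1_c3i.gen_le fx295
theorem D2T1_lb3 : 18 ≤ Nat.card (CD.gen R 15032385536) := low_step D2T1_lo3 D2T1_lb4 (by decide +kernel)
theorem D2T1_lo2 : 6 * Nat.card (CD.gen R 15032385536) ≤ Nat.card (CD.gen R 50465865728) := cov292.low le_rfl (GC.wds_zero _) D2T1_c2i.gen_le fx285
theorem D2T1_lb2 : 108 ≤ Nat.card (CD.gen R 50465865728) := low_step D2T1_lo2 D2T1_lb3 (by decide +kernel)
theorem D2T1_lo1 : 3 * Nat.card (CD.gen R 50465865728) ≤ Nat.card (CD.gen R 68182605824) := cov282.low le_rfl (GC.wds_zero _) D2T1_c1i.gen_le fx275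
theorem D2T1_lb1 : 324 ≤ Nat.card (CD.gen R 68182605824) := low_step D2T1_lo1 D2T1_lb2 (by decide +kernel)
theorem D2T1_lo0 : 3 * Nat.card (CD.gen R 68182605824) ≤ Nat.card (CD.gen R 503316480) := cov272.low le_rfl (GC.wds_zero _) D2T1_c0i.gen_le fx265
theorem D2T1_lb0 : 972 ≤ Nat.card (CD.gen R 503316480) := low_step D2T1_lo0 D2T1_lb1 (by decide +kernel)
theorem D2_T1c : ∀ τ ∈ (CD.gen R 503316480), CD.el (R 3) * τ * (CD.el (R 3))⁻¹ ∈ (CD.gen R 16368) := B10_m0.conjA (D2_I.get (i := 3) (by decide +kernel)).top D2T1_in253.top chk324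
theorem cov333 : Cov (CD.gen R 503316480) (CD.wds R (List.map Prod.fst (l325))) pt49 12 := Act.cov_of_seen (Act.pieces_sound D2T1_s0_262 B10_m0.top pt49r chk331) chk332
theorem D2_T1d : Dec (CD.gen R 16368) (CD.gen R 503316480) (CD.wds R (List.map Prod.fst (l325))) (CD.gen R 491520) := cov333.dec D2T1_in253.gen_le (GC.wds_sub B10_m0 chk334) D2K_in112.gen_le fx196 (up_low B10_ub D2K_lb0 (by decide +kernel))
theorem D2_T1p : ∀ x ∈ DC1 (CD.gen R 16368) (CD.el (R 3)), x * CD.el (R 3) ∈ DCs (CD.gen R 16368) (CD.els R 16392) := GC.dc_piece' D2_T1d D2_T1c D2_Kc (B10_m0.dcRel D2_I.top (D2_I.get (i := 3) (by decide +kernel)).top (D2_m0.get (i := 3) (by decide +kernel)).top chk326)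
theorem D2_T1u : Nat.card (CD.gen R 16368) ≤ 12 * Nat.card (CD.gen R 503316480) := up_low B10_ub D2T1_lb0 (by decide +kernel)
theorem D2_T1n : (DC1 (CD.gen R 16368) (CD.el (R 3))).ncard ≤ Nat.card (CD.gen R 16368) * 12 := ncard_DC1 D2T1_in253.gen_le D2_T1c D2_T1u
theorem D2T2_in370 : CD.Mem R (CD.gen R 16368) 481036337152 := B10_m0.slp' chk369
theorem D2T2_m0 : CD.Mem R (CD.gen R 481036337152) 481036337152 := GC.Mem.gen D2T2_in370.top
theorem pt371e : ∃ x, D1.Rep pt371c x := (act4_rep e12 (d := 4) (by decide) (by decide) (c := 0x5) (by decide +kernel)).elim fun x hx => ⟨_, x, hx, rfl⟩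
noncomputable def pt371 := Classical.choose pt371e
theorem pt371r : D1.Rep pt371c pt371 := Classical.choose_spec pt371e
theorem pt372e : ∃ x, D1.Rep pt372c x := (act4_rep e12 (d := 4) (by decide) (by decide) (c := 0x11) (by decide +kernel)).elim fun x hx => ⟨_, x, hx, rfl⟩
noncomputable def pt372 := Classical.choose pt372e
theorem pt372r : D1.Rep pt372c pt372 := Classical.choose_spec pt372e
theorem pt373e : ∃ x, E0.Rep pt373c x := act2_rep (n := 79) (d := 7) (by decide) (by decide) (c := 0x2) (by decide +kernel)
noncomputable def pt373 := Classical.choose pt373e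
theorem pt373r : E0.Rep pt373c pt373 := Classical.choose_spec pt373e
theorem pt374e : ∃ x, D0.Rep pt374c x := act4_rep e12 (d := 4) (by decide) (by decide) (c := 0x1) (by decide +kernel)
noncomputable def pt374 := Classical.choose pt374e
theorem pt374r : D0.Rep pt374c pt374 := Classical.choose_spec pt374e
theorem pt375e : ∃ x, D1.Rep pt375c x := (act4_rep e12 (d := 4) (by decide) (by decide) (c := 0x100) (by decide +kernel)).elim fun x hx => ⟨_, x, hx, rfl⟩
noncomputable def pt375 := Classical.choose pt375e
theorem pt375r : D1.Rep pt375c pt375 := Classical.choose_spec pt375e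
theorem D2T2_s0_378 : CD.Mem R (CD.gen R 481036337152) 35115652612096 := D2T2_m0.slp' chk377
theorem D2T2_c0i : CD.Mem R (CD.gen R 481036337152) 34634616274944 := D2T2_s0_378.sub chk379
theorem D2T2_c0m : CD.Mem R (CD.gen R 34634616274944) 34634616274944 := D2T2_c0i.gen
theorem fx381 : CD.gen R 34634616274944 ≤ stabilizer _ pt371 := Act.fix_sound D2T2_c0i.top pt371r chk380
theorem cov388 : Cov (CD.gen R 481036337152) (CD.wds R [0]) pt371 3 := Act.cov_of_seen (Act.pieces_sound D2T2_s0_378 D2T2_s0_378.top pt371r chk386) chk387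
theorem D2T2_c1i : CD.Mem R (CD.gen R 34634616274944) 34084860461056 := D2T2_c0m.sub chk389
theorem D2T2_c1m : CD.Mem R (CD.gen R 34084860461056) 34084860461056 := D2T2_c1i.gen
theorem fx391 : CD.gen R 34084860461056 ≤ stabilizer _ pt372 := Act.fix_sound D2T2_c1i.top pt372r chk390
theorem cov398 : Cov (CD.gen R 34634616274944) (CD.wds R [0]) pt372 3 := Act.cov_of_seen (Act.pieces_sound D2T2_c0m D2T2_c0m.top pt372r chk396) chk397
theorem D2T2_c2i : CD.Mem R (CD.gen R 34084860461056) 26388279066624 := D2T2_c1m.sub chk399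
theorem D2T2_c2m : CD.Mem R (CD.gen R 26388279066624) 26388279066624 := D2T2_c2i.gen
theorem fx401 : CD.gen R 26388279066624 ≤ stabilizer _ pt373 := Act.fix_sound D2T2_c2i.top pt373r chk400
theorem cov408 : Cov (CD.gen R 34084860461056) (CD.wds R [0]) pt373 8 := Act.cov_of_seen (Act.pieces_sound D2T2_c1m D2T2_c1m.top pt373r chk406) chk407
theorem D2T2_c3i : CD.Mem R (CD.gen R 26388279066624) 17592186044416 := D2T2_c2m.sub chk409
theorem D2T2_c3m : CD.Mem R (CD.gen R 17592186044416) 17592186044416 := D2T2_c3i.gen
theorem fx411 : CD.gen R 17592186044416 ≤ stabilizer _ pt374 := Act.fix_sound D2T2_c3i.top pt374r chk410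
theorem cov418 : Cov (CD.gen R 26388279066624) (CD.wds R [0]) pt374 3 := Act.cov_of_seen (Act.pieces_sound D2T2_c2m D2T2_c2m.top pt374r chk416) chk417
theorem D2T2_c4i : CD.Mem R (CD.gen R 17592186044416) 0 := D2T2_c3m.sub chk419
theorem D2T2_c4m : CD.Mem R (CD.gen R 0) 0 := D2T2_c4i.gen
theorem fx421 : CD.gen R 0 ≤ stabilizer _ pt375 := Act.fix_sound D2T2_c4i.top pt375r chk420
theorem cov428 : Cov (CD.gen R 17592186044416) (CD.wds R [0]) pt375 2 := Act.cov_of_seen (Act.pieces_sound D2T2_c3m D2T2_c3m.top pt375r chk426) chk427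
theorem D2T2_lb5 : 1 ≤ Nat.card (CD.gen R 0) := Nat.card_pos
theorem D2T2_lo4 : 2 * Nat.card (CD.gen R 0) ≤ Nat.card (CD.gen R 17592186044416) := cov428.low le_rfl (GC.wds_zero _) D2T2_c4i.gen_le fx421
theorem D2T2_lb4 : 2 ≤ Nat.card (CD.gen R 17592186044416) := low_step D2T2_lo4 D2T2_lb5 (by decide +kernel)
theorem D2T2_lo3 : 3 * Nat.card (CD.gen R 17592186044416) ≤ Nat.card (CD.gen R 26388279066624) := cov418.low le_rfl (GC.wds_zero _) D2T2_c3i.gen_le fx411
theorem D2T2_lb3 : 6 ≤ Nat.card (CD.gen R 26388279066624) := low_step D2T2_lo3 D2T2_lb4 (by decide +kernel)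
theorem D2T2_lo2 : 8 * Nat.card (CD.gen R 26388279066624) ≤ Nat.card (CD.gen R 34084860461056) := cov408.low le_rfl (GC.wds_zero _) D2T2_c2i.gen_le fx401
theorem D2T2_lb2 : 48 ≤ Nat.card (CD.gen R 34084860461056) := low_step D2T2_lo2 D2T2_lb3 (by decide +kernel)
theorem D2T2_lo1 : 3 * Nat.card (CD.gen R 34084860461056) ≤ Nat.card (CD.gen R 34634616274944) := cov398.low le_rfl (GC.wds_zero _) D2T2_c1i.gen_le fx391
theorem D2T2_lb1 : 144 ≤ Nat.card (CD.gen R 34634616274944) := low_step D2T2_lo1 D2T2_lb2 (by decide +kernel)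
theorem D2T2_lo0 : 3 * Nat.card (CD.gen R 34634616274944) ≤ Nat.card (CD.gen R 481036337152) := cov388.low le_rfl (GC.wds_zero _) D2T2_c0i.gen_le fx381
theorem D2T2_lb0 : 432 ≤ Nat.card (CD.gen R 481036337152) := low_step D2T2_lo0 D2T2_lb1 (by decide +kernel)
theorem D2_T2c : ∀ τ ∈ (CD.gen R 481036337152), CD.el (R 14) * τ * (CD.el (R 14))⁻¹ ∈ (CD.gen R 16368) := B10_m0.conjA (D2_I.get (i := 14) (by decide +kernel)).top D2T2_in370.top chk430
theorem cov439 : Cov (CD.gen R 481036337152) (CD.wds R (List.map Prod.fst (l431))) pt49 12 := Act.cov_of_seen (Act.pieces_sound D2T2_s0_378 B10_m0.top pt49r chk437) chk438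
theorem D2_T2d : Dec (CD.gen R 16368) (CD.gen R 481036337152) (CD.wds R (List.map Prod.fst (l431))) (CD.gen R 491520) := cov439.dec D2T2_in370.gen_le (GC.wds_sub B10_m0 chk440) D2K_in112.gen_le fx196 (up_low B10_ub D2K_lb0 (by decide +kernel))
theorem D2_T2p : ∀ x ∈ DC1 (CD.gen R 16368) (CD.el (R 14)), x * CD.el (R 3) ∈ DCs (CD.gen R 16368) (CD.els R 16392) := GC.dc_piece' D2_T2d D2_T2c D2_Kc (B10_m0.dcRel D2_I.top (D2_I.get (i := 14) (by decide +kernel)).top (D2_m0.get (i := 3) (by decide +kernel)).top chk432)
theorem D2_T2u : Nat.card (CD.gen R 16368) ≤ 27 * Nat.card (CD.gen R 481036337152) := up_low B10_ub D2T2_lb0 (by decide +kernel)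
theorem D2_T2n : (DC1 (CD.gen R 16368) (CD.el (R 14))).ncard ≤ Nat.card (CD.gen R 16368) * 27 := ncard_DC1 D2T2_in370.gen_le D2_T2c D2_T2u
theorem D2_dc : ∀ x ∈ (CD.gen R 16376), x ∈ DCs (CD.gen R 16368) (CD.els R 16392) := GC.dc_gen (MU := 8) B10_m0 (by decide +kernel) (GC.forall_els (L := [3]) (forall_cons ⟨B10_m0.inDC' D2_I.top (D2_m0.get (i := 3) (by decide +kernel)).top chk441, GC.forall_els (L := [3, 14]) (forall_cons D2_T1p (forall_cons D2_T2p forall_nil)) (by decide +kernel)⟩ forall_nil) (by decide +kernel))
theorem D2_cs : ∀ p ∈ ([(3, 12), (14, 27)] : List (ℕ × ℕ)), (DC1 (CD.gen R 16368) (CD.el (R p.1))).ncard ≤ Nat.card (CD.gen R 16368) * p.2 := (forall_cons D2_T1n (forall_cons D2_T2n forall_nil))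
theorem D2_ix : Nat.card (CD.gen R 16376) ≤ 40 * Nat.card (CD.gen R 16368) := GC.card_dc [(3, 12), (14, 27)] D2_dc D2_cs (by decide +kernel)
theorem D2_ub : Nat.card (CD.gen R 16376) ≤ 466560 := up_mul D2_ix B10_ub (by decide +kernel)
theorem pt443e : ∃ x, D1.Rep pt443c x := (act4_rep e12 (d := 4) (by decide) (by decide) (c := 0x10) (by decide +kernel)).elim fun x hx => ⟨_, x, hx, rfl⟩
noncomputable def pt443 := Classical.choose pt443e
theorem pt443r : D1.Rep pt443c pt443 := Classical.choose_spec pt443e
theorem D2_s1_446 : CD.Mem R (CD.gen R 16376) 17979214137425912 := D2_s0_52.slp' chk445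
theorem Dq_m0 : CD.Mem R (CD.gen R 16380) 16380 := GC.Mem.gen (valp7.sub chk442)
theorem Dq_m1 : CD.Mem R (CD.gen R 16380) 17979214137425916 := Dq_m0.lor' (D2_s1_446.mono (Dq_m0.sub chk447).gen_le) chk448
theorem Dq_s1_451 : CD.Mem R (CD.gen R 16380) 35993612646907900 := Dq_m1.slp' chk450
theorem Dq_I : CD.Mem R (CD.gen R 16380) 18014398509481988 := Dq_s1_451.sub chk452
theorem DqK_in496 : CD.Mem R (CD.gen R 16376) 252201579132747776 := D2_s1_446.slp' chk495
theorem DqK_m0 : CD.Mem R (CD.gen R 252201579132747776) 252201579132747776 := GC.Mem.gen DqK_in496.top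
theorem pt497e : ∃ x, D1.Rep pt497c x := (act4_rep e12 (d := 4) (by decide) (by decide) (c := 0x5) (by decide +kernel)).elim fun x hx => ⟨_, x, hx, rfl⟩
noncomputable def pt497 := Classical.choose pt497e
theorem pt497r : D1.Rep pt497c pt497 := Classical.choose_spec pt497e
theorem pt498e : ∃ x, D1.Rep pt498c x := (act4_rep e12 (d := 4) (by decide) (by decide) (c := 0x40) (by decide +kernel)).elim fun x hx => ⟨_, x, hx, rfl⟩
noncomputable def pt498 := Classical.choose pt498e
theorem pt498r : D1.Rep pt498c pt498 := Classical.choose_spec pt498e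
theorem pt499e : ∃ x, D1.Rep pt499c x := (act4_rep e12 (d := 4) (by decide) (by decide) (c := 0x11) (by decide +kernel)).elim fun x hx => ⟨_, x, hx, rfl⟩
noncomputable def pt499 := Classical.choose pt499e
theorem pt499r : D1.Rep pt499c pt499 := Classical.choose_spec pt499e
theorem pt500e : ∃ x, D1.Rep pt500c x := (act4_rep e12 (d := 4) (by decide) (by decide) (c := 0x41) (by decide +kernel)).elim fun x hx => ⟨_, x, hx, rfl⟩
noncomputable def pt500 := Classical.choose pt500e
theorem pt500r : D1.Rep pt500c pt500 := Classical.choose_spec pt500e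
theorem pt501e : ∃ x, D1.Rep pt501c x := (act4_rep e12 (d := 4) (by decide) (by decide) (c := 0x101) (by decide +kernel)).elim fun x hx => ⟨_, x, hx, rfl⟩
noncomputable def pt501 := Classical.choose pt501e
theorem pt501r : D1.Rep pt501c pt501 := Classical.choose_spec pt501e
theorem pt502e : ∃ x, E0.Rep pt502c x := act2_rep (n := 79) (d := 7) (by decide) (by decide) (c := 0x2) (by decide +kernel)
noncomputable def pt502 := Classical.choose pt502e
theorem pt502r : E0.Rep pt502c pt502 := Classical.choose_spec pt502e
theorem pt503e : ∃ x, D0.Rep pt503c x := act4_rep e12 (d := 4) (by decide) (by decide) (c := 0x1) (by decide +kernel)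
noncomputable def pt503 := Classical.choose pt503e
theorem pt503r : D0.Rep pt503c pt503 := Classical.choose_spec pt503e
theorem DqK_s0_506 : CD.Mem R (CD.gen R 252201579132747776) 73750947497819242496 := DqK_m0.slp' chk505
theorem DqK_c0i : CD.Mem R (CD.gen R 252201579132747776) 73498745918686494720 := DqK_s0_506.sub chk507
theorem DqK_c0m : CD.Mem R (CD.gen R 73498745918686494720) 73498745918686494720 := DqK_c0i.gen
theorem fx509 : CD.gen R 73498745918686494720 ≤ stabilizer _ pt497 := Act.fix_sound DqK_c0i.top pt497r chk508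
theorem cov516 : Cov (CD.gen R 252201579132747776) (CD.wds R [0]) pt497 3 := Act.cov_of_seen (Act.pieces_sound DqK_s0_506 DqK_s0_506.top pt497r chk514) chk515
theorem DqK_c1i : CD.Mem R (CD.gen R 73498745918686494720) 70904672533321089024 := DqK_c0m.sub chk517
theorem DqK_c1m : CD.Mem R (CD.gen R 70904672533321089024) 70904672533321089024 := DqK_c1i.gen
theorem fx519 : CD.gen R 70904672533321089024 ≤ stabilizer _ pt498 := Act.fix_sound DqK_c1i.top pt498r chk518
theorem cov526 : Cov (CD.gen R 73498745918686494720) (CD.wds R [0]) pt498 12 := Act.cov_of_seen (Act.pieces_sound DqK_c0m DqK_c0m.top pt498r chk524) chk525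
theorem DqK_c2i : CD.Mem R (CD.gen R 70904672533321089024) 70328211781017665536 := DqK_c1m.sub chk527
theorem DqK_c2m : CD.Mem R (CD.gen R 70328211781017665536) 70328211781017665536 := DqK_c2i.gen
theorem fx529 : CD.gen R 70328211781017665536 ≤ stabilizer _ pt499 := Act.fix_sound DqK_c2i.top pt499r chk528
theorem cov536 : Cov (CD.gen R 70904672533321089024) (CD.wds R [0]) pt499 3 := Act.cov_of_seen (Act.pieces_sound DqK_c1m DqK_c1m.top pt499r chk534) chk535
theorem DqK_c3i : CD.Mem R (CD.gen R 70328211781017665536) 69175290276410818560 := DqK_c2m.sub chk537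
theorem DqK_c3m : CD.Mem R (CD.gen R 69175290276410818560) 69175290276410818560 := DqK_c3i.gen
theorem fx539 : CD.gen R 69175290276410818560 ≤ stabilizer _ pt500 := Act.fix_sound DqK_c3i.top pt500r chk538
theorem cov546 : Cov (CD.gen R 70328211781017665536) (CD.wds R [0]) pt500 3 := Act.cov_of_seen (Act.pieces_sound DqK_c2m DqK_c2m.top pt500r chk544) chk545
theorem DqK_c4i : CD.Mem R (CD.gen R 69175290276410818560) 55340232221128654848 := DqK_c3m.sub chk547
theorem DqK_c4m : CD.Mem R (CD.gen R 55340232221128654848) 55340232221128654848 := DqK_c4i.gen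
theorem fx549 : CD.gen R 55340232221128654848 ≤ stabilizer _ pt501 := Act.fix_sound DqK_c4i.top pt501r chk548
theorem cov556 : Cov (CD.gen R 69175290276410818560) (CD.wds R [0]) pt501 6 := Act.cov_of_seen (Act.pieces_sound DqK_c3m DqK_c3m.top pt501r chk554) chk555
theorem DqK_c5i : CD.Mem R (CD.gen R 55340232221128654848) 36893488147419103232 := DqK_c4m.sub chk557
theorem DqK_c5m : CD.Mem R (CD.gen R 36893488147419103232) 36893488147419103232 := DqK_c5i.gen
theorem fx559 : CD.gen R 36893488147419103232 ≤ stabilizer _ pt502 := Act.fix_sound DqK_c5i.top pt502r chk558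
theorem cov566 : Cov (CD.gen R 55340232221128654848) (CD.wds R [0]) pt502 2 := Act.cov_of_seen (Act.pieces_sound DqK_c4m DqK_c4m.top pt502r chk564) chk565
theorem DqK_c6i : CD.Mem R (CD.gen R 36893488147419103232) 0 := DqK_c5m.sub chk567
theorem DqK_c6m : CD.Mem R (CD.gen R 0) 0 := DqK_c6i.gen
theorem fx569 : CD.gen R 0 ≤ stabilizer _ pt503 := Act.fix_sound DqK_c6i.top pt503r chk568
theorem cov576 : Cov (CD.gen R 36893488147419103232) (CD.wds R [0]) pt503 3 := Act.cov_of_seen (Act.pieces_sound DqK_c5m DqK_c5m.top pt503r chk574) chk575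
theorem DqK_lb7 : 1 ≤ Nat.card (CD.gen R 0) := Nat.card_pos
theorem DqK_lo6 : 3 * Nat.card (CD.gen R 0) ≤ Nat.card (CD.gen R 36893488147419103232) := cov576.low le_rfl (GC.wds_zero _) DqK_c6i.gen_le fx569
theorem DqK_lb6 : 3 ≤ Nat.card (CD.gen R 36893488147419103232) := low_step DqK_lo6 DqK_lb7 (by decide +kernel)
theorem DqK_lo5 : 2 * Nat.card (CD.gen R 36893488147419103232) ≤ Nat.card (CD.gen R 55340232221128654848) := cov566.low le_rfl (GC.wds_zero _) DqK_c5i.gen_le fx559
theorem DqK_lb5 : 6 ≤ Nat.card (CD.gen R 55340232221128654848) := low_step DqK_lo5 DqK_lb6 (by decide +kernel)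
theorem DqK_lo4 : 6 * Nat.card (CD.gen R 55340232221128654848) ≤ Nat.card (CD.gen R 69175290276410818560) := cov556.low le_rfl (GC.wds_zero _) DqK_c4i.gen_le fx549
theorem DqK_lb4 : 36 ≤ Nat.card (CD.gen R 69175290276410818560) := low_step DqK_lo4 DqK_lb5 (by decide +kernel)
theorem DqK_lo3 : 3 * Nat.card (CD.gen R 69175290276410818560) ≤ Nat.card (CD.gen R 70328211781017665536) := cov546.low le_rfl (GC.wds_zero _) DqK_c3i.gen_le fx539
theorem DqK_lb3 : 108 ≤ Nat.card (CD.gen R 70328211781017665536) := low_step DqK_lo3 DqK_lb4 (by decide +kernel)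
theorem DqK_lo2 : 3 * Nat.card (CD.gen R 70328211781017665536) ≤ Nat.card (CD.gen R 70904672533321089024) := cov536.low le_rfl (GC.wds_zero _) DqK_c2i.gen_le fx529
theorem DqK_lb2 : 324 ≤ Nat.card (CD.gen R 70904672533321089024) := low_step DqK_lo2 DqK_lb3 (by decide +kernel)
theorem DqK_lo1 : 12 * Nat.card (CD.gen R 70904672533321089024) ≤ Nat.card (CD.gen R 73498745918686494720) := cov526.low le_rfl (GC.wds_zero _) DqK_c1i.gen_le fx519
theorem DqK_lb1 : 3888 ≤ Nat.card (CD.gen R 73498745918686494720) := low_step DqK_lo1 DqK_lb2 (by decide +kernel)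
theorem DqK_lo0 : 3 * Nat.card (CD.gen R 73498745918686494720) ≤ Nat.card (CD.gen R 252201579132747776) := cov516.low le_rfl (GC.wds_zero _) DqK_c0i.gen_le fx509
theorem DqK_lb0 : 11664 ≤ Nat.card (CD.gen R 252201579132747776) := low_step DqK_lo0 DqK_lb1 (by decide +kernel)
theorem fx580 : CD.gen R 252201579132747776 ≤ stabilizer _ pt443 := Act.fix_sound DqK_in496.top pt443r chk579
theorem Dq_Kc : ∀ κ ∈ (CD.gen R 252201579132747776), (CD.el (R 2))⁻¹ * κ * CD.el (R 2) ∈ (CD.gen R 16376) := D2_s1_446.conjB (Dq_m1.get (i := 2) (by decide +kernel)).top DqK_in496.top chk578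
theorem DqT1_in617 : CD.Mem R (CD.gen R 16376) 516508834063867445248 := D2_s1_446.slp' chk616
theorem DqT1_m0 : CD.Mem R (CD.gen R 516508834063867445248) 516508834063867445248 := GC.Mem.gen DqT1_in617.top
theorem pt618e : ∃ x, D1.Rep pt618c x := (act4_rep e12 (d := 4) (by decide) (by decide) (c := 0x11) (by decide +kernel)).elim fun x hx => ⟨_, x, hx, rfl⟩
noncomputable def pt618 := Classical.choose pt618e
theorem pt618r : D1.Rep pt618c pt618 := Classical.choose_spec pt618e
theorem pt619e : ∃ x, D1.Rep pt619c x := (act4_rep e12 (d := 4) (by decide) (by decide) (c := 0x40) (by decide +kernel)).elim fun x hx => ⟨_, x, hx, rfl⟩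
noncomputable def pt619 := Classical.choose pt619e
theorem pt619r : D1.Rep pt619c pt619 := Classical.choose_spec pt619e
theorem pt620e : ∃ x, D1.Rep pt620c x := (act4_rep e12 (d := 4) (by decide) (by decide) (c := 0x100) (by decide +kernel)).elim fun x hx => ⟨_, x, hx, rfl⟩
noncomputable def pt620 := Classical.choose pt620e
theorem pt620r : D1.Rep pt620c pt620 := Classical.choose_spec pt620e
theorem pt621e : ∃ x, D1.Rep pt621c x := (act4_rep e12 (d := 4) (by decide) (by decide) (c := 0x5) (by decide +kernel)).elim fun x hx => ⟨_, x, hx, rfl⟩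
noncomputable def pt621 := Classical.choose pt621e
theorem pt621r : D1.Rep pt621c pt621 := Classical.choose_spec pt621e
theorem pt622e : ∃ x, D1.Rep pt622c x := (act4_rep e12 (d := 4) (by decide) (by decide) (c := 0x101) (by decide +kernel)).elim fun x hx => ⟨_, x, hx, rfl⟩
noncomputable def pt622 := Classical.choose pt622e
theorem pt622r : D1.Rep pt622c pt622 := Classical.choose_spec pt622e
theorem pt623e : ∃ x, D0.Rep pt623c x := act4_rep e12 (d := 4) (by decide) (by decide) (c := 0x1) (by decide +kernel)
noncomputable def pt623 := Classical.choose pt623e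
theorem pt623r : D0.Rep pt623c pt623 := Classical.choose_spec pt623e
theorem pt624e : ∃ x, E0.Rep pt624c x := act2_rep (n := 79) (d := 7) (by decide) (by decide) (c := 0x2) (by decide +kernel)
noncomputable def pt624 := Classical.choose pt624e
theorem pt624r : E0.Rep pt624c pt624 := Classical.choose_spec pt624e
theorem DqT1_s0_627 : CD.Mem R (CD.gen R 516508834063867445248) 151041940475533808631808 := DqT1_m0.slp' chk626
theorem DqT1_c0i : CD.Mem R (CD.gen R 516508834063867445248) 150525431641469941186560 := DqT1_s0_627.sub chk628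
theorem DqT1_c0m : CD.Mem R (CD.gen R 150525431641469941186560) 150525431641469941186560 := DqT1_c0i.gen
theorem fx630 : CD.gen R 150525431641469941186560 ≤ stabilizer _ pt618 := Act.fix_sound DqT1_c0i.top pt618r chk629
theorem cov637 : Cov (CD.gen R 516508834063867445248) (CD.wds R [0]) pt618 3 := Act.cov_of_seen (Act.pieces_sound DqT1_s0_627 DqT1_s0_627.top pt618r chk635) chk636
theorem DqT1_c1i : CD.Mem R (CD.gen R 150525431641469941186560) 147573952589676412928000 := DqT1_c0m.sub chk638
theorem DqT1_c1m : CD.Mem R (CD.gen R 147573952589676412928000) 147573952589676412928000 := DqT1_c1i.gen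
theorem fx640 : CD.gen R 147573952589676412928000 ≤ stabilizer _ pt619 := Act.fix_sound DqT1_c1i.top pt619r chk639
theorem cov647 : Cov (CD.gen R 150525431641469941186560) (CD.wds R [0]) pt619 12 := Act.cov_of_seen (Act.pieces_sound DqT1_c0m DqT1_c0m.top pt619r chk645) chk646
theorem DqT1_c2i : CD.Mem R (CD.gen R 147573952589676412928000) 146393360968959001624576 := DqT1_c1m.sub chk648
theorem DqT1_c2m : CD.Mem R (CD.gen R 146393360968959001624576) 146393360968959001624576 := DqT1_c2i.gen
theorem fx650 : CD.gen R 146393360968959001624576 ≤ stabilizer _ pt620 := Act.fix_sound DqT1_c2i.top pt620r chk649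
theorem cov657 : Cov (CD.gen R 147573952589676412928000) (CD.wds R [0]) pt620 2 := Act.cov_of_seen (Act.pieces_sound DqT1_c1m DqT1_c1m.top pt620r chk655) chk656
theorem DqT1_c3i : CD.Mem R (CD.gen R 146393360968959001624576) 141670994486089356410880 := DqT1_c2m.sub chk658
theorem DqT1_c3m : CD.Mem R (CD.gen R 141670994486089356410880) 141670994486089356410880 := DqT1_c3i.gen
theorem fx660 : CD.gen R 141670994486089356410880 ≤ stabilizer _ pt621 := Act.fix_sound DqT1_c3i.top pt621r chk659
theorem cov667 : Cov (CD.gen R 146393360968959001624576) (CD.wds R [0]) pt621 3 := Act.cov_of_seen (Act.pieces_sound DqT1_c2m DqT1_c2m.top pt621r chk665) chk666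
theorem DqT1_c4i : CD.Mem R (CD.gen R 141670994486089356410880) 132226261520350065983488 := DqT1_c3m.sub chk668
theorem DqT1_c4m : CD.Mem R (CD.gen R 132226261520350065983488) 132226261520350065983488 := DqT1_c4i.gen
theorem fx670 : CD.gen R 132226261520350065983488 ≤ stabilizer _ pt622 := Act.fix_sound DqT1_c4i.top pt622r chk669
theorem cov677 : Cov (CD.gen R 141670994486089356410880) (CD.wds R [0]) pt622 3 := Act.cov_of_seen (Act.pieces_sound DqT1_c3m DqT1_c3m.top pt622r chk675) chk676
theorem DqT1_c5i : CD.Mem R (CD.gen R 132226261520350065983488) 113336795588871485128704 := DqT1_c4m.sub chk678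
theorem DqT1_c5m : CD.Mem R (CD.gen R 113336795588871485128704) 113336795588871485128704 := DqT1_c5i.gen
theorem fx680 : CD.gen R 113336795588871485128704 ≤ stabilizer _ pt623 := Act.fix_sound DqT1_c5i.top pt623r chk679
theorem cov687 : Cov (CD.gen R 132226261520350065983488) (CD.wds R [0]) pt623 3 := Act.cov_of_seen (Act.pieces_sound DqT1_c4m DqT1_c4m.top pt623r chk685) chk686
theorem DqT1_c6i : CD.Mem R (CD.gen R 113336795588871485128704) 0 := DqT1_c5m.sub chk688
theorem DqT1_c6m : CD.Mem R (CD.gen R 0) 0 := DqT1_c6i.gen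
theorem fx690 : CD.gen R 0 ≤ stabilizer _ pt624 := Act.fix_sound DqT1_c6i.top pt624r chk689
theorem cov697 : Cov (CD.gen R 113336795588871485128704) (CD.wds R [0]) pt624 6 := Act.cov_of_seen (Act.pieces_sound DqT1_c5m DqT1_c5m.top pt624r chk695) chk696
theorem DqT1_lb7 : 1 ≤ Nat.card (CD.gen R 0) := Nat.card_pos
theorem DqT1_lo6 : 6 * Nat.card (CD.gen R 0) ≤ Nat.card (CD.gen R 113336795588871485128704) := cov697.low le_rfl (GC.wds_zero _) DqT1_c6i.gen_le fx690
theorem DqT1_lb6 : 6 ≤ Nat.card (CD.gen R 113336795588871485128704) := low_step DqT1_lo6 DqT1_lb7 (by decide +kernel)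
theorem DqT1_lo5 : 3 * Nat.card (CD.gen R 113336795588871485128704) ≤ Nat.card (CD.gen R 132226261520350065983488) := cov687.low le_rfl (GC.wds_zero _) DqT1_c5i.gen_le fx680
theorem DqT1_lb5 : 18 ≤ Nat.card (CD.gen R 132226261520350065983488) := low_step DqT1_lo5 DqT1_lb6 (by decide +kernel)
theorem DqT1_lo4 : 3 * Nat.card (CD.gen R 132226261520350065983488) ≤ Nat.card (CD.gen R 141670994486089356410880) := cov677.low le_rfl (GC.wds_zero _) DqT1_c4i.gen_le fx670
theorem DqT1_lb4 : 54 ≤ Nat.card (CD.gen R 141670994486089356410880) := low_step DqT1_lo4 DqT1_lb5 (by decide +kernel)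
theorem DqT1_lo3 : 3 * Nat.card (CD.gen R 141670994486089356410880) ≤ Nat.card (CD.gen R 146393360968959001624576) := cov667.low le_rfl (GC.wds_zero _) DqT1_c3i.gen_le fx660
theorem DqT1_lb3 : 162 ≤ Nat.card (CD.gen R 146393360968959001624576) := low_step DqT1_lo3 DqT1_lb4 (by decide +kernel)
theorem DqT1_lo2 : 2 * Nat.card (CD.gen R 146393360968959001624576) ≤ Nat.card (CD.gen R 147573952589676412928000) := cov657.low le_rfl (GC.wds_zero _) DqT1_c2i.gen_le fx650
theorem DqT1_lb2 : 324 ≤ Nat.card (CD.gen R 147573952589676412928000) := low_step DqT1_lo2 DqT1_lb3 (by decide +kernel)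
theorem DqT1_lo1 : 12 * Nat.card (CD.gen R 147573952589676412928000) ≤ Nat.card (CD.gen R 150525431641469941186560) := cov647.low le_rfl (GC.wds_zero _) DqT1_c1i.gen_le fx640
theorem DqT1_lb1 : 3888 ≤ Nat.card (CD.gen R 150525431641469941186560) := low_step DqT1_lo1 DqT1_lb2 (by decide +kernel)
theorem DqT1_lo0 : 3 * Nat.card (CD.gen R 150525431641469941186560) ≤ Nat.card (CD.gen R 516508834063867445248) := cov637.low le_rfl (GC.wds_zero _) DqT1_c0i.gen_le fx630
theorem DqT1_lb0 : 11664 ≤ Nat.card (CD.gen R 516508834063867445248) := low_step DqT1_lo0 DqT1_lb1 (by decide +kernel)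
theorem Dq_T1c : ∀ τ ∈ (CD.gen R 516508834063867445248), CD.el (R 2) * τ * (CD.el (R 2))⁻¹ ∈ (CD.gen R 16376) := D2_s1_446.conjA (Dq_I.get (i := 2) (by decide +kernel)).top DqT1_in617.top chk699
theorem cov708 : Cov (CD.gen R 516508834063867445248) (CD.wds R (List.map Prod.fst (l700))) pt443 40 := Act.cov_of_seen (Act.pieces_sound DqT1_s0_627 D2_s1_446.top pt443r chk706) chk707
theorem Dq_T1d : Dec (CD.gen R 16376) (CD.gen R 516508834063867445248) (CD.wds R (List.map Prod.fst (l700))) (CD.gen R 252201579132747776) := cov708.dec DqT1_in617.gen_le (GC.wds_sub D2_s1_446 chk709) DqK_in496.gen_le fx580 (up_low D2_ub DqK_lb0 (by decide +kernel))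
theorem Dq_T1p : ∀ x ∈ DC1 (CD.gen R 16376) (CD.el (R 2)), x * CD.el (R 2) ∈ DCs (CD.gen R 16376) (CD.els R 18014398509481988) := GC.dc_piece' Dq_T1d Dq_T1c Dq_Kc (D2_s1_446.dcRel Dq_I.top (Dq_I.get (i := 2) (by decide +kernel)).top (Dq_m1.get (i := 2) (by decide +kernel)).top chk701)
theorem Dq_T1u : Nat.card (CD.gen R 16376) ≤ 40 * Nat.card (CD.gen R 516508834063867445248) := up_low D2_ub DqT1_lb0 (by decide +kernel)
theorem Dq_T1n : (DC1 (CD.gen R 16376) (CD.el (R 2))).ncard ≤ Nat.card (CD.gen R 16376) * 40 := ncard_DC1 DqT1_in617.gen_le Dq_T1c Dq_T1u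
theorem DqT2_in712 : CD.Mem R (CD.gen R 16376) 453347182355485940514816 := D2_s1_446.slp' chk711
theorem DqT2_m0 : CD.Mem R (CD.gen R 453347182355485940514816) 453347182355485940514816 := GC.Mem.gen DqT2_in712.top
theorem pt713e : ∃ x, D1.Rep pt713c x := (act4_rep e12 (d := 4) (by decide) (by decide) (c := 0x5) (by decide +kernel)).elim fun x hx => ⟨_, x, hx, rfl⟩
noncomputable def pt713 := Classical.choose pt713e
theorem pt713r : D1.Rep pt713c pt713 := Classical.choose_spec pt713e
theorem pt714e : ∃ x, E0.Rep pt714c x := act2_rep (n := 79) (d := 7) (by decide) (by decide) (c := 0x4) (by decide +kernel)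
noncomputable def pt714 := Classical.choose pt714e
theorem pt714r : E0.Rep pt714c pt714 := Classical.choose_spec pt714e
theorem pt715e : ∃ x, D1.Rep pt715c x := (act4_rep e12 (d := 4) (by decide) (by decide) (c := 0x10) (by decide +kernel)).elim fun x hx => ⟨_, x, hx, rfl⟩
noncomputable def pt715 := Classical.choose pt715e
theorem pt715r : D1.Rep pt715c pt715 := Classical.choose_spec pt715e
theorem pt716e : ∃ x, D0.Rep pt716c x := act4_rep e12 (d := 4) (by decide) (by decide) (c := 0x1) (by decide +kernel)
noncomputable def pt716 := Classical.choose pt716e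
theorem pt716r : D0.Rep pt716c pt716 := Classical.choose_spec pt716e
theorem DqT2_s0_719 : CD.Mem R (CD.gen R 453347182355485940514816) 38534510500216304943759360 := DqT2_m0.slp' chk718
theorem DqT2_c0i : CD.Mem R (CD.gen R 453347182355485940514816) 38081163317860819003244544 := DqT2_s0_719.sub chk720
theorem DqT2_c0m : CD.Mem R (CD.gen R 38081163317860819003244544) 38081163317860819003244544 := DqT2_c0i.gen
theorem fx722 : CD.gen R 38081163317860819003244544 ≤ stabilizer _ pt713 := Act.fix_sound DqT2_c0i.top pt713r chk721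
theorem cov729 : Cov (CD.gen R 453347182355485940514816) (CD.wds R [0]) pt713 3 := Act.cov_of_seen (Act.pieces_sound DqT2_s0_719 DqT2_s0_719.top pt713r chk727) chk728
theorem DqT2_c1i : CD.Mem R (CD.gen R 38081163317860819003244544) 25387442211907212668829696 := DqT2_c0m.sub chk730
theorem DqT2_c1m : CD.Mem R (CD.gen R 25387442211907212668829696) 25387442211907212668829696 := DqT2_c1i.gen
theorem fx732 : CD.gen R 25387442211907212668829696 ≤ stabilizer _ pt714 := Act.fix_sound DqT2_c1i.top pt714r chk731
theorem cov739 : Cov (CD.gen R 38081163317860819003244544) (CD.wds R [0]) pt714 96 := Act.cov_of_seen (Act.pieces_sound DqT2_c0m DqT2_c0m.top pt714r chk737) chk738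
theorem DqT2_c2i : CD.Mem R (CD.gen R 25387442211907212668829696) 4835703278458516698824704 := DqT2_c1m.sub chk740
theorem DqT2_c2m : CD.Mem R (CD.gen R 4835703278458516698824704) 4835703278458516698824704 := DqT2_c2i.gen
theorem fx742 : CD.gen R 4835703278458516698824704 ≤ stabilizer _ pt715 := Act.fix_sound DqT2_c2i.top pt715r chk741
theorem cov749 : Cov (CD.gen R 25387442211907212668829696) (CD.wds R [0]) pt715 4 := Act.cov_of_seen (Act.pieces_sound DqT2_c1m DqT2_c1m.top pt715r chk747) chk748
theorem DqT2_c3i : CD.Mem R (CD.gen R 4835703278458516698824704) 0 := DqT2_c2m.sub chk750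
theorem DqT2_c3m : CD.Mem R (CD.gen R 0) 0 := DqT2_c3i.gen
theorem fx752 : CD.gen R 0 ≤ stabilizer _ pt716 := Act.fix_sound DqT2_c3i.top pt716r chk751
theorem cov759 : Cov (CD.gen R 4835703278458516698824704) (CD.wds R [0]) pt716 3 := Act.cov_of_seen (Act.pieces_sound DqT2_c2m DqT2_c2m.top pt716r chk757) chk758
theorem DqT2_lb4 : 1 ≤ Nat.card (CD.gen R 0) := Nat.card_pos
theorem DqT2_lo3 : 3 * Nat.card (CD.gen R 0) ≤ Nat.card (CD.gen R 4835703278458516698824704) := cov759.low le_rfl (GC.wds_zero _) DqT2_c3i.gen_le fx752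
theorem DqT2_lb3 : 3 ≤ Nat.card (CD.gen R 4835703278458516698824704) := low_step DqT2_lo3 DqT2_lb4 (by decide +kernel)
theorem DqT2_lo2 : 4 * Nat.card (CD.gen R 4835703278458516698824704) ≤ Nat.card (CD.gen R 25387442211907212668829696) := cov749.low le_rfl (GC.wds_zero _) DqT2_c2i.gen_le fx742
theorem DqT2_lb2 : 12 ≤ Nat.card (CD.gen R 25387442211907212668829696) := low_step DqT2_lo2 DqT2_lb3 (by decide +kernel)
theorem DqT2_lo1 : 96 * Nat.card (CD.gen R 25387442211907212668829696) ≤ Nat.card (CD.gen R 38081163317860819003244544) := cov739.low le_rfl (GC.wds_zero _) DqT2_c1i.gen_le fx732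
theorem DqT2_lb1 : 1152 ≤ Nat.card (CD.gen R 38081163317860819003244544) := low_step DqT2_lo1 DqT2_lb2 (by decide +kernel)
theorem DqT2_lo0 : 3 * Nat.card (CD.gen R 38081163317860819003244544) ≤ Nat.card (CD.gen R 453347182355485940514816) := cov729.low le_rfl (GC.wds_zero _) DqT2_c0i.gen_le fx722
theorem DqT2_lb0 : 3456 ≤ Nat.card (CD.gen R 453347182355485940514816) := low_step DqT2_lo0 DqT2_lb1 (by decide +kernel)
theorem Dq_T2c : ∀ τ ∈ (CD.gen R 453347182355485940514816), CD.el (R 54) * τ * (CD.el (R 54))⁻¹ ∈ (CD.gen R 16376) := D2_s1_446.conjA (Dq_I.get (i := 54) (by decide +kernel)).top DqT2_in712.top chk761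
theorem cov770 : Cov (CD.gen R 453347182355485940514816) (CD.wds R (List.map Prod.fst (l762))) pt443 40 := Act.cov_of_seen (Act.pieces_sound DqT2_s0_719 D2_s1_446.top pt443r chk768) chk769
theorem Dq_T2d : Dec (CD.gen R 16376) (CD.gen R 453347182355485940514816) (CD.wds R (List.map Prod.fst (l762))) (CD.gen R 252201579132747776) := cov770.dec DqT2_in712.gen_le (GC.wds_sub D2_s1_446 chk771) DqK_in496.gen_le fx580 (up_low D2_ub DqK_lb0 (by decide +kernel))
theorem Dq_T2p : ∀ x ∈ DC1 (CD.gen R 16376) (CD.el (R 54)), x * CD.el (R 2) ∈ DCs (CD.gen R 16376) (CD.els R 18014398509481988) := GC.dc_piece' Dq_T2d Dq_T2c Dq_Kc (D2_s1_446.dcRel Dq_I.top (Dq_I.get (i := 54) (by decide +kernel)).top (Dq_m1.get (i := 2) (by decide +kernel)).top chk763)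
theorem Dq_T2u : Nat.card (CD.gen R 16376) ≤ 135 * Nat.card (CD.gen R 453347182355485940514816) := up_low D2_ub DqT2_lb0 (by decide +kernel)
theorem Dq_T2n : (DC1 (CD.gen R 16376) (CD.el (R 54))).ncard ≤ Nat.card (CD.gen R 16376) * 135 := ncard_DC1 DqT2_in712.gen_le Dq_T2c Dq_T2u
theorem Dq_dc : ∀ x ∈ (CD.gen R 16380), x ∈ DCs (CD.gen R 16376) (CD.els R 18014398509481988) := GC.dc_gen (MU := 4) D2_s1_446 (by decide +kernel) (GC.forall_els (L := [2]) (forall_cons ⟨D2_s1_446.inDC' Dq_I.top (Dq_m1.get (i := 2) (by decide +kernel)).top chk772, GC.forall_els (L := [2, 54]) (forall_cons Dq_T1p (forall_cons Dq_T2p forall_nil)) (by decide +kernel)⟩ forall_nil) (by decide +kernel))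
theorem Dq_cs : ∀ p ∈ ([(2, 40), (54, 135)] : List (ℕ × ℕ)), (DC1 (CD.gen R 16376) (CD.el (R p.1))).ncard ≤ Nat.card (CD.gen R 16376) * p.2 := (forall_cons Dq_T1n (forall_cons Dq_T2n forall_nil))
theorem Dq_ix : Nat.card (CD.gen R 16380) ≤ 176 * Nat.card (CD.gen R 16376) := GC.card_dc [(2, 40), (54, 135)] Dq_dc Dq_cs (by decide +kernel)
theorem Dq_ub : Nat.card (CD.gen R 16380) ≤ 82114560 := up_mul Dq_ix D2_ub (by decide +kernel)
theorem pt773e : ∃ x, D1.Rep pt773c x := (act4_rep e12 (d := 4) (by decide) (by decide) (c := 0x4) (by decide +kernel)).elim fun x hx => ⟨_, x, hx, rfl⟩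
noncomputable def pt773 := Classical.choose pt773e
theorem pt773r : D1.Rep pt773c pt773 := Classical.choose_spec pt773e
theorem Dq_s2_776 : CD.Mem R (CD.gen R 16380) 316873964430865675853232111612 := Dq_s1_451.slp' chk775
theorem D_m0 : CD.Mem R (CD.gen R 16382) 16382 := GC.Mem.gen valp7
theorem D_m1 : CD.Mem R (CD.gen R 16382) 316873964430865675853232111614 := D_m0.lor' (Dq_s2_776.mono (D_m0.sub chk777).gen_le) chk778
theorem D_s1_781 : CD.Mem R (CD.gen R 16382) 633786614487923026227407912958 := D_m1.slp' chk780
theorem D_I : CD.Mem R (CD.gen R 16382) 316912650057057350374175801346 := D_s1_781.sub chk782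
theorem DK_in814 : CD.Mem R (CD.gen R 16380) 1901475900342344102245054808064 := Dq_s2_776.slp' chk813
theorem DK_m0 : CD.Mem R (CD.gen R 1901475900342344102245054808064) 1901475900342344102245054808064 := GC.Mem.gen DK_in814.top
theorem pt815e : ∃ x, D1.Rep pt815c x := (act4_rep e12 (d := 4) (by decide) (by decide) (c := 0x5) (by decide +kernel)).elim fun x hx => ⟨_, x, hx, rfl⟩
noncomputable def pt815 := Classical.choose pt815e
theorem pt815r : D1.Rep pt815c pt815 := Classical.choose_spec pt815e
theorem pt816e : ∃ x, D0.Rep pt816c x := act4_rep e12 (d := 4) (by decide) (by decide) (c := 0x1) (by decide +kernel)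
noncomputable def pt816 := Classical.choose pt816e
theorem pt816r : D0.Rep pt816c pt816 := Classical.choose_spec pt816e
theorem pt817e : ∃ x, D1.Rep pt817c x := (act4_rep e12 (d := 4) (by decide) (by decide) (c := 0x10) (by decide +kernel)).elim fun x hx => ⟨_, x, hx, rfl⟩
noncomputable def pt817 := Classical.choose pt817e
theorem pt817r : D1.Rep pt817c pt817 := Classical.choose_spec pt817e
theorem pt818e : ∃ x, D1.Rep pt818c x := (act4_rep e12 (d := 4) (by decide) (by decide) (c := 0x440) (by decide +kernel)).elim fun x hx => ⟨_, x, hx, rfl⟩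
noncomputable def pt818 := Classical.choose pt818e
theorem pt818r : D1.Rep pt818c pt818 := Classical.choose_spec pt818e
theorem pt819e : ∃ x, D1.Rep pt819c x := (act4_rep e12 (d := 4) (by decide) (by decide) (c := 0x100) (by decide +kernel)).elim fun x hx => ⟨_, x, hx, rfl⟩
noncomputable def pt819 := Classical.choose pt819e
theorem pt819r : D1.Rep pt819c pt819 := Classical.choose_spec pt819e
theorem pt820e : ∃ x, D1.Rep pt820c x := (act4_rep e12 (d := 4) (by decide) (by decide) (c := 0x41) (by decide +kernel)).elim fun x hx => ⟨_, x, hx, rfl⟩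
noncomputable def pt820 := Classical.choose pt820e
theorem pt820r : D1.Rep pt820c pt820 := Classical.choose_spec pt820e
theorem pt821e : ∃ x, E0.Rep pt821c x := act2_rep (n := 79) (d := 7) (by decide) (by decide) (c := 0x2) (by decide +kernel)
noncomputable def pt821 := Classical.choose pt821e
theorem pt821r : E0.Rep pt821c pt821 := Classical.choose_spec pt821e
theorem DK_s0_824 : CD.Mem R (CD.gen R 1901475900342344102245054808064) 10383959891769541142360244306837504 := DK_m0.slp' chk823
theorem DK_c0i : CD.Mem R (CD.gen R 1901475900342344102245054808064) 10382058415869198798257999252029440 := DK_s0_824.sub chk825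
theorem DK_c0m : CD.Mem R (CD.gen R 10382058415869198798257999252029440) 10382058415869198798257999252029440 := DK_c0i.gen
theorem fx827 : CD.gen R 10382058415869198798257999252029440 ≤ stabilizer _ pt815 := Act.fix_sound DK_c0i.top pt815r chk826
theorem cov834 : Cov (CD.gen R 1901475900342344102245054808064) (CD.wds R [0]) pt815 3 := Act.cov_of_seen (Act.pieces_sound DK_s0_824 DK_s0_824.top pt815r chk832) chk833
theorem DK_c1i : CD.Mem R (CD.gen R 10382058415869198798257999252029440) 10379523114668742339455005845618688 := DK_c0m.sub chk835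
theorem DK_c1m : CD.Mem R (CD.gen R 10379523114668742339455005845618688) 10379523114668742339455005845618688 := DK_c1i.gen
theorem fx837 : CD.gen R 10379523114668742339455005845618688 ≤ stabilizer _ pt816 := Act.fix_sound DK_c1i.top pt816r chk836
theorem cov844 : Cov (CD.gen R 10382058415869198798257999252029440) (CD.wds R [0]) pt816 3 := Act.cov_of_seen (Act.pieces_sound DK_c0m DK_c0m.top pt816r chk842) chk843
theorem DK_c2i : CD.Mem R (CD.gen R 10379523114668742339455005845618688) 10344028897862351916213098155868160 := DK_c1m.sub chk845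
theorem DK_c2m : CD.Mem R (CD.gen R 10344028897862351916213098155868160) 10344028897862351916213098155868160 := DK_c2i.gen
theorem fx847 : CD.gen R 10344028897862351916213098155868160 ≤ stabilizer _ pt817 := Act.fix_sound DK_c2i.top pt817r chk846
theorem cov854 : Cov (CD.gen R 10379523114668742339455005845618688) (CD.wds R [0]) pt817 40 := Act.cov_of_seen (Act.pieces_sound DK_c1m DK_c1m.top pt817r chk852) chk853
theorem DK_c3i : CD.Mem R (CD.gen R 10344028897862351916213098155868160) 10222334440240441893669414648152064 := DK_c2m.sub chk855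
theorem DK_c3m : CD.Mem R (CD.gen R 10222334440240441893669414648152064) 10222334440240441893669414648152064 := DK_c3i.gen
theorem fx857 : CD.gen R 10222334440240441893669414648152064 ≤ stabilizer _ pt818 := Act.fix_sound DK_c3i.top pt818r chk856
theorem cov864 : Cov (CD.gen R 10344028897862351916213098155868160) (CD.wds R [0]) pt818 9 := Act.cov_of_seen (Act.pieces_sound DK_c2m DK_c2m.top pt818r chk862) chk863
theorem DK_c4i : CD.Mem R (CD.gen R 10222334440240441893669414648152064) 9735556609752801803494680617287680 := DK_c3m.sub chk865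
theorem DK_c4m : CD.Mem R (CD.gen R 9735556609752801803494680617287680) 9735556609752801803494680617287680 := DK_c4i.gen
theorem fx867 : CD.gen R 9735556609752801803494680617287680 ≤ stabilizer _ pt819 := Act.fix_sound DK_c4i.top pt819r chk866
theorem cov874 : Cov (CD.gen R 10222334440240441893669414648152064) (CD.wds R [0]) pt819 4 := Act.cov_of_seen (Act.pieces_sound DK_c3m DK_c3m.top pt819r chk872) chk873
theorem DK_c5i : CD.Mem R (CD.gen R 9735556609752801803494680617287680) 3894222643901120721397872246915072 := DK_c4m.sub chk875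
theorem DK_c5m : CD.Mem R (CD.gen R 3894222643901120721397872246915072) 3894222643901120721397872246915072 := DK_c5i.gen
theorem fx877 : CD.gen R 3894222643901120721397872246915072 ≤ stabilizer _ pt820 := Act.fix_sound DK_c5i.top pt820r chk876
theorem cov884 : Cov (CD.gen R 9735556609752801803494680617287680) (CD.wds R [0]) pt820 6 := Act.cov_of_seen (Act.pieces_sound DK_c4m DK_c4m.top pt820r chk882) chk883
theorem DK_c6i : CD.Mem R (CD.gen R 3894222643901120721397872246915072) 0 := DK_c5m.sub chk885
theorem DK_c6m : CD.Mem R (CD.gen R 0) 0 := DK_c6i.gen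
theorem fx887 : CD.gen R 0 ≤ stabilizer _ pt821 := Act.fix_sound DK_c6i.top pt821r chk886
theorem cov894 : Cov (CD.gen R 3894222643901120721397872246915072) (CD.wds R [0]) pt821 6 := Act.cov_of_seen (Act.pieces_sound DK_c5m DK_c5m.top pt821r chk892) chk893
theorem DK_lb7 : 1 ≤ Nat.card (CD.gen R 0) := Nat.card_pos
theorem DK_lo6 : 6 * Nat.card (CD.gen R 0) ≤ Nat.card (CD.gen R 3894222643901120721397872246915072) := cov894.low le_rfl (GC.wds_zero _) DK_c6i.gen_le fx887
theorem DK_lb6 : 6 ≤ Nat.card (CD.gen R 3894222643901120721397872246915072) := low_step DK_lo6 DK_lb7 (by decide +kernel)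
theorem DK_lo5 : 6 * Nat.card (CD.gen R 3894222643901120721397872246915072) ≤ Nat.card (CD.gen R 9735556609752801803494680617287680) := cov884.low le_rfl (GC.wds_zero _) DK_c5i.gen_le fx877
theorem DK_lb5 : 36 ≤ Nat.card (CD.gen R 9735556609752801803494680617287680) := low_step DK_lo5 DK_lb6 (by decide +kernel)
theorem DK_lo4 : 4 * Nat.card (CD.gen R 9735556609752801803494680617287680) ≤ Nat.card (CD.gen R 10222334440240441893669414648152064) := cov874.low le_rfl (GC.wds_zero _) DK_c4i.gen_le fx867
theorem DK_lb4 : 144 ≤ Nat.card (CD.gen R 10222334440240441893669414648152064) := low_step DK_lo4 DK_lb5 (by decide +kernel)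
theorem DK_lo3 : 9 * Nat.card (CD.gen R 10222334440240441893669414648152064) ≤ Nat.card (CD.gen R 10344028897862351916213098155868160) := cov864.low le_rfl (GC.wds_zero _) DK_c3i.gen_le fx857
theorem DK_lb3 : 1296 ≤ Nat.card (CD.gen R 10344028897862351916213098155868160) := low_step DK_lo3 DK_lb4 (by decide +kernel)
theorem DK_lo2 : 40 * Nat.card (CD.gen R 10344028897862351916213098155868160) ≤ Nat.card (CD.gen R 10379523114668742339455005845618688) := cov854.low le_rfl (GC.wds_zero _) DK_c2i.gen_le fx847
theorem DK_lb2 : 51840 ≤ Nat.card (CD.gen R 10379523114668742339455005845618688) := low_step DK_lo2 DK_lb3 (by decide +kernel)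
theorem DK_lo1 : 3 * Nat.card (CD.gen R 10379523114668742339455005845618688) ≤ Nat.card (CD.gen R 10382058415869198798257999252029440) := cov844.low le_rfl (GC.wds_zero _) DK_c1i.gen_le fx837
theorem DK_lb1 : 155520 ≤ Nat.card (CD.gen R 10382058415869198798257999252029440) := low_step DK_lo1 DK_lb2 (by decide +kernel)
theorem DK_lo0 : 3 * Nat.card (CD.gen R 10382058415869198798257999252029440) ≤ Nat.card (CD.gen R 1901475900342344102245054808064) := cov834.low le_rfl (GC.wds_zero _) DK_c0i.gen_le fx827
theorem DK_lb0 : 466560 ≤ Nat.card (CD.gen R 1901475900342344102245054808064) := low_step DK_lo0 DK_lb1 (by decide +kernel)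
theorem fx898 : CD.gen R 1901475900342344102245054808064 ≤ stabilizer _ pt773 := Act.fix_sound DK_in814.top pt773r chk897
theorem D_Kc : ∀ κ ∈ (CD.gen R 1901475900342344102245054808064), (CD.el (R 1))⁻¹ * κ * CD.el (R 1) ∈ (CD.gen R 16380) := Dq_s2_776.conjB (D_m1.get (i := 1) (by decide +kernel)).top DK_in814.top chk896
theorem DT1_in909 : CD.Mem R (CD.gen R 16380) 31153781151208965771182977975320576 := Dq_s2_776.slp' chk908
theorem DT1_m0 : CD.Mem R (CD.gen R 31153781151208965771182977975320576) 31153781151208965771182977975320576 := GC.Mem.gen DT1_in909.top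
theorem pt910e : ∃ x, D0.Rep pt910c x := act4_rep e12 (d := 4) (by decide) (by decide) (c := 0x1) (by decide +kernel)
noncomputable def pt910 := Classical.choose pt910e
theorem pt910r : D0.Rep pt910c pt910 := Classical.choose_spec pt910e
theorem pt911e : ∃ x, D1.Rep pt911c x := (act4_rep e12 (d := 4) (by decide) (by decide) (c := 0x40) (by decide +kernel)).elim fun x hx => ⟨_, x, hx, rfl⟩
noncomputable def pt911 := Classical.choose pt911e
theorem pt911r : D1.Rep pt911c pt911 := Classical.choose_spec pt911e
theorem pt912e : ∃ x, D1.Rep pt912c x := (act4_rep e12 (d := 4) (by decide) (by decide) (c := 0x10) (by decide +kernel)).elim fun x hx => ⟨_, x, hx, rfl⟩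
noncomputable def pt912 := Classical.choose pt912e
theorem pt912r : D1.Rep pt912c pt912 := Classical.choose_spec pt912e
theorem pt913e : ∃ x, D1.Rep pt913c x := (act4_rep e12 (d := 4) (by decide) (by decide) (c := 0x100) (by decide +kernel)).elim fun x hx => ⟨_, x, hx, rfl⟩
noncomputable def pt913 := Classical.choose pt913e
theorem pt913r : D1.Rep pt913c pt913 := Classical.choose_spec pt913e
theorem pt914e : ∃ x, D1.Rep pt914c x := (act4_rep e12 (d := 4) (by decide) (by decide) (c := 0x5) (by decide +kernel)).elim fun x hx => ⟨_, x, hx, rfl⟩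
noncomputable def pt914 := Classical.choose pt914e
theorem pt914r : D1.Rep pt914c pt914 := Classical.choose_spec pt914e
theorem pt915e : ∃ x, D1.Rep pt915c x := (act4_rep e12 (d := 4) (by decide) (by decide) (c := 0x11) (by decide +kernel)).elim fun x hx => ⟨_, x, hx, rfl⟩
noncomputable def pt915 := Classical.choose pt915e
theorem pt915r : D1.Rep pt915c pt915 := Classical.choose_spec pt915e
theorem pt916e : ∃ x, E0.Rep pt916c x := act2_rep (n := 79) (d := 7) (by decide) (by decide) (c := 0x2) (by decide +kernel)
noncomputable def pt916 := Classical.choose pt916e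
theorem pt916r : E0.Rep pt916c pt916 := Classical.choose_spec pt916e
theorem DT1_s0_919 : CD.Mem R (CD.gen R 31153781151208965771182977975320576) 42524911271400238277664764936312586240 := DT1_m0.slp' chk918
theorem DT1_c0i : CD.Mem R (CD.gen R 31153781151208965771182977975320576) 42493757490249029311893581958337265664 := DT1_s0_919.sub chk920
theorem DT1_c0m : CD.Mem R (CD.gen R 42493757490249029311893581958337265664) 42493757490249029311893581958337265664 := DT1_c0i.gen
theorem fx922 : CD.gen R 42493757490249029311893581958337265664 ≤ stabilizer _ pt910 := Act.fix_sound DT1_c0i.top pt910r chk921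
theorem cov929 : Cov (CD.gen R 31153781151208965771182977975320576) (CD.wds R [0]) pt910 3 := Act.cov_of_seen (Act.pieces_sound DT1_s0_919 DT1_s0_919.top pt910r chk927) chk928
theorem DT1_c1i : CD.Mem R (CD.gen R 42493757490249029311893581958337265664) 41953758616961407238526410340098375680 := DT1_c0m.sub chk930
theorem DT1_c1m : CD.Mem R (CD.gen R 41953758616961407238526410340098375680) 41953758616961407238526410340098375680 := DT1_c1i.gen
theorem fx932 : CD.gen R 41953758616961407238526410340098375680 ≤ stabilizer _ pt911 := Act.fix_sound DT1_c1i.top pt911r chk931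
theorem cov939 : Cov (CD.gen R 42493757490249029311893581958337265664) (CD.wds R [0]) pt911 40 := Act.cov_of_seen (Act.pieces_sound DT1_c0m DT1_c0m.top pt911r chk937) chk938
theorem DT1_c2i : CD.Mem R (CD.gen R 41953758616961407238526410340098375680) 41206067869332392060018018868690681856 := DT1_c1m.sub chk940
theorem DT1_c2m : CD.Mem R (CD.gen R 41206067869332392060018018868690681856) 41206067869332392060018018868690681856 := DT1_c2i.gen
theorem fx942 : CD.gen R 41206067869332392060018018868690681856 ≤ stabilizer _ pt912 := Act.fix_sound DT1_c2i.top pt912r chk941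
theorem cov949 : Cov (CD.gen R 41953758616961407238526410340098375680) (CD.wds R [0]) pt912 27 := Act.cov_of_seen (Act.pieces_sound DT1_c1m DT1_c1m.top pt912r chk947) chk948
theorem DT1_c3i : CD.Mem R (CD.gen R 41206067869332392060018018868690681856) 37218383881977644441306597687849648128 := DT1_c2m.sub chk950
theorem DT1_c3m : CD.Mem R (CD.gen R 37218383881977644441306597687849648128) 37218383881977644441306597687849648128 := DT1_c3i.gen
theorem fx952 : CD.gen R 37218383881977644441306597687849648128 ≤ stabilizer _ pt913 := Act.fix_sound DT1_c3i.top pt913r chk951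
theorem cov959 : Cov (CD.gen R 41206067869332392060018018868690681856) (CD.wds R [0]) pt913 8 := Act.cov_of_seen (Act.pieces_sound DT1_c2m DT1_c2m.top pt913r chk957) chk958
theorem DT1_c4i : CD.Mem R (CD.gen R 37218383881977644441306597687849648128) 31901471898837980949691369446728269824 := DT1_c3m.sub chk960
theorem DT1_c4m : CD.Mem R (CD.gen R 31901471898837980949691369446728269824) 31901471898837980949691369446728269824 := DT1_c4i.gen
theorem fx962 : CD.gen R 31901471898837980949691369446728269824 ≤ stabilizer _ pt914 := Act.fix_sound DT1_c4i.top pt914r chk961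
theorem cov969 : Cov (CD.gen R 37218383881977644441306597687849648128) (CD.wds R [0]) pt914 3 := Act.cov_of_seen (Act.pieces_sound DT1_c3m DT1_c3m.top pt914r chk967) chk968
theorem DT1_c5i : CD.Mem R (CD.gen R 31901471898837980949691369446728269824) 21267647932558653966460912964485513216 := DT1_c4m.sub chk970
theorem DT1_c5m : CD.Mem R (CD.gen R 21267647932558653966460912964485513216) 21267647932558653966460912964485513216 := DT1_c5i.gen
theorem fx972 : CD.gen R 21267647932558653966460912964485513216 ≤ stabilizer _ pt915 := Act.fix_sound DT1_c5i.top pt915r chk971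
theorem cov979 : Cov (CD.gen R 31901471898837980949691369446728269824) (CD.wds R [0]) pt915 3 := Act.cov_of_seen (Act.pieces_sound DT1_c4m DT1_c4m.top pt915r chk977) chk978
theorem DT1_c6i : CD.Mem R (CD.gen R 21267647932558653966460912964485513216) 0 := DT1_c5m.sub chk980
theorem DT1_c6m : CD.Mem R (CD.gen R 0) 0 := DT1_c6i.gen
theorem fx982 : CD.gen R 0 ≤ stabilizer _ pt916 := Act.fix_sound DT1_c6i.top pt916r chk981
theorem cov989 : Cov (CD.gen R 21267647932558653966460912964485513216) (CD.wds R [0]) pt916 2 := Act.cov_of_seen (Act.pieces_sound DT1_c5m DT1_c5m.top pt916r chk987) chk988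
theorem DT1_lb7 : 1 ≤ Nat.card (CD.gen R 0) := Nat.card_pos
theorem DT1_lo6 : 2 * Nat.card (CD.gen R 0) ≤ Nat.card (CD.gen R 21267647932558653966460912964485513216) := cov989.low le_rfl (GC.wds_zero _) DT1_c6i.gen_le fx982
theorem DT1_lb6 : 2 ≤ Nat.card (CD.gen R 21267647932558653966460912964485513216) := low_step DT1_lo6 DT1_lb7 (by decide +kernel)
theorem DT1_lo5 : 3 * Nat.card (CD.gen R 21267647932558653966460912964485513216) ≤ Nat.card (CD.gen R 31901471898837980949691369446728269824) := cov979.low le_rfl (GC.wds_zero _) DT1_c5i.gen_le fx972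
theorem DT1_lb5 : 6 ≤ Nat.card (CD.gen R 31901471898837980949691369446728269824) := low_step DT1_lo5 DT1_lb6 (by decide +kernel)
theorem DT1_lo4 : 3 * Nat.card (CD.gen R 31901471898837980949691369446728269824) ≤ Nat.card (CD.gen R 37218383881977644441306597687849648128) := cov969.low le_rfl (GC.wds_zero _) DT1_c4i.gen_le fx962
theorem DT1_lb4 : 18 ≤ Nat.card (CD.gen R 37218383881977644441306597687849648128) := low_step DT1_lo4 DT1_lb5 (by decide +kernel)
theorem DT1_lo3 : 8 * Nat.card (CD.gen R 37218383881977644441306597687849648128) ≤ Nat.card (CD.gen R 41206067869332392060018018868690681856) := cov959.low le_rfl (GC.wds_zero _) DT1_c3i.gen_le fx952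
theorem DT1_lb3 : 144 ≤ Nat.card (CD.gen R 41206067869332392060018018868690681856) := low_step DT1_lo3 DT1_lb4 (by decide +kernel)
theorem DT1_lo2 : 27 * Nat.card (CD.gen R 41206067869332392060018018868690681856) ≤ Nat.card (CD.gen R 41953758616961407238526410340098375680) := cov949.low le_rfl (GC.wds_zero _) DT1_c2i.gen_le fx942
theorem DT1_lb2 : 3888 ≤ Nat.card (CD.gen R 41953758616961407238526410340098375680) := low_step DT1_lo2 DT1_lb3 (by decide +kernel)
theorem DT1_lo1 : 40 * Nat.card (CD.gen R 41953758616961407238526410340098375680) ≤ Nat.card (CD.gen R 42493757490249029311893581958337265664) := cov939.low le_rfl (GC.wds_zero _) DT1_c1i.gen_le fx932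
theorem DT1_lb1 : 155520 ≤ Nat.card (CD.gen R 42493757490249029311893581958337265664) := low_step DT1_lo1 DT1_lb2 (by decide +kernel)
theorem DT1_lo0 : 3 * Nat.card (CD.gen R 42493757490249029311893581958337265664) ≤ Nat.card (CD.gen R 31153781151208965771182977975320576) := cov929.low le_rfl (GC.wds_zero _) DT1_c0i.gen_le fx922
theorem DT1_lb0 : 466560 ≤ Nat.card (CD.gen R 31153781151208965771182977975320576) := low_step DT1_lo0 DT1_lb1 (by decide +kernel)
theorem D_T1c : ∀ τ ∈ (CD.gen R 31153781151208965771182977975320576), CD.el (R 1) * τ * (CD.el (R 1))⁻¹ ∈ (CD.gen R 16380) := Dq_s2_776.conjA (D_I.get (i := 1) (by decide +kernel)).top DT1_in909.top chk991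
theorem cov1000 : Cov (CD.gen R 31153781151208965771182977975320576) (CD.wds R (List.map Prod.fst (l992))) pt773 176 := Act.cov_of_seen (Act.pieces_sound DT1_s0_919 Dq_s2_776.top pt773r chk998) chk999
theorem D_T1d : Dec (CD.gen R 16380) (CD.gen R 31153781151208965771182977975320576) (CD.wds R (List.map Prod.fst (l992))) (CD.gen R 1901475900342344102245054808064) := cov1000.dec DT1_in909.gen_le (GC.wds_sub Dq_s2_776 chk1001) DK_in814.gen_le fx898 (up_low Dq_ub DK_lb0 (by decide +kernel))
theorem D_T1p : ∀ x ∈ DC1 (CD.gen R 16380) (CD.el (R 1)), x * CD.el (R 1) ∈ DCs (CD.gen R 16380) (CD.els R 316912650057057350374175801346) := GC.dc_piece' D_T1d D_T1c D_Kc (Dq_s2_776.dcRel D_I.top (D_I.get (i := 1) (by decide +kernel)).top (D_m1.get (i := 1) (by decide +kernel)).top chk993)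
theorem D_T1u : Nat.card (CD.gen R 16380) ≤ 176 * Nat.card (CD.gen R 31153781151208965771182977975320576) := up_low Dq_ub DT1_lb0 (by decide +kernel)
theorem D_T1n : (DC1 (CD.gen R 16380) (CD.el (R 1))).ncard ≤ Nat.card (CD.gen R 16380) * 176 := ncard_DC1 DT1_in909.gen_le D_T1c D_T1u
theorem DT2_in1046 : CD.Mem R (CD.gen R 16380) 297747071055821155530452781502797185024 := Dq_s2_776.slp' chk1045
theorem DT2_m0 : CD.Mem R (CD.gen R 297747071055821155530452781502797185024) 297747071055821155530452781502797185024 := GC.Mem.gen DT2_in1046.top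
theorem pt1047e : ∃ x, D0.Rep pt1047c x := act4_rep e12 (d := 4) (by decide) (by decide) (c := 0x1) (by decide +kernel)
noncomputable def pt1047 := Classical.choose pt1047e
theorem pt1047r : D0.Rep pt1047c pt1047 := Classical.choose_spec pt1047e
theorem pt1048e : ∃ x, D1.Rep pt1048c x := (act4_rep e12 (d := 4) (by decide) (by decide) (c := 0x404) (by decide +kernel)).elim fun x hx => ⟨_, x, hx, rfl⟩
noncomputable def pt1048 := Classical.choose pt1048e
theorem pt1048r : D1.Rep pt1048c pt1048 := Classical.choose_spec pt1048e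
theorem pt1049e : ∃ x, D1.Rep pt1049c x := (act4_rep e12 (d := 4) (by decide) (by decide) (c := 0x4) (by decide +kernel)).elim fun x hx => ⟨_, x, hx, rfl⟩
noncomputable def pt1049 := Classical.choose pt1049e
theorem pt1049r : D1.Rep pt1049c pt1049 := Classical.choose_spec pt1049e
theorem pt1050e : ∃ x, D1.Rep pt1050c x := (act4_rep e12 (d := 4) (by decide) (by decide) (c := 0x10) (by decide +kernel)).elim fun x hx => ⟨_, x, hx, rfl⟩
noncomputable def pt1050 := Classical.choose pt1050e
theorem pt1050r : D1.Rep pt1050c pt1050 := Classical.choose_spec pt1050e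
theorem pt1051e : ∃ x, E0.Rep pt1051c x := act2_rep (n := 79) (d := 7) (by decide) (by decide) (c := 0x2) (by decide +kernel)
noncomputable def pt1051 := Classical.choose pt1051e
theorem pt1051r : E0.Rep pt1051c pt1051 := Classical.choose_spec pt1051e
theorem DT2_s0_1054 : CD.Mem R (CD.gen R 297747071055821155530452781502797185024) 174182036567655375985314877179136353239040 := DT2_m0.slp' chk1053
theorem DT2_c0i : CD.Mem R (CD.gen R 297747071055821155530452781502797185024) 173884289496599554829784424397633556054016 := DT2_s0_1054.sub chk1055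
theorem DT2_c0m : CD.Mem R (CD.gen R 173884289496599554829784424397633556054016) 173884289496599554829784424397633556054016 := DT2_c0i.gen
theorem fx1057 : CD.gen R 173884289496599554829784424397633556054016 ≤ stabilizer _ pt1047 := Act.fix_sound DT2_c0i.top pt1047r chk1056
theorem cov1064 : Cov (CD.gen R 297747071055821155530452781502797185024) (CD.wds R [0]) pt1047 3 := Act.cov_of_seen (Act.pieces_sound DT2_s0_1054 DT2_s0_1054.top pt1047r chk1062) chk1063
theorem DT2_c1i : CD.Mem R (CD.gen R 173884289496599554829784424397633556054016) 172182877661994862512467551360474714996736 := DT2_c0m.sub chk1065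
theorem DT2_c1m : CD.Mem R (CD.gen R 172182877661994862512467551360474714996736) 172182877661994862512467551360474714996736 := DT2_c1i.gen
theorem fx1067 : CD.gen R 172182877661994862512467551360474714996736 ≤ stabilizer _ pt1048 := Act.fix_sound DT2_c1i.top pt1048r chk1066
theorem cov1074 : Cov (CD.gen R 173884289496599554829784424397633556054016) (CD.wds R [0]) pt1048 36 := Act.cov_of_seen (Act.pieces_sound DT2_c0m DT2_c0m.top pt1048r chk1072) chk1073
theorem DT2_c2i : CD.Mem R (CD.gen R 172182877661994862512467551360474714996736) 163335536122050462462419811567248741498880 := DT2_c1m.sub chk1075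
theorem DT2_c2m : CD.Mem R (CD.gen R 163335536122050462462419811567248741498880) 163335536122050462462419811567248741498880 := DT2_c2i.gen
theorem fx1077 : CD.gen R 163335536122050462462419811567248741498880 ≤ stabilizer _ pt1049 := Act.fix_sound DT2_c2i.top pt1049r chk1076
theorem cov1084 : Cov (CD.gen R 172182877661994862512467551360474714996736) (CD.wds R [0]) pt1049 96 := Act.cov_of_seen (Act.pieces_sound DT2_c1m DT2_c1m.top pt1049r chk1082) chk1083
theorem DT2_c3i : CD.Mem R (CD.gen R 163335536122050462462419811567248741498880) 43556142965880123323311949751266331066368 := DT2_c2m.sub chk1085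
theorem DT2_c3m : CD.Mem R (CD.gen R 43556142965880123323311949751266331066368) 43556142965880123323311949751266331066368 := DT2_c3i.gen
theorem fx1087 : CD.gen R 43556142965880123323311949751266331066368 ≤ stabilizer _ pt1050 := Act.fix_sound DT2_c3i.top pt1050r chk1086
theorem cov1094 : Cov (CD.gen R 163335536122050462462419811567248741498880) (CD.wds R [0]) pt1050 8 := Act.cov_of_seen (Act.pieces_sound DT2_c2m DT2_c2m.top pt1050r chk1092) chk1093
theorem DT2_c4i : CD.Mem R (CD.gen R 43556142965880123323311949751266331066368) 0 := DT2_c3m.sub chk1095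
theorem DT2_c4m : CD.Mem R (CD.gen R 0) 0 := DT2_c4i.gen
theorem fx1097 : CD.gen R 0 ≤ stabilizer _ pt1051 := Act.fix_sound DT2_c4i.top pt1051r chk1096
theorem cov1104 : Cov (CD.gen R 43556142965880123323311949751266331066368) (CD.wds R [0]) pt1051 2 := Act.cov_of_seen (Act.pieces_sound DT2_c3m DT2_c3m.top pt1051r chk1102) chk1103
theorem DT2_lb5 : 1 ≤ Nat.card (CD.gen R 0) := Nat.card_pos
theorem DT2_lo4 : 2 * Nat.card (CD.gen R 0) ≤ Nat.card (CD.gen R 43556142965880123323311949751266331066368) := cov1104.low le_rfl (GC.wds_zero _) DT2_c4i.gen_le fx1097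
theorem DT2_lb4 : 2 ≤ Nat.card (CD.gen R 43556142965880123323311949751266331066368) := low_step DT2_lo4 DT2_lb5 (by decide +kernel)
theorem DT2_lo3 : 8 * Nat.card (CD.gen R 43556142965880123323311949751266331066368) ≤ Nat.card (CD.gen R 163335536122050462462419811567248741498880) := cov1094.low le_rfl (GC.wds_zero _) DT2_c3i.gen_le fx1087
theorem DT2_lb3 : 16 ≤ Nat.card (CD.gen R 163335536122050462462419811567248741498880) := low_step DT2_lo3 DT2_lb4 (by decide +kernel)
theorem DT2_lo2 : 96 * Nat.card (CD.gen R 163335536122050462462419811567248741498880) ≤ Nat.card (CD.gen R 172182877661994862512467551360474714996736) := cov1084.low le_rfl (GC.wds_zero _) DT2_c2i.gen_le fx1077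
theorem DT2_lb2 : 1536 ≤ Nat.card (CD.gen R 172182877661994862512467551360474714996736) := low_step DT2_lo2 DT2_lb3 (by decide +kernel)
theorem DT2_lo1 : 36 * Nat.card (CD.gen R 172182877661994862512467551360474714996736) ≤ Nat.card (CD.gen R 173884289496599554829784424397633556054016) := cov1074.low le_rfl (GC.wds_zero _) DT2_c1i.gen_le fx1067
theorem DT2_lb1 : 55296 ≤ Nat.card (CD.gen R 173884289496599554829784424397633556054016) := low_step DT2_lo1 DT2_lb2 (by decide +kernel)
theorem DT2_lo0 : 3 * Nat.card (CD.gen R 173884289496599554829784424397633556054016) ≤ Nat.card (CD.gen R 297747071055821155530452781502797185024) := cov1064.low le_rfl (GC.wds_zero _) DT2_c0i.gen_le fx1057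
theorem DT2_lb0 : 165888 ≤ Nat.card (CD.gen R 297747071055821155530452781502797185024) := low_step DT2_lo0 DT2_lb1 (by decide +kernel)
theorem D_T2c : ∀ τ ∈ (CD.gen R 297747071055821155530452781502797185024), CD.el (R 98) * τ * (CD.el (R 98))⁻¹ ∈ (CD.gen R 16380) := Dq_s2_776.conjA (D_I.get (i := 98) (by decide +kernel)).top DT2_in1046.top chk1106
theorem cov1115 : Cov (CD.gen R 297747071055821155530452781502797185024) (CD.wds R (List.map Prod.fst (l1107))) pt773 176 := Act.cov_of_seen (Act.pieces_sound DT2_s0_1054 Dq_s2_776.top pt773r chk1113) chk1114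
theorem D_T2d : Dec (CD.gen R 16380) (CD.gen R 297747071055821155530452781502797185024) (CD.wds R (List.map Prod.fst (l1107))) (CD.gen R 1901475900342344102245054808064) := cov1115.dec DT2_in1046.gen_le (GC.wds_sub Dq_s2_776 chk1116) DK_in814.gen_le fx898 (up_low Dq_ub DK_lb0 (by decide +kernel))
theorem D_T2p : ∀ x ∈ DC1 (CD.gen R 16380) (CD.el (R 98)), x * CD.el (R 1) ∈ DCs (CD.gen R 16380) (CD.els R 316912650057057350374175801346) := GC.dc_piece' D_T2d D_T2c D_Kc (Dq_s2_776.dcRel D_I.top (D_I.get (i := 98) (by decide +kernel)).top (D_m1.get (i := 1) (by decide +kernel)).top chk1108)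
theorem D_T2u : Nat.card (CD.gen R 16380) ≤ 495 * Nat.card (CD.gen R 297747071055821155530452781502797185024) := up_low Dq_ub DT2_lb0 (by decide +kernel)
theorem D_T2n : (DC1 (CD.gen R 16380) (CD.el (R 98))).ncard ≤ Nat.card (CD.gen R 16380) * 495 := ncard_DC1 DT2_in1046.gen_le D_T2c D_T2u
theorem D_dc : ∀ x ∈ (CD.gen R 16382), x ∈ DCs (CD.gen R 16380) (CD.els R 316912650057057350374175801346) := GC.dc_gen (MU := 2) Dq_s2_776 (by decide +kernel) (GC.forall_els (L := [1]) (forall_cons ⟨Dq_s2_776.inDC' D_I.top (D_m1.get (i := 1) (by decide +kernel)).top chk1117, GC.forall_els (L := [1, 98]) (forall_cons D_T1p (forall_cons D_T2p forall_nil)) (by decide +kernel)⟩ forall_nil) (by decide +kernel))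
theorem D_cs : ∀ p ∈ ([(1, 176), (98, 495)] : List (ℕ × ℕ)), (DC1 (CD.gen R 16380) (CD.el (R p.1))).ncard ≤ Nat.card (CD.gen R 16380) * p.2 := (forall_cons D_T1n (forall_cons D_T2n forall_nil))
theorem D_ix : Nat.card (CD.gen R 16382) ≤ 672 * Nat.card (CD.gen R 16380) := GC.card_dc [(1, 176), (98, 495)] D_dc D_cs (by decide +kernel)
theorem D_ub : Nat.card (CD.gen R 16382) ≤ 55180984320 := up_mul D_ix Dq_ub (by decide +kernel)
theorem D_max : ∀ L, (CD.gen R 16380) ≤ L → L ≤ (CD.gen R 16382) → L = (CD.gen R 16380) ∨ L = (CD.gen R 16382) := maximal_of_DCs D_dc (Dq_s2_776.maxChk D_I.top chk1119 chk1120)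
theorem pt1121e : ∃ x, D1.Rep pt1121c x := (act4_rep e12 (d := 4) (by decide) (by decide) (c := 0x1) (by decide +kernel)).elim fun x hx => ⟨_, x, hx, rfl⟩
noncomputable def pt1121 := Classical.choose pt1121e
theorem pt1121r : D1.Rep pt1121c pt1121 := Classical.choose_spec pt1121e
theorem D_s2_1124 : CD.Mem R (CD.gen R 16382) 1219572003045277239667222516061684677771262 := D_s1_781.slp' chk1123
noncomputable def pt1125 := CD.wd R 1276682394666123 • pt1121
theorem pt1125r : D1.Rep pt1125c pt1125 := Act.appW_ok D_s2_1124 chk1126 pt1121r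
theorem pt1125g : CD.wd R 1276682394666123 ∈ (CD.gen R 16382) := D_s2_1124.wd_mem chk1126
noncomputable def pt1127 := CD.wd R 1127000637965450 • pt1121
theorem pt1127r : D1.Rep pt1127c pt1127 := Act.appW_ok D_s2_1124 chk1128 pt1121r
theorem pt1127g : CD.wd R 1127000637965450 ∈ (CD.gen R 16382) := D_s2_1124.wd_mem chk1128
noncomputable def pt1129 := CD.wd R 1127147596032139 • pt1121
theorem pt1129r : D1.Rep pt1129c pt1129 := Act.appW_ok D_s2_1124 chk1130 pt1121r
theorem pt1129g : CD.wd R 1127147596032139 ∈ (CD.gen R 16382) := D_s2_1124.wd_mem chk1130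
noncomputable def pt1131 := CD.wd R 1307320574332109963 • pt1121
theorem pt1131r : D1.Rep pt1131c pt1131 := Act.appW_ok D_s2_1124 chk1132 pt1121r
theorem pt1131g : CD.wd R 1307320574332109963 ∈ (CD.gen R 16382) := D_s2_1124.wd_mem chk1132
theorem pt1133e : ∃ x, D0.Rep pt1133c x := act4_rep e12 (d := 4) (by decide) (by decide) (c := 0x1) (by decide +kernel)
noncomputable def pt1133 := Classical.choose pt1133e
theorem pt1133r : D0.Rep pt1133c pt1133 := Classical.choose_spec pt1133e
theorem pt1134e : ∃ x, E0.Rep pt1134c x := act2_rep (n := 79) (d := 7) (by decide) (by decide) (c := 0x2) (by decide +kernel)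
noncomputable def pt1134 := Classical.choose pt1134e
theorem pt1134r : E0.Rep pt1134c pt1134 := Classical.choose_spec pt1134e
theorem Dq_s3_1137 : CD.Mem R (CD.gen R 16380) 11416587745072771201393906204069596421699960828 := Dq_s2_776.slp' chk1136
theorem Dq_c0i : CD.Mem R (CD.gen R 16380) 11412406355348046392680903826027799000685477888 := Dq_s3_1137.sub chk1138
theorem Dq_c0m : CD.Mem R (CD.gen R 11412406355348046392680903826027799000685477888) 11412406355348046392680903826027799000685477888 := Dq_c0i.gen
theorem fx1140 : CD.gen R 11412406355348046392680903826027799000685477888 ≤ stabilizer _ pt1125 := Act.fix_sound Dq_c0i.top pt1125r chk1139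
theorem cov1147 : Cov (CD.gen R 16380) (CD.wds R [0]) pt1125 176 := Act.cov_of_seen (Act.pieces_sound Dq_s3_1137 Dq_s3_1137.top pt1125r chk1145) chk1146
theorem Dq_c1i : CD.Mem R (CD.gen R 11412406355348046392680903826027799000685477888) 11328778560853556555900144882505367645038051328 := Dq_c0m.sub chk1148
theorem Dq_c1m : CD.Mem R (CD.gen R 11328778560853556555900144882505367645038051328) 11328778560853556555900144882505367645038051328 := Dq_c1i.gen
theorem fx1150 : CD.gen R 11328778560853556555900144882505367645038051328 ≤ stabilizer _ pt1127 := Act.fix_sound Dq_c1i.top pt1127r chk1149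
theorem cov1157 : Cov (CD.gen R 11412406355348046392680903826027799000685477888) (CD.wds R [0]) pt1127 360 := Act.cov_of_seen (Act.pieces_sound Dq_c0m Dq_c0m.top pt1127r chk1155) chk1156
theorem Dq_c2i : CD.Mem R (CD.gen R 11328778560853556555900144882505367645038051328) 10347545772118209137672573278508839738774913024 := Dq_c1m.sub chk1158
theorem Dq_c2m : CD.Mem R (CD.gen R 10347545772118209137672573278508839738774913024) 10347545772118209137672573278508839738774913024 := Dq_c2i.gen
theorem fx1160 : CD.gen R 10347545772118209137672573278508839738774913024 ≤ stabilizer _ pt1129 := Act.fix_sound Dq_c2i.top pt1129r chk1159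
theorem cov1167 : Cov (CD.gen R 11328778560853556555900144882505367645038051328) (CD.wds R [0]) pt1129 36 := Act.cov_of_seen (Act.pieces_sound Dq_c1m Dq_c1m.top pt1129r chk1165) chk1166
theorem Dq_c3i : CD.Mem R (CD.gen R 10347545772118209137672573278508839738774913024) 8563486156235759286349715816696970818296479744 := Dq_c2m.sub chk1168
theorem Dq_c3m : CD.Mem R (CD.gen R 8563486156235759286349715816696970818296479744) 8563486156235759286349715816696970818296479744 := Dq_c3i.gen
theorem fx1170 : CD.gen R 8563486156235759286349715816696970818296479744 ≤ stabilizer _ pt1131 := Act.fix_sound Dq_c3i.top pt1131r chk1169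
theorem cov1177 : Cov (CD.gen R 10347545772118209137672573278508839738774913024) (CD.wds R [0]) pt1131 6 := Act.cov_of_seen (Act.pieces_sound Dq_c2m Dq_c2m.top pt1131r chk1175) chk1176
theorem Dq_c4i : CD.Mem R (CD.gen R 8563486156235759286349715816696970818296479744) 5708990770823839524233143877797980545530986496 := Dq_c3m.sub chk1178
theorem Dq_c4m : CD.Mem R (CD.gen R 5708990770823839524233143877797980545530986496) 5708990770823839524233143877797980545530986496 := Dq_c4i.gen
theorem fx1180 : CD.gen R 5708990770823839524233143877797980545530986496 ≤ stabilizer _ pt1133 := Act.fix_sound Dq_c4i.top pt1133r chk1179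
theorem cov1187 : Cov (CD.gen R 8563486156235759286349715816696970818296479744) (CD.wds R [0]) pt1133 3 := Act.cov_of_seen (Act.pieces_sound Dq_c3m Dq_c3m.top pt1133r chk1185) chk1186
theorem Dq_c5i : CD.Mem R (CD.gen R 5708990770823839524233143877797980545530986496) 0 := Dq_c4m.sub chk1188
theorem Dq_c5m : CD.Mem R (CD.gen R 0) 0 := Dq_c5i.gen
theorem fx1190 : CD.gen R 0 ≤ stabilizer _ pt1134 := Act.fix_sound Dq_c5i.top pt1134r chk1189
theorem cov1197 : Cov (CD.gen R 5708990770823839524233143877797980545530986496) (CD.wds R [0]) pt1134 2 := Act.cov_of_seen (Act.pieces_sound Dq_c4m Dq_c4m.top pt1134r chk1195) chk1196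
theorem Dq_lb6 : 1 ≤ Nat.card (CD.gen R 0) := Nat.card_pos
theorem Dq_lo5 : 2 * Nat.card (CD.gen R 0) ≤ Nat.card (CD.gen R 5708990770823839524233143877797980545530986496) := cov1197.low le_rfl (GC.wds_zero _) Dq_c5i.gen_le fx1190
theorem Dq_lb5 : 2 ≤ Nat.card (CD.gen R 5708990770823839524233143877797980545530986496) := low_step Dq_lo5 Dq_lb6 (by decide +kernel)
theorem Dq_lo4 : 3 * Nat.card (CD.gen R 5708990770823839524233143877797980545530986496) ≤ Nat.card (CD.gen R 8563486156235759286349715816696970818296479744) := cov1187.low le_rfl (GC.wds_zero _) Dq_c4i.gen_le fx1180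
theorem Dq_lb4 : 6 ≤ Nat.card (CD.gen R 8563486156235759286349715816696970818296479744) := low_step Dq_lo4 Dq_lb5 (by decide +kernel)
theorem Dq_lo3 : 6 * Nat.card (CD.gen R 8563486156235759286349715816696970818296479744) ≤ Nat.card (CD.gen R 10347545772118209137672573278508839738774913024) := cov1177.low le_rfl (GC.wds_zero _) Dq_c3i.gen_le fx1170
theorem Dq_lb3 : 36 ≤ Nat.card (CD.gen R 10347545772118209137672573278508839738774913024) := low_step Dq_lo3 Dq_lb4 (by decide +kernel)
theorem Dq_lo2 : 36 * Nat.card (CD.gen R 10347545772118209137672573278508839738774913024) ≤ Nat.card (CD.gen R 11328778560853556555900144882505367645038051328) := cov1167.low le_rfl (GC.wds_zero _) Dq_c2i.gen_le fx1160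
theorem Dq_lb2 : 1296 ≤ Nat.card (CD.gen R 11328778560853556555900144882505367645038051328) := low_step Dq_lo2 Dq_lb3 (by decide +kernel)
theorem Dq_lo1 : 360 * Nat.card (CD.gen R 11328778560853556555900144882505367645038051328) ≤ Nat.card (CD.gen R 11412406355348046392680903826027799000685477888) := cov1157.low le_rfl (GC.wds_zero _) Dq_c1i.gen_le fx1150
theorem Dq_lb1 : 466560 ≤ Nat.card (CD.gen R 11412406355348046392680903826027799000685477888) := low_step Dq_lo1 Dq_lb2 (by decide +kernel)
theorem Dq_lo0 : 176 * Nat.card (CD.gen R 11412406355348046392680903826027799000685477888) ≤ Nat.card (CD.gen R 16380) := cov1147.low le_rfl (GC.wds_zero _) Dq_c0i.gen_le fx1140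
theorem Dq_lb0 : 82114560 ≤ Nat.card (CD.gen R 16380) := low_step Dq_lo0 Dq_lb1 (by decide +kernel)
theorem Dq_st0 : (CD.gen R 16380) ⊓ stabilizer _ pt1125 = (CD.gen R 11412406355348046392680903826027799000685477888) ∧ (orbit (CD.gen R 16380) pt1125).ncard = 176 := cov1147.stab le_rfl (GC.wds_zero _) Dq_c0i.gen_le fx1140 (up_low Dq_ub Dq_lb1 (by decide +kernel))
theorem Dq_ub1 : Nat.card (CD.gen R 11412406355348046392680903826027799000685477888) ≤ 466560 := up_step Dq_lo0 Dq_ub (by decide +kernel)
theorem Dq_st1 : (CD.gen R 11412406355348046392680903826027799000685477888) ⊓ stabilizer _ pt1127 = (CD.gen R 11328778560853556555900144882505367645038051328) ∧ (orbit (CD.gen R 11412406355348046392680903826027799000685477888) pt1127).ncard = 360 := cov1157.stab le_rfl (GC.wds_zero _) Dq_c1i.gen_le fx1150 (up_low Dq_ub1 Dq_lb2 (by decide +kernel))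
theorem Dq_ub2 : Nat.card (CD.gen R 11328778560853556555900144882505367645038051328) ≤ 1296 := up_step Dq_lo1 Dq_ub1 (by decide +kernel)
theorem Dq_st2 : (CD.gen R 11328778560853556555900144882505367645038051328) ⊓ stabilizer _ pt1129 = (CD.gen R 10347545772118209137672573278508839738774913024) ∧ (orbit (CD.gen R 11328778560853556555900144882505367645038051328) pt1129).ncard = 36 := cov1167.stab le_rfl (GC.wds_zero _) Dq_c2i.gen_le fx1160 (up_low Dq_ub2 Dq_lb3 (by decide +kernel))
theorem Dq_ub3 : Nat.card (CD.gen R 10347545772118209137672573278508839738774913024) ≤ 36 := up_step Dq_lo2 Dq_ub2 (by decide +kernel)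
theorem Dq_st3 : (CD.gen R 10347545772118209137672573278508839738774913024) ⊓ stabilizer _ pt1131 = (CD.gen R 8563486156235759286349715816696970818296479744) ∧ (orbit (CD.gen R 10347545772118209137672573278508839738774913024) pt1131).ncard = 6 := cov1177.stab le_rfl (GC.wds_zero _) Dq_c3i.gen_le fx1170 (up_low Dq_ub3 Dq_lb4 (by decide +kernel))
theorem Dq_ub4 : Nat.card (CD.gen R 8563486156235759286349715816696970818296479744) ≤ 6 := up_step Dq_lo3 Dq_ub3 (by decide +kernel)
theorem Dq_st4 : (CD.gen R 8563486156235759286349715816696970818296479744) ⊓ stabilizer _ pt1133 = (CD.gen R 5708990770823839524233143877797980545530986496) ∧ (orbit (CD.gen R 8563486156235759286349715816696970818296479744) pt1133).ncard = 3 := cov1187.stab le_rfl (GC.wds_zero _) Dq_c4i.gen_le fx1180 (up_low Dq_ub4 Dq_lb5 (by decide +kernel))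
theorem Dq_ub5 : Nat.card (CD.gen R 5708990770823839524233143877797980545530986496) ≤ 2 := up_step Dq_lo4 Dq_ub4 (by decide +kernel)
theorem Dq_st5 : (CD.gen R 5708990770823839524233143877797980545530986496) ⊓ stabilizer _ pt1134 = (CD.gen R 0) ∧ (orbit (CD.gen R 5708990770823839524233143877797980545530986496) pt1134).ncard = 2 := cov1197.stab le_rfl (GC.wds_zero _) Dq_c5i.gen_le fx1190 (up_low Dq_ub5 Dq_lb6 (by decide +kernel))
theorem Dq_ub6 : Nat.card (CD.gen R 0) ≤ 1 := up_step Dq_lo5 Dq_ub5 (by decide +kernel)
theorem cov1204 : Cov (CD.gen R 16382) (CD.wds R [0]) pt1121 672 := Act.cov_of_seen (Act.pieces_sound D_s2_1124 D_s2_1124.top pt1121r chk1202) chk1203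
theorem fx1206 : CD.gen R 16380 ≤ stabilizer _ pt1121 := Act.fix_sound (valp7.sub chk442) pt1121r chk1205
theorem D_cov : Cov (CD.gen R 16382) (CD.wds R [0]) pt1121 672 := cov1204
theorem D_lo : 672 * Nat.card (CD.gen R 16380) ≤ Nat.card (CD.gen R 16382) := cov1204.low le_rfl (GC.wds_zero _) (D_s2_1124.sub chk1207).gen_le fx1206
theorem D_lb : 55180984320 ≤ Nat.card (CD.gen R 16382) := low_step D_lo Dq_lb0 (by decide +kernel)
theorem coreD (N : Subgroup _) (h : N ≤ (CD.gen R 16380)) (hN : NormBy (CD.gen R 16382) N) : N ≤ (CD.gen R 8563486156235759286349715816696970818296479744) := (le_next Dq_st3 (le_next Dq_st2 (le_next Dq_st1 (le_next Dq_st0 h (hN.fix (h.trans fx1206) pt1125g)) (hN.fix (h.trans fx1206) pt1127g)) (hN.fix (h.trans fx1206) pt1129g)) (hN.fix (h.trans fx1206) pt1131g))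
theorem D_m4 : CD.Mem R (CD.gen R 16382) 11417807317075816161759608995719982253145620478 := D_s2_1124.lor' (Dq_s3_1137.mono (D_s2_1124.sub chk1208).gen_le) chk1209
theorem D_s4_1212 : CD.Mem R (CD.gen R 16382) 22835788858723495210225896751315943344207593470 := D_m4.slp' chk1211
theorem D_s5_1215 : CD.Mem R (CD.gen R 16382) 91343678108609569501023623284891709890579431422 := D_s4_1212.slp' chk1214
theorem nclD (N : Subgroup _) (hN : NormBy (CD.gen R 16382) N) (hz : CD.el (R 153) ∈ N) : CD.gen R 16382 ≤ N := by
  have h0 := (GC.Mem.single (D_s5_1215.get (i := 153) (by decide +kernel)).top hz).lor' (D_s5_1215.nconj (GC.Mem.single (D_s5_1215.get (i := 153) (by decide +kernel)).top hz) hN (D_s5_1215.sub chk1216).top chk1218) (M'' := 79925870791533753339264014289171727637433810944) (by decide +kernel)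
  have h1 := D_s5_1215.ncop h0 hN chk1220
  exact h1.gen_le
theorem dichD (N : Subgroup _) (h : N ≤ (CD.gen R 16382)) (hN : NormBy (CD.gen R 16382) N) : N ≤ (CD.gen R 8563486156235759286349715816696970818296479744) ∨ N = (CD.gen R 16382) :=
  normal_dichotomy (D_s5_1215.sub chk1222).gen_le D_max coreD (p := 7) (k := 1) (n := 672) (by norm_num)
    (eq_mul_of D_ub D_lb Dq_ub Dq_lb0 (by decide +kernel)) (by norm_num)
    (not_dvd_of D_ub D_lb (by decide +kernel)) (D_s5_1215.get (i := 153) (by decide +kernel)).el_mem ((D_s5_1215.get (i := 153) (by decide +kernel)).prime_dvd (by norm_num) chk1221).1.1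
    (fun N _ hN hz => nclD N hN hz) N h hN
theorem D_s6_1225 : CD.Mem R (CD.gen R 16382) 365375235108153866664214529419194776076066783230 := D_s5_1215.slp' chk1224
theorem cenD_c : ∀ y ∈ (CD.gen R 8563486156235759286349715816696970818296479744), ∀ g ∈ (CD.gen R 16382), g * y = y * g := comm_genL (L := [151, 152]) (forall_cons (D_m0.top.commL (D_s6_1225.get (i := 151) (by decide +kernel)).top chk1226) (forall_cons (D_m0.top.commL (D_s6_1225.get (i := 152) (by decide +kernel)).top chk1227) forall_nil)) (by decide +kernel)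
theorem cenD_le : (CD.gen R 8563486156235759286349715816696970818296479744) ≤ (CD.gen R 16382) := (D_s6_1225.sub (by decide +kernel)).gen_le
theorem ZD_lb : 6 ≤ Nat.card (CD.gen R 8563486156235759286349715816696970818296479744) := Dq_lb4
theorem card_w : Nat.card (CD.gen R 91343852333181432387730302044767688728495783936) = 3 := card_gen1 (D_s6_1225.get (i := 156) (by decide +kernel)).top (by norm_num) chk1228 (by decide +kernel)
theorem card_d : Nat.card (CD.gen R 182687704666362864775460604089535377456991567872) = 2 := card_gen1 (D_s6_1225.get (i := 157) (by decide +kernel)).top (by norm_num) chk1229 (by decide +kernel)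
theorem H2_m0 : C2.Mem R2 (C2.gen R2 16382) 16382 := GC.Mem.gen (D_m0.map hf2).top
theorem H2_map : (C2.gen R2 16382) = (CD.gen R 16382).map (MonoidHom.snd _ _) := D_m0.gen_map hf2
theorem H2_ub : Nat.card (C2.gen R2 16382) ≤ 27590492160 := up_div (z := 2) (le_trans (Nat.mul_le_mul card_d.ge (le_of_eq (congrArg (fun S : Subgroup _ => Nat.card S) H2_map))) (card_map_mul_le _ (D_s6_1225.sub (M' := 182687704666362864775460604089535377456991567872) (by decide +kernel)).gen_le (gen1_le_ker hf2 (D_s6_1225.get (i := 157) (by decide +kernel)).top (by decide +kernel)))) D_ub (by decide +kernel)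
theorem H2_ma : C2.Mem R2 (C2.gen R2 16382) 365375235108153866664214529419194776076066783230 := H2_map ▸ D_s6_1225.map hf2
theorem H2_mb : C2.Mem R2 (C2.gen R2 16382) 91343852333181432387730302044767688728495800318 := H2_ma.sub (by decide +kernel)
theorem H2Z_m0 : C2.Mem R2 (C2.gen R2 91343852333181432387730302044767688728495783936) 91343852333181432387730302044767688728495783936 := GC.Mem.gen (H2_ma.sub (M' := 91343852333181432387730302044767688728495783936) (by decide +kernel)).top
theorem H2Zs1232 : C2.Mem R2 (C2.gen R2 91343852333181432387730302044767688728495783936) 8563486156235759286349715816696970818296479744 := H2Z_m0.slp' chk1231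
theorem H2_dich : ∀ N, N ≤ (C2.gen R2 16382) → NormBy (C2.gen R2 16382) N → N ≤ (C2.gen R2 91343852333181432387730302044767688728495783936) ∨ N = (C2.gen R2 16382) := H2_map ▸ dichotomy_mono (dichotomy_map _ dichD) ((D_s6_1225.sub (M' := 8563486156235759286349715816696970818296479744) (by decide +kernel)).gen_map hf2 ▸ H2Zs1232.gen_le)
theorem H2_cen_c : ∀ y ∈ (C2.gen R2 91343852333181432387730302044767688728495783936), ∀ g ∈ (C2.gen R2 16382), g * y = y * g := comm_genL (L := [156]) (forall_cons (H2_m0.top.commL (H2_mb.get (i := 156) (by decide +kernel)).top chk1233) forall_nil) (by decide +kernel)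
theorem H2_cen_le : (C2.gen R2 91343852333181432387730302044767688728495783936) ≤ (C2.gen R2 16382) := (H2_mb.sub (by decide +kernel)).gen_le
theorem H2_cen : center (C2.gen R2 16382) = (C2.gen R2 91343852333181432387730302044767688728495783936).subgroupOf (C2.gen R2 16382) ∧ IsSimpleGroup ((C2.gen R2 16382) ⧸ center (C2.gen R2 16382)) :=
  center_of_dichotomy H2_cen_c ⟨_, (H2_mb.get (i := 1) (by decide +kernel)).el_mem, _, (H2_mb.get (i := 2) (by decide +kernel)).el_mem, ((H2_mb.get (i := 1) (by decide +kernel)).top.not_comm (H2_mb.get (i := 2) (by decide +kernel)).top chk1234)⟩ H2_dich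
theorem H2_cz : Nat.card (C2.gen R2 91343852333181432387730302044767688728495783936) = 3 := card_gen1 (H2_mb.get (i := 156) (by decide +kernel)).top (by norm_num) chk1235 (by decide +kernel)
theorem pt1236e : ∃ x, B1.Rep pt1236c x := (act4_rep e12 (d := 4) (by decide) (by decide) (c := 0x45) (by decide +kernel)).elim fun x hx => ⟨_, x, hx, rfl⟩
noncomputable def pt1236 := Classical.choose pt1236e
theorem pt1236r : B1.Rep pt1236c pt1236 := Classical.choose_spec pt1236e
theorem pt1237e : ∃ x, B1.Rep pt1237c x := (act4_rep e12 (d := 4) (by decide) (by decide) (c := 0x1) (by decide +kernel)).elim fun x hx => ⟨_, x, hx, rfl⟩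
noncomputable def pt1237 := Classical.choose pt1237e
theorem pt1237r : B1.Rep pt1237c pt1237 := Classical.choose_spec pt1237e
theorem pt1238e : ∃ x, B0.Rep pt1238c x := act4_rep e12 (d := 4) (by decide) (by decide) (c := 0x1) (by decide +kernel)
noncomputable def pt1238 := Classical.choose pt1238e
theorem pt1238r : B0.Rep pt1238c pt1238 := Classical.choose_spec pt1238e
theorem pt1239e : ∃ x, B1.Rep pt1239c x := (act4_rep e12 (d := 4) (by decide) (by decide) (c := 0x10) (by decide +kernel)).elim fun x hx => ⟨_, x, hx, rfl⟩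
noncomputable def pt1239 := Classical.choose pt1239e
theorem pt1239r : B1.Rep pt1239c pt1239 := Classical.choose_spec pt1239e
theorem pt1240e : ∃ x, B1.Rep pt1240c x := (act4_rep e12 (d := 4) (by decide) (by decide) (c := 0x4) (by decide +kernel)).elim fun x hx => ⟨_, x, hx, rfl⟩
noncomputable def pt1240 := Classical.choose pt1240e
theorem pt1240r : B1.Rep pt1240c pt1240 := Classical.choose_spec pt1240e
theorem pt1241e : ∃ x, B1.Rep pt1241c x := (act4_rep e12 (d := 4) (by decide) (by decide) (c := 0x100) (by decide +kernel)).elim fun x hx => ⟨_, x, hx, rfl⟩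
noncomputable def pt1241 := Classical.choose pt1241e
theorem pt1241r : B1.Rep pt1241c pt1241 := Classical.choose_spec pt1241e
theorem pt1242e : ∃ x, B1.Rep pt1242c x := (act4_rep e12 (d := 4) (by decide) (by decide) (c := 0x11) (by decide +kernel)).elim fun x hx => ⟨_, x, hx, rfl⟩
noncomputable def pt1242 := Classical.choose pt1242e
theorem pt1242r : B1.Rep pt1242c pt1242 := Classical.choose_spec pt1242e
theorem pt1243e : ∃ x, B1.Rep pt1243c x := (act4_rep e12 (d := 4) (by decide) (by decide) (c := 0x101) (by decide +kernel)).elim fun x hx => ⟨_, x, hx, rfl⟩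
noncomputable def pt1243 := Classical.choose pt1243e
theorem pt1243r : B1.Rep pt1243c pt1243 := Classical.choose_spec pt1243e
theorem H2_s0_1246 : C2.Mem R2 (C2.gen R2 16382) 2992881321696689632183983346496813321189164360679422 := H2_mb.slp' chk1245
theorem H2_c0i : C2.Mem R2 (C2.gen R2 16382) 2992789977844356450751595616194768553500435864879104 := H2_s0_1246.sub chk1247
theorem H2_c0m : C2.Mem R2 (C2.gen R2 2992789977844356450751595616194768553500435864879104) 2992789977844356450751595616194768553500435864879104 := H2_c0i.gen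
theorem fx1249 : C2.gen R2 2992789977844356450751595616194768553500435864879104 ≤ stabilizer _ pt1236 := Act.fix_sound H2_c0i.top pt1236r chk1248
theorem cov1256 : Cov (C2.gen R2 16382) (C2.wds R2 [0]) pt1236 672 := Act.cov_of_seen (Act.pieces_sound H2_s0_1246 H2_s0_1246.top pt1236r chk1254) chk1255
theorem H2_c1i : C2.Mem R2 (C2.gen R2 2992789977844356450751595616194768553500435864879104) 2982924841792372856053720743573933643117758320214016 := H2_c0m.sub chk1257
theorem H2_c1m : C2.Mem R2 (C2.gen R2 2982924841792372856053720743573933643117758320214016) 2982924841792372856053720743573933643117758320214016 := H2_c1i.gen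
theorem fx1259 : C2.gen R2 2982924841792372856053720743573933643117758320214016 ≤ stabilizer _ pt1237 := Act.fix_sound H2_c1i.top pt1237r chk1258
theorem cov1266 : Cov (C2.gen R2 2992789977844356450751595616194768553500435864879104) (C2.wds R2 [0]) pt1237 495 := Act.cov_of_seen (Act.pieces_sound H2_c0m H2_c0m.top pt1237r chk1264) chk1265
theorem H2_c2i : C2.Mem R2 (C2.gen R2 2982924841792372856053720743573933643117758320214016) 2981463340155041953135517058741217360098102387671040 := H2_c1m.sub chk1267
theorem H2_c2m : C2.Mem R2 (C2.gen R2 2981463340155041953135517058741217360098102387671040) 2981463340155041953135517058741217360098102387671040 := H2_c2i.gen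
theorem fx1269 : C2.gen R2 2981463340155041953135517058741217360098102387671040 ≤ stabilizer _ pt1238 := Act.fix_sound H2_c2i.top pt1238r chk1268
theorem cov1276 : Cov (C2.gen R2 2982924841792372856053720743573933643117758320214016) (C2.wds R2 [0]) pt1238 3 := Act.cov_of_seen (Act.pieces_sound H2_c1m H2_c1m.top pt1238r chk1274) chk1275
theorem H2_c3i : C2.Mem R2 (C2.gen R2 2981463340155041953135517058741217360098102387671040) 2221482488742972435669600945728750189877017465323520 := H2_c2m.sub chk1277
theorem H2_c3m : C2.Mem R2 (C2.gen R2 2221482488742972435669600945728750189877017465323520) 2221482488742972435669600945728750189877017465323520 := H2_c3i.gen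
theorem fx1279 : C2.gen R2 2221482488742972435669600945728750189877017465323520 ≤ stabilizer _ pt1239 := Act.fix_sound H2_c3i.top pt1239r chk1278
theorem cov1286 : Cov (C2.gen R2 2981463340155041953135517058741217360098102387671040) (C2.wds R2 [0]) pt1239 48 := Act.cov_of_seen (Act.pieces_sound H2_c2m H2_c2m.top pt1239r chk1284) chk1285
theorem H2_c4i : C2.Mem R2 (C2.gen R2 2221482488742972435669600945728750189877017465323520) 2057794305361911308830788244464526491675553020510208 := H2_c3m.sub chk1287
theorem H2_c4m : C2.Mem R2 (C2.gen R2 2057794305361911308830788244464526491675553020510208) 2057794305361911308830788244464526491675553020510208 := H2_c4i.gen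
theorem fx1289 : C2.gen R2 2057794305361911308830788244464526491675553020510208 ≤ stabilizer _ pt1240 := Act.fix_sound H2_c4i.top pt1240r chk1288
theorem cov1296 : Cov (C2.gen R2 2221482488742972435669600945728750189877017465323520) (C2.wds R2 [0]) pt1240 32 := Act.cov_of_seen (Act.pieces_sound H2_c3m H2_c3m.top pt1240r chk1294) chk1295
theorem H2_c5i : C2.Mem R2 (C2.gen R2 2057794305361911308830788244464526491675553020510208) 1870722095783555735300716585876842265159593655009280 := H2_c4m.sub chk1297
theorem H2_c5m : C2.Mem R2 (C2.gen R2 1870722095783555735300716585876842265159593655009280) 1870722095783555735300716585876842265159593655009280 := H2_c5i.gen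
theorem fx1299 : C2.gen R2 1870722095783555735300716585876842265159593655009280 ≤ stabilizer _ pt1241 := Act.fix_sound H2_c5i.top pt1241r chk1298
theorem cov1306 : Cov (C2.gen R2 2057794305361911308830788244464526491675553020510208) (C2.wds R2 [0]) pt1241 2 := Act.cov_of_seen (Act.pieces_sound H2_c4m H2_c4m.top pt1241r chk1304) chk1305
theorem H2_c6i : C2.Mem R2 (C2.gen R2 1870722095783555735300716585876842265159593655009280) 1496577676626844588240573268701473812127674924007424 := H2_c5m.sub chk1307
theorem H2_c6m : C2.Mem R2 (C2.gen R2 1496577676626844588240573268701473812127674924007424) 1496577676626844588240573268701473812127674924007424 := H2_c6i.gen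
theorem fx1309 : C2.gen R2 1496577676626844588240573268701473812127674924007424 ≤ stabilizer _ pt1242 := Act.fix_sound H2_c6i.top pt1242r chk1308
theorem cov1316 : Cov (C2.gen R2 1870722095783555735300716585876842265159593655009280) (C2.wds R2 [0]) pt1242 3 := Act.cov_of_seen (Act.pieces_sound H2_c5m H2_c5m.top pt1242r chk1314) chk1315
theorem H2_c7i : C2.Mem R2 (C2.gen R2 1496577676626844588240573268701473812127674924007424) 0 := H2_c6m.sub chk1317
theorem H2_c7m : C2.Mem R2 (C2.gen R2 0) 0 := H2_c7i.gen
theorem fx1319 : C2.gen R2 0 ≤ stabilizer _ pt1243 := Act.fix_sound H2_c7i.top pt1243r chk1318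
theorem cov1326 : Cov (C2.gen R2 1496577676626844588240573268701473812127674924007424) (C2.wds R2 [0]) pt1243 3 := Act.cov_of_seen (Act.pieces_sound H2_c6m H2_c6m.top pt1243r chk1324) chk1325
theorem H2_lb8 : 1 ≤ Nat.card (C2.gen R2 0) := Nat.card_pos
theorem H2_lo7 : 3 * Nat.card (C2.gen R2 0) ≤ Nat.card (C2.gen R2 1496577676626844588240573268701473812127674924007424) := cov1326.low le_rfl (GC.wds_zero _) H2_c7i.gen_le fx1319
theorem H2_lb7 : 3 ≤ Nat.card (C2.gen R2 1496577676626844588240573268701473812127674924007424) := low_step H2_lo7 H2_lb8 (by decide +kernel)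
theorem H2_lo6 : 3 * Nat.card (C2.gen R2 1496577676626844588240573268701473812127674924007424) ≤ Nat.card (C2.gen R2 1870722095783555735300716585876842265159593655009280) := cov1316.low le_rfl (GC.wds_zero _) H2_c6i.gen_le fx1309
theorem H2_lb6 : 9 ≤ Nat.card (C2.gen R2 1870722095783555735300716585876842265159593655009280) := low_step H2_lo6 H2_lb7 (by decide +kernel)
theorem H2_lo5 : 2 * Nat.card (C2.gen R2 1870722095783555735300716585876842265159593655009280) ≤ Nat.card (C2.gen R2 2057794305361911308830788244464526491675553020510208) := cov1306.low le_rfl (GC.wds_zero _) H2_c5i.gen_le fx1299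
theorem H2_lb5 : 18 ≤ Nat.card (C2.gen R2 2057794305361911308830788244464526491675553020510208) := low_step H2_lo5 H2_lb6 (by decide +kernel)
theorem H2_lo4 : 32 * Nat.card (C2.gen R2 2057794305361911308830788244464526491675553020510208) ≤ Nat.card (C2.gen R2 2221482488742972435669600945728750189877017465323520) := cov1296.low le_rfl (GC.wds_zero _) H2_c4i.gen_le fx1289
theorem H2_lb4 : 576 ≤ Nat.card (C2.gen R2 2221482488742972435669600945728750189877017465323520) := low_step H2_lo4 H2_lb5 (by decide +kernel)
theorem H2_lo3 : 48 * Nat.card (C2.gen R2 2221482488742972435669600945728750189877017465323520) ≤ Nat.card (C2.gen R2 2981463340155041953135517058741217360098102387671040) := cov1286.low le_rfl (GC.wds_zero _) H2_c3i.gen_le fx1279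
theorem H2_lb3 : 27648 ≤ Nat.card (C2.gen R2 2981463340155041953135517058741217360098102387671040) := low_step H2_lo3 H2_lb4 (by decide +kernel)
theorem H2_lo2 : 3 * Nat.card (C2.gen R2 2981463340155041953135517058741217360098102387671040) ≤ Nat.card (C2.gen R2 2982924841792372856053720743573933643117758320214016) := cov1276.low le_rfl (GC.wds_zero _) H2_c2i.gen_le fx1269
theorem H2_lb2 : 82944 ≤ Nat.card (C2.gen R2 2982924841792372856053720743573933643117758320214016) := low_step H2_lo2 H2_lb3 (by decide +kernel)
theorem H2_lo1 : 495 * Nat.card (C2.gen R2 2982924841792372856053720743573933643117758320214016) ≤ Nat.card (C2.gen R2 2992789977844356450751595616194768553500435864879104) := cov1266.low le_rfl (GC.wds_zero _) H2_c1i.gen_le fx1259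
theorem H2_lb1 : 41057280 ≤ Nat.card (C2.gen R2 2992789977844356450751595616194768553500435864879104) := low_step H2_lo1 H2_lb2 (by decide +kernel)
theorem H2_lo0 : 672 * Nat.card (C2.gen R2 2992789977844356450751595616194768553500435864879104) ≤ Nat.card (C2.gen R2 16382) := cov1256.low le_rfl (GC.wds_zero _) H2_c0i.gen_le fx1249
theorem H2_lb0 : 27590492160 ≤ Nat.card (C2.gen R2 16382) := low_step H2_lo0 H2_lb1 (by decide +kernel)
theorem cardH2 : Nat.card (C2.gen R2 16382) = 27590492160 := le_antisymm H2_ub H2_lb0
theorem H_m0 : C1.Mem R1 (C1.gen R1 16382) 16382 := GC.Mem.gen (D_m0.map hf1).top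
theorem H_map : (C1.gen R1 16382) = (CD.gen R 16382).map (MonoidHom.fst _ _) := D_m0.gen_map hf1
theorem H_ub : Nat.card (C1.gen R1 16382) ≤ 18393661440 := up_div (z := 3) (le_trans (Nat.mul_le_mul card_w.ge (le_of_eq (congrArg (fun S : Subgroup _ => Nat.card S) H_map))) (card_map_mul_le _ (D_s6_1225.sub (M' := 91343852333181432387730302044767688728495783936) (by decide +kernel)).gen_le (gen1_le_ker hf1 (D_s6_1225.get (i := 156) (by decide +kernel)).top (by decide +kernel)))) D_ub (by decide +kernel)
theorem H_ma : C1.Mem R1 (C1.gen R1 16382) 365375235108153866664214529419194776076066783230 := H_map ▸ D_s6_1225.map hf1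
theorem H_mb : C1.Mem R1 (C1.gen R1 16382) 182687704666362864775460604089535377456991584254 := H_ma.sub (by decide +kernel)
theorem HZ_m0 : C1.Mem R1 (C1.gen R1 182687704666362864775460604089535377456991567872) 182687704666362864775460604089535377456991567872 := GC.Mem.gen (H_ma.sub (M' := 182687704666362864775460604089535377456991567872) (by decide +kernel)).top
theorem HZs1329 : C1.Mem R1 (C1.gen R1 182687704666362864775460604089535377456991567872) 8563486156235759286349715816696970818296479744 := HZ_m0.slp' chk1328
theorem H_dich : ∀ N, N ≤ (C1.gen R1 16382) → NormBy (C1.gen R1 16382) N → N ≤ (C1.gen R1 182687704666362864775460604089535377456991567872) ∨ N = (C1.gen R1 16382) := H_map ▸ dichotomy_mono (dichotomy_map _ dichD) ((D_s6_1225.sub (M' := 8563486156235759286349715816696970818296479744) (by decide +kernel)).gen_map hf1 ▸ HZs1329.gen_le)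
theorem H_cen_c : ∀ y ∈ (C1.gen R1 182687704666362864775460604089535377456991567872), ∀ g ∈ (C1.gen R1 16382), g * y = y * g := comm_genL (L := [157]) (forall_cons (H_m0.top.commL (H_mb.get (i := 157) (by decide +kernel)).top chk1330) forall_nil) (by decide +kernel)
theorem H_cen_le : (C1.gen R1 182687704666362864775460604089535377456991567872) ≤ (C1.gen R1 16382) := (H_mb.sub (by decide +kernel)).gen_le
theorem H_cen : center (C1.gen R1 16382) = (C1.gen R1 182687704666362864775460604089535377456991567872).subgroupOf (C1.gen R1 16382) ∧ IsSimpleGroup ((C1.gen R1 16382) ⧸ center (C1.gen R1 16382)) :=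
  center_of_dichotomy H_cen_c ⟨_, (H_mb.get (i := 1) (by decide +kernel)).el_mem, _, (H_mb.get (i := 2) (by decide +kernel)).el_mem, ((H_mb.get (i := 1) (by decide +kernel)).top.not_comm (H_mb.get (i := 2) (by decide +kernel)).top chk1331)⟩ H_dich
theorem H_cz : Nat.card (C1.gen R1 182687704666362864775460604089535377456991567872) = 2 := card_gen1 (H_mb.get (i := 157) (by decide +kernel)).top (by norm_num) chk1332 (by decide +kernel)
theorem val1335 : C1.Mem R1 ⊤ 49039857307708443467467104868809893875799651909875269632 := MC.mem_units (mc2 79) (can2_sound (by decide)) chk1334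
theorem vG : C1.Mem R1 ⊤ 49039857307708443467467104868809893875799651909875286014 := (D_m0.map hf1).top.lor' val1335 (by decide +kernel)
theorem pt1336e : ∃ x, A0.Rep pt1336c x := act2_rep (n := 79) (d := 7) (by decide) (by decide) (c := 0x1000) (by decide +kernel)
noncomputable def pt1336 := Classical.choose pt1336e
theorem pt1336r : A0.Rep pt1336c pt1336 := Classical.choose_spec pt1336e
theorem H_s0_1339 : C1.Mem R1 (C1.gen R1 16382) 49036864335042894444653488497733095017710774017018839038 := H_mb.slp' chk1338
theorem G_m0 : C1.Mem R1 (C1.gen R1 49039857307708443467467104868809893875799651909875286014) 49039857307708443467467104868809893875799651909875286014 := GC.Mem.gen vG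
theorem G_m1 : C1.Mem R1 (C1.gen R1 49039857307708443467467104868809893875799651909875286014) 98076721642751337912120593366542988893510425926894108670 := G_m0.lor' (H_s0_1339.mono (G_m0.sub chk1340).gen_le) chk1341
theorem G_s1_1344 : C1.Mem R1 (C1.gen R1 49039857307708443467467104868809893875799651909875286014) 196156436258168224847054803104162776645109729746644647934 := G_m1.slp' chk1343
theorem G_I : C1.Mem R1 (C1.gen R1 49039857307708443467467104868809893875799651909875286014) 147119571923125330402401314606429681627398955729625808896 := G_s1_1344.sub chk1345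
theorem GK_in1348 : C1.Mem R1 (C1.gen R1 16382) 588478287692501321609605258425718726509595822918503235584 := H_s0_1339.slp' chk1347
theorem GK_m0 : C1.Mem R1 (C1.gen R1 588478287692501321609605258425718726509595822918503235584) 588478287692501321609605258425718726509595822918503235584 := GC.Mem.gen GK_in1348.top
theorem pt1349e : ∃ x, A0.Rep pt1349c x := act2_rep (n := 79) (d := 7) (by decide) (by decide) (c := 0x38ac859aae03b4d7252f) (by decide +kernel)
noncomputable def pt1349 := Classical.choose pt1349e
theorem pt1349r : A0.Rep pt1349c pt1349 := Classical.choose_spec pt1349e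
theorem pt1350e : ∃ x, A0.Rep pt1350c x := act2_rep (n := 79) (d := 7) (by decide) (by decide) (c := 0x2daae3e179124ffe3190) (by decide +kernel)
noncomputable def pt1350 := Classical.choose pt1350e
theorem pt1350r : A0.Rep pt1350c pt1350 := Classical.choose_spec pt1350e
theorem pt1351e : ∃ x, A0.Rep pt1351c x := act2_rep (n := 79) (d := 7) (by decide) (by decide) (c := 0x6c9e1d23ceadc24a6ccd) (by decide +kernel)
noncomputable def pt1351 := Classical.choose pt1351e
theorem pt1351r : A0.Rep pt1351c pt1351 := Classical.choose_spec pt1351e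
theorem GK_s0_1354 : C1.Mem R1 (C1.gen R1 588478287692501321609605258425718726509595822918503235584) 3213679929088749717310054316262849965468902788957946169524224 := GK_m0.slp' chk1353
theorem GK_c0i : C1.Mem R1 (C1.gen R1 588478287692501321609605258425718726509595822918503235584) 3210737537650287210702006289970721371836354809843353653346304 := GK_s0_1354.sub chk1355
theorem GK_c0m : C1.Mem R1 (C1.gen R1 3210737537650287210702006289970721371836354809843353653346304) 3210737537650287210702006289970721371836354809843353653346304 := GK_c0i.gen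
theorem fx1357 : C1.gen R1 3210737537650287210702006289970721371836354809843353653346304 ≤ stabilizer _ pt1349 := Act.fix_sound GK_c0i.top pt1349r chk1356
theorem cov1364 : Cov (C1.gen R1 588478287692501321609605258425718726509595822918503235584) (C1.wds R1 [0]) pt1349 180 := Act.cov_of_seen (Act.pieces_sound GK_s0_1354 GK_s0_1354.top pt1349r chk1362) chk1363
theorem GK_c1i : C1.Mem R1 (C1.gen R1 3210737537650287210702006289970721371836354809843353653346304) 3019285934720993447405014712562887546145232968787200600702976 := GK_c0m.sub chk1365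
theorem GK_c1m : C1.Mem R1 (C1.gen R1 3019285934720993447405014712562887546145232968787200600702976) 3019285934720993447405014712562887546145232968787200600702976 := GK_c1i.gen
theorem fx1367 : C1.gen R1 3019285934720993447405014712562887546145232968787200600702976 ≤ stabilizer _ pt1350 := Act.fix_sound GK_c1i.top pt1350r chk1366
theorem cov1374 : Cov (C1.gen R1 3210737537650287210702006289970721371836354809843353653346304) (C1.wds R1 [0]) pt1350 384 := Act.cov_of_seen (Act.pieces_sound GK_c0m GK_c0m.top pt1350r chk1372) chk1373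
theorem GK_c2i : C1.Mem R1 (C1.gen R1 3019285934720993447405014712562887546145232968787200600702976) 0 := GK_c1m.sub chk1375
theorem GK_c2m : C1.Mem R1 (C1.gen R1 0) 0 := GK_c2i.gen
theorem fx1377 : C1.gen R1 0 ≤ stabilizer _ pt1351 := Act.fix_sound GK_c2i.top pt1351r chk1376
theorem cov1384 : Cov (C1.gen R1 3019285934720993447405014712562887546145232968787200600702976) (C1.wds R1 [0]) pt1351 384 := Act.cov_of_seen (Act.pieces_sound GK_c1m GK_c1m.top pt1351r chk1382) chk1383
theorem GK_lb3 : 1 ≤ Nat.card (C1.gen R1 0) := Nat.card_pos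
theorem GK_lo2 : 384 * Nat.card (C1.gen R1 0) ≤ Nat.card (C1.gen R1 3019285934720993447405014712562887546145232968787200600702976) := cov1384.low le_rfl (GC.wds_zero _) GK_c2i.gen_le fx1377
theorem GK_lb2 : 384 ≤ Nat.card (C1.gen R1 3019285934720993447405014712562887546145232968787200600702976) := low_step GK_lo2 GK_lb3 (by decide +kernel)
theorem GK_lo1 : 384 * Nat.card (C1.gen R1 3019285934720993447405014712562887546145232968787200600702976) ≤ Nat.card (C1.gen R1 3210737537650287210702006289970721371836354809843353653346304) := cov1374.low le_rfl (GC.wds_zero _) GK_c1i.gen_le fx1367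
theorem GK_lb1 : 147456 ≤ Nat.card (C1.gen R1 3210737537650287210702006289970721371836354809843353653346304) := low_step GK_lo1 GK_lb2 (by decide +kernel)
theorem GK_lo0 : 180 * Nat.card (C1.gen R1 3210737537650287210702006289970721371836354809843353653346304) ≤ Nat.card (C1.gen R1 588478287692501321609605258425718726509595822918503235584) := cov1364.low le_rfl (GC.wds_zero _) GK_c0i.gen_le fx1357
theorem GK_lb0 : 26542080 ≤ Nat.card (C1.gen R1 588478287692501321609605258425718726509595822918503235584) := low_step GK_lo0 GK_lb1 (by decide +kernel)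
theorem fx1388 : C1.gen R1 588478287692501321609605258425718726509595822918503235584 ≤ stabilizer _ pt1336 := Act.fix_sound GK_in1348.top pt1336r chk1387
theorem G_Kc : ∀ κ ∈ (C1.gen R1 588478287692501321609605258425718726509595822918503235584), (C1.el (R1 185))⁻¹ * κ * C1.el (R1 185) ∈ (C1.gen R1 16382) := H_s0_1339.conjB (G_m1.get (i := 185) (by decide +kernel)).top GK_in1348.top chk1386
theorem GT1_in1391 : C1.Mem R1 (C1.gen R1 16382) 9641628265553941653251772554046975615133217962696757011808256 := H_s0_1339.slp' chk1390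
theorem GT1_m0 : C1.Mem R1 (C1.gen R1 9641628265553941653251772554046975615133217962696757011808256) 9641628265553941653251772554046975615133217962696757011808256 := GC.Mem.gen GT1_in1391.top
theorem pt1392e : ∃ x, A0.Rep pt1392c x := act2_rep (n := 79) (d := 7) (by decide) (by decide) (c := 0x38ac859aae03b4d7252f) (by decide +kernel)
noncomputable def pt1392 := Classical.choose pt1392e
theorem pt1392r : A0.Rep pt1392c pt1392 := Classical.choose_spec pt1392e
theorem pt1393e : ∃ x, A0.Rep pt1393c x := act2_rep (n := 79) (d := 7) (by decide) (by decide) (c := 0x5e14e7de2887bea4defb) (by decide +kernel)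
noncomputable def pt1393 := Classical.choose pt1393e
theorem pt1393r : A0.Rep pt1393c pt1393 := Classical.choose_spec pt1393e
theorem pt1394e : ∃ x, A0.Rep pt1394c x := act2_rep (n := 79) (d := 7) (by decide) (by decide) (c := 0x6c9e1d23ceadc24a6ccd) (by decide +kernel)
noncomputable def pt1394 := Classical.choose pt1394e
theorem pt1394r : A0.Rep pt1394c pt1394 := Classical.choose_spec pt1394e
theorem pt1395e : ∃ x, A0.Rep pt1395c x := act2_rep (n := 79) (d := 7) (by decide) (by decide) (c := 0x44858602d6237ffb927f) (by decide +kernel)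
noncomputable def pt1395 := Classical.choose pt1395e
theorem pt1395r : A0.Rep pt1395c pt1395 := Classical.choose_spec pt1395e
theorem GT1_s0_1398 : C1.Mem R1 (C1.gen R1 9641628265553941653251772554046975615133217962696757011808256) 842495119472368975602793137545178776225955718798405324448817217536 := GT1_m0.slp' chk1397
theorem GT1_c0i : C1.Mem R1 (C1.gen R1 9641628265553941653251772554046975615133217962696757011808256) 842446911331041205894526878682408541347880052708591840663758176256 := GT1_s0_1398.sub chk1399
theorem GT1_c0m : C1.Mem R1 (C1.gen R1 842446911331041205894526878682408541347880052708591840663758176256) 842446911331041205894526878682408541347880052708591840663758176256 := GT1_c0i.gen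
theorem fx1401 : C1.gen R1 842446911331041205894526878682408541347880052708591840663758176256 ≤ stabilizer _ pt1392 := Act.fix_sound GT1_c0i.top pt1392r chk1400
theorem cov1408 : Cov (C1.gen R1 9641628265553941653251772554046975615133217962696757011808256) (C1.wds R1 [0]) pt1392 180 := Act.cov_of_seen (Act.pieces_sound GT1_s0_1398 GT1_s0_1398.top pt1392r chk1406) chk1407
theorem GT1_c1i : C1.Mem R1 (C1.gen R1 842446911331041205894526878682408541347880052708591840663758176256) 832316773900032531197510349652289852301580085035785114630018301952 := GT1_c0m.sub chk1409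
theorem GT1_c1m : C1.Mem R1 (C1.gen R1 832316773900032531197510349652289852301580085035785114630018301952) 832316773900032531197510349652289852301580085035785114630018301952 := GT1_c1i.gen
theorem fx1411 : C1.gen R1 832316773900032531197510349652289852301580085035785114630018301952 ≤ stabilizer _ pt1393 := Act.fix_sound GT1_c1i.top pt1393r chk1410
theorem cov1418 : Cov (C1.gen R1 842446911331041205894526878682408541347880052708591840663758176256) (C1.wds R1 [0]) pt1393 128 := Act.cov_of_seen (Act.pieces_sound GT1_c0m GT1_c0m.top pt1393r chk1416) chk1417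
theorem GT1_c2i : C1.Mem R1 (C1.gen R1 832316773900032531197510349652289852301580085035785114630018301952) 421249166674228746791672110734681729275580381602196445017243910144 := GT1_c1m.sub chk1419
theorem GT1_c2m : C1.Mem R1 (C1.gen R1 421249166674228746791672110734681729275580381602196445017243910144) 421249166674228746791672110734681729275580381602196445017243910144 := GT1_c2i.gen
theorem fx1421 : C1.gen R1 421249166674228746791672110734681729275580381602196445017243910144 ≤ stabilizer _ pt1394 := Act.fix_sound GT1_c2i.top pt1394r chk1420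
theorem cov1428 : Cov (C1.gen R1 832316773900032531197510349652289852301580085035785114630018301952) (C1.wds R1 [0]) pt1394 384 := Act.cov_of_seen (Act.pieces_sound GT1_c1m GT1_c1m.top pt1394r chk1426) chk1427
theorem GT1_c3i : C1.Mem R1 (C1.gen R1 421249166674228746791672110734681729275580381602196445017243910144) 0 := GT1_c2m.sub chk1429
theorem GT1_c3m : C1.Mem R1 (C1.gen R1 0) 0 := GT1_c3i.gen
theorem fx1431 : C1.gen R1 0 ≤ stabilizer _ pt1395 := Act.fix_sound GT1_c3i.top pt1395r chk1430
theorem cov1438 : Cov (C1.gen R1 421249166674228746791672110734681729275580381602196445017243910144) (C1.wds R1 [0]) pt1395 3 := Act.cov_of_seen (Act.pieces_sound GT1_c2m GT1_c2m.top pt1395r chk1436) chk1437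
theorem GT1_lb4 : 1 ≤ Nat.card (C1.gen R1 0) := Nat.card_pos
theorem GT1_lo3 : 3 * Nat.card (C1.gen R1 0) ≤ Nat.card (C1.gen R1 421249166674228746791672110734681729275580381602196445017243910144) := cov1438.low le_rfl (GC.wds_zero _) GT1_c3i.gen_le fx1431
theorem GT1_lb3 : 3 ≤ Nat.card (C1.gen R1 421249166674228746791672110734681729275580381602196445017243910144) := low_step GT1_lo3 GT1_lb4 (by decide +kernel)
theorem GT1_lo2 : 384 * Nat.card (C1.gen R1 421249166674228746791672110734681729275580381602196445017243910144) ≤ Nat.card (C1.gen R1 832316773900032531197510349652289852301580085035785114630018301952) := cov1428.low le_rfl (GC.wds_zero _) GT1_c2i.gen_le fx1421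
theorem GT1_lb2 : 1152 ≤ Nat.card (C1.gen R1 832316773900032531197510349652289852301580085035785114630018301952) := low_step GT1_lo2 GT1_lb3 (by decide +kernel)
theorem GT1_lo1 : 128 * Nat.card (C1.gen R1 832316773900032531197510349652289852301580085035785114630018301952) ≤ Nat.card (C1.gen R1 842446911331041205894526878682408541347880052708591840663758176256) := cov1418.low le_rfl (GC.wds_zero _) GT1_c1i.gen_le fx1411
theorem GT1_lb1 : 147456 ≤ Nat.card (C1.gen R1 842446911331041205894526878682408541347880052708591840663758176256) := low_step GT1_lo1 GT1_lb2 (by decide +kernel)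
theorem GT1_lo0 : 180 * Nat.card (C1.gen R1 842446911331041205894526878682408541347880052708591840663758176256) ≤ Nat.card (C1.gen R1 9641628265553941653251772554046975615133217962696757011808256) := cov1408.low le_rfl (GC.wds_zero _) GT1_c0i.gen_le fx1401
theorem GT1_lb0 : 26542080 ≤ Nat.card (C1.gen R1 9641628265553941653251772554046975615133217962696757011808256) := low_step GT1_lo0 GT1_lb1 (by decide +kernel)
theorem G_T1c : ∀ τ ∈ (C1.gen R1 9641628265553941653251772554046975615133217962696757011808256), C1.el (R1 185) * τ * (C1.el (R1 185))⁻¹ ∈ (C1.gen R1 16382) := H_s0_1339.conjA (G_I.get (i := 185) (by decide +kernel)).top GT1_in1391.top chk1440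
theorem cov1449 : Cov (C1.gen R1 9641628265553941653251772554046975615133217962696757011808256) (C1.wds R1 (List.map Prod.fst (l1441))) pt1336 693 := Act.cov_of_seen (Act.pieces_sound GT1_s0_1398 H_s0_1339.top pt1336r chk1447) chk1448
theorem G_T1d : Dec (C1.gen R1 16382) (C1.gen R1 9641628265553941653251772554046975615133217962696757011808256) (C1.wds R1 (List.map Prod.fst (l1441))) (C1.gen R1 588478287692501321609605258425718726509595822918503235584) := cov1449.dec GT1_in1391.gen_le (GC.wds_sub H_s0_1339 chk1450) GK_in1348.gen_le fx1388 (up_low H_ub GK_lb0 (by decide +kernel))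
theorem G_T1p : ∀ x ∈ DC1 (C1.gen R1 16382) (C1.el (R1 185)), x * C1.el (R1 185) ∈ DCs (C1.gen R1 16382) (C1.els R1 147119571923125330402401314606429681627398955729625808896) := GC.dc_piece' G_T1d G_T1c G_Kc (H_s0_1339.dcRel G_I.top (G_I.get (i := 185) (by decide +kernel)).top (G_m1.get (i := 185) (by decide +kernel)).top chk1442)
theorem G_T1u : Nat.card (C1.gen R1 16382) ≤ 693 * Nat.card (C1.gen R1 9641628265553941653251772554046975615133217962696757011808256) := up_low H_ub GT1_lb0 (by decide +kernel)
theorem G_T1n : (DC1 (C1.gen R1 16382) (C1.el (R1 185))).ncard ≤ Nat.card (C1.gen R1 16382) * 693 := ncard_DC1 GT1_in1391.gen_le G_T1c G_T1u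
theorem GT2_in1453 : C1.Mem R1 (C1.gen R1 16382) 2527495000045372480750032664408090375653482289613178670103463460864 := H_s0_1339.slp' chk1452
theorem GT2_m0 : C1.Mem R1 (C1.gen R1 2527495000045372480750032664408090375653482289613178670103463460864) 2527495000045372480750032664408090375653482289613178670103463460864 := GC.Mem.gen GT2_in1453.top
theorem pt1454e : ∃ x, A0.Rep pt1454c x := act2_rep (n := 79) (d := 7) (by decide) (by decide) (c := 0x38ac859aae03b4d7252f) (by decide +kernel)
noncomputable def pt1454 := Classical.choose pt1454e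
theorem pt1454r : A0.Rep pt1454c pt1454 := Classical.choose_spec pt1454e
theorem pt1455e : ∃ x, A0.Rep pt1455c x := act2_rep (n := 79) (d := 7) (by decide) (by decide) (c := 0x200cc0fa7916777ef110) (by decide +kernel)
noncomputable def pt1455 := Classical.choose pt1455e
theorem pt1455r : A0.Rep pt1455c pt1455 := Classical.choose_spec pt1455e
theorem pt1456e : ∃ x, A0.Rep pt1456c x := act2_rep (n := 79) (d := 7) (by decide) (by decide) (c := 0x6c9e1d23ceadc24a6ccd) (by decide +kernel)
noncomputable def pt1456 := Classical.choose pt1456e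
theorem pt1456r : A0.Rep pt1456c pt1456 := Classical.choose_spec pt1456e
theorem GT2_s0_1459 : C1.Mem R1 (C1.gen R1 2527495000045372480750032664408090375653482289613178670103463460864) 861875795015472015935761138563158818097837460758093926505281040154624 := GT2_m0.slp' chk1458
theorem GT2_c0i : C1.Mem R1 (C1.gen R1 2527495000045372480750032664408090375653482289613178670103463460864) 849238320015245153532010975241118366219570049310028033154763722850304 := GT2_s0_1459.sub chk1460
theorem GT2_c0m : C1.Mem R1 (C1.gen R1 849238320015245153532010975241118366219570049310028033154763722850304) 849238320015245153532010975241118366219570049310028033154763722850304 := GT2_c0i.gen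
theorem fx1462 : C1.gen R1 849238320015245153532010975241118366219570049310028033154763722850304 ≤ stabilizer _ pt1454 := Act.fix_sound GT2_c0i.top pt1454r chk1461
theorem cov1469 : Cov (C1.gen R1 2527495000045372480750032664408090375653482289613178670103463460864) (C1.wds R1 [0]) pt1454 567 := Act.cov_of_seen (Act.pieces_sound GT2_s0_1459 GT2_s0_1459.top pt1454r chk1467) chk1468
theorem GT2_c1i : C1.Mem R1 (C1.gen R1 849238320015245153532010975241118366219570049310028033154763722850304) 673998666678765994866675377175490766840928610563514312027590256230400 := GT2_c0m.sub chk1470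
theorem GT2_c1m : C1.Mem R1 (C1.gen R1 673998666678765994866675377175490766840928610563514312027590256230400) 673998666678765994866675377175490766840928610563514312027590256230400 := GT2_c1i.gen
theorem fx1472 : C1.gen R1 673998666678765994866675377175490766840928610563514312027590256230400 ≤ stabilizer _ pt1455 := Act.fix_sound GT2_c1i.top pt1455r chk1471
theorem cov1479 : Cov (C1.gen R1 849238320015245153532010975241118366219570049310028033154763722850304) (C1.wds R1 [0]) pt1455 120 := Act.cov_of_seen (Act.pieces_sound GT2_c0m GT2_c0m.top pt1455r chk1477) chk1478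
theorem GT2_c2i : C1.Mem R1 (C1.gen R1 673998666678765994866675377175490766840928610563514312027590256230400) 0 := GT2_c1m.sub chk1480
theorem GT2_c2m : C1.Mem R1 (C1.gen R1 0) 0 := GT2_c2i.gen
theorem fx1482 : C1.gen R1 0 ≤ stabilizer _ pt1456 := Act.fix_sound GT2_c2i.top pt1456r chk1481
theorem cov1489 : Cov (C1.gen R1 673998666678765994866675377175490766840928610563514312027590256230400) (C1.wds R1 [0]) pt1456 96 := Act.cov_of_seen (Act.pieces_sound GT2_c1m GT2_c1m.top pt1456r chk1487) chk1488
theorem GT2_lb3 : 1 ≤ Nat.card (C1.gen R1 0) := Nat.card_pos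
theorem GT2_lo2 : 96 * Nat.card (C1.gen R1 0) ≤ Nat.card (C1.gen R1 673998666678765994866675377175490766840928610563514312027590256230400) := cov1489.low le_rfl (GC.wds_zero _) GT2_c2i.gen_le fx1482
theorem GT2_lb2 : 96 ≤ Nat.card (C1.gen R1 673998666678765994866675377175490766840928610563514312027590256230400) := low_step GT2_lo2 GT2_lb3 (by decide +kernel)
theorem GT2_lo1 : 120 * Nat.card (C1.gen R1 673998666678765994866675377175490766840928610563514312027590256230400) ≤ Nat.card (C1.gen R1 849238320015245153532010975241118366219570049310028033154763722850304) := cov1479.low le_rfl (GC.wds_zero _) GT2_c1i.gen_le fx1472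
theorem GT2_lb1 : 11520 ≤ Nat.card (C1.gen R1 849238320015245153532010975241118366219570049310028033154763722850304) := low_step GT2_lo1 GT2_lb2 (by decide +kernel)
theorem GT2_lo0 : 567 * Nat.card (C1.gen R1 849238320015245153532010975241118366219570049310028033154763722850304) ≤ Nat.card (C1.gen R1 2527495000045372480750032664408090375653482289613178670103463460864) := cov1469.low le_rfl (GC.wds_zero _) GT2_c0i.gen_le fx1462
theorem GT2_lb0 : 6531840 ≤ Nat.card (C1.gen R1 2527495000045372480750032664408090375653482289613178670103463460864) := low_step GT2_lo0 GT2_lb1 (by decide +kernel)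
theorem G_T2c : ∀ τ ∈ (C1.gen R1 2527495000045372480750032664408090375653482289613178670103463460864), C1.el (R1 186) * τ * (C1.el (R1 186))⁻¹ ∈ (C1.gen R1 16382) := H_s0_1339.conjA (G_I.get (i := 186) (by decide +kernel)).top GT2_in1453.top chk1491
theorem cov1500 : Cov (C1.gen R1 2527495000045372480750032664408090375653482289613178670103463460864) (C1.wds R1 (List.map Prod.fst (l1492))) pt1336 693 := Act.cov_of_seen (Act.pieces_sound GT2_s0_1459 H_s0_1339.top pt1336r chk1498) chk1499
theorem G_T2d : Dec (C1.gen R1 16382) (C1.gen R1 2527495000045372480750032664408090375653482289613178670103463460864) (C1.wds R1 (List.map Prod.fst (l1492))) (C1.gen R1 588478287692501321609605258425718726509595822918503235584) := cov1500.dec GT2_in1453.gen_le (GC.wds_sub H_s0_1339 chk1501) GK_in1348.gen_le fx1388 (up_low H_ub GK_lb0 (by decide +kernel))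
theorem G_T2p : ∀ x ∈ DC1 (C1.gen R1 16382) (C1.el (R1 186)), x * C1.el (R1 185) ∈ DCs (C1.gen R1 16382) (C1.els R1 147119571923125330402401314606429681627398955729625808896) := GC.dc_piece' G_T2d G_T2c G_Kc (H_s0_1339.dcRel G_I.top (G_I.get (i := 186) (by decide +kernel)).top (G_m1.get (i := 185) (by decide +kernel)).top chk1493)
theorem G_T2u : Nat.card (C1.gen R1 16382) ≤ 2816 * Nat.card (C1.gen R1 2527495000045372480750032664408090375653482289613178670103463460864) := up_low H_ub GT2_lb0 (by decide +kernel)
theorem G_T2n : (DC1 (C1.gen R1 16382) (C1.el (R1 186))).ncard ≤ Nat.card (C1.gen R1 16382) * 2816 := ncard_DC1 GT2_in1453.gen_le G_T2c G_T2u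
theorem G_dc : ∀ x ∈ (C1.gen R1 49039857307708443467467104868809893875799651909875286014), x ∈ DCs (C1.gen R1 16382) (C1.els R1 147119571923125330402401314606429681627398955729625808896) := GC.dc_gen (MU := 49039857307708443467467104868809893875799651909875269632) H_s0_1339 (by decide +kernel) (GC.forall_els (L := [185]) (forall_cons ⟨H_s0_1339.inDC' G_I.top (G_m1.get (i := 185) (by decide +kernel)).top chk1502, GC.forall_els (L := [185, 186]) (forall_cons G_T1p (forall_cons G_T2p forall_nil)) (by decide +kernel)⟩ forall_nil) (by decide +kernel))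
theorem G_cs : ∀ p ∈ ([(185, 693), (186, 2816)] : List (ℕ × ℕ)), (DC1 (C1.gen R1 16382) (C1.el (R1 p.1))).ncard ≤ Nat.card (C1.gen R1 16382) * p.2 := (forall_cons G_T1n (forall_cons G_T2n forall_nil))
theorem G_ix : Nat.card (C1.gen R1 49039857307708443467467104868809893875799651909875286014) ≤ 3510 * Nat.card (C1.gen R1 16382) := GC.card_dc [(185, 693), (186, 2816)] G_dc G_cs (by decide +kernel)
theorem G_ub : Nat.card (C1.gen R1 49039857307708443467467104868809893875799651909875286014) ≤ 64561751654400 := up_mul G_ix H_ub (by decide +kernel)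
theorem G_max : ∀ L, (C1.gen R1 16382) ≤ L → L ≤ (C1.gen R1 49039857307708443467467104868809893875799651909875286014) → L = (C1.gen R1 16382) ∨ L = (C1.gen R1 49039857307708443467467104868809893875799651909875286014) := maximal_of_DCs G_dc (H_s0_1339.maxChk G_I.top chk1504 chk1505)
theorem pt1506e : ∃ x, A0.Rep pt1506c x := act2_rep (n := 79) (d := 7) (by decide) (by decide) (c := 0x1) (by decide +kernel)
noncomputable def pt1506 := Classical.choose pt1506e
theorem pt1506r : A0.Rep pt1506c pt1506 := Classical.choose_spec pt1506e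
theorem G_s2_1509 : C1.Mem R1 (C1.gen R1 49039857307708443467467104868809893875799651909875286014) 54351252480975885982484960583656422492855587318618439231634624907067390 := G_s1_1344.slp' chk1508
noncomputable def pt1510 := C1.wd R1 203655778375909 • pt1506
theorem pt1510r : A0.Rep pt1510c pt1510 := Act.appW_ok G_s2_1509 chk1511 pt1506r
theorem pt1510g : C1.wd R1 203655778375909 ∈ (C1.gen R1 49039857307708443467467104868809893875799651909875286014) := G_s2_1509.wd_mem chk1511
noncomputable def pt1512 := C1.wd R1 213548563666348251370 • pt1506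
theorem pt1512r : A0.Rep pt1512c pt1512 := Act.appW_ok G_s2_1509 chk1513 pt1506r
theorem pt1512g : C1.wd R1 213548563666348251370 ∈ (C1.gen R1 49039857307708443467467104868809893875799651909875286014) := G_s2_1509.wd_mem chk1513
noncomputable def pt1514 := C1.wd R1 208543519206466791 • pt1506
theorem pt1514r : A0.Rep pt1514c pt1514 := Act.appW_ok G_s2_1509 chk1515 pt1506r
theorem pt1514g : C1.wd R1 208543519206466791 ∈ (C1.gen R1 49039857307708443467467104868809893875799651909875286014) := G_s2_1509.wd_mem chk1515
noncomputable def pt1516 := C1.wd R1 213549638988767402218 • pt1506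
theorem pt1516r : A0.Rep pt1516c pt1516 := Act.appW_ok G_s2_1509 chk1517 pt1506r
theorem pt1516g : C1.wd R1 213549638988767402218 ∈ (C1.gen R1 49039857307708443467467104868809893875799651909875286014) := G_s2_1509.wd_mem chk1517
noncomputable def pt1518 := C1.wd R1 208549019987928296 • pt1506
theorem pt1518r : A0.Rep pt1518c pt1518 := Act.appW_ok G_s2_1509 chk1519 pt1506r
theorem pt1518g : C1.wd R1 208549019987928296 ∈ (C1.gen R1 49039857307708443467467104868809893875799651909875286014) := G_s2_1509.wd_mem chk1519
theorem H_s1_1522 : C1.Mem R1 (C1.gen R1 16382) 1809196180362291229032034027048893238448377390026589545041794223946871095294 := H_s0_1339.slp' chk1521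
theorem H_c0i : C1.Mem R1 (C1.gen R1 16382) 1809196180362291228982997162713850344003723901528856450024083449929852256256 := H_s1_1522.sub chk1523
theorem H_c0m : C1.Mem R1 (C1.gen R1 1809196180362291228982997162713850344003723901528856450024083449929852256256) 1809196180362291228982997162713850344003723901528856450024083449929852256256 := H_c0i.gen
theorem fx1525 : C1.gen R1 1809196180362291228982997162713850344003723901528856450024083449929852256256 ≤ stabilizer _ pt1510 := Act.fix_sound H_c0i.top pt1510r chk1524
theorem cov1532 : Cov (C1.gen R1 16382) (C1.wds R1 [0]) pt1510 693 := Act.cov_of_seen (Act.pieces_sound H_s1_1522 H_s1_1522.top pt1510r chk1530) chk1531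
theorem H_c1i : C1.Mem R1 (C1.gen R1 1809196180362291228982997162713850344003723901528856450024083449929852256256) 1802184006073952016174963450757776886144033574813131337284038325318472171520 := H_c0m.sub chk1533
theorem H_c1m : C1.Mem R1 (C1.gen R1 1802184006073952016174963450757776886144033574813131337284038325318472171520) 1802184006073952016174963450757776886144033574813131337284038325318472171520 := H_c1i.gen
theorem fx1535 : C1.gen R1 1802184006073952016174963450757776886144033574813131337284038325318472171520 ≤ stabilizer _ pt1512 := Act.fix_sound H_c1i.top pt1512r chk1534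
theorem cov1544 : Cov (C1.gen R1 1809196180362291228982997162713850344003723901528856450024083449929852256256) (C1.wds R1 [0]) pt1512 2304 := Act.cov_of_seen (Act.pieces_sound H_c0m H_c0m.top pt1512r chk1542) chk1543
theorem H_c2i : C1.Mem R1 (C1.gen R1 1802184006073952016174963450757776886144033574813131337284038325318472171520) 1780981841296611404219963880748861863954103768050623909786579050902960734208 := H_c1m.sub chk1545
theorem H_c2m : C1.Mem R1 (C1.gen R1 1780981841296611404219963880748861863954103768050623909786579050902960734208) 1780981841296611404219963880748861863954103768050623909786579050902960734208 := H_c2i.gen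
theorem fx1547 : C1.gen R1 1780981841296611404219963880748861863954103768050623909786579050902960734208 ≤ stabilizer _ pt1514 := Act.fix_sound H_c2i.top pt1514r chk1546
theorem cov1554 : Cov (C1.gen R1 1802184006073952016174963450757776886144033574813131337284038325318472171520) (C1.wds R1 [0]) pt1514 30 := Act.cov_of_seen (Act.pieces_sound H_c1m H_c1m.top pt1514r chk1552) chk1553
theorem H_c3i : C1.Mem R1 (C1.gen R1 1780981841296611404219963880748861863954103768050623909786579050902960734208) 565391060729082985466655200237733925064794847000198066598913984413638328320 := H_c2m.sub chk1555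
theorem H_c3m : C1.Mem R1 (C1.gen R1 565391060729082985466655200237733925064794847000198066598913984413638328320) 565391060729082985466655200237733925064794847000198066598913984413638328320 := H_c3i.gen
theorem fx1557 : C1.gen R1 565391060729082985466655200237733925064794847000198066598913984413638328320 ≤ stabilizer _ pt1516 := Act.fix_sound H_c3i.top pt1516r chk1556
theorem cov1564 : Cov (C1.gen R1 1780981841296611404219963880748861863954103768050623909786579050902960734208) (C1.wds R1 [0]) pt1516 96 := Act.cov_of_seen (Act.pieces_sound H_c2m H_c2m.top pt1516r chk1562) chk1563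
theorem H_c4i : C1.Mem R1 (C1.gen R1 565391060729082985466655200237733925064794847000198066598913984413638328320) 0 := H_c3m.sub chk1565
theorem H_c4m : C1.Mem R1 (C1.gen R1 0) 0 := H_c4i.gen
theorem fx1567 : C1.gen R1 0 ≤ stabilizer _ pt1518 := Act.fix_sound H_c4i.top pt1518r chk1566
theorem cov1574 : Cov (C1.gen R1 565391060729082985466655200237733925064794847000198066598913984413638328320) (C1.wds R1 [0]) pt1518 4 := Act.cov_of_seen (Act.pieces_sound H_c3m H_c3m.top pt1518r chk1572) chk1573
theorem H_lb5 : 1 ≤ Nat.card (C1.gen R1 0) := Nat.card_pos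
theorem H_lo4 : 4 * Nat.card (C1.gen R1 0) ≤ Nat.card (C1.gen R1 565391060729082985466655200237733925064794847000198066598913984413638328320) := cov1574.low le_rfl (GC.wds_zero _) H_c4i.gen_le fx1567
theorem H_lb4 : 4 ≤ Nat.card (C1.gen R1 565391060729082985466655200237733925064794847000198066598913984413638328320) := low_step H_lo4 H_lb5 (by decide +kernel)
theorem H_lo3 : 96 * Nat.card (C1.gen R1 565391060729082985466655200237733925064794847000198066598913984413638328320) ≤ Nat.card (C1.gen R1 1780981841296611404219963880748861863954103768050623909786579050902960734208) := cov1564.low le_rfl (GC.wds_zero _) H_c3i.gen_le fx1557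
theorem H_lb3 : 384 ≤ Nat.card (C1.gen R1 1780981841296611404219963880748861863954103768050623909786579050902960734208) := low_step H_lo3 H_lb4 (by decide +kernel)
theorem H_lo2 : 30 * Nat.card (C1.gen R1 1780981841296611404219963880748861863954103768050623909786579050902960734208) ≤ Nat.card (C1.gen R1 1802184006073952016174963450757776886144033574813131337284038325318472171520) := cov1554.low le_rfl (GC.wds_zero _) H_c2i.gen_le fx1547
theorem H_lb2 : 11520 ≤ Nat.card (C1.gen R1 1802184006073952016174963450757776886144033574813131337284038325318472171520) := low_step H_lo2 H_lb3 (by decide +kernel)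
theorem H_lo1 : 2304 * Nat.card (C1.gen R1 1802184006073952016174963450757776886144033574813131337284038325318472171520) ≤ Nat.card (C1.gen R1 1809196180362291228982997162713850344003723901528856450024083449929852256256) := cov1544.low le_rfl (GC.wds_zero _) H_c1i.gen_le fx1535
theorem H_lb1 : 26542080 ≤ Nat.card (C1.gen R1 1809196180362291228982997162713850344003723901528856450024083449929852256256) := low_step H_lo1 H_lb2 (by decide +kernel)
theorem H_lo0 : 693 * Nat.card (C1.gen R1 1809196180362291228982997162713850344003723901528856450024083449929852256256) ≤ Nat.card (C1.gen R1 16382) := cov1532.low le_rfl (GC.wds_zero _) H_c0i.gen_le fx1525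
theorem H_lb0 : 18393661440 ≤ Nat.card (C1.gen R1 16382) := low_step H_lo0 H_lb1 (by decide +kernel)
theorem H_st0 : (C1.gen R1 16382) ⊓ stabilizer _ pt1510 = (C1.gen R1 1809196180362291228982997162713850344003723901528856450024083449929852256256) ∧ (orbit (C1.gen R1 16382) pt1510).ncard = 693 := cov1532.stab le_rfl (GC.wds_zero _) H_c0i.gen_le fx1525 (up_low H_ub H_lb1 (by decide +kernel))
theorem H_ub1 : Nat.card (C1.gen R1 1809196180362291228982997162713850344003723901528856450024083449929852256256) ≤ 26542080 := up_step H_lo0 H_ub (by decide +kernel)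
theorem H_st1 : (C1.gen R1 1809196180362291228982997162713850344003723901528856450024083449929852256256) ⊓ stabilizer _ pt1512 = (C1.gen R1 1802184006073952016174963450757776886144033574813131337284038325318472171520) ∧ (orbit (C1.gen R1 1809196180362291228982997162713850344003723901528856450024083449929852256256) pt1512).ncard = 2304 := cov1544.stab le_rfl (GC.wds_zero _) H_c1i.gen_le fx1535 (up_low H_ub1 H_lb2 (by decide +kernel))
theorem H_ub2 : Nat.card (C1.gen R1 1802184006073952016174963450757776886144033574813131337284038325318472171520) ≤ 11520 := up_step H_lo1 H_ub1 (by decide +kernel)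
theorem H_st2 : (C1.gen R1 1802184006073952016174963450757776886144033574813131337284038325318472171520) ⊓ stabilizer _ pt1514 = (C1.gen R1 1780981841296611404219963880748861863954103768050623909786579050902960734208) ∧ (orbit (C1.gen R1 1802184006073952016174963450757776886144033574813131337284038325318472171520) pt1514).ncard = 30 := cov1554.stab le_rfl (GC.wds_zero _) H_c2i.gen_le fx1547 (up_low H_ub2 H_lb3 (by decide +kernel))
theorem H_ub3 : Nat.card (C1.gen R1 1780981841296611404219963880748861863954103768050623909786579050902960734208) ≤ 384 := up_step H_lo2 H_ub2 (by decide +kernel)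
theorem H_st3 : (C1.gen R1 1780981841296611404219963880748861863954103768050623909786579050902960734208) ⊓ stabilizer _ pt1516 = (C1.gen R1 565391060729082985466655200237733925064794847000198066598913984413638328320) ∧ (orbit (C1.gen R1 1780981841296611404219963880748861863954103768050623909786579050902960734208) pt1516).ncard = 96 := cov1564.stab le_rfl (GC.wds_zero _) H_c3i.gen_le fx1557 (up_low H_ub3 H_lb4 (by decide +kernel))
theorem H_ub4 : Nat.card (C1.gen R1 565391060729082985466655200237733925064794847000198066598913984413638328320) ≤ 4 := up_step H_lo3 H_ub3 (by decide +kernel)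
theorem H_st4 : (C1.gen R1 565391060729082985466655200237733925064794847000198066598913984413638328320) ⊓ stabilizer _ pt1518 = (C1.gen R1 0) ∧ (orbit (C1.gen R1 565391060729082985466655200237733925064794847000198066598913984413638328320) pt1518).ncard = 4 := cov1574.stab le_rfl (GC.wds_zero _) H_c4i.gen_le fx1567 (up_low H_ub4 H_lb5 (by decide +kernel))
theorem H_ub5 : Nat.card (C1.gen R1 0) ≤ 1 := up_step H_lo4 H_ub4 (by decide +kernel)
theorem cov1585 : Cov (C1.gen R1 49039857307708443467467104868809893875799651909875286014) (C1.wds R1 [0]) pt1506 3510 := Act.cov_of_seen (Act.pieces_sound G_s2_1509 G_s2_1509.top pt1506r chk1583) chk1584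
theorem fx1587 : C1.gen R1 16382 ≤ stabilizer _ pt1506 := Act.fix_sound (D_m0.map hf1).top pt1506r chk1586
theorem G_cov : Cov (C1.gen R1 49039857307708443467467104868809893875799651909875286014) (C1.wds R1 [0]) pt1506 3510 := cov1585
theorem G_lo : 3510 * Nat.card (C1.gen R1 16382) ≤ Nat.card (C1.gen R1 49039857307708443467467104868809893875799651909875286014) := cov1585.low le_rfl (GC.wds_zero _) (G_s2_1509.sub chk1588).gen_le fx1587
theorem G_lb : 64561751654400 ≤ Nat.card (C1.gen R1 49039857307708443467467104868809893875799651909875286014) := low_step G_lo H_lb0 (by decide +kernel)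
theorem core (N : Subgroup _) (h : N ≤ (C1.gen R1 16382)) (hN : NormBy (C1.gen R1 49039857307708443467467104868809893875799651909875286014) N) : N ≤ (C1.gen R1 0) := (le_next H_st4 (le_next H_st3 (le_next H_st2 (le_next H_st1 (le_next H_st0 h (hN.fix (h.trans fx1587) pt1510g)) (hN.fix (h.trans fx1587) pt1512g)) (hN.fix (h.trans fx1587) pt1514g)) (hN.fix (h.trans fx1587) pt1516g)) (hN.fix (h.trans fx1587) pt1518g))
theorem G_m4 : C1.Mem R1 (C1.gen R1 49039857307708443467467104868809893875799651909875286014) 1809250531614772204868979647674434000426216757116175068463315084554759323646 := G_s2_1509.lor' (H_s1_1522.mono (G_s2_1509.sub chk1589).gen_le) chk1590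
theorem G_s4_1593 : C1.Mem R1 (C1.gen R1 49039857307708443467467104868809893875799651909875286014) 3618501925947837758362276288435182560633560267516808881579839834678401974270 := G_m4.slp' chk1592
theorem G_s5_1596 : C1.Mem R1 (C1.gen R1 49039857307708443467467104868809893875799651909875286014) 14474010291946231079322056132999673921877621329920611760278988335420257878014 := G_s4_1593.slp' chk1595
theorem ncl (N : Subgroup _) (hN : NormBy (C1.gen R1 49039857307708443467467104868809893875799651909875286014) N) (hz : C1.el (R1 250) ∈ N) : C1.gen R1 49039857307708443467467104868809893875799651909875286014 ≤ N := by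
  have h0 := (GC.Mem.single (G_s5_1596.get (i := 250) (by decide +kernel)).top hz).lor' (G_s5_1596.nconj (GC.Mem.single (G_s5_1596.get (i := 250) (by decide +kernel)).top hz) hN (G_s5_1596.sub chk1597).top chk1599) (M'' := 12664759760331458874453076485325239921451404572804436691815673250865498554368) (by decide +kernel)
  have h1 := G_s5_1596.ncop h0 hN chk1601
  exact h1.gen_le
theorem dich (N : Subgroup _) (h : N ≤ (C1.gen R1 49039857307708443467467104868809893875799651909875286014)) (hN : NormBy (C1.gen R1 49039857307708443467467104868809893875799651909875286014) N) : N ≤ (C1.gen R1 0) ∨ N = (C1.gen R1 49039857307708443467467104868809893875799651909875286014) :=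
  normal_dichotomy (G_s5_1596.sub chk1603).gen_le G_max core (p := 13) (k := 1) (n := 3510) (by norm_num)
    (eq_mul_of G_ub G_lb H_ub H_lb0 (by decide +kernel)) (by norm_num)
    (not_dvd_of G_ub G_lb (by decide +kernel)) (G_s5_1596.get (i := 250) (by decide +kernel)).el_mem ((G_s5_1596.get (i := 250) (by decide +kernel)).prime_dvd (by norm_num) chk1602).1.1
    (fun N _ hN hz => ncl N hN hz) N h hN
theorem simple : IsSimpleGroup (C1.gen R1 49039857307708443467467104868809893875799651909875286014) := simple_of_dichotomy (ne_bot_of G_lb (by decide +kernel)) fun N h hN => GC.gen_zero (C := C1) (R := R1) ▸ dich N h hN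
theorem cardG : Nat.card (C1.gen R1 49039857307708443467467104868809893875799651909875286014) = 64561751654400 := le_antisymm G_ub G_lb
theorem cardH : Nat.card (C1.gen R1 16382) = 18393661440 := le_antisymm H_ub H_lb0
theorem G_s6_1606 : C1.Mem R1 (C1.gen R1 49039857307708443467467104868809893875799651909875286014) 57896043755939804363161175511257639366853865579535823275075582338387681492990 := G_s5_1596.slp' chk1605
theorem cls_m : C1.el (R1 157) ∈ (C1.gen R1 49039857307708443467467104868809893875799651909875286014) := (G_s6_1606.get (i := 157) (by decide +kernel)).el_mem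
theorem cls : let D := conjugatesOf (⟨C1.el (R1 157), cls_m⟩ : (C1.gen R1 49039857307708443467467104868809893875799651909875286014))
    (∀ x ∈ D, orderOf x = 2) ∧ (∀ x ∈ D, ∀ y ∈ D, (x * y) ^ 2 = 1 ∨ (x * y) ^ 3 = 1) ∧
      Subgroup.closure D = ⊤ ∧ Nat.card D = 3510 ∧ ∀ x ∈ D, Nonempty (centralizer {x} ≃* (C1.gen R1 16382)) :=
  have := simple
  transposition_class (G_s6_1606.sub chk1610).gen_le G_dc G_max cls_m ((G_s6_1606.get (i := 157) (by decide +kernel)).prime_dvd Nat.prime_two chk1609).1.2
    ((pow_two _).symm.trans ((G_s6_1606.get (i := 157) (by decide +kernel)).prime_dvd Nat.prime_two chk1609).1.1) (H_m0.top.commL (G_s6_1606.get (i := 157) (by decide +kernel)).top chk1611)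
    ⟨_, (G_s6_1606.get (i := 185) (by decide +kernel)).el_mem, ((G_s6_1606.get (i := 185) (by decide +kernel)).top.not_comm (G_s6_1606.get (i := 157) (by decide +kernel)).top chk1612)⟩
    (GC.forall_els (L := [185, 186]) (forall_cons (Or.inl (G_s6_1606.top.conjOrd chk1607)) (forall_cons (Or.inr (G_s6_1606.top.conjOrd chk1608)) forall_nil)) (by decide +kernel))
    (eq_mul_of (s := 3510) G_ub G_lb H_ub H_lb0 (by decide +kernel))
theorem qH : Nat.card (center (C1.gen R1 16382)) = 2 ∧ Nat.card ((C1.gen R1 16382) ⧸ center (C1.gen R1 16382)) = 9196830720 := card_center_quot H_cen_le H_cen.1 H_cz cardH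
theorem qH2 : Nat.card (center (C2.gen R2 16382)) = 3 ∧ Nat.card ((C2.gen R2 16382) ⧸ center (C2.gen R2 16382)) = 9196830720 := card_center_quot H2_cen_le H2_cen.1 H2_cz cardH2
theorem iso : Nonempty (((C1.gen R1 16382) ⧸ center (C1.gen R1 16382)) ≃* ((C2.gen R2 16382) ⧸ center (C2.gen R2 16382))) := by
  have h1 := qH.2
  have h2 := qH2.2
  rw [H_map] at h1 ⊢
  rw [H2_map] at h2 ⊢
  exact quot_equiv_of_prod cenD_le cenD_c (up_low D_ub ZD_lb (by decide +kernel)) h1 h2
theorem noidx : ∀ L : Subgroup (C1.gen R1 16382), L.index ≠ 2 := index_ne_two H_dich (by rw [H_cz, cardH]; norm_num)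
theorem H2_v : C2.Mem R2 ⊤ 16382 := (D_m0.map hf2).top
end

end CfsgH6.Fi22
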