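import Cfsg.Agent.H6.Fi22D0

set_option autoImplicit false
set_option maxRecDepth 100000
set_option linter.all false

namespace CfsgH6.Fi22

open CfsgH5 CfsgH6 Subgroup MulAction Pointwise

noncomputable section

theorem chk2 : band (allL l1 fun e => band (can2 79 (force (hd e) R1)) (band (Nat.ble 1 (tl e)) (Nat.beq (powC (ops2 79) (force (hd e) R1) (tl e)) (ops2 79).one))) (subM 16382 (insL l1 0)) = true := by decide +kernel
theorem chk5 : band (allL l4 fun e => band (can4 e12 (force (hd e) R2)) (band (Nat.ble 1 (tl e)) (Nat.beq (powC (ops2 12) (force (hd e) R2) (tl e)) (ops2 12).one))) (subM 16382 (insL l4 0)) = true := by decide +kernel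
theorem chk8 : subM 16 16382 = true := by decide +kernel
theorem chk10 : band (conjB (prodOps 6400 (ops2 79) (ops2 12)) R 0 4 l9) (subM 0 (insL l9 0)) = true := by decide +kernel
theorem chk11 : band (Nat.ble 1 3) (band (subW 0 0) (Nat.beq (powC (prodOps 6400 (ops2 79) (ops2 12)) (R 4) 3) (evalW (prodOps 6400 (ops2 79) (ops2 12)) R 0))) = true := by decide +kernel
theorem chk12 : subM 48 16382 = true := by decide +kernel
theorem chk14 : band (conjB (prodOps 6400 (ops2 79) (ops2 12)) R 16 5 l13) (subM 16 (insL l13 0)) = true := by decide +kernel
theorem chk15 : band (Nat.ble 1 3) (band (subW 16 0) (Nat.beq (powC (prodOps 6400 (ops2 79) (ops2 12)) (R 5) 3) (evalW (prodOps 6400 (ops2 79) (ops2 12)) R 0))) = true := by decide +kernel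
theorem chk16 : subM 112 16382 = true := by decide +kernel
theorem chk18 : band (conjB (prodOps 6400 (ops2 79) (ops2 12)) R 48 6 l17) (subM 48 (insL l17 0)) = true := by decide +kernel
theorem chk19 : band (Nat.ble 1 3) (band (subW 48 0) (Nat.beq (powC (prodOps 6400 (ops2 79) (ops2 12)) (R 6) 3) (evalW (prodOps 6400 (ops2 79) (ops2 12)) R 0))) = true := by decide +kernel
theorem chk20 : subM 240 16382 = true := by decide +kernel
theorem chk22 : band (conjB (prodOps 6400 (ops2 79) (ops2 12)) R 112 7 l21) (subM 112 (insL l21 0)) = true := by decide +kernel
theorem chk23 : band (Nat.ble 1 2) (band (subW 112 0) (Nat.beq (powC (prodOps 6400 (ops2 79) (ops2 12)) (R 7) 2) (evalW (prodOps 6400 (ops2 79) (ops2 12)) R 0))) = true := by decide +kernel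
theorem chk24 : subM 496 16382 = true := by decide +kernel
theorem chk26 : band (conjB (prodOps 6400 (ops2 79) (ops2 12)) R 240 8 l25) (subM 240 (insL l25 0)) = true := by decide +kernel
theorem chk27 : band (Nat.ble 1 2) (band (subW 240 5502934192134) (Nat.beq (powC (prodOps 6400 (ops2 79) (ops2 12)) (R 8) 2) (evalW (prodOps 6400 (ops2 79) (ops2 12)) R 5502934192134))) = true := by decide +kernel
theorem chk28 : subM 1008 16382 = true := by decide +kernel
theorem chk30 : band (conjB (prodOps 6400 (ops2 79) (ops2 12)) R 496 9 l29) (subM 496 (insL l29 0)) = true := by decide +kernel
theorem chk31 : band (Nat.ble 1 2) (band (subW 496 5502934192134) (Nat.beq (powC (prodOps 6400 (ops2 79) (ops2 12)) (R 9) 2) (evalW (prodOps 6400 (ops2 79) (ops2 12)) R 5502934192134))) = true := by decide +kernel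
theorem chk32 : subM 2032 16382 = true := by decide +kernel
theorem chk34 : band (conjB (prodOps 6400 (ops2 79) (ops2 12)) R 1008 10 l33) (subM 1008 (insL l33 0)) = true := by decide +kernel
theorem chk35 : band (Nat.ble 1 2) (band (subW 1008 0) (Nat.beq (powC (prodOps 6400 (ops2 79) (ops2 12)) (R 10) 2) (evalW (prodOps 6400 (ops2 79) (ops2 12)) R 0))) = true := by decide +kernel
theorem chk36 : subM 4080 16382 = true := by decide +kernel
theorem chk38 : band (conjB (prodOps 6400 (ops2 79) (ops2 12)) R 2032 11 l37) (subM 2032 (insL l37 0)) = true := by decide +kernel
theorem chk39 : band (Nat.ble 1 3) (band (subW 2032 10) (Nat.beq (powC (prodOps 6400 (ops2 79) (ops2 12)) (R 11) 3) (evalW (prodOps 6400 (ops2 79) (ops2 12)) R 10))) = true := by decide +kernel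
theorem chk40 : subM 8176 16382 = true := by decide +kernel
theorem chk42 : band (conjB (prodOps 6400 (ops2 79) (ops2 12)) R 4080 12 l41) (subM 4080 (insL l41 0)) = true := by decide +kernel
theorem chk43 : band (Nat.ble 1 3) (band (subW 4080 10) (Nat.beq (powC (prodOps 6400 (ops2 79) (ops2 12)) (R 12) 3) (evalW (prodOps 6400 (ops2 79) (ops2 12)) R 10))) = true := by decide +kernel
theorem chk44 : subM 16368 16382 = true := by decide +kernel
theorem chk46 : band (conjB (prodOps 6400 (ops2 79) (ops2 12)) R 8176 13 l45) (subM 8176 (insL l45 0)) = true := by decide +kernel
theorem chk47 : band (Nat.ble 1 3) (band (subW 8176 10) (Nat.beq (powC (prodOps 6400 (ops2 79) (ops2 12)) (R 13) 3) (evalW (prodOps 6400 (ops2 79) (ops2 12)) R 10))) = true := by decide +kernel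
theorem chk48 : subM 16376 16382 = true := by decide +kernel
theorem chk51 : band (slp (prodOps 6400 (ops2 79) (ops2 12)) R l50 16376) (subM 32760 (insL l50 16376)) = true := by decide +kernel
theorem chk53 : subM 16392 32760 = true := by decide +kernel
theorem chk111 : band (slp (prodOps 6400 (ops2 79) (ops2 12)) R l110 16368) (subM 491520 (insL l110 16368)) = true := by decide +kernel
theorem chk121 : band (slp (prodOps 6400 (ops2 79) (ops2 12)) R l120 491520) (subM 33521664 (insL l120 491520)) = true := by decide +kernel
theorem chk123 : subM 33030144 33521664 = true := by decide +kernel
theorem chk124 : band (fixL (fun c v => (app2 12 13 4) (pr2 6400 c) v) (keyL (app2 12 13 4) (fun x => x) om 2) R [19, 20, 21, 22, 23, 24] pt113c) (subM 33030144 (insL [19, 20, 21, 22, 23, 24] 0)) = true := by decide +kernel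
theorem chk130 : band (pieces (fun c v => (app2 12 13 4) (pr2 6400 c) v) (keyL (app2 12 13 4) (fun x => x) om 2) tab128 R 33521664 [15, 16, 17, 18, 19, 20, 21, 22, 23, 24] pt113c l129) (allL l129 fun p => subW 33521664 p.2.1) = true := by decide +kernel
theorem chk131 : cover 3 [0] (l129) 0 = true := by decide +kernel
theorem chk133 : subM 32505856 33030144 = true := by decide +kernel
theorem chk134 : band (fixL (fun c v => (app2 12 13 4) (pr2 6400 c) v) (keyL (app2 12 13 4) (fun x => x) om 2) R [20, 21, 22, 23, 24] pt114c) (subM 32505856 (insL [20, 21, 22, 23, 24] 0)) = true := by decide +kernel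
theorem chk140 : band (pieces (fun c v => (app2 12 13 4) (pr2 6400 c) v) (keyL (app2 12 13 4) (fun x => x) om 2) tab138 R 33030144 [19, 20, 21, 22, 23, 24] pt114c l139) (allL l139 fun p => subW 33030144 p.2.1) = true := by decide +kernel
theorem chk141 : cover 3 [0] (l139) 0 = true := by decide +kernel
theorem chk143 : subM 31457280 32505856 = true := by decide +kernel
theorem chk144 : band (fixL (fun c v => (app2 12 13 4) (pr2 6400 c) v) (keyL (app2 12 13 4) (fun x => x) om 2) R [21, 22, 23, 24] pt115c) (subM 31457280 (insL [21, 22, 23, 24] 0)) = true := by decide +kernel
theorem chk150 : band (pieces (fun c v => (app2 12 13 4) (pr2 6400 c) v) (keyL (app2 12 13 4) (fun x => x) om 2) tab148 R 32505856 [20, 21, 22, 23, 24] pt115c l149) (allL l149 fun p => subW 32505856 p.2.1) = true := by decide +kernel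
theorem chk151 : cover 2 [0] (l149) 0 = true := by decide +kernel
theorem chk153 : subM 29360128 31457280 = true := by decide +kernel
theorem chk154 : band (fixL (fun c v => (app2 12 13 4) (pr2 6400 c) v) (keyL (app2 12 13 4) (fun x => x) om 2) R [22, 23, 24] pt116c) (subM 29360128 (insL [22, 23, 24] 0)) = true := by decide +kernel
theorem chk160 : band (pieces (fun c v => (app2 12 13 4) (pr2 6400 c) v) (keyL (app2 12 13 4) (fun x => x) om 2) tab158 R 31457280 [21, 22, 23, 24] pt116c l159) (allL l159 fun p => subW 31457280 p.2.1) = true := by decide +kernel
theorem chk161 : cover 3 [0] (l159) 0 = true := by decide +kernel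
theorem chk163 : subM 25165824 29360128 = true := by decide +kernel
theorem chk164 : band (fixL (fun c v => (app2 12 13 4) (pr2 6400 c) v) (keyL (app2 12 13 4) (fun x => x) om 2) R [23, 24] pt117c) (subM 25165824 (insL [23, 24] 0)) = true := by decide +kernel
theorem chk170 : band (pieces (fun c v => (app2 12 13 4) (pr2 6400 c) v) (keyL (app2 12 13 4) (fun x => x) om 2) tab168 R 29360128 [22, 23, 24] pt117c l169) (allL l169 fun p => subW 29360128 p.2.1) = true := by decide +kernel
theorem chk171 : cover 3 [0] (l169) 0 = true := by decide +kernel
theorem chk173 : subM 16777216 25165824 = true := by decide +kernel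
theorem chk174 : band (fixL (fun c v => (app2 79 80 7) (pr1 6400 c) v) (fun x => x) R [24] pt118c) (subM 16777216 (insL [24] 0)) = true := by decide +kernel
theorem chk180 : band (pieces (fun c v => (app2 79 80 7) (pr1 6400 c) v) (fun x => x) tab178 R 25165824 [23, 24] pt118c l179) (allL l179 fun p => subW 25165824 p.2.1) = true := by decide +kernel
theorem chk181 : cover 2 [0] (l179) 0 = true := by decide +kernel
theorem chk183 : subM 0 16777216 = true := by decide +kernel
theorem chk184 : band (fixL (fun c v => (app2 12 13 4) (pr2 6400 c) v) (fun x => x) R [] pt119c) (subM 0 (insL [] 0)) = true := by decide +kernel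
theorem chk190 : band (pieces (fun c v => (app2 12 13 4) (pr2 6400 c) v) (fun x => x) tab188 R 16777216 [24] pt119c l189) (allL l189 fun p => subW 16777216 p.2.1) = true := by decide +kernel
theorem chk191 : cover 3 [0] (l189) 0 = true := by decide +kernel
theorem chk194 : band (conjB (prodOps 6400 (ops2 79) (ops2 12)) R 16368 3 l193) (subM 491520 (insL l193 0)) = true := by decide +kernel
theorem chk195 : band (fixL (fun c v => (app2 12 13 4) (pr2 6400 c) v) (keyL (app2 12 13 4) (fun x => x) om 2) R [15, 16, 17, 18] pt49c) (subM 491520 (insL [15, 16, 17, 18] 0)) = true := by decide +kernel
theorem chk252 : band (slp (prodOps 6400 (ops2 79) (ops2 12)) R l251 16368) (subM 503316480 (insL l251 16368)) = true := by decide +kernel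
theorem chk261 : band (slp (prodOps 6400 (ops2 79) (ops2 12)) R l260 503316480) (subM 68685922304 (insL l260 503316480)) = true := by decide +kernel
theorem chk263 : subM 68182605824 68685922304 = true := by decide +kernel
theorem chk264 : band (fixL (fun c v => (app2 12 13 4) (pr2 6400 c) v) (keyL (app2 12 13 4) (fun x => x) om 2) R [29, 30, 31, 32, 33, 34, 35] pt254c) (subM 68182605824 (insL [29, 30, 31, 32, 33, 34, 35] 0)) = true := by decide +kernel
theorem chk270 : band (pieces (fun c v => (app2 12 13 4) (pr2 6400 c) v) (keyL (app2 12 13 4) (fun x => x) om 2) tab268 R 68685922304 [25, 26, 27, 28, 29, 30, 31, 32, 33, 34, 35] pt254c l269) (allL l269 fun p => subW 68685922304 p.2.1) = true := by decide +kernel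
theorem chk271 : cover 3 [0] (l269) 0 = true := by decide +kernel
theorem chk273 : subM 50465865728 68182605824 = true := by decide +kernel
theorem chk274 : band (fixL (fun c v => (app2 12 13 4) (pr2 6400 c) v) (keyL (app2 12 13 4) (fun x => x) om 2) R [30, 31, 32, 33, 35] pt255c) (subM 50465865728 (insL [30, 31, 32, 33, 35] 0)) = true := by decide +kernel
theorem chk280 : band (pieces (fun c v => (app2 12 13 4) (pr2 6400 c) v) (keyL (app2 12 13 4) (fun x => x) om 2) tab278 R 68182605824 [29, 30, 31, 32, 33, 34, 35] pt255c l279) (allL l279 fun p => subW 68182605824 p.2.1) = true := by decide +kernel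
theorem chk281 : cover 3 [0] (l279) 0 = true := by decide +kernel
theorem chk283 : subM 15032385536 50465865728 = true := by decide +kernel
theorem chk284 : band (fixL (fun c v => (app2 12 13 4) (pr2 6400 c) v) (keyL (app2 12 13 4) (fun x => x) om 2) R [31, 32, 33] pt256c) (subM 15032385536 (insL [31, 32, 33] 0)) = true := by decide +kernel
theorem chk290 : band (pieces (fun c v => (app2 12 13 4) (pr2 6400 c) v) (keyL (app2 12 13 4) (fun x => x) om 2) tab288 R 50465865728 [30, 31, 32, 33, 35] pt256c l289) (allL l289 fun p => subW 50465865728 p.2.1) = true := by decide +kernel
theorem chk291 : cover 6 [0] (l289) 0 = true := by decide +kernel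
theorem chk293 : subM 12884901888 15032385536 = true := by decide +kernel
theorem chk294 : band (fixL (fun c v => (app2 12 13 4) (pr2 6400 c) v) (keyL (app2 12 13 4) (fun x => x) om 2) R [32, 33] pt257c) (subM 12884901888 (insL [32, 33] 0)) = true := by decide +kernel
theorem chk300 : band (pieces (fun c v => (app2 12 13 4) (pr2 6400 c) v) (keyL (app2 12 13 4) (fun x => x) om 2) tab298 R 15032385536 [31, 32, 33] pt257c l299) (allL l299 fun p => subW 15032385536 p.2.1) = true := by decide +kernel
theorem chk301 : cover 3 [0] (l299) 0 = true := by decide +kernel
theorem chk303 : subM 8589934592 12884901888 = true := by decide +kernel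
theorem chk304 : band (fixL (fun c v => (app2 79 80 7) (pr1 6400 c) v) (fun x => x) R [33] pt258c) (subM 8589934592 (insL [33] 0)) = true := by decide +kernel
theorem chk310 : band (pieces (fun c v => (app2 79 80 7) (pr1 6400 c) v) (fun x => x) tab308 R 12884901888 [32, 33] pt258c l309) (allL l309 fun p => subW 12884901888 p.2.1) = true := by decide +kernel
theorem chk311 : cover 2 [0] (l309) 0 = true := by decide +kernel
theorem chk313 : subM 0 8589934592 = true := by decide +kernel
theorem chk314 : band (fixL (fun c v => (app2 12 13 4) (pr2 6400 c) v) (fun x => x) R [] pt259c) (subM 0 (insL [] 0)) = true := by decide +kernel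
theorem chk320 : band (pieces (fun c v => (app2 12 13 4) (pr2 6400 c) v) (fun x => x) tab318 R 8589934592 [33] pt259c l319) (allL l319 fun p => subW 8589934592 p.2.1) = true := by decide +kernel
theorem chk321 : cover 3 [0] (l319) 0 = true := by decide +kernel
theorem chk324 : band (conjA (prodOps 6400 (ops2 79) (ops2 12)) R 16368 3 l323) (subM 503316480 (insL l323 0)) = true := by decide +kernel
theorem chk326 : dcRel (prodOps 6400 (ops2 79) (ops2 12)) R 16368 16392 3 3 l325 = true := by decide +kernel
theorem chk331 : band (pieces (fun c v => (app2 12 13 4) (pr2 6400 c) v) (keyL (app2 12 13 4) (fun x => x) om 2) tab329 R 68685922304 [25, 26, 27, 28, 29, 30, 31, 32, 33, 34, 35] pt49c l330) (allL l330 fun p => subW 16368 p.2.1) = true := by decide +kernel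
theorem chk332 : cover 12 (List.map Prod.fst (l325)) (l330) 0 = true := by decide +kernel
theorem chk334 : allL (List.map Prod.fst (l325)) (subW 16368) = true := by decide +kernel
theorem chk369 : band (slp (prodOps 6400 (ops2 79) (ops2 12)) R l368 16368) (subM 481036337152 (insL l368 16368)) = true := by decide +kernel
theorem chk377 : band (slp (prodOps 6400 (ops2 79) (ops2 12)) R l376 481036337152) (subM 35115652612096 (insL l376 481036337152)) = true := by decide +kernel
theorem chk379 : subM 34634616274944 35115652612096 = true := by decide +kernel
theorem chk380 : band (fixL (fun c v => (app2 12 13 4) (pr2 6400 c) v) (keyL (app2 12 13 4) (fun x => x) om 2) R [39, 40, 41, 42, 43, 44] pt371c) (subM 34634616274944 (insL [39, 40, 41, 42, 43, 44] 0)) = true := by decide +kernel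
theorem chk386 : band (pieces (fun c v => (app2 12 13 4) (pr2 6400 c) v) (keyL (app2 12 13 4) (fun x => x) om 2) tab384 R 35115652612096 [36, 37, 38, 39, 40, 41, 42, 43, 44] pt371c l385) (allL l385 fun p => subW 35115652612096 p.2.1) = true := by decide +kernel
theorem chk387 : cover 3 [0] (l385) 0 = true := by decide +kernel
theorem chk389 : subM 34084860461056 34634616274944 = true := by decide +kernel
theorem chk390 : band (fixL (fun c v => (app2 12 13 4) (pr2 6400 c) v) (keyL (app2 12 13 4) (fun x => x) om 2) R [40, 41, 42, 43, 44] pt372c) (subM 34084860461056 (insL [40, 41, 42, 43, 44] 0)) = true := by decide +kernel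
theorem chk396 : band (pieces (fun c v => (app2 12 13 4) (pr2 6400 c) v) (keyL (app2 12 13 4) (fun x => x) om 2) tab394 R 34634616274944 [39, 40, 41, 42, 43, 44] pt372c l395) (allL l395 fun p => subW 34634616274944 p.2.1) = true := by decide +kernel
theorem chk397 : cover 3 [0] (l395) 0 = true := by decide +kernel
theorem chk399 : subM 26388279066624 34084860461056 = true := by decide +kernel
theorem chk400 : band (fixL (fun c v => (app2 79 80 7) (pr1 6400 c) v) (fun x => x) R [43, 44] pt373c) (subM 26388279066624 (insL [43, 44] 0)) = true := by decide +kernel
theorem chk406 : band (pieces (fun c v => (app2 79 80 7) (pr1 6400 c) v) (fun x => x) tab404 R 34084860461056 [40, 41, 42, 43, 44] pt373c l405) (allL l405 fun p => subW 34084860461056 p.2.1) = true := by decide +kernel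
theorem chk407 : cover 8 [0] (l405) 0 = true := by decide +kernel
theorem chk409 : subM 17592186044416 26388279066624 = true := by decide +kernel
theorem chk410 : band (fixL (fun c v => (app2 12 13 4) (pr2 6400 c) v) (fun x => x) R [44] pt374c) (subM 17592186044416 (insL [44] 0)) = true := by decide +kernel
theorem chk416 : band (pieces (fun c v => (app2 12 13 4) (pr2 6400 c) v) (fun x => x) tab414 R 26388279066624 [43, 44] pt374c l415) (allL l415 fun p => subW 26388279066624 p.2.1) = true := by decide +kernel
theorem chk417 : cover 3 [0] (l415) 0 = true := by decide +kernel
theorem chk419 : subM 0 17592186044416 = true := by decide +kernel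
theorem chk420 : band (fixL (fun c v => (app2 12 13 4) (pr2 6400 c) v) (keyL (app2 12 13 4) (fun x => x) om 2) R [] pt375c) (subM 0 (insL [] 0)) = true := by decide +kernel
theorem chk426 : band (pieces (fun c v => (app2 12 13 4) (pr2 6400 c) v) (keyL (app2 12 13 4) (fun x => x) om 2) tab424 R 17592186044416 [44] pt375c l425) (allL l425 fun p => subW 17592186044416 p.2.1) = true := by decide +kernel
theorem chk427 : cover 2 [0] (l425) 0 = true := by decide +kernel
theorem chk430 : band (conjA (prodOps 6400 (ops2 79) (ops2 12)) R 16368 14 l429) (subM 481036337152 (insL l429 0)) = true := by decide +kernel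
theorem chk432 : dcRel (prodOps 6400 (ops2 79) (ops2 12)) R 16368 16392 14 3 l431 = true := by decide +kernel
theorem chk437 : band (pieces (fun c v => (app2 12 13 4) (pr2 6400 c) v) (keyL (app2 12 13 4) (fun x => x) om 2) tab435 R 35115652612096 [36, 37, 38, 39, 40, 41, 42, 43, 44] pt49c l436) (allL l436 fun p => subW 16368 p.2.1) = true := by decide +kernel
theorem chk438 : cover 12 (List.map Prod.fst (l431)) (l436) 0 = true := by decide +kernel
theorem chk440 : allL (List.map Prod.fst (l431)) (subW 16368) = true := by decide +kernel
theorem chk441 : inDC (prodOps 6400 (ops2 79) (ops2 12)) R 16368 16392 (R 3) 0 3 = true := by decide +kernel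
theorem chk442 : subM 16380 16382 = true := by decide +kernel
theorem chk445 : band (slp (prodOps 6400 (ops2 79) (ops2 12)) R l444 32760) (subM 17979214137425912 (insL l444 32760)) = true := by decide +kernel
theorem chk447 : subM 16376 16380 = true := by decide +kernel
theorem chk448 : subM 17979214137425916 (Nat.lor 16380 17979214137425912) = true := by decide +kernel
theorem chk450 : band (slp (prodOps 6400 (ops2 79) (ops2 12)) R l449 17979214137425916) (subM 35993612646907900 (insL l449 17979214137425916)) = true := by decide +kernel
theorem chk452 : subM 18014398509481988 35993612646907900 = true := by decide +kernel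
theorem chk495 : band (slp (prodOps 6400 (ops2 79) (ops2 12)) R l494 17979214137425912) (subM 252201579132747776 (insL l494 17979214137425912)) = true := by decide +kernel
theorem chk505 : band (slp (prodOps 6400 (ops2 79) (ops2 12)) R l504 252201579132747776) (subM 73750947497819242496 (insL l504 252201579132747776)) = true := by decide +kernel
theorem chk507 : subM 73498745918686494720 73750947497819242496 = true := by decide +kernel
theorem chk508 : band (fixL (fun c v => (app2 12 13 4) (pr2 6400 c) v) (keyL (app2 12 13 4) (fun x => x) om 2) R [58, 59, 60, 61, 62, 63, 64, 65] pt497c) (subM 73498745918686494720 (insL [58, 59, 60, 61, 62, 63, 64, 65] 0)) = true := by decide +kernel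
theorem chk514 : band (pieces (fun c v => (app2 12 13 4) (pr2 6400 c) v) (keyL (app2 12 13 4) (fun x => x) om 2) tab512 R 73750947497819242496 [55, 56, 57, 58, 59, 60, 61, 62, 63, 64, 65] pt497c l513) (allL l513 fun p => subW 73750947497819242496 p.2.1) = true := by decide +kernel
theorem chk515 : cover 3 [0] (l513) 0 = true := by decide +kernel
theorem chk517 : subM 70904672533321089024 73498745918686494720 = true := by decide +kernel
theorem chk518 : band (fixL (fun c v => (app2 12 13 4) (pr2 6400 c) v) (keyL (app2 12 13 4) (fun x => x) om 2) R [59, 60, 62, 63, 64, 65] pt498c) (subM 70904672533321089024 (insL [59, 60, 62, 63, 64, 65] 0)) = true := by decide +kernel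
theorem chk524 : band (pieces (fun c v => (app2 12 13 4) (pr2 6400 c) v) (keyL (app2 12 13 4) (fun x => x) om 2) tab522 R 73498745918686494720 [58, 59, 60, 61, 62, 63, 64, 65] pt498c l523) (allL l523 fun p => subW 73498745918686494720 p.2.1) = true := by decide +kernel
theorem chk525 : cover 12 [0] (l523) 0 = true := by decide +kernel
theorem chk527 : subM 70328211781017665536 70904672533321089024 = true := by decide +kernel
theorem chk528 : band (fixL (fun c v => (app2 12 13 4) (pr2 6400 c) v) (keyL (app2 12 13 4) (fun x => x) om 2) R [60, 62, 63, 64, 65] pt499c) (subM 70328211781017665536 (insL [60, 62, 63, 64, 65] 0)) = true := by decide +kernel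
theorem chk534 : band (pieces (fun c v => (app2 12 13 4) (pr2 6400 c) v) (keyL (app2 12 13 4) (fun x => x) om 2) tab532 R 70904672533321089024 [59, 60, 62, 63, 64, 65] pt499c l533) (allL l533 fun p => subW 70904672533321089024 p.2.1) = true := by decide +kernel
theorem chk535 : cover 3 [0] (l533) 0 = true := by decide +kernel
theorem chk537 : subM 69175290276410818560 70328211781017665536 = true := by decide +kernel
theorem chk538 : band (fixL (fun c v => (app2 12 13 4) (pr2 6400 c) v) (keyL (app2 12 13 4) (fun x => x) om 2) R [62, 63, 64, 65] pt500c) (subM 69175290276410818560 (insL [62, 63, 64, 65] 0)) = true := by decide +kernel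
theorem chk544 : band (pieces (fun c v => (app2 12 13 4) (pr2 6400 c) v) (keyL (app2 12 13 4) (fun x => x) om 2) tab542 R 70328211781017665536 [60, 62, 63, 64, 65] pt500c l543) (allL l543 fun p => subW 70328211781017665536 p.2.1) = true := by decide +kernel
theorem chk545 : cover 3 [0] (l543) 0 = true := by decide +kernel
theorem chk547 : subM 55340232221128654848 69175290276410818560 = true := by decide +kernel
theorem chk548 : band (fixL (fun c v => (app2 12 13 4) (pr2 6400 c) v) (keyL (app2 12 13 4) (fun x => x) om 2) R [64, 65] pt501c) (subM 55340232221128654848 (insL [64, 65] 0)) = true := by decide +kernel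
theorem chk554 : band (pieces (fun c v => (app2 12 13 4) (pr2 6400 c) v) (keyL (app2 12 13 4) (fun x => x) om 2) tab552 R 69175290276410818560 [62, 63, 64, 65] pt501c l553) (allL l553 fun p => subW 69175290276410818560 p.2.1) = true := by decide +kernel
theorem chk555 : cover 6 [0] (l553) 0 = true := by decide +kernel
theorem chk557 : subM 36893488147419103232 55340232221128654848 = true := by decide +kernel
theorem chk558 : band (fixL (fun c v => (app2 79 80 7) (pr1 6400 c) v) (fun x => x) R [65] pt502c) (subM 36893488147419103232 (insL [65] 0)) = true := by decide +kernel
theorem chk564 : band (pieces (fun c v => (app2 79 80 7) (pr1 6400 c) v) (fun x => x) tab562 R 55340232221128654848 [64, 65] pt502c l563) (allL l563 fun p => subW 55340232221128654848 p.2.1) = true := by decide +kernel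
theorem chk565 : cover 2 [0] (l563) 0 = true := by decide +kernel
theorem chk567 : subM 0 36893488147419103232 = true := by decide +kernel
theorem chk568 : band (fixL (fun c v => (app2 12 13 4) (pr2 6400 c) v) (fun x => x) R [] pt503c) (subM 0 (insL [] 0)) = true := by decide +kernel
theorem chk574 : band (pieces (fun c v => (app2 12 13 4) (pr2 6400 c) v) (fun x => x) tab572 R 36893488147419103232 [65] pt503c l573) (allL l573 fun p => subW 36893488147419103232 p.2.1) = true := by decide +kernel
theorem chk575 : cover 3 [0] (l573) 0 = true := by decide +kernel
theorem chk578 : band (conjB (prodOps 6400 (ops2 79) (ops2 12)) R 17979214137425912 2 l577) (subM 252201579132747776 (insL l577 0)) = true := by decide +kernel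
theorem chk579 : band (fixL (fun c v => (app2 12 13 4) (pr2 6400 c) v) (keyL (app2 12 13 4) (fun x => x) om 2) R [55, 56, 57] pt443c) (subM 252201579132747776 (insL [55, 56, 57] 0)) = true := by decide +kernel
theorem chk616 : band (slp (prodOps 6400 (ops2 79) (ops2 12)) R l615 17979214137425912) (subM 516508834063867445248 (insL l615 17979214137425912)) = true := by decide +kernel
theorem chk626 : band (slp (prodOps 6400 (ops2 79) (ops2 12)) R l625 516508834063867445248) (subM 151041940475533808631808 (insL l625 516508834063867445248)) = true := by decide +kernel
theorem chk628 : subM 150525431641469941186560 151041940475533808631808 = true := by decide +kernel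
theorem chk629 : band (fixL (fun c v => (app2 12 13 4) (pr2 6400 c) v) (keyL (app2 12 13 4) (fun x => x) om 2) R [69, 70, 71, 72, 73, 74, 75, 76] pt618c) (subM 150525431641469941186560 (insL [69, 70, 71, 72, 73, 74, 75, 76] 0)) = true := by decide +kernel
theorem chk635 : band (pieces (fun c v => (app2 12 13 4) (pr2 6400 c) v) (keyL (app2 12 13 4) (fun x => x) om 2) tab633 R 151041940475533808631808 [66, 67, 68, 69, 70, 71, 72, 73, 74, 75, 76] pt618c l634) (allL l634 fun p => subW 151041940475533808631808 p.2.1) = true := by decide +kernel
theorem chk636 : cover 3 [0] (l634) 0 = true := by decide +kernel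
theorem chk638 : subM 147573952589676412928000 150525431641469941186560 = true := by decide +kernel
theorem chk639 : band (fixL (fun c v => (app2 12 13 4) (pr2 6400 c) v) (keyL (app2 12 13 4) (fun x => x) om 2) R [70, 72, 73, 74, 75, 76] pt619c) (subM 147573952589676412928000 (insL [70, 72, 73, 74, 75, 76] 0)) = true := by decide +kernel
theorem chk645 : band (pieces (fun c v => (app2 12 13 4) (pr2 6400 c) v) (keyL (app2 12 13 4) (fun x => x) om 2) tab643 R 150525431641469941186560 [69, 70, 71, 72, 73, 74, 75, 76] pt619c l644) (allL l644 fun p => subW 150525431641469941186560 p.2.1) = true := by decide +kernel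
theorem chk646 : cover 12 [0] (l644) 0 = true := by decide +kernel
theorem chk648 : subM 146393360968959001624576 147573952589676412928000 = true := by decide +kernel
theorem chk649 : band (fixL (fun c v => (app2 12 13 4) (pr2 6400 c) v) (keyL (app2 12 13 4) (fun x => x) om 2) R [72, 73, 74, 75, 76] pt620c) (subM 146393360968959001624576 (insL [72, 73, 74, 75, 76] 0)) = true := by decide +kernel
theorem chk655 : band (pieces (fun c v => (app2 12 13 4) (pr2 6400 c) v) (keyL (app2 12 13 4) (fun x => x) om 2) tab653 R 147573952589676412928000 [70, 72, 73, 74, 75, 76] pt620c l654) (allL l654 fun p => subW 147573952589676412928000 p.2.1) = true := by decide +kernel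
theorem chk656 : cover 2 [0] (l654) 0 = true := by decide +kernel
theorem chk658 : subM 141670994486089356410880 146393360968959001624576 = true := by decide +kernel
theorem chk659 : band (fixL (fun c v => (app2 12 13 4) (pr2 6400 c) v) (keyL (app2 12 13 4) (fun x => x) om 2) R [73, 74, 75, 76] pt621c) (subM 141670994486089356410880 (insL [73, 74, 75, 76] 0)) = true := by decide +kernel
theorem chk665 : band (pieces (fun c v => (app2 12 13 4) (pr2 6400 c) v) (keyL (app2 12 13 4) (fun x => x) om 2) tab663 R 146393360968959001624576 [72, 73, 74, 75, 76] pt621c l664) (allL l664 fun p => subW 146393360968959001624576 p.2.1) = true := by decide +kernel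
theorem chk666 : cover 3 [0] (l664) 0 = true := by decide +kernel
theorem chk668 : subM 132226261520350065983488 141670994486089356410880 = true := by decide +kernel
theorem chk669 : band (fixL (fun c v => (app2 12 13 4) (pr2 6400 c) v) (keyL (app2 12 13 4) (fun x => x) om 2) R [74, 75, 76] pt622c) (subM 132226261520350065983488 (insL [74, 75, 76] 0)) = true := by decide +kernel
theorem chk675 : band (pieces (fun c v => (app2 12 13 4) (pr2 6400 c) v) (keyL (app2 12 13 4) (fun x => x) om 2) tab673 R 141670994486089356410880 [73, 74, 75, 76] pt622c l674) (allL l674 fun p => subW 141670994486089356410880 p.2.1) = true := by decide +kernel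
theorem chk676 : cover 3 [0] (l674) 0 = true := by decide +kernel
theorem chk678 : subM 113336795588871485128704 132226261520350065983488 = true := by decide +kernel
theorem chk679 : band (fixL (fun c v => (app2 12 13 4) (pr2 6400 c) v) (fun x => x) R [75, 76] pt623c) (subM 113336795588871485128704 (insL [75, 76] 0)) = true := by decide +kernel
theorem chk685 : band (pieces (fun c v => (app2 12 13 4) (pr2 6400 c) v) (fun x => x) tab683 R 132226261520350065983488 [74, 75, 76] pt623c l684) (allL l684 fun p => subW 132226261520350065983488 p.2.1) = true := by decide +kernel
theorem chk686 : cover 3 [0] (l684) 0 = true := by decide +kernel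
theorem chk688 : subM 0 113336795588871485128704 = true := by decide +kernel
theorem chk689 : band (fixL (fun c v => (app2 79 80 7) (pr1 6400 c) v) (fun x => x) R [] pt624c) (subM 0 (insL [] 0)) = true := by decide +kernel
theorem chk695 : band (pieces (fun c v => (app2 79 80 7) (pr1 6400 c) v) (fun x => x) tab693 R 113336795588871485128704 [75, 76] pt624c l694) (allL l694 fun p => subW 113336795588871485128704 p.2.1) = true := by decide +kernel
theorem chk696 : cover 6 [0] (l694) 0 = true := by decide +kernel
theorem chk699 : band (conjA (prodOps 6400 (ops2 79) (ops2 12)) R 17979214137425912 2 l698) (subM 516508834063867445248 (insL l698 0)) = true := by decide +kernel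
theorem chk701 : dcRel (prodOps 6400 (ops2 79) (ops2 12)) R 17979214137425912 18014398509481988 2 2 l700 = true := by decide +kernel
theorem chk706 : band (pieces (fun c v => (app2 12 13 4) (pr2 6400 c) v) (keyL (app2 12 13 4) (fun x => x) om 2) tab704 R 151041940475533808631808 [66, 67, 68, 69, 70, 71, 72, 73, 74, 75, 76] pt443c l705) (allL l705 fun p => subW 17979214137425912 p.2.1) = true := by decide +kernel
theorem chk707 : cover 40 (List.map Prod.fst (l700)) (l705) 0 = true := by decide +kernel
theorem chk709 : allL (List.map Prod.fst (l700)) (subW 17979214137425912) = true := by decide +kernel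
theorem chk711 : band (slp (prodOps 6400 (ops2 79) (ops2 12)) R l710 17979214137425912) (subM 453347182355485940514816 (insL l710 17979214137425912)) = true := by decide +kernel
theorem chk718 : band (slp (prodOps 6400 (ops2 79) (ops2 12)) R l717 453347182355485940514816) (subM 38534510500216304943759360 (insL l717 453347182355485940514816)) = true := by decide +kernel
theorem chk720 : subM 38081163317860819003244544 38534510500216304943759360 = true := by decide +kernel
theorem chk721 : band (fixL (fun c v => (app2 12 13 4) (pr2 6400 c) v) (keyL (app2 12 13 4) (fun x => x) om 2) R [79, 80, 81, 82, 83, 84] pt713c) (subM 38081163317860819003244544 (insL [79, 80, 81, 82, 83, 84] 0)) = true := by decide +kernel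
theorem chk727 : band (pieces (fun c v => (app2 12 13 4) (pr2 6400 c) v) (keyL (app2 12 13 4) (fun x => x) om 2) tab725 R 38534510500216304943759360 [77, 78, 79, 80, 81, 82, 83, 84] pt713c l726) (allL l726 fun p => subW 38534510500216304943759360 p.2.1) = true := by decide +kernel
theorem chk728 : cover 3 [0] (l726) 0 = true := by decide +kernel
theorem chk730 : subM 25387442211907212668829696 38081163317860819003244544 = true := by decide +kernel
theorem chk731 : band (fixL (fun c v => (app2 79 80 7) (pr1 6400 c) v) (fun x => x) R [80, 82, 84] pt714c) (subM 25387442211907212668829696 (insL [80, 82, 84] 0)) = true := by decide +kernel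
theorem chk737 : band (pieces (fun c v => (app2 79 80 7) (pr1 6400 c) v) (fun x => x) tab735 R 38081163317860819003244544 [79, 80, 81, 82, 83, 84] pt714c l736) (allL l736 fun p => subW 38081163317860819003244544 p.2.1) = true := by decide +kernel
theorem chk738 : cover 96 [0] (l736) 0 = true := by decide +kernel
theorem chk740 : subM 4835703278458516698824704 25387442211907212668829696 = true := by decide +kernel
theorem chk741 : band (fixL (fun c v => (app2 12 13 4) (pr2 6400 c) v) (keyL (app2 12 13 4) (fun x => x) om 2) R [82] pt715c) (subM 4835703278458516698824704 (insL [82] 0)) = true := by decide +kernel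
theorem chk747 : band (pieces (fun c v => (app2 12 13 4) (pr2 6400 c) v) (keyL (app2 12 13 4) (fun x => x) om 2) tab745 R 25387442211907212668829696 [80, 82, 84] pt715c l746) (allL l746 fun p => subW 25387442211907212668829696 p.2.1) = true := by decide +kernel
theorem chk748 : cover 4 [0] (l746) 0 = true := by decide +kernel
theorem chk750 : subM 0 4835703278458516698824704 = true := by decide +kernel
theorem chk751 : band (fixL (fun c v => (app2 12 13 4) (pr2 6400 c) v) (fun x => x) R [] pt716c) (subM 0 (insL [] 0)) = true := by decide +kernel
theorem chk757 : band (pieces (fun c v => (app2 12 13 4) (pr2 6400 c) v) (fun x => x) tab755 R 4835703278458516698824704 [82] pt716c l756) (allL l756 fun p => subW 4835703278458516698824704 p.2.1) = true := by decide +kernel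
theorem chk758 : cover 3 [0] (l756) 0 = true := by decide +kernel
theorem chk761 : band (conjA (prodOps 6400 (ops2 79) (ops2 12)) R 17979214137425912 54 l760) (subM 453347182355485940514816 (insL l760 0)) = true := by decide +kernel
theorem chk763 : dcRel (prodOps 6400 (ops2 79) (ops2 12)) R 17979214137425912 18014398509481988 54 2 l762 = true := by decide +kernel
theorem chk768 : band (pieces (fun c v => (app2 12 13 4) (pr2 6400 c) v) (keyL (app2 12 13 4) (fun x => x) om 2) tab766 R 38534510500216304943759360 [77, 78, 79, 80, 81, 82, 83, 84] pt443c l767) (allL l767 fun p => subW 17979214137425912 p.2.1) = true := by decide +kernel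
theorem chk769 : cover 40 (List.map Prod.fst (l762)) (l767) 0 = true := by decide +kernel
theorem chk771 : allL (List.map Prod.fst (l762)) (subW 17979214137425912) = true := by decide +kernel
theorem chk772 : inDC (prodOps 6400 (ops2 79) (ops2 12)) R 17979214137425912 18014398509481988 (R 2) 0 2 = true := by decide +kernel
theorem chk775 : band (slp (prodOps 6400 (ops2 79) (ops2 12)) R l774 35993612646907900) (subM 316873964430865675853232111612 (insL l774 35993612646907900)) = true := by decide +kernel
theorem chk777 : subM 16380 16382 = true := by decide +kernel
theorem chk778 : subM 316873964430865675853232111614 (Nat.lor 16382 316873964430865675853232111612) = true := by decide +kernel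
theorem chk780 : band (slp (prodOps 6400 (ops2 79) (ops2 12)) R l779 316873964430865675853232111614) (subM 633786614487923026227407912958 (insL l779 316873964430865675853232111614)) = true := by decide +kernel
theorem chk782 : subM 316912650057057350374175801346 633786614487923026227407912958 = true := by decide +kernel
theorem chk813 : band (slp (prodOps 6400 (ops2 79) (ops2 12)) R l812 316873964430865675853232111612) (subM 1901475900342344102245054808064 (insL l812 316873964430865675853232111612)) = true := by decide +kernel
theorem chk823 : band (slp (prodOps 6400 (ops2 79) (ops2 12)) R l822 1901475900342344102245054808064) (subM 10383959891769541142360244306837504 (insL l822 1901475900342344102245054808064)) = true := by decide +kernel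
theorem chk825 : subM 10382058415869198798257999252029440 10383959891769541142360244306837504 = true := by decide +kernel
theorem chk826 : band (fixL (fun c v => (app2 12 13 4) (pr2 6400 c) v) (keyL (app2 12 13 4) (fun x => x) om 2) R [101, 102, 103, 104, 105, 106, 107, 108, 109, 110, 111, 112] pt815c) (subM 10382058415869198798257999252029440 (insL [101, 102, 103, 104, 105, 106, 107, 108, 109, 110, 111, 112] 0)) = true := by decide +kernel
theorem chk832 : band (pieces (fun c v => (app2 12 13 4) (pr2 6400 c) v) (keyL (app2 12 13 4) (fun x => x) om 2) tab830 R 10383959891769541142360244306837504 [99, 100, 101, 102, 103, 104, 105, 106, 107, 108, 109, 110, 111, 112] pt815c l831) (allL l831 fun p => subW 10383959891769541142360244306837504 p.2.1) = true := by decide +kernel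
theorem chk833 : cover 3 [0] (l831) 0 = true := by decide +kernel
theorem chk835 : subM 10379523114668742339455005845618688 10382058415869198798257999252029440 = true := by decide +kernel
theorem chk836 : band (fixL (fun c v => (app2 12 13 4) (pr2 6400 c) v) (fun x => x) R [102, 103, 104, 105, 106, 107, 108, 109, 110, 111, 112] pt816c) (subM 10379523114668742339455005845618688 (insL [102, 103, 104, 105, 106, 107, 108, 109, 110, 111, 112] 0)) = true := by decide +kernel
theorem chk842 : band (pieces (fun c v => (app2 12 13 4) (pr2 6400 c) v) (fun x => x) tab840 R 10382058415869198798257999252029440 [101, 102, 103, 104, 105, 106, 107, 108, 109, 110, 111, 112] pt816c l841) (allL l841 fun p => subW 10382058415869198798257999252029440 p.2.1) = true := by decide +kernel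
theorem chk843 : cover 3 [0] (l841) 0 = true := by decide +kernel
theorem chk845 : subM 10344028897862351916213098155868160 10379523114668742339455005845618688 = true := by decide +kernel
theorem chk846 : band (fixL (fun c v => (app2 12 13 4) (pr2 6400 c) v) (keyL (app2 12 13 4) (fun x => x) om 2) R [105, 106, 107, 108, 109, 110, 111, 112] pt817c) (subM 10344028897862351916213098155868160 (insL [105, 106, 107, 108, 109, 110, 111, 112] 0)) = true := by decide +kernel
theorem chk852 : band (pieces (fun c v => (app2 12 13 4) (pr2 6400 c) v) (keyL (app2 12 13 4) (fun x => x) om 2) tab850 R 10379523114668742339455005845618688 [102, 103, 104, 105, 106, 107, 108, 109, 110, 111, 112] pt817c l851) (allL l851 fun p => subW 10379523114668742339455005845618688 p.2.1) = true := by decide +kernel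
theorem chk853 : cover 40 [0] (l851) 0 = true := by decide +kernel
theorem chk855 : subM 10222334440240441893669414648152064 10344028897862351916213098155868160 = true := by decide +kernel
theorem chk856 : band (fixL (fun c v => (app2 12 13 4) (pr2 6400 c) v) (keyL (app2 12 13 4) (fun x => x) om 2) R [107, 108, 109, 110, 111, 112] pt818c) (subM 10222334440240441893669414648152064 (insL [107, 108, 109, 110, 111, 112] 0)) = true := by decide +kernel
theorem chk862 : band (pieces (fun c v => (app2 12 13 4) (pr2 6400 c) v) (keyL (app2 12 13 4) (fun x => x) om 2) tab860 R 10344028897862351916213098155868160 [105, 106, 107, 108, 109, 110, 111, 112] pt818c l861) (allL l861 fun p => subW 10344028897862351916213098155868160 p.2.1) = true := by decide +kernel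
theorem chk863 : cover 9 [0] (l861) 0 = true := by decide +kernel
theorem chk865 : subM 9735556609752801803494680617287680 10222334440240441893669414648152064 = true := by decide +kernel
theorem chk866 : band (fixL (fun c v => (app2 12 13 4) (pr2 6400 c) v) (keyL (app2 12 13 4) (fun x => x) om 2) R [109, 110, 111, 112] pt819c) (subM 9735556609752801803494680617287680 (insL [109, 110, 111, 112] 0)) = true := by decide +kernel
theorem chk872 : band (pieces (fun c v => (app2 12 13 4) (pr2 6400 c) v) (keyL (app2 12 13 4) (fun x => x) om 2) tab870 R 10222334440240441893669414648152064 [107, 108, 109, 110, 111, 112] pt819c l871) (allL l871 fun p => subW 10222334440240441893669414648152064 p.2.1) = true := by decide +kernel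
theorem chk873 : cover 4 [0] (l871) 0 = true := by decide +kernel
theorem chk875 : subM 3894222643901120721397872246915072 9735556609752801803494680617287680 = true := by decide +kernel
theorem chk876 : band (fixL (fun c v => (app2 12 13 4) (pr2 6400 c) v) (keyL (app2 12 13 4) (fun x => x) om 2) R [110, 111] pt820c) (subM 3894222643901120721397872246915072 (insL [110, 111] 0)) = true := by decide +kernel
theorem chk882 : band (pieces (fun c v => (app2 12 13 4) (pr2 6400 c) v) (keyL (app2 12 13 4) (fun x => x) om 2) tab880 R 9735556609752801803494680617287680 [109, 110, 111, 112] pt820c l881) (allL l881 fun p => subW 9735556609752801803494680617287680 p.2.1) = true := by decide +kernel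
theorem chk883 : cover 6 [0] (l881) 0 = true := by decide +kernel
theorem chk885 : subM 0 3894222643901120721397872246915072 = true := by decide +kernel
theorem chk886 : band (fixL (fun c v => (app2 79 80 7) (pr1 6400 c) v) (fun x => x) R [] pt821c) (subM 0 (insL [] 0)) = true := by decide +kernel
theorem chk892 : band (pieces (fun c v => (app2 79 80 7) (pr1 6400 c) v) (fun x => x) tab890 R 3894222643901120721397872246915072 [110, 111] pt821c l891) (allL l891 fun p => subW 3894222643901120721397872246915072 p.2.1) = true := by decide +kernel
theorem chk893 : cover 6 [0] (l891) 0 = true := by decide +kernel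
theorem chk896 : band (conjB (prodOps 6400 (ops2 79) (ops2 12)) R 316873964430865675853232111612 1 l895) (subM 1901475900342344102245054808064 (insL l895 0)) = true := by decide +kernel
theorem chk897 : band (fixL (fun c v => (app2 12 13 4) (pr2 6400 c) v) (keyL (app2 12 13 4) (fun x => x) om 2) R [99, 100] pt773c) (subM 1901475900342344102245054808064 (insL [99, 100] 0)) = true := by decide +kernel
theorem chk908 : band (slp (prodOps 6400 (ops2 79) (ops2 12)) R l907 316873964430865675853232111612) (subM 31153781151208965771182977975320576 (insL l907 316873964430865675853232111612)) = true := by decide +kernel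
theorem chk918 : band (slp (prodOps 6400 (ops2 79) (ops2 12)) R l917 31153781151208965771182977975320576) (subM 42524911271400238277664764936312586240 (insL l917 31153781151208965771182977975320576)) = true := by decide +kernel
theorem chk920 : subM 42493757490249029311893581958337265664 42524911271400238277664764936312586240 = true := by decide +kernel
theorem chk921 : band (fixL (fun c v => (app2 12 13 4) (pr2 6400 c) v) (fun x => x) R [115, 116, 117, 118, 119, 120, 121, 122, 123, 124] pt910c) (subM 42493757490249029311893581958337265664 (insL [115, 116, 117, 118, 119, 120, 121, 122, 123, 124] 0)) = true := by decide +kernel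
theorem chk927 : band (pieces (fun c v => (app2 12 13 4) (pr2 6400 c) v) (fun x => x) tab925 R 42524911271400238277664764936312586240 [113, 114, 115, 116, 117, 118, 119, 120, 121, 122, 123, 124] pt910c l926) (allL l926 fun p => subW 42524911271400238277664764936312586240 p.2.1) = true := by decide +kernel
theorem chk928 : cover 3 [0] (l926) 0 = true := by decide +kernel
theorem chk930 : subM 41953758616961407238526410340098375680 42493757490249029311893581958337265664 = true := by decide +kernel
theorem chk931 : band (fixL (fun c v => (app2 12 13 4) (pr2 6400 c) v) (keyL (app2 12 13 4) (fun x => x) om 2) R [116, 119, 120, 121, 122, 123, 124] pt911c) (subM 41953758616961407238526410340098375680 (insL [116, 119, 120, 121, 122, 123, 124] 0)) = true := by decide +kernel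
theorem chk937 : band (pieces (fun c v => (app2 12 13 4) (pr2 6400 c) v) (keyL (app2 12 13 4) (fun x => x) om 2) tab935 R 42493757490249029311893581958337265664 [115, 116, 117, 118, 119, 120, 121, 122, 123, 124] pt911c l936) (allL l936 fun p => subW 42493757490249029311893581958337265664 p.2.1) = true := by decide +kernel
theorem chk938 : cover 40 [0] (l936) 0 = true := by decide +kernel
theorem chk940 : subM 41206067869332392060018018868690681856 41953758616961407238526410340098375680 = true := by decide +kernel
theorem chk941 : band (fixL (fun c v => (app2 12 13 4) (pr2 6400 c) v) (keyL (app2 12 13 4) (fun x => x) om 2) R [120, 121, 122, 123, 124] pt912c) (subM 41206067869332392060018018868690681856 (insL [120, 121, 122, 123, 124] 0)) = true := by decide +kernel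
theorem chk947 : band (pieces (fun c v => (app2 12 13 4) (pr2 6400 c) v) (keyL (app2 12 13 4) (fun x => x) om 2) tab945 R 41953758616961407238526410340098375680 [116, 119, 120, 121, 122, 123, 124] pt912c l946) (allL l946 fun p => subW 41953758616961407238526410340098375680 p.2.1) = true := by decide +kernel
theorem chk948 : cover 27 [0] (l946) 0 = true := by decide +kernel
theorem chk950 : subM 37218383881977644441306597687849648128 41206067869332392060018018868690681856 = true := by decide +kernel
theorem chk951 : band (fixL (fun c v => (app2 12 13 4) (pr2 6400 c) v) (keyL (app2 12 13 4) (fun x => x) om 2) R [122, 123, 124] pt913c) (subM 37218383881977644441306597687849648128 (insL [122, 123, 124] 0)) = true := by decide +kernel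
theorem chk957 : band (pieces (fun c v => (app2 12 13 4) (pr2 6400 c) v) (keyL (app2 12 13 4) (fun x => x) om 2) tab955 R 41206067869332392060018018868690681856 [120, 121, 122, 123, 124] pt913c l956) (allL l956 fun p => subW 41206067869332392060018018868690681856 p.2.1) = true := by decide +kernel
theorem chk958 : cover 8 [0] (l956) 0 = true := by decide +kernel
theorem chk960 : subM 31901471898837980949691369446728269824 37218383881977644441306597687849648128 = true := by decide +kernel
theorem chk961 : band (fixL (fun c v => (app2 12 13 4) (pr2 6400 c) v) (keyL (app2 12 13 4) (fun x => x) om 2) R [123, 124] pt914c) (subM 31901471898837980949691369446728269824 (insL [123, 124] 0)) = true := by decide +kernel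
theorem chk967 : band (pieces (fun c v => (app2 12 13 4) (pr2 6400 c) v) (keyL (app2 12 13 4) (fun x => x) om 2) tab965 R 37218383881977644441306597687849648128 [122, 123, 124] pt914c l966) (allL l966 fun p => subW 37218383881977644441306597687849648128 p.2.1) = true := by decide +kernel
theorem chk968 : cover 3 [0] (l966) 0 = true := by decide +kernel
theorem chk970 : subM 21267647932558653966460912964485513216 31901471898837980949691369446728269824 = true := by decide +kernel
theorem chk971 : band (fixL (fun c v => (app2 12 13 4) (pr2 6400 c) v) (keyL (app2 12 13 4) (fun x => x) om 2) R [124] pt915c) (subM 21267647932558653966460912964485513216 (insL [124] 0)) = true := by decide +kernel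
theorem chk977 : band (pieces (fun c v => (app2 12 13 4) (pr2 6400 c) v) (keyL (app2 12 13 4) (fun x => x) om 2) tab975 R 31901471898837980949691369446728269824 [123, 124] pt915c l976) (allL l976 fun p => subW 31901471898837980949691369446728269824 p.2.1) = true := by decide +kernel
theorem chk978 : cover 3 [0] (l976) 0 = true := by decide +kernel
theorem chk980 : subM 0 21267647932558653966460912964485513216 = true := by decide +kernel
theorem chk981 : band (fixL (fun c v => (app2 79 80 7) (pr1 6400 c) v) (fun x => x) R [] pt916c) (subM 0 (insL [] 0)) = true := by decide +kernel
theorem chk987 : band (pieces (fun c v => (app2 79 80 7) (pr1 6400 c) v) (fun x => x) tab985 R 21267647932558653966460912964485513216 [124] pt916c l986) (allL l986 fun p => subW 21267647932558653966460912964485513216 p.2.1) = true := by decide +kernel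
theorem chk988 : cover 2 [0] (l986) 0 = true := by decide +kernel
theorem chk991 : band (conjA (prodOps 6400 (ops2 79) (ops2 12)) R 316873964430865675853232111612 1 l990) (subM 31153781151208965771182977975320576 (insL l990 0)) = true := by decide +kernel
theorem chk993 : dcRel (prodOps 6400 (ops2 79) (ops2 12)) R 316873964430865675853232111612 316912650057057350374175801346 1 1 l992 = true := by decide +kernel
theorem chk998 : band (pieces (fun c v => (app2 12 13 4) (pr2 6400 c) v) (keyL (app2 12 13 4) (fun x => x) om 2) tab996 R 42524911271400238277664764936312586240 [113, 114, 115, 116, 117, 118, 119, 120, 121, 122, 123, 124] pt773c l997) (allL l997 fun p => subW 316873964430865675853232111612 p.2.1) = true := by decide +kernel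
theorem chk999 : cover 176 (List.map Prod.fst (l992)) (l997) 0 = true := by decide +kernel
theorem chk1001 : allL (List.map Prod.fst (l992)) (subW 316873964430865675853232111612) = true := by decide +kernel
theorem chk1045 : band (slp (prodOps 6400 (ops2 79) (ops2 12)) R l1044 316873964430865675853232111612) (subM 297747071055821155530452781502797185024 (insL l1044 316873964430865675853232111612)) = true := by decide +kernel
theorem chk1053 : band (slp (prodOps 6400 (ops2 79) (ops2 12)) R l1052 297747071055821155530452781502797185024) (subM 174182036567655375985314877179136353239040 (insL l1052 297747071055821155530452781502797185024)) = true := by decide +kernel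
theorem chk1055 : subM 173884289496599554829784424397633556054016 174182036567655375985314877179136353239040 = true := by decide +kernel
theorem chk1056 : band (fixL (fun c v => (app2 12 13 4) (pr2 6400 c) v) (fun x => x) R [128, 129, 130, 131, 132, 133, 134, 135, 136] pt1047c) (subM 173884289496599554829784424397633556054016 (insL [128, 129, 130, 131, 132, 133, 134, 135, 136] 0)) = true := by decide +kernel
theorem chk1062 : band (pieces (fun c v => (app2 12 13 4) (pr2 6400 c) v) (fun x => x) tab1060 R 174182036567655375985314877179136353239040 [125, 126, 127, 128, 129, 130, 131, 132, 133, 134, 135, 136] pt1047c l1061) (allL l1061 fun p => subW 174182036567655375985314877179136353239040 p.2.1) = true := by decide +kernel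
theorem chk1063 : cover 3 [0] (l1061) 0 = true := by decide +kernel
theorem chk1065 : subM 172182877661994862512467551360474714996736 173884289496599554829784424397633556054016 = true := by decide +kernel
theorem chk1066 : band (fixL (fun c v => (app2 12 13 4) (pr2 6400 c) v) (keyL (app2 12 13 4) (fun x => x) om 2) R [129, 131, 132, 133, 134, 135, 136] pt1048c) (subM 172182877661994862512467551360474714996736 (insL [129, 131, 132, 133, 134, 135, 136] 0)) = true := by decide +kernel
theorem chk1072 : band (pieces (fun c v => (app2 12 13 4) (pr2 6400 c) v) (keyL (app2 12 13 4) (fun x => x) om 2) tab1070 R 173884289496599554829784424397633556054016 [128, 129, 130, 131, 132, 133, 134, 135, 136] pt1048c l1071) (allL l1071 fun p => subW 173884289496599554829784424397633556054016 p.2.1) = true := by decide +kernel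
theorem chk1073 : cover 36 [0] (l1071) 0 = true := by decide +kernel
theorem chk1075 : subM 163335536122050462462419811567248741498880 172182877661994862512467551360474714996736 = true := by decide +kernel
theorem chk1076 : band (fixL (fun c v => (app2 12 13 4) (pr2 6400 c) v) (keyL (app2 12 13 4) (fun x => x) om 2) R [133, 134, 135, 136] pt1049c) (subM 163335536122050462462419811567248741498880 (insL [133, 134, 135, 136] 0)) = true := by decide +kernel
theorem chk1082 : band (pieces (fun c v => (app2 12 13 4) (pr2 6400 c) v) (keyL (app2 12 13 4) (fun x => x) om 2) tab1080 R 172182877661994862512467551360474714996736 [129, 131, 132, 133, 134, 135, 136] pt1049c l1081) (allL l1081 fun p => subW 172182877661994862512467551360474714996736 p.2.1) = true := by decide +kernel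
theorem chk1083 : cover 96 [0] (l1081) 0 = true := by decide +kernel
theorem chk1085 : subM 43556142965880123323311949751266331066368 163335536122050462462419811567248741498880 = true := by decide +kernel
theorem chk1086 : band (fixL (fun c v => (app2 12 13 4) (pr2 6400 c) v) (keyL (app2 12 13 4) (fun x => x) om 2) R [135] pt1050c) (subM 43556142965880123323311949751266331066368 (insL [135] 0)) = true := by decide +kernel
theorem chk1092 : band (pieces (fun c v => (app2 12 13 4) (pr2 6400 c) v) (keyL (app2 12 13 4) (fun x => x) om 2) tab1090 R 163335536122050462462419811567248741498880 [133, 134, 135, 136] pt1050c l1091) (allL l1091 fun p => subW 163335536122050462462419811567248741498880 p.2.1) = true := by decide +kernel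
theorem chk1093 : cover 8 [0] (l1091) 0 = true := by decide +kernel
theorem chk1095 : subM 0 43556142965880123323311949751266331066368 = true := by decide +kernel
theorem chk1096 : band (fixL (fun c v => (app2 79 80 7) (pr1 6400 c) v) (fun x => x) R [] pt1051c) (subM 0 (insL [] 0)) = true := by decide +kernel
theorem chk1102 : band (pieces (fun c v => (app2 79 80 7) (pr1 6400 c) v) (fun x => x) tab1100 R 43556142965880123323311949751266331066368 [135] pt1051c l1101) (allL l1101 fun p => subW 43556142965880123323311949751266331066368 p.2.1) = true := by decide +kernel
theorem chk1103 : cover 2 [0] (l1101) 0 = true := by decide +kernel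
theorem chk1106 : band (conjA (prodOps 6400 (ops2 79) (ops2 12)) R 316873964430865675853232111612 98 l1105) (subM 297747071055821155530452781502797185024 (insL l1105 0)) = true := by decide +kernel
theorem chk1108 : dcRel (prodOps 6400 (ops2 79) (ops2 12)) R 316873964430865675853232111612 316912650057057350374175801346 98 1 l1107 = true := by decide +kernel
theorem chk1113 : band (pieces (fun c v => (app2 12 13 4) (pr2 6400 c) v) (keyL (app2 12 13 4) (fun x => x) om 2) tab1111 R 174182036567655375985314877179136353239040 [125, 126, 127, 128, 129, 130, 131, 132, 133, 134, 135, 136] pt773c l1112) (allL l1112 fun p => subW 316873964430865675853232111612 p.2.1) = true := by decide +kernel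
theorem chk1114 : cover 176 (List.map Prod.fst (l1107)) (l1112) 0 = true := by decide +kernel
theorem chk1116 : allL (List.map Prod.fst (l1107)) (subW 316873964430865675853232111612) = true := by decide +kernel
theorem chk1117 : inDC (prodOps 6400 (ops2 79) (ops2 12)) R 316873964430865675853232111612 316912650057057350374175801346 (R 1) 0 1 = true := by decide +kernel
theorem chk1119 : band (maxChk (prodOps 6400 (ops2 79) (ops2 12)) R 316873964430865675853232111612 16382 l1118) (subM 316912650057057350374175801346 (insL (l1118.map Prod.fst) 0)) = true := by decide +kernel
theorem chk1120 : allL l1118 (fun p => Nat.blt p.1 1024) = true := by decide +kernel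
theorem chk1123 : band (slp (prodOps 6400 (ops2 79) (ops2 12)) R l1122 633786614487923026227407912958) (subM 1219572003045277239667222516061684677771262 (insL l1122 633786614487923026227407912958)) = true := by decide +kernel
theorem chk1126 : subW 1219572003045277239667222516061684677771262 1276682394666123 = true := by decide +kernel
theorem chk1128 : subW 1219572003045277239667222516061684677771262 1127000637965450 = true := by decide +kernel
theorem chk1130 : subW 1219572003045277239667222516061684677771262 1127147596032139 = true := by decide +kernel
theorem chk1132 : subW 1219572003045277239667222516061684677771262 1307320574332109963 = true := by decide +kernel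
theorem chk1136 : band (slp (prodOps 6400 (ops2 79) (ops2 12)) R l1135 316873964430865675853232111612) (subM 11416587745072771201393906204069596421699960828 (insL l1135 316873964430865675853232111612)) = true := by decide +kernel
theorem chk1138 : subM 11412406355348046392680903826027799000685477888 11416587745072771201393906204069596421699960828 = true := by decide +kernel
theorem chk1139 : band (fixL (fun c v => (app2 12 13 4) (pr2 6400 c) v) (keyL (app2 12 13 4) (fun x => x) om 2) R [142, 143, 144, 145, 146, 147, 148, 149, 150, 151, 152] pt1125c) (subM 11412406355348046392680903826027799000685477888 (insL [142, 143, 144, 145, 146, 147, 148, 149, 150, 151, 152] 0)) = true := by decide +kernel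
theorem chk1145 : band (pieces (fun c v => (app2 12 13 4) (pr2 6400 c) v) (keyL (app2 12 13 4) (fun x => x) om 2) tab1143 R 11416587745072771201393906204069596421699960828 [4, 5, 6, 140, 141, 142, 143, 144, 145, 146, 147, 148, 149, 150, 151, 152] pt1125c l1144) (allL l1144 fun p => subW 11416587745072771201393906204069596421699960828 p.2.1) = true := by decide +kernel
theorem chk1146 : cover 176 [0] (l1144) 0 = true := by decide +kernel
theorem chk1148 : subM 11328778560853556555900144882505367645038051328 11412406355348046392680903826027799000685477888 = true := by decide +kernel
theorem chk1149 : band (fixL (fun c v => (app2 12 13 4) (pr2 6400 c) v) (keyL (app2 12 13 4) (fun x => x) om 2) R [146, 147, 148, 149, 150, 151, 152] pt1127c) (subM 11328778560853556555900144882505367645038051328 (insL [146, 147, 148, 149, 150, 151, 152] 0)) = true := by decide +kernel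
theorem chk1155 : band (pieces (fun c v => (app2 12 13 4) (pr2 6400 c) v) (keyL (app2 12 13 4) (fun x => x) om 2) tab1153 R 11412406355348046392680903826027799000685477888 [142, 143, 144, 145, 146, 147, 148, 149, 150, 151, 152] pt1127c l1154) (allL l1154 fun p => subW 11412406355348046392680903826027799000685477888 p.2.1) = true := by decide +kernel
theorem chk1156 : cover 360 [0] (l1154) 0 = true := by decide +kernel
theorem chk1158 : subM 10347545772118209137672573278508839738774913024 11328778560853556555900144882505367645038051328 = true := by decide +kernel
theorem chk1159 : band (fixL (fun c v => (app2 12 13 4) (pr2 6400 c) v) (keyL (app2 12 13 4) (fun x => x) om 2) R [148, 150, 151, 152] pt1129c) (subM 10347545772118209137672573278508839738774913024 (insL [148, 150, 151, 152] 0)) = true := by decide +kernel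
theorem chk1165 : band (pieces (fun c v => (app2 12 13 4) (pr2 6400 c) v) (keyL (app2 12 13 4) (fun x => x) om 2) tab1163 R 11328778560853556555900144882505367645038051328 [146, 147, 148, 149, 150, 151, 152] pt1129c l1164) (allL l1164 fun p => subW 11328778560853556555900144882505367645038051328 p.2.1) = true := by decide +kernel
theorem chk1166 : cover 36 [0] (l1164) 0 = true := by decide +kernel
theorem chk1168 : subM 8563486156235759286349715816696970818296479744 10347545772118209137672573278508839738774913024 = true := by decide +kernel
theorem chk1169 : band (fixL (fun c v => (app2 12 13 4) (pr2 6400 c) v) (keyL (app2 12 13 4) (fun x => x) om 2) R [151, 152] pt1131c) (subM 8563486156235759286349715816696970818296479744 (insL [151, 152] 0)) = true := by decide +kernel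
theorem chk1175 : band (pieces (fun c v => (app2 12 13 4) (pr2 6400 c) v) (keyL (app2 12 13 4) (fun x => x) om 2) tab1173 R 10347545772118209137672573278508839738774913024 [148, 150, 151, 152] pt1131c l1174) (allL l1174 fun p => subW 10347545772118209137672573278508839738774913024 p.2.1) = true := by decide +kernel
theorem chk1176 : cover 6 [0] (l1174) 0 = true := by decide +kernel
theorem chk1178 : subM 5708990770823839524233143877797980545530986496 8563486156235759286349715816696970818296479744 = true := by decide +kernel
theorem chk1179 : band (fixL (fun c v => (app2 12 13 4) (pr2 6400 c) v) (fun x => x) R [152] pt1133c) (subM 5708990770823839524233143877797980545530986496 (insL [152] 0)) = true := by decide +kernel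
theorem chk1185 : band (pieces (fun c v => (app2 12 13 4) (pr2 6400 c) v) (fun x => x) tab1183 R 8563486156235759286349715816696970818296479744 [151, 152] pt1133c l1184) (allL l1184 fun p => subW 8563486156235759286349715816696970818296479744 p.2.1) = true := by decide +kernel
theorem chk1186 : cover 3 [0] (l1184) 0 = true := by decide +kernel
theorem chk1188 : subM 0 5708990770823839524233143877797980545530986496 = true := by decide +kernel
theorem chk1189 : band (fixL (fun c v => (app2 79 80 7) (pr1 6400 c) v) (fun x => x) R [] pt1134c) (subM 0 (insL [] 0)) = true := by decide +kernel
theorem chk1195 : band (pieces (fun c v => (app2 79 80 7) (pr1 6400 c) v) (fun x => x) tab1193 R 5708990770823839524233143877797980545530986496 [152] pt1134c l1194) (allL l1194 fun p => subW 5708990770823839524233143877797980545530986496 p.2.1) = true := by decide +kernel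
theorem chk1196 : cover 2 [0] (l1194) 0 = true := by decide +kernel
theorem chk1202 : band (pieces (fun c v => (app2 12 13 4) (pr2 6400 c) v) (keyL (app2 12 13 4) (fun x => x) om 2) tab1200 R 1219572003045277239667222516061684677771262 [137, 138, 1, 139] pt1121c l1201) (allL l1201 fun p => subW 1219572003045277239667222516061684677771262 p.2.1) = true := by decide +kernel
theorem chk1203 : cover 672 [0] (l1201) 0 = true := by decide +kernel
theorem chk1205 : band (fixL (fun c v => (app2 12 13 4) (pr2 6400 c) v) (keyL (app2 12 13 4) (fun x => x) om 2) R [4, 5, 6, 7, 8, 9, 10, 11, 12, 13, 3, 2] pt1121c) (subM 16380 (insL [4, 5, 6, 7, 8, 9, 10, 11, 12, 13, 3, 2] 0)) = true := by decide +kernel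
theorem chk1207 : subM 16380 1219572003045277239667222516061684677771262 = true := by decide +kernel
theorem chk1208 : subM 16380 1219572003045277239667222516061684677771262 = true := by decide +kernel
theorem chk1209 : subM 11417807317075816161759608995719982253145620478 (Nat.lor 1219572003045277239667222516061684677771262 11416587745072771201393906204069596421699960828) = true := by decide +kernel
theorem chk1211 : band (slp (prodOps 6400 (ops2 79) (ops2 12)) R l1210 11417807317075816161759608995719982253145620478) (subM 22835788858723495210225896751315943344207593470 (insL l1210 11417807317075816161759608995719982253145620478)) = true := by decide +kernel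
theorem chk1214 : band (slp (prodOps 6400 (ops2 79) (ops2 12)) R l1213 22835788858723495210225896751315943344207593470) (subM 91343678108609569501023623284891709890579431422 (insL l1213 22835788858723495210225896751315943344207593470)) = true := by decide +kernel
theorem chk1216 : subM 68507889249886074290797726533575766546371837952 91343678108609569501023623284891709890579431422 = true := by decide +kernel
theorem chk1218 : band (nconj (prodOps 6400 (ops2 79) (ops2 12)) R 91343678108609569501023623284891709890579431422 (ins 0 153) l1217) (subM 68507889249886074290797726533575766546371837952 (insL l1217 (ins 0 153))) = true := by decide +kernel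
theorem chk1220 : band (ncop (prodOps 6400 (ops2 79) (ops2 12)) R 91343678108609569501023623284891709890579431422 79925870791533753339264014289171727637433810944 l1219) (subM 16382 (insL (l1219.map Prod.fst) 79925870791533753339264014289171727637433810944)) = true := by decide +kernel
theorem chk1221 : band (Nat.beq (powC (prodOps 6400 (ops2 79) (ops2 12)) (R 153) 7) (prodOps 6400 (ops2 79) (ops2 12)).one) (bnot (Nat.beq (R 153) (prodOps 6400 (ops2 79) (ops2 12)).one)) = true := by decide +kernel
theorem chk1222 : subM 16380 91343678108609569501023623284891709890579431422 = true := by decide +kernel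
theorem chk1224 : band (slp (prodOps 6400 (ops2 79) (ops2 12)) R l1223 91343678108609569501023623284891709890579431422) (subM 365375235108153866664214529419194776076066783230 (insL l1223 91343678108609569501023623284891709890579431422)) = true := by decide +kernel
theorem chk1226 : band (commL (prodOps 6400 (ops2 79) (ops2 12)) R 151 [4, 5, 6, 7, 8, 9, 10, 11, 12, 13, 3, 2, 1]) (subM 16382 (insL [4, 5, 6, 7, 8, 9, 10, 11, 12, 13, 3, 2, 1] 0)) = true := by decide +kernel
theorem chk1227 : band (commL (prodOps 6400 (ops2 79) (ops2 12)) R 152 [4, 5, 6, 7, 8, 9, 10, 11, 12, 13, 3, 2, 1]) (subM 16382 (insL [4, 5, 6, 7, 8, 9, 10, 11, 12, 13, 3, 2, 1] 0)) = true := by decide +kernel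
theorem chk1228 : band (Nat.beq (powC (prodOps 6400 (ops2 79) (ops2 12)) (R 156) 3) (prodOps 6400 (ops2 79) (ops2 12)).one) (bnot (Nat.beq (R 156) (prodOps 6400 (ops2 79) (ops2 12)).one)) = true := by decide +kernel
theorem chk1229 : band (Nat.beq (powC (prodOps 6400 (ops2 79) (ops2 12)) (R 157) 2) (prodOps 6400 (ops2 79) (ops2 12)).one) (bnot (Nat.beq (R 157) (prodOps 6400 (ops2 79) (ops2 12)).one)) = true := by decide +kernel
theorem chk1231 : band (slp (ops2 12) R2 l1230 91343852333181432387730302044767688728495783936) (subM 8563486156235759286349715816696970818296479744 (insL l1230 91343852333181432387730302044767688728495783936)) = true := by decide +kernel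
theorem chk1233 : band (commL (ops2 12) R2 156 [4, 5, 6, 7, 8, 9, 10, 11, 12, 13, 3, 2, 1]) (subM 16382 (insL [4, 5, 6, 7, 8, 9, 10, 11, 12, 13, 3, 2, 1] 0)) = true := by decide +kernel
theorem chk1234 : bnot (Nat.beq ((ops2 12).mul (R2 1) (R2 2)) ((ops2 12).mul (R2 2) (R2 1))) = true := by decide +kernel
theorem chk1235 : band (Nat.beq (powC (ops2 12) (R2 156) 3) (ops2 12).one) (bnot (Nat.beq (R2 156) (ops2 12).one)) = true := by decide +kernel
theorem chk1245 : band (slp (ops2 12) R2 l1244 91343852333181432387730302044767688728495800318) (subM 2992881321696689632183983346496813321189164360679422 (insL l1244 91343852333181432387730302044767688728495800318)) = true := by decide +kernel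
theorem chk1247 : subM 2992789977844356450751595616194768553500435864879104 2992881321696689632183983346496813321189164360679422 = true := by decide +kernel
theorem chk1248 : band (fixL (app2 12 13 4) (keyL (app2 12 13 4) (fun x => x) om 2) R2 [158, 159, 160, 161, 162, 163, 164, 165, 166, 167, 168, 169, 170] pt1236c) (subM 2992789977844356450751595616194768553500435864879104 (insL [158, 159, 160, 161, 162, 163, 164, 165, 166, 167, 168, 169, 170] 0)) = true := by decide +kernel
theorem chk1254 : band (pieces (app2 12 13 4) (keyL (app2 12 13 4) (fun x => x) om 2) tab1252 R2 2992881321696689632183983346496813321189164360679422 [4, 5, 6, 158, 159, 160, 161, 162, 163, 164, 165, 166, 167, 168, 169, 170] pt1236c l1253) (allL l1253 fun p => subW 2992881321696689632183983346496813321189164360679422 p.2.1) = true := by decide +kernel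
theorem chk1255 : cover 672 [0] (l1253) 0 = true := by decide +kernel
theorem chk1257 : subM 2982924841792372856053720743573933643117758320214016 2992789977844356450751595616194768553500435864879104 = true := by decide +kernel
theorem chk1258 : band (fixL (app2 12 13 4) (keyL (app2 12 13 4) (fun x => x) om 2) R2 [160, 163, 164, 165, 166, 167, 168, 169, 170] pt1237c) (subM 2982924841792372856053720743573933643117758320214016 (insL [160, 163, 164, 165, 166, 167, 168, 169, 170] 0)) = true := by decide +kernel
theorem chk1264 : band (pieces (app2 12 13 4) (keyL (app2 12 13 4) (fun x => x) om 2) tab1262 R2 2992789977844356450751595616194768553500435864879104 [158, 159, 160, 161, 162, 163, 164, 165, 166, 167, 168, 169, 170] pt1237c l1263) (allL l1263 fun p => subW 2992789977844356450751595616194768553500435864879104 p.2.1) = true := by decide +kernel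
theorem chk1265 : cover 495 [0] (l1263) 0 = true := by decide +kernel
theorem chk1267 : subM 2981463340155041953135517058741217360098102387671040 2982924841792372856053720743573933643117758320214016 = true := by decide +kernel
theorem chk1268 : band (fixL (app2 12 13 4) (fun x => x) R2 [163, 164, 165, 166, 167, 168, 169, 170] pt1238c) (subM 2981463340155041953135517058741217360098102387671040 (insL [163, 164, 165, 166, 167, 168, 169, 170] 0)) = true := by decide +kernel
theorem chk1274 : band (pieces (app2 12 13 4) (fun x => x) tab1272 R2 2982924841792372856053720743573933643117758320214016 [160, 163, 164, 165, 166, 167, 168, 169, 170] pt1238c l1273) (allL l1273 fun p => subW 2982924841792372856053720743573933643117758320214016 p.2.1) = true := by decide +kernel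
theorem chk1275 : cover 3 [0] (l1273) 0 = true := by decide +kernel
theorem chk1277 : subM 2221482488742972435669600945728750189877017465323520 2981463340155041953135517058741217360098102387671040 = true := by decide +kernel
theorem chk1278 : band (fixL (app2 12 13 4) (keyL (app2 12 13 4) (fun x => x) om 2) R2 [164, 165, 166, 167, 168, 170] pt1239c) (subM 2221482488742972435669600945728750189877017465323520 (insL [164, 165, 166, 167, 168, 170] 0)) = true := by decide +kernel
theorem chk1284 : band (pieces (app2 12 13 4) (keyL (app2 12 13 4) (fun x => x) om 2) tab1282 R2 2981463340155041953135517058741217360098102387671040 [163, 164, 165, 166, 167, 168, 169, 170] pt1239c l1283) (allL l1283 fun p => subW 2981463340155041953135517058741217360098102387671040 p.2.1) = true := by decide +kernel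
theorem chk1285 : cover 48 [0] (l1283) 0 = true := by decide +kernel
theorem chk1287 : subM 2057794305361911308830788244464526491675553020510208 2221482488742972435669600945728750189877017465323520 = true := by decide +kernel
theorem chk1288 : band (fixL (app2 12 13 4) (keyL (app2 12 13 4) (fun x => x) om 2) R2 [167, 168, 170] pt1240c) (subM 2057794305361911308830788244464526491675553020510208 (insL [167, 168, 170] 0)) = true := by decide +kernel
theorem chk1294 : band (pieces (app2 12 13 4) (keyL (app2 12 13 4) (fun x => x) om 2) tab1292 R2 2221482488742972435669600945728750189877017465323520 [164, 165, 166, 167, 168, 170] pt1240c l1293) (allL l1293 fun p => subW 2221482488742972435669600945728750189877017465323520 p.2.1) = true := by decide +kernel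
theorem chk1295 : cover 32 [0] (l1293) 0 = true := by decide +kernel
theorem chk1297 : subM 1870722095783555735300716585876842265159593655009280 2057794305361911308830788244464526491675553020510208 = true := by decide +kernel
theorem chk1298 : band (fixL (app2 12 13 4) (keyL (app2 12 13 4) (fun x => x) om 2) R2 [168, 170] pt1241c) (subM 1870722095783555735300716585876842265159593655009280 (insL [168, 170] 0)) = true := by decide +kernel
theorem chk1304 : band (pieces (app2 12 13 4) (keyL (app2 12 13 4) (fun x => x) om 2) tab1302 R2 2057794305361911308830788244464526491675553020510208 [167, 168, 170] pt1241c l1303) (allL l1303 fun p => subW 2057794305361911308830788244464526491675553020510208 p.2.1) = true := by decide +kernel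
theorem chk1305 : cover 2 [0] (l1303) 0 = true := by decide +kernel
theorem chk1307 : subM 1496577676626844588240573268701473812127674924007424 1870722095783555735300716585876842265159593655009280 = true := by decide +kernel
theorem chk1308 : band (fixL (app2 12 13 4) (keyL (app2 12 13 4) (fun x => x) om 2) R2 [170] pt1242c) (subM 1496577676626844588240573268701473812127674924007424 (insL [170] 0)) = true := by decide +kernel
theorem chk1314 : band (pieces (app2 12 13 4) (keyL (app2 12 13 4) (fun x => x) om 2) tab1312 R2 1870722095783555735300716585876842265159593655009280 [168, 170] pt1242c l1313) (allL l1313 fun p => subW 1870722095783555735300716585876842265159593655009280 p.2.1) = true := by decide +kernel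
theorem chk1315 : cover 3 [0] (l1313) 0 = true := by decide +kernel
theorem chk1317 : subM 0 1496577676626844588240573268701473812127674924007424 = true := by decide +kernel
theorem chk1318 : band (fixL (app2 12 13 4) (keyL (app2 12 13 4) (fun x => x) om 2) R2 [] pt1243c) (subM 0 (insL [] 0)) = true := by decide +kernel
theorem chk1324 : band (pieces (app2 12 13 4) (keyL (app2 12 13 4) (fun x => x) om 2) tab1322 R2 1496577676626844588240573268701473812127674924007424 [170] pt1243c l1323) (allL l1323 fun p => subW 1496577676626844588240573268701473812127674924007424 p.2.1) = true := by decide +kernel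
theorem chk1325 : cover 3 [0] (l1323) 0 = true := by decide +kernel
theorem chk1328 : band (slp (ops2 79) R1 l1327 182687704666362864775460604089535377456991567872) (subM 8563486156235759286349715816696970818296479744 (insL l1327 182687704666362864775460604089535377456991567872)) = true := by decide +kernel
theorem chk1330 : band (commL (ops2 79) R1 157 [4, 5, 6, 7, 8, 9, 10, 11, 12, 13, 3, 2, 1]) (subM 16382 (insL [4, 5, 6, 7, 8, 9, 10, 11, 12, 13, 3, 2, 1] 0)) = true := by decide +kernel
theorem chk1331 : bnot (Nat.beq ((ops2 79).mul (R1 1) (R1 2)) ((ops2 79).mul (R1 2) (R1 1))) = true := by decide +kernel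
theorem chk1332 : band (Nat.beq (powC (ops2 79) (R1 157) 2) (ops2 79).one) (bnot (Nat.beq (R1 157) (ops2 79).one)) = true := by decide +kernel
theorem chk1334 : band (allL l1333 fun e => band (can2 79 (force (hd e) R1)) (band (Nat.ble 1 (tl e)) (Nat.beq (powC (ops2 79) (force (hd e) R1) (tl e)) (ops2 79).one))) (subM 49039857307708443467467104868809893875799651909875269632 (insL l1333 0)) = true := by decide +kernel
theorem chk1338 : band (slp (ops2 79) R1 l1337 182687704666362864775460604089535377456991584254) (subM 49036864335042894444653488497733095017710774017018839038 (insL l1337 182687704666362864775460604089535377456991584254)) = true := by decide +kernel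
theorem chk1340 : subM 16382 49039857307708443467467104868809893875799651909875286014 = true := by decide +kernel
theorem chk1341 : subM 98076721642751337912120593366542988893510425926894108670 (Nat.lor 49039857307708443467467104868809893875799651909875286014 49036864335042894444653488497733095017710774017018839038) = true := by decide +kernel
theorem chk1343 : band (slp (ops2 79) R1 l1342 98076721642751337912120593366542988893510425926894108670) (subM 196156436258168224847054803104162776645109729746644647934 (insL l1342 98076721642751337912120593366542988893510425926894108670)) = true := by decide +kernel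
theorem chk1345 : subM 147119571923125330402401314606429681627398955729625808896 196156436258168224847054803104162776645109729746644647934 = true := by decide +kernel
theorem chk1347 : band (slp (ops2 79) R1 l1346 49036864335042894444653488497733095017710774017018839038) (subM 588478287692501321609605258425718726509595822918503235584 (insL l1346 49036864335042894444653488497733095017710774017018839038)) = true := by decide +kernel
theorem chk1353 : band (slp (ops2 79) R1 l1352 588478287692501321609605258425718726509595822918503235584) (subM 3213679929088749717310054316262849965468902788957946169524224 (insL l1352 588478287692501321609605258425718726509595822918503235584)) = true := by decide +kernel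
theorem chk1355 : subM 3210737537650287210702006289970721371836354809843353653346304 3213679929088749717310054316262849965468902788957946169524224 = true := by decide +kernel
theorem chk1356 : band (fixL (app2 79 80 7) (fun x => x) R1 [191, 192, 193, 194, 195, 196, 197, 198, 199, 200] pt1349c) (subM 3210737537650287210702006289970721371836354809843353653346304 (insL [191, 192, 193, 194, 195, 196, 197, 198, 199, 200] 0)) = true := by decide +kernel
theorem chk1362 : band (pieces (app2 79 80 7) (fun x => x) tab1360 R1 3213679929088749717310054316262849965468902788957946169524224 [187, 188, 189, 190, 191, 192, 193, 194, 195, 196, 197, 198, 199, 200] pt1349c l1361) (allL l1361 fun p => subW 3213679929088749717310054316262849965468902788957946169524224 p.2.1) = true := by decide +kernel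
theorem chk1363 : cover 180 [0] (l1361) 0 = true := by decide +kernel
theorem chk1365 : subM 3019285934720993447405014712562887546145232968787200600702976 3210737537650287210702006289970721371836354809843353653346304 = true := by decide +kernel
theorem chk1366 : band (fixL (app2 79 80 7) (fun x => x) R1 [192, 197, 198, 199, 200] pt1350c) (subM 3019285934720993447405014712562887546145232968787200600702976 (insL [192, 197, 198, 199, 200] 0)) = true := by decide +kernel
theorem chk1372 : band (pieces (app2 79 80 7) (fun x => x) tab1370 R1 3210737537650287210702006289970721371836354809843353653346304 [191, 192, 193, 194, 195, 196, 197, 198, 199, 200] pt1350c l1371) (allL l1371 fun p => subW 3210737537650287210702006289970721371836354809843353653346304 p.2.1) = true := by decide +kernel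
theorem chk1373 : cover 384 [0] (l1371) 0 = true := by decide +kernel
theorem chk1375 : subM 0 3019285934720993447405014712562887546145232968787200600702976 = true := by decide +kernel
theorem chk1376 : band (fixL (app2 79 80 7) (fun x => x) R1 [] pt1351c) (subM 0 (insL [] 0)) = true := by decide +kernel
theorem chk1382 : band (pieces (app2 79 80 7) (fun x => x) tab1380 R1 3019285934720993447405014712562887546145232968787200600702976 [192, 197, 198, 199, 200] pt1351c l1381) (allL l1381 fun p => subW 3019285934720993447405014712562887546145232968787200600702976 p.2.1) = true := by decide +kernel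
theorem chk1383 : cover 384 [0] (l1381) 0 = true := by decide +kernel
theorem chk1386 : band (conjB (ops2 79) R1 49036864335042894444653488497733095017710774017018839038 185 l1385) (subM 588478287692501321609605258425718726509595822918503235584 (insL l1385 0)) = true := by decide +kernel
theorem chk1387 : band (fixL (app2 79 80 7) (fun x => x) R1 [187, 188] pt1336c) (subM 588478287692501321609605258425718726509595822918503235584 (insL [187, 188] 0)) = true := by decide +kernel
theorem chk1390 : band (slp (ops2 79) R1 l1389 49036864335042894444653488497733095017710774017018839038) (subM 9641628265553941653251772554046975615133217962696757011808256 (insL l1389 49036864335042894444653488497733095017710774017018839038)) = true := by decide +kernel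
theorem chk1397 : band (slp (ops2 79) R1 l1396 9641628265553941653251772554046975615133217962696757011808256) (subM 842495119472368975602793137545178776225955718798405324448817217536 (insL l1396 9641628265553941653251772554046975615133217962696757011808256)) = true := by decide +kernel
theorem chk1399 : subM 842446911331041205894526878682408541347880052708591840663758176256 842495119472368975602793137545178776225955718798405324448817217536 = true := by decide +kernel
theorem chk1400 : band (fixL (app2 79 80 7) (fun x => x) R1 [205, 206, 207, 208, 209, 210, 211, 212, 213, 214, 215, 216, 217, 218] pt1392c) (subM 842446911331041205894526878682408541347880052708591840663758176256 (insL [205, 206, 207, 208, 209, 210, 211, 212, 213, 214, 215, 216, 217, 218] 0)) = true := by decide +kernel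
theorem chk1406 : band (pieces (app2 79 80 7) (fun x => x) tab1404 R1 842495119472368975602793137545178776225955718798405324448817217536 [201, 202, 203, 206, 207, 208, 209, 210, 211, 212, 213, 214, 215, 216, 217, 218] pt1392c l1405) (allL l1405 fun p => subW 842495119472368975602793137545178776225955718798405324448817217536 p.2.1) = true := by decide +kernel
theorem chk1407 : cover 180 [0] (l1405) 0 = true := by decide +kernel
theorem chk1409 : subM 832316773900032531197510349652289852301580085035785114630018301952 842446911331041205894526878682408541347880052708591840663758176256 = true := by decide +kernel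
theorem chk1410 : band (fixL (app2 79 80 7) (fun x => x) R1 [206, 208, 209, 210, 213, 214, 215, 216, 217, 218] pt1393c) (subM 832316773900032531197510349652289852301580085035785114630018301952 (insL [206, 208, 209, 210, 213, 214, 215, 216, 217, 218] 0)) = true := by decide +kernel
theorem chk1416 : band (pieces (app2 79 80 7) (fun x => x) tab1414 R1 842446911331041205894526878682408541347880052708591840663758176256 [205, 206, 207, 208, 209, 210, 211, 212, 213, 214, 215, 216, 217, 218] pt1393c l1415) (allL l1415 fun p => subW 842446911331041205894526878682408541347880052708591840663758176256 p.2.1) = true := by decide +kernel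
theorem chk1417 : cover 128 [0] (l1415) 0 = true := by decide +kernel
theorem chk1419 : subM 421249166674228746791672110734681729275580381602196445017243910144 832316773900032531197510349652289852301580085035785114630018301952 = true := by decide +kernel
theorem chk1420 : band (fixL (app2 79 80 7) (fun x => x) R1 [218] pt1394c) (subM 421249166674228746791672110734681729275580381602196445017243910144 (insL [218] 0)) = true := by decide +kernel
theorem chk1426 : band (pieces (app2 79 80 7) (fun x => x) tab1424 R1 832316773900032531197510349652289852301580085035785114630018301952 [206, 208, 209, 210, 213, 214, 215, 216, 217, 218] pt1394c l1425) (allL l1425 fun p => subW 832316773900032531197510349652289852301580085035785114630018301952 p.2.1) = true := by decide +kernel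
theorem chk1427 : cover 384 [0] (l1425) 0 = true := by decide +kernel
theorem chk1429 : subM 0 421249166674228746791672110734681729275580381602196445017243910144 = true := by decide +kernel
theorem chk1430 : band (fixL (app2 79 80 7) (fun x => x) R1 [] pt1395c) (subM 0 (insL [] 0)) = true := by decide +kernel
theorem chk1436 : band (pieces (app2 79 80 7) (fun x => x) tab1434 R1 421249166674228746791672110734681729275580381602196445017243910144 [218] pt1395c l1435) (allL l1435 fun p => subW 421249166674228746791672110734681729275580381602196445017243910144 p.2.1) = true := by decide +kernel
theorem chk1437 : cover 3 [0] (l1435) 0 = true := by decide +kernel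
theorem chk1440 : band (conjA (ops2 79) R1 49036864335042894444653488497733095017710774017018839038 185 l1439) (subM 9641628265553941653251772554046975615133217962696757011808256 (insL l1439 0)) = true := by decide +kernel
theorem chk1442 : dcRel (ops2 79) R1 49036864335042894444653488497733095017710774017018839038 147119571923125330402401314606429681627398955729625808896 185 185 l1441 = true := by decide +kernel
theorem chk1447 : band (pieces (app2 79 80 7) (fun x => x) tab1445 R1 842495119472368975602793137545178776225955718798405324448817217536 [201, 202, 203, 206, 207, 208, 209, 210, 211, 212, 213, 214, 215, 216, 217, 218] pt1336c l1446) (allL l1446 fun p => subW 49036864335042894444653488497733095017710774017018839038 p.2.1) = true := by decide +kernel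
theorem chk1448 : cover 693 (List.map Prod.fst (l1441)) (l1446) 0 = true := by decide +kernel
theorem chk1450 : allL (List.map Prod.fst (l1441)) (subW 49036864335042894444653488497733095017710774017018839038) = true := by decide +kernel
theorem chk1452 : band (slp (ops2 79) R1 l1451 49036864335042894444653488497733095017710774017018839038) (subM 2527495000045372480750032664408090375653482289613178670103463460864 (insL l1451 49036864335042894444653488497733095017710774017018839038)) = true := by decide +kernel
theorem chk1458 : band (slp (ops2 79) R1 l1457 2527495000045372480750032664408090375653482289613178670103463460864) (subM 861875795015472015935761138563158818097837460758093926505281040154624 (insL l1457 2527495000045372480750032664408090375653482289613178670103463460864)) = true := by decide +kernel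
theorem chk1460 : subM 849238320015245153532010975241118366219570049310028033154763722850304 861875795015472015935761138563158818097837460758093926505281040154624 = true := by decide +kernel
theorem chk1461 : band (fixL (app2 79 80 7) (fun x => x) R1 [223, 224, 225, 226, 227, 228] pt1454c) (subM 849238320015245153532010975241118366219570049310028033154763722850304 (insL [223, 224, 225, 226, 227, 228] 0)) = true := by decide +kernel
theorem chk1467 : band (pieces (app2 79 80 7) (fun x => x) tab1465 R1 861875795015472015935761138563158818097837460758093926505281040154624 [219, 220, 221, 222, 223, 224, 225, 226, 227, 228] pt1454c l1466) (allL l1466 fun p => subW 861875795015472015935761138563158818097837460758093926505281040154624 p.2.1) = true := by decide +kernel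
theorem chk1468 : cover 567 [0] (l1466) 0 = true := by decide +kernel
theorem chk1470 : subM 673998666678765994866675377175490766840928610563514312027590256230400 849238320015245153532010975241118366219570049310028033154763722850304 = true := by decide +kernel
theorem chk1471 : band (fixL (app2 79 80 7) (fun x => x) R1 [224, 227, 228] pt1455c) (subM 673998666678765994866675377175490766840928610563514312027590256230400 (insL [224, 227, 228] 0)) = true := by decide +kernel
theorem chk1477 : band (pieces (app2 79 80 7) (fun x => x) tab1475 R1 849238320015245153532010975241118366219570049310028033154763722850304 [223, 224, 225, 226, 227, 228] pt1455c l1476) (allL l1476 fun p => subW 849238320015245153532010975241118366219570049310028033154763722850304 p.2.1) = true := by decide +kernel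
theorem chk1478 : cover 120 [0] (l1476) 0 = true := by decide +kernel
theorem chk1480 : subM 0 673998666678765994866675377175490766840928610563514312027590256230400 = true := by decide +kernel
theorem chk1481 : band (fixL (app2 79 80 7) (fun x => x) R1 [] pt1456c) (subM 0 (insL [] 0)) = true := by decide +kernel
theorem chk1487 : band (pieces (app2 79 80 7) (fun x => x) tab1485 R1 673998666678765994866675377175490766840928610563514312027590256230400 [224, 227, 228] pt1456c l1486) (allL l1486 fun p => subW 673998666678765994866675377175490766840928610563514312027590256230400 p.2.1) = true := by decide +kernel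
theorem chk1488 : cover 96 [0] (l1486) 0 = true := by decide +kernel
theorem chk1491 : band (conjA (ops2 79) R1 49036864335042894444653488497733095017710774017018839038 186 l1490) (subM 2527495000045372480750032664408090375653482289613178670103463460864 (insL l1490 0)) = true := by decide +kernel
theorem chk1493 : dcRel (ops2 79) R1 49036864335042894444653488497733095017710774017018839038 147119571923125330402401314606429681627398955729625808896 186 185 l1492 = true := by decide +kernel
theorem chk1498 : band (pieces (app2 79 80 7) (fun x => x) tab1496 R1 861875795015472015935761138563158818097837460758093926505281040154624 [219, 220, 221, 222, 223, 224, 225, 226, 227, 228] pt1336c l1497) (allL l1497 fun p => subW 49036864335042894444653488497733095017710774017018839038 p.2.1) = true := by decide +kernel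
theorem chk1499 : cover 693 (List.map Prod.fst (l1492)) (l1497) 0 = true := by decide +kernel
theorem chk1501 : allL (List.map Prod.fst (l1492)) (subW 49036864335042894444653488497733095017710774017018839038) = true := by decide +kernel
theorem chk1502 : inDC (ops2 79) R1 49036864335042894444653488497733095017710774017018839038 147119571923125330402401314606429681627398955729625808896 (R1 185) 0 185 = true := by decide +kernel
theorem chk1504 : band (maxChk (ops2 79) R1 49036864335042894444653488497733095017710774017018839038 49039857307708443467467104868809893875799651909875286014 l1503) (subM 147119571923125330402401314606429681627398955729625808896 (insL (l1503.map Prod.fst) 0)) = true := by decide +kernel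
theorem chk1505 : allL l1503 (fun p => Nat.blt p.1 1024) = true := by decide +kernel
theorem chk1508 : band (slp (ops2 79) R1 l1507 196156436258168224847054803104162776645109729746644647934) (subM 54351252480975885982484960583656422492855587318618439231634624907067390 (insL l1507 196156436258168224847054803104162776645109729746644647934)) = true := by decide +kernel
theorem chk1511 : subW 54351252480975885982484960583656422492855587318618439231634624907067390 203655778375909 = true := by decide +kernel
theorem chk1513 : subW 54351252480975885982484960583656422492855587318618439231634624907067390 213548563666348251370 = true := by decide +kernel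
theorem chk1515 : subW 54351252480975885982484960583656422492855587318618439231634624907067390 208543519206466791 = true := by decide +kernel
theorem chk1517 : subW 54351252480975885982484960583656422492855587318618439231634624907067390 213549638988767402218 = true := by decide +kernel
theorem chk1519 : subW 54351252480975885982484960583656422492855587318618439231634624907067390 208549019987928296 = true := by decide +kernel
theorem chk1521 : band (slp (ops2 79) R1 l1520 49036864335042894444653488497733095017710774017018839038) (subM 1809196180362291229032034027048893238448377390026589545041794223946871095294 (insL l1520 49036864335042894444653488497733095017710774017018839038)) = true := by decide +kernel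
theorem chk1523 : subM 1809196180362291228982997162713850344003723901528856450024083449929852256256 1809196180362291229032034027048893238448377390026589545041794223946871095294 = true := by decide +kernel
theorem chk1524 : band (fixL (app2 79 80 7) (fun x => x) R1 [235, 236, 237, 238, 239, 240, 241, 242, 243, 244, 245, 246, 247, 248, 249] pt1510c) (subM 1809196180362291228982997162713850344003723901528856450024083449929852256256 (insL [235, 236, 237, 238, 239, 240, 241, 242, 243, 244, 245, 246, 247, 248, 249] 0)) = true := by decide +kernel
theorem chk1530 : band (pieces (app2 79 80 7) (fun x => x) tab1528 R1 1809196180362291229032034027048893238448377390026589545041794223946871095294 [4, 5, 6, 237, 238, 239, 240, 241, 242, 243, 244, 245, 246, 247, 248, 249] pt1510c l1529) (allL l1529 fun p => subW 1809196180362291229032034027048893238448377390026589545041794223946871095294 p.2.1) = true := by decide +kernel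
theorem chk1531 : cover 693 [0] (l1529) 0 = true := by decide +kernel
theorem chk1533 : subM 1802184006073952016174963450757776886144033574813131337284038325318472171520 1809196180362291228982997162713850344003723901528856450024083449929852256256 = true := by decide +kernel
theorem chk1534 : band (fixL (app2 79 80 7) (fun x => x) R1 [242, 243, 244, 245, 246, 247, 248, 249] pt1512c) (subM 1802184006073952016174963450757776886144033574813131337284038325318472171520 (insL [242, 243, 244, 245, 246, 247, 248, 249] 0)) = true := by decide +kernel
theorem chk1542 : band (pieces (app2 79 80 7) (fun x => x) tab1540 R1 1809196180362291228982997162713850344003723901528856450024083449929852256256 [235, 236, 237, 238, 239, 240, 241, 242, 243, 244, 245, 246, 247, 248, 249] pt1512c l1541) (allL l1541 fun p => subW 1809196180362291228982997162713850344003723901528856450024083449929852256256 p.2.1) = true := by decide +kernel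
theorem chk1543 : cover 2304 [0] (l1541) 0 = true := by decide +kernel
theorem chk1545 : subM 1780981841296611404219963880748861863954103768050623909786579050902960734208 1802184006073952016174963450757776886144033574813131337284038325318472171520 = true := by decide +kernel
theorem chk1546 : band (fixL (app2 79 80 7) (fun x => x) R1 [244, 245, 246, 247, 248, 249] pt1514c) (subM 1780981841296611404219963880748861863954103768050623909786579050902960734208 (insL [244, 245, 246, 247, 248, 249] 0)) = true := by decide +kernel
theorem chk1552 : band (pieces (app2 79 80 7) (fun x => x) tab1550 R1 1802184006073952016174963450757776886144033574813131337284038325318472171520 [242, 243, 244, 245, 246, 247, 248, 249] pt1514c l1551) (allL l1551 fun p => subW 1802184006073952016174963450757776886144033574813131337284038325318472171520 p.2.1) = true := by decide +kernel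
theorem chk1553 : cover 30 [0] (l1551) 0 = true := by decide +kernel
theorem chk1555 : subM 565391060729082985466655200237733925064794847000198066598913984413638328320 1780981841296611404219963880748861863954103768050623909786579050902960734208 = true := by decide +kernel
theorem chk1556 : band (fixL (app2 79 80 7) (fun x => x) R1 [246, 248] pt1516c) (subM 565391060729082985466655200237733925064794847000198066598913984413638328320 (insL [246, 248] 0)) = true := by decide +kernel
theorem chk1562 : band (pieces (app2 79 80 7) (fun x => x) tab1560 R1 1780981841296611404219963880748861863954103768050623909786579050902960734208 [244, 245, 246, 247, 248, 249] pt1516c l1561) (allL l1561 fun p => subW 1780981841296611404219963880748861863954103768050623909786579050902960734208 p.2.1) = true := by decide +kernel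
theorem chk1563 : cover 96 [0] (l1561) 0 = true := by decide +kernel
theorem chk1565 : subM 0 565391060729082985466655200237733925064794847000198066598913984413638328320 = true := by decide +kernel
theorem chk1566 : band (fixL (app2 79 80 7) (fun x => x) R1 [] pt1518c) (subM 0 (insL [] 0)) = true := by decide +kernel
theorem chk1572 : band (pieces (app2 79 80 7) (fun x => x) tab1570 R1 565391060729082985466655200237733925064794847000198066598913984413638328320 [246, 248] pt1518c l1571) (allL l1571 fun p => subW 565391060729082985466655200237733925064794847000198066598913984413638328320 p.2.1) = true := by decide +kernel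
theorem chk1573 : cover 4 [0] (l1571) 0 = true := by decide +kernel
theorem chk1583 : band (pieces (app2 79 80 7) (fun x => x) tab1581 R1 54351252480975885982484960583656422492855587318618439231634624907067390 [229, 230, 185, 231, 232, 233, 234] pt1506c l1582) (allL l1582 fun p => subW 54351252480975885982484960583656422492855587318618439231634624907067390 p.2.1) = true := by decide +kernel
theorem chk1584 : cover 3510 [0] (l1582) 0 = true := by decide +kernel
theorem chk1586 : band (fixL (app2 79 80 7) (fun x => x) R1 [4, 5, 6, 7, 8, 9, 10, 11, 12, 13, 3, 2, 1] pt1506c) (subM 16382 (insL [4, 5, 6, 7, 8, 9, 10, 11, 12, 13, 3, 2, 1] 0)) = true := by decide +kernel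
theorem chk1588 : subM 16382 54351252480975885982484960583656422492855587318618439231634624907067390 = true := by decide +kernel
theorem chk1589 : subM 16382 54351252480975885982484960583656422492855587318618439231634624907067390 = true := by decide +kernel
theorem chk1590 : subM 1809250531614772204868979647674434000426216757116175068463315084554759323646 (Nat.lor 54351252480975885982484960583656422492855587318618439231634624907067390 1809196180362291229032034027048893238448377390026589545041794223946871095294) = true := by decide +kernel
theorem chk1592 : band (slp (ops2 79) R1 l1591 1809250531614772204868979647674434000426216757116175068463315084554759323646) (subM 3618501925947837758362276288435182560633560267516808881579839834678401974270 (insL l1591 1809250531614772204868979647674434000426216757116175068463315084554759323646)) = true := by decide +kernel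
theorem chk1595 : band (slp (ops2 79) R1 l1594 3618501925947837758362276288435182560633560267516808881579839834678401974270) (subM 14474010291946231079322056132999673921877621329920611760278988335420257878014 (insL l1594 3618501925947837758362276288435182560633560267516808881579839834678401974270)) = true := by decide +kernel
theorem chk1597 : subM 10855508365998393320959779844564491361244061062403802878699148500741855903744 14474010291946231079322056132999673921877621329920611760278988335420257878014 = true := by decide +kernel
theorem chk1599 : band (nconj (ops2 79) R1 14474010291946231079322056132999673921877621329920611760278988335420257878014 (ins 0 250) l1598) (subM 10855508365998393320959779844564491361244061062403802878699148500741855903744 (insL l1598 (ins 0 250))) = true := by decide +kernel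
theorem chk1601 : band (ncop (ops2 79) R1 14474010291946231079322056132999673921877621329920611760278988335420257878014 12664759760331458874453076485325239921451404572804436691815673250865498554368 l1600) (subM 49039857307708443467467104868809893875799651909875286014 (insL (l1600.map Prod.fst) 12664759760331458874453076485325239921451404572804436691815673250865498554368)) = true := by decide +kernel
theorem chk1602 : band (Nat.beq (powC (ops2 79) (R1 250) 13) (ops2 79).one) (bnot (Nat.beq (R1 250) (ops2 79).one)) = true := by decide +kernel
theorem chk1603 : subM 16382 14474010291946231079322056132999673921877621329920611760278988335420257878014 = true := by decide +kernel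
theorem chk1605 : band (slp (ops2 79) R1 l1604 14474010291946231079322056132999673921877621329920611760278988335420257878014) (subM 57896043755939804363161175511257639366853865579535823275075582338387681492990 (insL l1604 14474010291946231079322056132999673921877621329920611760278988335420257878014)) = true := by decide +kernel
theorem chk1607 : conjOrd (ops2 79) R1 57896043755939804363161175511257639366853865579535823275075582338387681492990 157 185 253 2 = true := by decide +kernel
theorem chk1608 : conjOrd (ops2 79) R1 57896043755939804363161175511257639366853865579535823275075582338387681492990 157 186 254 3 = true := by decide +kernel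
theorem chk1609 : band (Nat.beq (powC (ops2 79) (R1 157) 2) (ops2 79).one) (bnot (Nat.beq (R1 157) (ops2 79).one)) = true := by decide +kernel
theorem chk1610 : subM 16382 57896043755939804363161175511257639366853865579535823275075582338387681492990 = true := by decide +kernel
theorem chk1611 : band (commL (ops2 79) R1 157 [4, 5, 6, 7, 8, 9, 10, 11, 12, 13, 3, 2, 1]) (subM 16382 (insL [4, 5, 6, 7, 8, 9, 10, 11, 12, 13, 3, 2, 1] 0)) = true := by decide +kernel
theorem chk1612 : bnot (Nat.beq ((ops2 79).mul (R1 185) (R1 157)) ((ops2 79).mul (R1 157) (R1 185))) = true := by decide +kernel
end

end CfsgH6.Fi22
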