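import Cfsg.Agent.H6.HNK0
import Cfsg.Agent.H6.HNK1
import Cfsg.Agent.H6.HNK2

set_option autoImplicit false
set_option maxRecDepth 100000
set_option linter.all false
set_option Elab.async false

namespace CfsgH6.HN

open CfsgH5 CfsgH6 Subgroup MulAction Pointwise

noncomputable section

theorem B0_m0 : CD.Mem R (CD.gen R 0) 0 := GC.Mem.gen (GC.Mem.zero ⊤)
theorem val3 : C1.Mem R1 ⊤ 254 := MC.mem_units (PP.mc P_ok) (PP.can_sound P_ok) chk2
theorem val6 : C1.Mem R1 ⊤ 4094 := val3.lor' (MC.mem_units (PP.mc P_ok) (PP.can_sound P_ok) chk5) (by decide +kernel)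
theorem val29 : C2.Mem R2 ⊤ 4094 := (GC.Mem.ins' pm27 chk28 (GC.Mem.ins' pm25 chk26 (GC.Mem.ins' pm23 chk24 (GC.Mem.ins' pm21 chk22 (GC.Mem.ins' pm19 chk20 (GC.Mem.ins' pm17 chk18 (GC.Mem.ins' pm15 chk16 (GC.Mem.ins' pm13 chk14 (GC.Mem.ins' pm11 chk12 (GC.Mem.ins' pm9 chk10 (GC.Mem.ins' pm7 chk8 (GC.Mem.zero ⊤)))))))))))).sub (by decide +kernel)
theorem vD : CD.Mem R ⊤ 4094 := (GC.mem_prod val6 val29).top
theorem B1_m0 : CD.Mem R (CD.gen R 512) 512 := GC.Mem.gen (vD.sub chk30)
theorem B1_dvd : Nat.card (CD.gen R 512) ∣ 2 := GC.card_ins (dvd_step (B0_m0.pc (m := 2) (w := 0) (vD.get (i := 9) (by decide +kernel)) B0_m0.top chk32 chk33) GC.card_gen_zero (n := 2) (by decide +kernel)) (by decide +kernel)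
theorem B2_m0 : CD.Mem R (CD.gen R 1536) 1536 := GC.Mem.gen (vD.sub chk34)
theorem B2_dvd : Nat.card (CD.gen R 1536) ∣ 4 := GC.card_ins (dvd_step (B1_m0.pc (m := 2) (w := 0) (vD.get (i := 10) (by decide +kernel)) B1_m0.top chk36 chk37) B1_dvd (n := 4) (by decide +kernel)) (by decide +kernel)
theorem B3_m0 : CD.Mem R (CD.gen R 3584) 3584 := GC.Mem.gen (vD.sub chk38)
theorem B3_dvd : Nat.card (CD.gen R 3584) ∣ 12 := GC.card_ins (dvd_step (B2_m0.pc (m := 3) (w := 0) (vD.get (i := 11) (by decide +kernel)) B2_m0.top chk40 chk41) B2_dvd (n := 12) (by decide +kernel)) (by decide +kernel)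
theorem B3_ub : Nat.card (CD.gen R 3584) ≤ 12 := le_of_dvd' B3_dvd (by decide +kernel)
theorem pt43e : ∃ x, D0.Rep pt43c x := via_rep _ _ (via_rep _ _ (act2_rep (n := 12) (d := 4) (by decide) (by decide) (c := 0x100) (by decide +kernel)))
noncomputable def pt43 := Classical.choose pt43e
theorem pt43r : D0.Rep pt43c pt43 := Classical.choose_spec pt43e
theorem D7_m0 : CD.Mem R (CD.gen R 3840) 3840 := GC.Mem.gen (vD.sub chk42)
theorem D7_I : CD.Mem R (CD.gen R 3840) 256 := D7_m0.sub chk44
theorem D7K_in47 : CD.Mem R (CD.gen R 3584) 4096 := B3_m0.slp' chk46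
theorem D7K_m0 : CD.Mem R (CD.gen R 4096) 4096 := GC.Mem.gen D7K_in47.top
theorem pt48e : ∃ x, D0.Rep pt48c x := via_rep _ _ (via_rep _ _ (act2_rep (n := 12) (d := 4) (by decide) (by decide) (c := 0x200) (by decide +kernel)))
noncomputable def pt48 := Classical.choose pt48e
theorem pt48r : D0.Rep pt48c pt48 := Classical.choose_spec pt48e
theorem D7K_c0i : CD.Mem R (CD.gen R 4096) 0 := D7K_m0.sub chk49
theorem D7K_c0m : CD.Mem R (CD.gen R 0) 0 := D7K_c0i.gen
theorem fx51 : CD.gen R 0 ≤ stabilizer _ pt48 := Act.fix_sound D7K_c0i.top pt48r chk50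
theorem cov58 : Cov (CD.gen R 4096) (CD.wds R [0]) pt48 3 := Act.cov_of_seen (Act.pieces_sound D7K_m0 D7K_m0.top pt48r chk56) chk57
theorem D7K_lb1 : 1 ≤ Nat.card (CD.gen R 0) := Nat.card_pos
theorem D7K_lo0 : 3 * Nat.card (CD.gen R 0) ≤ Nat.card (CD.gen R 4096) := cov58.low le_rfl (GC.wds_zero _) D7K_c0i.gen_le fx51
theorem D7K_lb0 : 3 ≤ Nat.card (CD.gen R 4096) := low_step D7K_lo0 D7K_lb1 (by decide +kernel)
theorem fx62 : CD.gen R 4096 ≤ stabilizer _ pt43 := Act.fix_sound D7K_in47.top pt43r chk61
theorem D7_Kc : ∀ κ ∈ (CD.gen R 4096), (CD.el (R 8))⁻¹ * κ * CD.el (R 8) ∈ (CD.gen R 3584) := B3_m0.conjB (D7_m0.get (i := 8) (by decide +kernel)).top D7K_in47.top chk60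
theorem D7T1_in65 : CD.Mem R (CD.gen R 3584) 8192 := B3_m0.slp' chk64
theorem D7T1_m0 : CD.Mem R (CD.gen R 8192) 8192 := GC.Mem.gen D7T1_in65.top
theorem pt66e : ∃ x, D0.Rep pt66c x := via_rep _ _ (via_rep _ _ (act2_rep (n := 12) (d := 4) (by decide) (by decide) (c := 0x100) (by decide +kernel)))
noncomputable def pt66 := Classical.choose pt66e
theorem pt66r : D0.Rep pt66c pt66 := Classical.choose_spec pt66e
theorem D7T1_c0i : CD.Mem R (CD.gen R 8192) 0 := D7T1_m0.sub chk67
theorem D7T1_c0m : CD.Mem R (CD.gen R 0) 0 := D7T1_c0i.gen
theorem fx69 : CD.gen R 0 ≤ stabilizer _ pt66 := Act.fix_sound D7T1_c0i.top pt66r chk68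
theorem cov76 : Cov (CD.gen R 8192) (CD.wds R [0]) pt66 3 := Act.cov_of_seen (Act.pieces_sound D7T1_m0 D7T1_m0.top pt66r chk74) chk75
theorem D7T1_lb1 : 1 ≤ Nat.card (CD.gen R 0) := Nat.card_pos
theorem D7T1_lo0 : 3 * Nat.card (CD.gen R 0) ≤ Nat.card (CD.gen R 8192) := cov76.low le_rfl (GC.wds_zero _) D7T1_c0i.gen_le fx69
theorem D7T1_lb0 : 3 ≤ Nat.card (CD.gen R 8192) := low_step D7T1_lo0 D7T1_lb1 (by decide +kernel)
theorem D7_T1c : ∀ τ ∈ (CD.gen R 8192), CD.el (R 8) * τ * (CD.el (R 8))⁻¹ ∈ (CD.gen R 3584) := B3_m0.conjA (D7_I.get (i := 8) (by decide +kernel)).top D7T1_in65.top chk78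
theorem cov87 : Cov (CD.gen R 8192) (CD.wds R (List.map Prod.fst (l79))) pt43 4 := Act.cov_of_seen (Act.pieces_sound D7T1_m0 B3_m0.top pt43r chk85) chk86
theorem D7_T1d : Dec (CD.gen R 3584) (CD.gen R 8192) (CD.wds R (List.map Prod.fst (l79))) (CD.gen R 4096) := cov87.dec D7T1_in65.gen_le (GC.wds_sub B3_m0 chk88) D7K_in47.gen_le fx62 (up_low B3_ub D7K_lb0 (by decide +kernel))
theorem D7_T1p : ∀ x ∈ DC1 (CD.gen R 3584) (CD.el (R 8)), x * CD.el (R 8) ∈ DCs (CD.gen R 3584) (CD.els R 256) := GC.dc_piece' D7_T1d D7_T1c D7_Kc (B3_m0.dcRel D7_I.top (D7_I.get (i := 8) (by decide +kernel)).top (D7_m0.get (i := 8) (by decide +kernel)).top chk80)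
theorem D7_T1u : Nat.card (CD.gen R 3584) ≤ 4 * Nat.card (CD.gen R 8192) := up_low B3_ub D7T1_lb0 (by decide +kernel)
theorem D7_T1n : (DC1 (CD.gen R 3584) (CD.el (R 8))).ncard ≤ Nat.card (CD.gen R 3584) * 4 := ncard_DC1 D7T1_in65.gen_le D7_T1c D7_T1u
theorem D7_dc : ∀ x ∈ (CD.gen R 3840), x ∈ DCs (CD.gen R 3584) (CD.els R 256) := GC.dc_gen (MU := 256) B3_m0 (by decide +kernel) (GC.forall_els (L := [8]) (forall_cons ⟨B3_m0.inDC' D7_I.top (D7_m0.get (i := 8) (by decide +kernel)).top chk89, GC.forall_els (L := [8]) (forall_cons D7_T1p forall_nil) (by decide +kernel)⟩ forall_nil) (by decide +kernel))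
theorem D7_cs : ∀ p ∈ ([(8, 4)] : List (ℕ × ℕ)), (DC1 (CD.gen R 3584) (CD.el (R p.1))).ncard ≤ Nat.card (CD.gen R 3584) * p.2 := (forall_cons D7_T1n forall_nil)
theorem D7_ix : Nat.card (CD.gen R 3840) ≤ 5 * Nat.card (CD.gen R 3584) := GC.card_dc [(8, 4)] D7_dc D7_cs (by decide +kernel)
theorem D7_ub : Nat.card (CD.gen R 3840) ≤ 60 := up_mul D7_ix B3_ub (by decide +kernel)
theorem pt91e : ∃ x, D0.Rep pt91c x := via_rep _ _ (via_rep _ _ (act2_rep (n := 12) (d := 4) (by decide) (by decide) (c := 0x80) (by decide +kernel)))
noncomputable def pt91 := Classical.choose pt91e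
theorem pt91r : D0.Rep pt91c pt91 := Classical.choose_spec pt91e
theorem D6_m0 : CD.Mem R (CD.gen R 3968) 3968 := GC.Mem.gen (vD.sub chk90)
theorem D6_I : CD.Mem R (CD.gen R 3968) 128 := D6_m0.sub chk92
theorem D6K_in115 : CD.Mem R (CD.gen R 3840) 49152 := D7_m0.slp' chk114
theorem D6K_m0 : CD.Mem R (CD.gen R 49152) 49152 := GC.Mem.gen D6K_in115.top
theorem pt116e : ∃ x, D0.Rep pt116c x := via_rep _ _ (via_rep _ _ (act2_rep (n := 12) (d := 4) (by decide) (by decide) (c := 0x100) (by decide +kernel)))
noncomputable def pt116 := Classical.choose pt116e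
theorem pt116r : D0.Rep pt116c pt116 := Classical.choose_spec pt116e
theorem pt117e : ∃ x, D0.Rep pt117c x := via_rep _ _ (via_rep _ _ (act2_rep (n := 12) (d := 4) (by decide) (by decide) (c := 0x200) (by decide +kernel)))
noncomputable def pt117 := Classical.choose pt117e
theorem pt117r : D0.Rep pt117c pt117 := Classical.choose_spec pt117e
theorem D6K_s0_120 : CD.Mem R (CD.gen R 49152) 114688 := D6K_m0.slp' chk119
theorem D6K_c0i : CD.Mem R (CD.gen R 49152) 65536 := D6K_s0_120.sub chk121
theorem D6K_c0m : CD.Mem R (CD.gen R 65536) 65536 := D6K_c0i.gen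
theorem fx123 : CD.gen R 65536 ≤ stabilizer _ pt116 := Act.fix_sound D6K_c0i.top pt116r chk122
theorem cov130 : Cov (CD.gen R 49152) (CD.wds R [0]) pt116 4 := Act.cov_of_seen (Act.pieces_sound D6K_s0_120 D6K_s0_120.top pt116r chk128) chk129
theorem D6K_c1i : CD.Mem R (CD.gen R 65536) 0 := D6K_c0m.sub chk131
theorem D6K_c1m : CD.Mem R (CD.gen R 0) 0 := D6K_c1i.gen
theorem fx133 : CD.gen R 0 ≤ stabilizer _ pt117 := Act.fix_sound D6K_c1i.top pt117r chk132
theorem cov140 : Cov (CD.gen R 65536) (CD.wds R [0]) pt117 3 := Act.cov_of_seen (Act.pieces_sound D6K_c0m D6K_c0m.top pt117r chk138) chk139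
theorem D6K_lb2 : 1 ≤ Nat.card (CD.gen R 0) := Nat.card_pos
theorem D6K_lo1 : 3 * Nat.card (CD.gen R 0) ≤ Nat.card (CD.gen R 65536) := cov140.low le_rfl (GC.wds_zero _) D6K_c1i.gen_le fx133
theorem D6K_lb1 : 3 ≤ Nat.card (CD.gen R 65536) := low_step D6K_lo1 D6K_lb2 (by decide +kernel)
theorem D6K_lo0 : 4 * Nat.card (CD.gen R 65536) ≤ Nat.card (CD.gen R 49152) := cov130.low le_rfl (GC.wds_zero _) D6K_c0i.gen_le fx123
theorem D6K_lb0 : 12 ≤ Nat.card (CD.gen R 49152) := low_step D6K_lo0 D6K_lb1 (by decide +kernel)
theorem fx144 : CD.gen R 49152 ≤ stabilizer _ pt91 := Act.fix_sound D6K_in115.top pt91r chk143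
theorem D6_Kc : ∀ κ ∈ (CD.gen R 49152), (CD.el (R 7))⁻¹ * κ * CD.el (R 7) ∈ (CD.gen R 3840) := D7_m0.conjB (D6_m0.get (i := 7) (by decide +kernel)).top D6K_in115.top chk142
theorem D6T1_in159 : CD.Mem R (CD.gen R 3840) 393216 := D7_m0.slp' chk158
theorem D6T1_m0 : CD.Mem R (CD.gen R 393216) 393216 := GC.Mem.gen D6T1_in159.top
theorem pt160e : ∃ x, D0.Rep pt160c x := via_rep _ _ (via_rep _ _ (act2_rep (n := 12) (d := 4) (by decide) (by decide) (c := 0x80) (by decide +kernel)))
noncomputable def pt160 := Classical.choose pt160e
theorem pt160r : D0.Rep pt160c pt160 := Classical.choose_spec pt160e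
theorem pt161e : ∃ x, D0.Rep pt161c x := via_rep _ _ (via_rep _ _ (act2_rep (n := 12) (d := 4) (by decide) (by decide) (c := 0x200) (by decide +kernel)))
noncomputable def pt161 := Classical.choose pt161e
theorem pt161r : D0.Rep pt161c pt161 := Classical.choose_spec pt161e
theorem D6T1_s0_164 : CD.Mem R (CD.gen R 393216) 917504 := D6T1_m0.slp' chk163
theorem D6T1_c0i : CD.Mem R (CD.gen R 393216) 524288 := D6T1_s0_164.sub chk165
theorem D6T1_c0m : CD.Mem R (CD.gen R 524288) 524288 := D6T1_c0i.gen
theorem fx167 : CD.gen R 524288 ≤ stabilizer _ pt160 := Act.fix_sound D6T1_c0i.top pt160r chk166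
theorem cov174 : Cov (CD.gen R 393216) (CD.wds R [0]) pt160 4 := Act.cov_of_seen (Act.pieces_sound D6T1_s0_164 D6T1_s0_164.top pt160r chk172) chk173
theorem D6T1_c1i : CD.Mem R (CD.gen R 524288) 0 := D6T1_c0m.sub chk175
theorem D6T1_c1m : CD.Mem R (CD.gen R 0) 0 := D6T1_c1i.gen
theorem fx177 : CD.gen R 0 ≤ stabilizer _ pt161 := Act.fix_sound D6T1_c1i.top pt161r chk176
theorem cov184 : Cov (CD.gen R 524288) (CD.wds R [0]) pt161 3 := Act.cov_of_seen (Act.pieces_sound D6T1_c0m D6T1_c0m.top pt161r chk182) chk183
theorem D6T1_lb2 : 1 ≤ Nat.card (CD.gen R 0) := Nat.card_pos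
theorem D6T1_lo1 : 3 * Nat.card (CD.gen R 0) ≤ Nat.card (CD.gen R 524288) := cov184.low le_rfl (GC.wds_zero _) D6T1_c1i.gen_le fx177
theorem D6T1_lb1 : 3 ≤ Nat.card (CD.gen R 524288) := low_step D6T1_lo1 D6T1_lb2 (by decide +kernel)
theorem D6T1_lo0 : 4 * Nat.card (CD.gen R 524288) ≤ Nat.card (CD.gen R 393216) := cov174.low le_rfl (GC.wds_zero _) D6T1_c0i.gen_le fx167
theorem D6T1_lb0 : 12 ≤ Nat.card (CD.gen R 393216) := low_step D6T1_lo0 D6T1_lb1 (by decide +kernel)
theorem D6_T1c : ∀ τ ∈ (CD.gen R 393216), CD.el (R 7) * τ * (CD.el (R 7))⁻¹ ∈ (CD.gen R 3840) := D7_m0.conjA (D6_I.get (i := 7) (by decide +kernel)).top D6T1_in159.top chk186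
theorem cov195 : Cov (CD.gen R 393216) (CD.wds R (List.map Prod.fst (l187))) pt91 5 := Act.cov_of_seen (Act.pieces_sound D6T1_s0_164 D7_m0.top pt91r chk193) chk194
theorem D6_T1d : Dec (CD.gen R 3840) (CD.gen R 393216) (CD.wds R (List.map Prod.fst (l187))) (CD.gen R 49152) := cov195.dec D6T1_in159.gen_le (GC.wds_sub D7_m0 chk196) D6K_in115.gen_le fx144 (up_low D7_ub D6K_lb0 (by decide +kernel))
theorem D6_T1p : ∀ x ∈ DC1 (CD.gen R 3840) (CD.el (R 7)), x * CD.el (R 7) ∈ DCs (CD.gen R 3840) (CD.els R 128) := GC.dc_piece' D6_T1d D6_T1c D6_Kc (D7_m0.dcRel D6_I.top (D6_I.get (i := 7) (by decide +kernel)).top (D6_m0.get (i := 7) (by decide +kernel)).top chk188)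
theorem D6_T1u : Nat.card (CD.gen R 3840) ≤ 5 * Nat.card (CD.gen R 393216) := up_low D7_ub D6T1_lb0 (by decide +kernel)
theorem D6_T1n : (DC1 (CD.gen R 3840) (CD.el (R 7))).ncard ≤ Nat.card (CD.gen R 3840) * 5 := ncard_DC1 D6T1_in159.gen_le D6_T1c D6_T1u
theorem D6_dc : ∀ x ∈ (CD.gen R 3968), x ∈ DCs (CD.gen R 3840) (CD.els R 128) := GC.dc_gen (MU := 128) D7_m0 (by decide +kernel) (GC.forall_els (L := [7]) (forall_cons ⟨D7_m0.inDC' D6_I.top (D6_m0.get (i := 7) (by decide +kernel)).top chk197, GC.forall_els (L := [7]) (forall_cons D6_T1p forall_nil) (by decide +kernel)⟩ forall_nil) (by decide +kernel))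
theorem D6_cs : ∀ p ∈ ([(7, 5)] : List (ℕ × ℕ)), (DC1 (CD.gen R 3840) (CD.el (R p.1))).ncard ≤ Nat.card (CD.gen R 3840) * p.2 := (forall_cons D6_T1n forall_nil)
theorem D6_ix : Nat.card (CD.gen R 3968) ≤ 6 * Nat.card (CD.gen R 3840) := GC.card_dc [(7, 5)] D6_dc D6_cs (by decide +kernel)
theorem D6_ub : Nat.card (CD.gen R 3968) ≤ 360 := up_mul D6_ix D7_ub (by decide +kernel)
theorem pt199e : ∃ x, D0.Rep pt199c x := via_rep _ _ (via_rep _ _ (act2_rep (n := 12) (d := 4) (by decide) (by decide) (c := 0x40) (by decide +kernel)))
noncomputable def pt199 := Classical.choose pt199e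
theorem pt199r : D0.Rep pt199c pt199 := Classical.choose_spec pt199e
theorem D5_m0 : CD.Mem R (CD.gen R 4032) 4032 := GC.Mem.gen (vD.sub chk198)
theorem D5_I : CD.Mem R (CD.gen R 4032) 64 := D5_m0.sub chk200
theorem D5K_in215 : CD.Mem R (CD.gen R 3968) 3145728 := D6_m0.slp' chk214
theorem D5K_m0 : CD.Mem R (CD.gen R 3145728) 3145728 := GC.Mem.gen D5K_in215.top
theorem pt216e : ∃ x, D0.Rep pt216c x := via_rep _ _ (via_rep _ _ (act2_rep (n := 12) (d := 4) (by decide) (by decide) (c := 0x100) (by decide +kernel)))
noncomputable def pt216 := Classical.choose pt216e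
theorem pt216r : D0.Rep pt216c pt216 := Classical.choose_spec pt216e
theorem pt217e : ∃ x, D0.Rep pt217c x := via_rep _ _ (via_rep _ _ (act2_rep (n := 12) (d := 4) (by decide) (by decide) (c := 0x80) (by decide +kernel)))
noncomputable def pt217 := Classical.choose pt217e
theorem pt217r : D0.Rep pt217c pt217 := Classical.choose_spec pt217e
theorem pt218e : ∃ x, D0.Rep pt218c x := via_rep _ _ (via_rep _ _ (act2_rep (n := 12) (d := 4) (by decide) (by decide) (c := 0x200) (by decide +kernel)))
noncomputable def pt218 := Classical.choose pt218e
theorem pt218r : D0.Rep pt218c pt218 := Classical.choose_spec pt218e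
theorem D5K_s0_221 : CD.Mem R (CD.gen R 3145728) 15728640 := D5K_m0.slp' chk220
theorem D5K_c0i : CD.Mem R (CD.gen R 3145728) 12582912 := D5K_s0_221.sub chk222
theorem D5K_c0m : CD.Mem R (CD.gen R 12582912) 12582912 := D5K_c0i.gen
theorem fx224 : CD.gen R 12582912 ≤ stabilizer _ pt216 := Act.fix_sound D5K_c0i.top pt216r chk223
theorem cov231 : Cov (CD.gen R 3145728) (CD.wds R [0]) pt216 5 := Act.cov_of_seen (Act.pieces_sound D5K_s0_221 D5K_s0_221.top pt216r chk229) chk230
theorem D5K_c1i : CD.Mem R (CD.gen R 12582912) 8388608 := D5K_c0m.sub chk232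
theorem D5K_c1m : CD.Mem R (CD.gen R 8388608) 8388608 := D5K_c1i.gen
theorem fx234 : CD.gen R 8388608 ≤ stabilizer _ pt217 := Act.fix_sound D5K_c1i.top pt217r chk233
theorem cov241 : Cov (CD.gen R 12582912) (CD.wds R [0]) pt217 4 := Act.cov_of_seen (Act.pieces_sound D5K_c0m D5K_c0m.top pt217r chk239) chk240
theorem D5K_c2i : CD.Mem R (CD.gen R 8388608) 0 := D5K_c1m.sub chk242
theorem D5K_c2m : CD.Mem R (CD.gen R 0) 0 := D5K_c2i.gen
theorem fx244 : CD.gen R 0 ≤ stabilizer _ pt218 := Act.fix_sound D5K_c2i.top pt218r chk243
theorem cov251 : Cov (CD.gen R 8388608) (CD.wds R [0]) pt218 3 := Act.cov_of_seen (Act.pieces_sound D5K_c1m D5K_c1m.top pt218r chk249) chk250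
theorem D5K_lb3 : 1 ≤ Nat.card (CD.gen R 0) := Nat.card_pos
theorem D5K_lo2 : 3 * Nat.card (CD.gen R 0) ≤ Nat.card (CD.gen R 8388608) := cov251.low le_rfl (GC.wds_zero _) D5K_c2i.gen_le fx244
theorem D5K_lb2 : 3 ≤ Nat.card (CD.gen R 8388608) := low_step D5K_lo2 D5K_lb3 (by decide +kernel)
theorem D5K_lo1 : 4 * Nat.card (CD.gen R 8388608) ≤ Nat.card (CD.gen R 12582912) := cov241.low le_rfl (GC.wds_zero _) D5K_c1i.gen_le fx234
theorem D5K_lb1 : 12 ≤ Nat.card (CD.gen R 12582912) := low_step D5K_lo1 D5K_lb2 (by decide +kernel)
theorem D5K_lo0 : 5 * Nat.card (CD.gen R 12582912) ≤ Nat.card (CD.gen R 3145728) := cov231.low le_rfl (GC.wds_zero _) D5K_c0i.gen_le fx224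
theorem D5K_lb0 : 60 ≤ Nat.card (CD.gen R 3145728) := low_step D5K_lo0 D5K_lb1 (by decide +kernel)
theorem fx255 : CD.gen R 3145728 ≤ stabilizer _ pt199 := Act.fix_sound D5K_in215.top pt199r chk254
theorem D5_Kc : ∀ κ ∈ (CD.gen R 3145728), (CD.el (R 6))⁻¹ * κ * CD.el (R 6) ∈ (CD.gen R 3968) := D6_m0.conjB (D5_m0.get (i := 6) (by decide +kernel)).top D5K_in215.top chk253
theorem D5T1_in270 : CD.Mem R (CD.gen R 3968) 50331648 := D6_m0.slp' chk269
theorem D5T1_m0 : CD.Mem R (CD.gen R 50331648) 50331648 := GC.Mem.gen D5T1_in270.top
theorem pt271e : ∃ x, D0.Rep pt271c x := via_rep _ _ (via_rep _ _ (act2_rep (n := 12) (d := 4) (by decide) (by decide) (c := 0x40) (by decide +kernel)))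
noncomputable def pt271 := Classical.choose pt271e
theorem pt271r : D0.Rep pt271c pt271 := Classical.choose_spec pt271e
theorem pt272e : ∃ x, D0.Rep pt272c x := via_rep _ _ (via_rep _ _ (act2_rep (n := 12) (d := 4) (by decide) (by decide) (c := 0x80) (by decide +kernel)))
noncomputable def pt272 := Classical.choose pt272e
theorem pt272r : D0.Rep pt272c pt272 := Classical.choose_spec pt272e
theorem pt273e : ∃ x, D0.Rep pt273c x := via_rep _ _ (via_rep _ _ (act2_rep (n := 12) (d := 4) (by decide) (by decide) (c := 0x100) (by decide +kernel)))
noncomputable def pt273 := Classical.choose pt273e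
theorem pt273r : D0.Rep pt273c pt273 := Classical.choose_spec pt273e
theorem D5T1_s0_276 : CD.Mem R (CD.gen R 50331648) 520093696 := D5T1_m0.slp' chk275
theorem D5T1_c0i : CD.Mem R (CD.gen R 50331648) 469762048 := D5T1_s0_276.sub chk277
theorem D5T1_c0m : CD.Mem R (CD.gen R 469762048) 469762048 := D5T1_c0i.gen
theorem fx279 : CD.gen R 469762048 ≤ stabilizer _ pt271 := Act.fix_sound D5T1_c0i.top pt271r chk278
theorem cov286 : Cov (CD.gen R 50331648) (CD.wds R [0]) pt271 5 := Act.cov_of_seen (Act.pieces_sound D5T1_s0_276 D5T1_s0_276.top pt271r chk284) chk285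
theorem D5T1_c1i : CD.Mem R (CD.gen R 469762048) 268435456 := D5T1_c0m.sub chk287
theorem D5T1_c1m : CD.Mem R (CD.gen R 268435456) 268435456 := D5T1_c1i.gen
theorem fx289 : CD.gen R 268435456 ≤ stabilizer _ pt272 := Act.fix_sound D5T1_c1i.top pt272r chk288
theorem cov296 : Cov (CD.gen R 469762048) (CD.wds R [0]) pt272 4 := Act.cov_of_seen (Act.pieces_sound D5T1_c0m D5T1_c0m.top pt272r chk294) chk295
theorem D5T1_c2i : CD.Mem R (CD.gen R 268435456) 0 := D5T1_c1m.sub chk297
theorem D5T1_c2m : CD.Mem R (CD.gen R 0) 0 := D5T1_c2i.gen
theorem fx299 : CD.gen R 0 ≤ stabilizer _ pt273 := Act.fix_sound D5T1_c2i.top pt273r chk298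
theorem cov306 : Cov (CD.gen R 268435456) (CD.wds R [0]) pt273 3 := Act.cov_of_seen (Act.pieces_sound D5T1_c1m D5T1_c1m.top pt273r chk304) chk305
theorem D5T1_lb3 : 1 ≤ Nat.card (CD.gen R 0) := Nat.card_pos
theorem D5T1_lo2 : 3 * Nat.card (CD.gen R 0) ≤ Nat.card (CD.gen R 268435456) := cov306.low le_rfl (GC.wds_zero _) D5T1_c2i.gen_le fx299
theorem D5T1_lb2 : 3 ≤ Nat.card (CD.gen R 268435456) := low_step D5T1_lo2 D5T1_lb3 (by decide +kernel)
theorem D5T1_lo1 : 4 * Nat.card (CD.gen R 268435456) ≤ Nat.card (CD.gen R 469762048) := cov296.low le_rfl (GC.wds_zero _) D5T1_c1i.gen_le fx289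
theorem D5T1_lb1 : 12 ≤ Nat.card (CD.gen R 469762048) := low_step D5T1_lo1 D5T1_lb2 (by decide +kernel)
theorem D5T1_lo0 : 5 * Nat.card (CD.gen R 469762048) ≤ Nat.card (CD.gen R 50331648) := cov286.low le_rfl (GC.wds_zero _) D5T1_c0i.gen_le fx279
theorem D5T1_lb0 : 60 ≤ Nat.card (CD.gen R 50331648) := low_step D5T1_lo0 D5T1_lb1 (by decide +kernel)
theorem D5_T1c : ∀ τ ∈ (CD.gen R 50331648), CD.el (R 6) * τ * (CD.el (R 6))⁻¹ ∈ (CD.gen R 3968) := D6_m0.conjA (D5_I.get (i := 6) (by decide +kernel)).top D5T1_in270.top chk308
theorem cov317 : Cov (CD.gen R 50331648) (CD.wds R (List.map Prod.fst (l309))) pt199 6 := Act.cov_of_seen (Act.pieces_sound D5T1_s0_276 D6_m0.top pt199r chk315) chk316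
theorem D5_T1d : Dec (CD.gen R 3968) (CD.gen R 50331648) (CD.wds R (List.map Prod.fst (l309))) (CD.gen R 3145728) := cov317.dec D5T1_in270.gen_le (GC.wds_sub D6_m0 chk318) D5K_in215.gen_le fx255 (up_low D6_ub D5K_lb0 (by decide +kernel))
theorem D5_T1p : ∀ x ∈ DC1 (CD.gen R 3968) (CD.el (R 6)), x * CD.el (R 6) ∈ DCs (CD.gen R 3968) (CD.els R 64) := GC.dc_piece' D5_T1d D5_T1c D5_Kc (D6_m0.dcRel D5_I.top (D5_I.get (i := 6) (by decide +kernel)).top (D5_m0.get (i := 6) (by decide +kernel)).top chk310)
theorem D5_T1u : Nat.card (CD.gen R 3968) ≤ 6 * Nat.card (CD.gen R 50331648) := up_low D6_ub D5T1_lb0 (by decide +kernel)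
theorem D5_T1n : (DC1 (CD.gen R 3968) (CD.el (R 6))).ncard ≤ Nat.card (CD.gen R 3968) * 6 := ncard_DC1 D5T1_in270.gen_le D5_T1c D5_T1u
theorem D5_dc : ∀ x ∈ (CD.gen R 4032), x ∈ DCs (CD.gen R 3968) (CD.els R 64) := GC.dc_gen (MU := 64) D6_m0 (by decide +kernel) (GC.forall_els (L := [6]) (forall_cons ⟨D6_m0.inDC' D5_I.top (D5_m0.get (i := 6) (by decide +kernel)).top chk319, GC.forall_els (L := [6]) (forall_cons D5_T1p forall_nil) (by decide +kernel)⟩ forall_nil) (by decide +kernel))
theorem D5_cs : ∀ p ∈ ([(6, 6)] : List (ℕ × ℕ)), (DC1 (CD.gen R 3968) (CD.el (R p.1))).ncard ≤ Nat.card (CD.gen R 3968) * p.2 := (forall_cons D5_T1n forall_nil)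
theorem D5_ix : Nat.card (CD.gen R 4032) ≤ 7 * Nat.card (CD.gen R 3968) := GC.card_dc [(6, 6)] D5_dc D5_cs (by decide +kernel)
theorem D5_ub : Nat.card (CD.gen R 4032) ≤ 2520 := up_mul D5_ix D6_ub (by decide +kernel)
theorem pt321e : ∃ x, D0.Rep pt321c x := via_rep _ _ (via_rep _ _ (act2_rep (n := 12) (d := 4) (by decide) (by decide) (c := 0x20) (by decide +kernel)))
noncomputable def pt321 := Classical.choose pt321e
theorem pt321r : D0.Rep pt321c pt321 := Classical.choose_spec pt321e
theorem D5_s0_324 : CD.Mem R (CD.gen R 4032) 536874944 := D5_m0.slp' chk323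
theorem D4_m0 : CD.Mem R (CD.gen R 4064) 4064 := GC.Mem.gen (vD.sub chk320)
theorem D4_m1 : CD.Mem R (CD.gen R 4064) 536874976 := D4_m0.lor' (D5_s0_324.mono (D4_m0.sub chk325).gen_le) chk326
theorem D4_I : CD.Mem R (CD.gen R 4064) 32 := D4_m1.sub chk327
theorem D4K_in348 : CD.Mem R (CD.gen R 4032) 3221225472 := D5_s0_324.slp' chk347
theorem D4K_m0 : CD.Mem R (CD.gen R 3221225472) 3221225472 := GC.Mem.gen D4K_in348.top
theorem pt349e : ∃ x, D0.Rep pt349c x := via_rep _ _ (via_rep _ _ (act2_rep (n := 12) (d := 4) (by decide) (by decide) (c := 0x80) (by decide +kernel)))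
noncomputable def pt349 := Classical.choose pt349e
theorem pt349r : D0.Rep pt349c pt349 := Classical.choose_spec pt349e
theorem pt350e : ∃ x, D0.Rep pt350c x := via_rep _ _ (via_rep _ _ (act2_rep (n := 12) (d := 4) (by decide) (by decide) (c := 0x40) (by decide +kernel)))
noncomputable def pt350 := Classical.choose pt350e
theorem pt350r : D0.Rep pt350c pt350 := Classical.choose_spec pt350e
theorem pt351e : ∃ x, D0.Rep pt351c x := via_rep _ _ (via_rep _ _ (act2_rep (n := 12) (d := 4) (by decide) (by decide) (c := 0x100) (by decide +kernel)))
noncomputable def pt351 := Classical.choose pt351e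
theorem pt351r : D0.Rep pt351c pt351 := Classical.choose_spec pt351e
theorem pt352e : ∃ x, D0.Rep pt352c x := via_rep _ _ (via_rep _ _ (act2_rep (n := 12) (d := 4) (by decide) (by decide) (c := 0x200) (by decide +kernel)))
noncomputable def pt352 := Classical.choose pt352e
theorem pt352r : D0.Rep pt352c pt352 := Classical.choose_spec pt352e
theorem D4K_s0_355 : CD.Mem R (CD.gen R 3221225472) 33285996544 := D4K_m0.slp' chk354
theorem D4K_c0i : CD.Mem R (CD.gen R 3221225472) 30064771072 := D4K_s0_355.sub chk356
theorem D4K_c0m : CD.Mem R (CD.gen R 30064771072) 30064771072 := D4K_c0i.gen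
theorem fx358 : CD.gen R 30064771072 ≤ stabilizer _ pt349 := Act.fix_sound D4K_c0i.top pt349r chk357
theorem cov365 : Cov (CD.gen R 3221225472) (CD.wds R [0]) pt349 6 := Act.cov_of_seen (Act.pieces_sound D4K_s0_355 D4K_s0_355.top pt349r chk363) chk364
theorem D4K_c1i : CD.Mem R (CD.gen R 30064771072) 25769803776 := D4K_c0m.sub chk366
theorem D4K_c1m : CD.Mem R (CD.gen R 25769803776) 25769803776 := D4K_c1i.gen
theorem fx368 : CD.gen R 25769803776 ≤ stabilizer _ pt350 := Act.fix_sound D4K_c1i.top pt350r chk367
theorem cov375 : Cov (CD.gen R 30064771072) (CD.wds R [0]) pt350 5 := Act.cov_of_seen (Act.pieces_sound D4K_c0m D4K_c0m.top pt350r chk373) chk374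
theorem D4K_c2i : CD.Mem R (CD.gen R 25769803776) 17179869184 := D4K_c1m.sub chk376
theorem D4K_c2m : CD.Mem R (CD.gen R 17179869184) 17179869184 := D4K_c2i.gen
theorem fx378 : CD.gen R 17179869184 ≤ stabilizer _ pt351 := Act.fix_sound D4K_c2i.top pt351r chk377
theorem cov385 : Cov (CD.gen R 25769803776) (CD.wds R [0]) pt351 4 := Act.cov_of_seen (Act.pieces_sound D4K_c1m D4K_c1m.top pt351r chk383) chk384
theorem D4K_c3i : CD.Mem R (CD.gen R 17179869184) 0 := D4K_c2m.sub chk386
theorem D4K_c3m : CD.Mem R (CD.gen R 0) 0 := D4K_c3i.gen
theorem fx388 : CD.gen R 0 ≤ stabilizer _ pt352 := Act.fix_sound D4K_c3i.top pt352r chk387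
theorem cov395 : Cov (CD.gen R 17179869184) (CD.wds R [0]) pt352 3 := Act.cov_of_seen (Act.pieces_sound D4K_c2m D4K_c2m.top pt352r chk393) chk394
theorem D4K_lb4 : 1 ≤ Nat.card (CD.gen R 0) := Nat.card_pos
theorem D4K_lo3 : 3 * Nat.card (CD.gen R 0) ≤ Nat.card (CD.gen R 17179869184) := cov395.low le_rfl (GC.wds_zero _) D4K_c3i.gen_le fx388
theorem D4K_lb3 : 3 ≤ Nat.card (CD.gen R 17179869184) := low_step D4K_lo3 D4K_lb4 (by decide +kernel)
theorem D4K_lo2 : 4 * Nat.card (CD.gen R 17179869184) ≤ Nat.card (CD.gen R 25769803776) := cov385.low le_rfl (GC.wds_zero _) D4K_c2i.gen_le fx378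
theorem D4K_lb2 : 12 ≤ Nat.card (CD.gen R 25769803776) := low_step D4K_lo2 D4K_lb3 (by decide +kernel)
theorem D4K_lo1 : 5 * Nat.card (CD.gen R 25769803776) ≤ Nat.card (CD.gen R 30064771072) := cov375.low le_rfl (GC.wds_zero _) D4K_c1i.gen_le fx368
theorem D4K_lb1 : 60 ≤ Nat.card (CD.gen R 30064771072) := low_step D4K_lo1 D4K_lb2 (by decide +kernel)
theorem D4K_lo0 : 6 * Nat.card (CD.gen R 30064771072) ≤ Nat.card (CD.gen R 3221225472) := cov365.low le_rfl (GC.wds_zero _) D4K_c0i.gen_le fx358
theorem D4K_lb0 : 360 ≤ Nat.card (CD.gen R 3221225472) := low_step D4K_lo0 D4K_lb1 (by decide +kernel)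
theorem fx399 : CD.gen R 3221225472 ≤ stabilizer _ pt321 := Act.fix_sound D4K_in348.top pt321r chk398
theorem D4_Kc : ∀ κ ∈ (CD.gen R 3221225472), (CD.el (R 5))⁻¹ * κ * CD.el (R 5) ∈ (CD.gen R 4032) := D5_s0_324.conjB (D4_m1.get (i := 5) (by decide +kernel)).top D4K_in348.top chk397
theorem D4T1_in419 : CD.Mem R (CD.gen R 4032) 103079215104 := D5_s0_324.slp' chk418
theorem D4T1_m0 : CD.Mem R (CD.gen R 103079215104) 103079215104 := GC.Mem.gen D4T1_in419.top
theorem pt420e : ∃ x, D0.Rep pt420c x := via_rep _ _ (via_rep _ _ (act2_rep (n := 12) (d := 4) (by decide) (by decide) (c := 0x20) (by decide +kernel)))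
noncomputable def pt420 := Classical.choose pt420e
theorem pt420r : D0.Rep pt420c pt420 := Classical.choose_spec pt420e
theorem pt421e : ∃ x, D0.Rep pt421c x := via_rep _ _ (via_rep _ _ (act2_rep (n := 12) (d := 4) (by decide) (by decide) (c := 0x40) (by decide +kernel)))
noncomputable def pt421 := Classical.choose pt421e
theorem pt421r : D0.Rep pt421c pt421 := Classical.choose_spec pt421e
theorem pt422e : ∃ x, D0.Rep pt422c x := via_rep _ _ (via_rep _ _ (act2_rep (n := 12) (d := 4) (by decide) (by decide) (c := 0x80) (by decide +kernel)))
noncomputable def pt422 := Classical.choose pt422e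
theorem pt422r : D0.Rep pt422c pt422 := Classical.choose_spec pt422e
theorem pt423e : ∃ x, D0.Rep pt423c x := via_rep _ _ (via_rep _ _ (act2_rep (n := 12) (d := 4) (by decide) (by decide) (c := 0x200) (by decide +kernel)))
noncomputable def pt423 := Classical.choose pt423e
theorem pt423r : D0.Rep pt423c pt423 := Classical.choose_spec pt423e
theorem D4T1_s0_426 : CD.Mem R (CD.gen R 103079215104) 1065151889408 := D4T1_m0.slp' chk425
theorem D4T1_c0i : CD.Mem R (CD.gen R 103079215104) 962072674304 := D4T1_s0_426.sub chk427
theorem D4T1_c0m : CD.Mem R (CD.gen R 962072674304) 962072674304 := D4T1_c0i.gen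
theorem fx429 : CD.gen R 962072674304 ≤ stabilizer _ pt420 := Act.fix_sound D4T1_c0i.top pt420r chk428
theorem cov436 : Cov (CD.gen R 103079215104) (CD.wds R [0]) pt420 6 := Act.cov_of_seen (Act.pieces_sound D4T1_s0_426 D4T1_s0_426.top pt420r chk434) chk435
theorem D4T1_c1i : CD.Mem R (CD.gen R 962072674304) 824633720832 := D4T1_c0m.sub chk437
theorem D4T1_c1m : CD.Mem R (CD.gen R 824633720832) 824633720832 := D4T1_c1i.gen
theorem fx439 : CD.gen R 824633720832 ≤ stabilizer _ pt421 := Act.fix_sound D4T1_c1i.top pt421r chk438
theorem cov446 : Cov (CD.gen R 962072674304) (CD.wds R [0]) pt421 5 := Act.cov_of_seen (Act.pieces_sound D4T1_c0m D4T1_c0m.top pt421r chk444) chk445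
theorem D4T1_c2i : CD.Mem R (CD.gen R 824633720832) 549755813888 := D4T1_c1m.sub chk447
theorem D4T1_c2m : CD.Mem R (CD.gen R 549755813888) 549755813888 := D4T1_c2i.gen
theorem fx449 : CD.gen R 549755813888 ≤ stabilizer _ pt422 := Act.fix_sound D4T1_c2i.top pt422r chk448
theorem cov456 : Cov (CD.gen R 824633720832) (CD.wds R [0]) pt422 4 := Act.cov_of_seen (Act.pieces_sound D4T1_c1m D4T1_c1m.top pt422r chk454) chk455
theorem D4T1_c3i : CD.Mem R (CD.gen R 549755813888) 0 := D4T1_c2m.sub chk457
theorem D4T1_c3m : CD.Mem R (CD.gen R 0) 0 := D4T1_c3i.gen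
theorem fx459 : CD.gen R 0 ≤ stabilizer _ pt423 := Act.fix_sound D4T1_c3i.top pt423r chk458
theorem cov466 : Cov (CD.gen R 549755813888) (CD.wds R [0]) pt423 3 := Act.cov_of_seen (Act.pieces_sound D4T1_c2m D4T1_c2m.top pt423r chk464) chk465
theorem D4T1_lb4 : 1 ≤ Nat.card (CD.gen R 0) := Nat.card_pos
theorem D4T1_lo3 : 3 * Nat.card (CD.gen R 0) ≤ Nat.card (CD.gen R 549755813888) := cov466.low le_rfl (GC.wds_zero _) D4T1_c3i.gen_le fx459
theorem D4T1_lb3 : 3 ≤ Nat.card (CD.gen R 549755813888) := low_step D4T1_lo3 D4T1_lb4 (by decide +kernel)
theorem D4T1_lo2 : 4 * Nat.card (CD.gen R 549755813888) ≤ Nat.card (CD.gen R 824633720832) := cov456.low le_rfl (GC.wds_zero _) D4T1_c2i.gen_le fx449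
theorem D4T1_lb2 : 12 ≤ Nat.card (CD.gen R 824633720832) := low_step D4T1_lo2 D4T1_lb3 (by decide +kernel)
theorem D4T1_lo1 : 5 * Nat.card (CD.gen R 824633720832) ≤ Nat.card (CD.gen R 962072674304) := cov446.low le_rfl (GC.wds_zero _) D4T1_c1i.gen_le fx439
theorem D4T1_lb1 : 60 ≤ Nat.card (CD.gen R 962072674304) := low_step D4T1_lo1 D4T1_lb2 (by decide +kernel)
theorem D4T1_lo0 : 6 * Nat.card (CD.gen R 962072674304) ≤ Nat.card (CD.gen R 103079215104) := cov436.low le_rfl (GC.wds_zero _) D4T1_c0i.gen_le fx429
theorem D4T1_lb0 : 360 ≤ Nat.card (CD.gen R 103079215104) := low_step D4T1_lo0 D4T1_lb1 (by decide +kernel)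
theorem D4_T1c : ∀ τ ∈ (CD.gen R 103079215104), CD.el (R 5) * τ * (CD.el (R 5))⁻¹ ∈ (CD.gen R 4032) := D5_s0_324.conjA (D4_I.get (i := 5) (by decide +kernel)).top D4T1_in419.top chk468
theorem cov477 : Cov (CD.gen R 103079215104) (CD.wds R (List.map Prod.fst (l469))) pt321 7 := Act.cov_of_seen (Act.pieces_sound D4T1_s0_426 D5_s0_324.top pt321r chk475) chk476
theorem D4_T1d : Dec (CD.gen R 4032) (CD.gen R 103079215104) (CD.wds R (List.map Prod.fst (l469))) (CD.gen R 3221225472) := cov477.dec D4T1_in419.gen_le (GC.wds_sub D5_s0_324 chk478) D4K_in348.gen_le fx399 (up_low D5_ub D4K_lb0 (by decide +kernel))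
theorem D4_T1p : ∀ x ∈ DC1 (CD.gen R 4032) (CD.el (R 5)), x * CD.el (R 5) ∈ DCs (CD.gen R 4032) (CD.els R 32) := GC.dc_piece' D4_T1d D4_T1c D4_Kc (D5_s0_324.dcRel D4_I.top (D4_I.get (i := 5) (by decide +kernel)).top (D4_m1.get (i := 5) (by decide +kernel)).top chk470)
theorem D4_T1u : Nat.card (CD.gen R 4032) ≤ 7 * Nat.card (CD.gen R 103079215104) := up_low D5_ub D4T1_lb0 (by decide +kernel)
theorem D4_T1n : (DC1 (CD.gen R 4032) (CD.el (R 5))).ncard ≤ Nat.card (CD.gen R 4032) * 7 := ncard_DC1 D4T1_in419.gen_le D4_T1c D4_T1u
theorem D4_dc : ∀ x ∈ (CD.gen R 4064), x ∈ DCs (CD.gen R 4032) (CD.els R 32) := GC.dc_gen (MU := 32) D5_s0_324 (by decide +kernel) (GC.forall_els (L := [5]) (forall_cons ⟨D5_s0_324.inDC' D4_I.top (D4_m1.get (i := 5) (by decide +kernel)).top chk479, GC.forall_els (L := [5]) (forall_cons D4_T1p forall_nil) (by decide +kernel)⟩ forall_nil) (by decide +kernel))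
theorem D4_cs : ∀ p ∈ ([(5, 7)] : List (ℕ × ℕ)), (DC1 (CD.gen R 4032) (CD.el (R p.1))).ncard ≤ Nat.card (CD.gen R 4032) * p.2 := (forall_cons D4_T1n forall_nil)
theorem D4_ix : Nat.card (CD.gen R 4064) ≤ 8 * Nat.card (CD.gen R 4032) := GC.card_dc [(5, 7)] D4_dc D4_cs (by decide +kernel)
theorem D4_ub : Nat.card (CD.gen R 4064) ≤ 20160 := up_mul D4_ix D5_ub (by decide +kernel)
theorem pt481e : ∃ x, D0.Rep pt481c x := via_rep _ _ (via_rep _ _ (act2_rep (n := 12) (d := 4) (by decide) (by decide) (c := 0x10) (by decide +kernel)))
noncomputable def pt481 := Classical.choose pt481e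
theorem pt481r : D0.Rep pt481c pt481 := Classical.choose_spec pt481e
theorem D3_m0 : CD.Mem R (CD.gen R 4080) 4080 := GC.Mem.gen (vD.sub chk480)
theorem D3_m1 : CD.Mem R (CD.gen R 4080) 536874992 := D3_m0.lor' (D4_m1.mono (D3_m0.sub chk482).gen_le) chk483
theorem D3_I : CD.Mem R (CD.gen R 4080) 16 := D3_m1.sub chk484
theorem D3K_in487 : CD.Mem R (CD.gen R 4064) 3298534883328 := D4_m1.slp' chk486
theorem D3K_m0 : CD.Mem R (CD.gen R 3298534883328) 3298534883328 := GC.Mem.gen D3K_in487.top
theorem pt488e : ∃ x, D0.Rep pt488c x := via_rep _ _ (via_rep _ _ (act2_rep (n := 12) (d := 4) (by decide) (by decide) (c := 0x20) (by decide +kernel)))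
noncomputable def pt488 := Classical.choose pt488e
theorem pt488r : D0.Rep pt488c pt488 := Classical.choose_spec pt488e
theorem pt489e : ∃ x, D0.Rep pt489c x := via_rep _ _ (via_rep _ _ (act2_rep (n := 12) (d := 4) (by decide) (by decide) (c := 0x40) (by decide +kernel)))
noncomputable def pt489 := Classical.choose pt489e
theorem pt489r : D0.Rep pt489c pt489 := Classical.choose_spec pt489e
theorem pt490e : ∃ x, D0.Rep pt490c x := via_rep _ _ (via_rep _ _ (act2_rep (n := 12) (d := 4) (by decide) (by decide) (c := 0x80) (by decide +kernel)))
noncomputable def pt490 := Classical.choose pt490e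
theorem pt490r : D0.Rep pt490c pt490 := Classical.choose_spec pt490e
theorem pt491e : ∃ x, D0.Rep pt491c x := via_rep _ _ (via_rep _ _ (act2_rep (n := 12) (d := 4) (by decide) (by decide) (c := 0x200) (by decide +kernel)))
noncomputable def pt491 := Classical.choose pt491e
theorem pt491r : D0.Rep pt491c pt491 := Classical.choose_spec pt491e
theorem pt492e : ∃ x, D0.Rep pt492c x := via_rep _ _ (via_rep _ _ (act2_rep (n := 12) (d := 4) (by decide) (by decide) (c := 0x100) (by decide +kernel)))
noncomputable def pt492 := Classical.choose pt492e
theorem pt492r : D0.Rep pt492c pt492 := Classical.choose_spec pt492e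
theorem D3K_s0_495 : CD.Mem R (CD.gen R 3298534883328) 139637976727552 := D3K_m0.slp' chk494
theorem D3K_c0i : CD.Mem R (CD.gen R 3298534883328) 136339441844224 := D3K_s0_495.sub chk496
theorem D3K_c0m : CD.Mem R (CD.gen R 136339441844224) 136339441844224 := D3K_c0i.gen
theorem fx498 : CD.gen R 136339441844224 ≤ stabilizer _ pt488 := Act.fix_sound D3K_c0i.top pt488r chk497
theorem cov505 : Cov (CD.gen R 3298534883328) (CD.wds R [0]) pt488 7 := Act.cov_of_seen (Act.pieces_sound D3K_s0_495 D3K_s0_495.top pt488r chk503) chk504
theorem D3K_c1i : CD.Mem R (CD.gen R 136339441844224) 131941395333120 := D3K_c0m.sub chk506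
theorem D3K_c1m : CD.Mem R (CD.gen R 131941395333120) 131941395333120 := D3K_c1i.gen
theorem fx508 : CD.gen R 131941395333120 ≤ stabilizer _ pt489 := Act.fix_sound D3K_c1i.top pt489r chk507
theorem cov515 : Cov (CD.gen R 136339441844224) (CD.wds R [0]) pt489 6 := Act.cov_of_seen (Act.pieces_sound D3K_c0m D3K_c0m.top pt489r chk513) chk514
theorem D3K_c2i : CD.Mem R (CD.gen R 131941395333120) 123145302310912 := D3K_c1m.sub chk516
theorem D3K_c2m : CD.Mem R (CD.gen R 123145302310912) 123145302310912 := D3K_c2i.gen
theorem fx518 : CD.gen R 123145302310912 ≤ stabilizer _ pt490 := Act.fix_sound D3K_c2i.top pt490r chk517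
theorem cov525 : Cov (CD.gen R 131941395333120) (CD.wds R [0]) pt490 5 := Act.cov_of_seen (Act.pieces_sound D3K_c1m D3K_c1m.top pt490r chk523) chk524
theorem D3K_c3i : CD.Mem R (CD.gen R 123145302310912) 70368744177664 := D3K_c2m.sub chk526
theorem D3K_c3m : CD.Mem R (CD.gen R 70368744177664) 70368744177664 := D3K_c3i.gen
theorem fx528 : CD.gen R 70368744177664 ≤ stabilizer _ pt491 := Act.fix_sound D3K_c3i.top pt491r chk527
theorem cov535 : Cov (CD.gen R 123145302310912) (CD.wds R [0]) pt491 4 := Act.cov_of_seen (Act.pieces_sound D3K_c2m D3K_c2m.top pt491r chk533) chk534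
theorem D3K_c4i : CD.Mem R (CD.gen R 70368744177664) 0 := D3K_c3m.sub chk536
theorem D3K_c4m : CD.Mem R (CD.gen R 0) 0 := D3K_c4i.gen
theorem fx538 : CD.gen R 0 ≤ stabilizer _ pt492 := Act.fix_sound D3K_c4i.top pt492r chk537
theorem cov545 : Cov (CD.gen R 70368744177664) (CD.wds R [0]) pt492 3 := Act.cov_of_seen (Act.pieces_sound D3K_c3m D3K_c3m.top pt492r chk543) chk544
theorem D3K_lb5 : 1 ≤ Nat.card (CD.gen R 0) := Nat.card_pos
theorem D3K_lo4 : 3 * Nat.card (CD.gen R 0) ≤ Nat.card (CD.gen R 70368744177664) := cov545.low le_rfl (GC.wds_zero _) D3K_c4i.gen_le fx538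
theorem D3K_lb4 : 3 ≤ Nat.card (CD.gen R 70368744177664) := low_step D3K_lo4 D3K_lb5 (by decide +kernel)
theorem D3K_lo3 : 4 * Nat.card (CD.gen R 70368744177664) ≤ Nat.card (CD.gen R 123145302310912) := cov535.low le_rfl (GC.wds_zero _) D3K_c3i.gen_le fx528
theorem D3K_lb3 : 12 ≤ Nat.card (CD.gen R 123145302310912) := low_step D3K_lo3 D3K_lb4 (by decide +kernel)
theorem D3K_lo2 : 5 * Nat.card (CD.gen R 123145302310912) ≤ Nat.card (CD.gen R 131941395333120) := cov525.low le_rfl (GC.wds_zero _) D3K_c2i.gen_le fx518
theorem D3K_lb2 : 60 ≤ Nat.card (CD.gen R 131941395333120) := low_step D3K_lo2 D3K_lb3 (by decide +kernel)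
theorem D3K_lo1 : 6 * Nat.card (CD.gen R 131941395333120) ≤ Nat.card (CD.gen R 136339441844224) := cov515.low le_rfl (GC.wds_zero _) D3K_c1i.gen_le fx508
theorem D3K_lb1 : 360 ≤ Nat.card (CD.gen R 136339441844224) := low_step D3K_lo1 D3K_lb2 (by decide +kernel)
theorem D3K_lo0 : 7 * Nat.card (CD.gen R 136339441844224) ≤ Nat.card (CD.gen R 3298534883328) := cov505.low le_rfl (GC.wds_zero _) D3K_c0i.gen_le fx498
theorem D3K_lb0 : 2520 ≤ Nat.card (CD.gen R 3298534883328) := low_step D3K_lo0 D3K_lb1 (by decide +kernel)
theorem fx549 : CD.gen R 3298534883328 ≤ stabilizer _ pt481 := Act.fix_sound D3K_in487.top pt481r chk548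
theorem D3_Kc : ∀ κ ∈ (CD.gen R 3298534883328), (CD.el (R 4))⁻¹ * κ * CD.el (R 4) ∈ (CD.gen R 4064) := D4_m1.conjB (D3_m1.get (i := 4) (by decide +kernel)).top D3K_in487.top chk547
theorem D3T1_in552 : CD.Mem R (CD.gen R 4064) 422212465065984 := D4_m1.slp' chk551
theorem D3T1_m0 : CD.Mem R (CD.gen R 422212465065984) 422212465065984 := GC.Mem.gen D3T1_in552.top
theorem pt553e : ∃ x, D0.Rep pt553c x := via_rep _ _ (via_rep _ _ (act2_rep (n := 12) (d := 4) (by decide) (by decide) (c := 0x10) (by decide +kernel)))
noncomputable def pt553 := Classical.choose pt553e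
theorem pt553r : D0.Rep pt553c pt553 := Classical.choose_spec pt553e
theorem pt554e : ∃ x, D0.Rep pt554c x := via_rep _ _ (via_rep _ _ (act2_rep (n := 12) (d := 4) (by decide) (by decide) (c := 0x20) (by decide +kernel)))
noncomputable def pt554 := Classical.choose pt554e
theorem pt554r : D0.Rep pt554c pt554 := Classical.choose_spec pt554e
theorem pt555e : ∃ x, D0.Rep pt555c x := via_rep _ _ (via_rep _ _ (act2_rep (n := 12) (d := 4) (by decide) (by decide) (c := 0x40) (by decide +kernel)))
noncomputable def pt555 := Classical.choose pt555e
theorem pt555r : D0.Rep pt555c pt555 := Classical.choose_spec pt555e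
theorem pt556e : ∃ x, D0.Rep pt556c x := via_rep _ _ (via_rep _ _ (act2_rep (n := 12) (d := 4) (by decide) (by decide) (c := 0x100) (by decide +kernel)))
noncomputable def pt556 := Classical.choose pt556e
theorem pt556r : D0.Rep pt556c pt556 := Classical.choose_spec pt556e
theorem pt557e : ∃ x, D0.Rep pt557c x := via_rep _ _ (via_rep _ _ (act2_rep (n := 12) (d := 4) (by decide) (by decide) (c := 0x200) (by decide +kernel)))
noncomputable def pt557 := Classical.choose pt557e
theorem pt557r : D0.Rep pt557c pt557 := Classical.choose_spec pt557e
theorem D3T1_s0_560 : CD.Mem R (CD.gen R 422212465065984) 17873661021126656 := D3T1_m0.slp' chk559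
theorem D3T1_c0i : CD.Mem R (CD.gen R 422212465065984) 17451448556060672 := D3T1_s0_560.sub chk561
theorem D3T1_c0m : CD.Mem R (CD.gen R 17451448556060672) 17451448556060672 := D3T1_c0i.gen
theorem fx563 : CD.gen R 17451448556060672 ≤ stabilizer _ pt553 := Act.fix_sound D3T1_c0i.top pt553r chk562
theorem cov570 : Cov (CD.gen R 422212465065984) (CD.wds R [0]) pt553 7 := Act.cov_of_seen (Act.pieces_sound D3T1_s0_560 D3T1_s0_560.top pt553r chk568) chk569
theorem D3T1_c1i : CD.Mem R (CD.gen R 17451448556060672) 15762598695796736 := D3T1_c0m.sub chk571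
theorem D3T1_c1m : CD.Mem R (CD.gen R 15762598695796736) 15762598695796736 := D3T1_c1i.gen
theorem fx573 : CD.gen R 15762598695796736 ≤ stabilizer _ pt554 := Act.fix_sound D3T1_c1i.top pt554r chk572
theorem cov580 : Cov (CD.gen R 17451448556060672) (CD.wds R [0]) pt554 6 := Act.cov_of_seen (Act.pieces_sound D3T1_c0m D3T1_c0m.top pt554r chk578) chk579
theorem D3T1_c2i : CD.Mem R (CD.gen R 15762598695796736) 13510798882111488 := D3T1_c1m.sub chk581
theorem D3T1_c2m : CD.Mem R (CD.gen R 13510798882111488) 13510798882111488 := D3T1_c2i.gen
theorem fx583 : CD.gen R 13510798882111488 ≤ stabilizer _ pt555 := Act.fix_sound D3T1_c2i.top pt555r chk582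
theorem cov590 : Cov (CD.gen R 15762598695796736) (CD.wds R [0]) pt555 5 := Act.cov_of_seen (Act.pieces_sound D3T1_c1m D3T1_c1m.top pt555r chk588) chk589
theorem D3T1_c3i : CD.Mem R (CD.gen R 13510798882111488) 9007199254740992 := D3T1_c2m.sub chk591
theorem D3T1_c3m : CD.Mem R (CD.gen R 9007199254740992) 9007199254740992 := D3T1_c3i.gen
theorem fx593 : CD.gen R 9007199254740992 ≤ stabilizer _ pt556 := Act.fix_sound D3T1_c3i.top pt556r chk592
theorem cov600 : Cov (CD.gen R 13510798882111488) (CD.wds R [0]) pt556 4 := Act.cov_of_seen (Act.pieces_sound D3T1_c2m D3T1_c2m.top pt556r chk598) chk599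
theorem D3T1_c4i : CD.Mem R (CD.gen R 9007199254740992) 0 := D3T1_c3m.sub chk601
theorem D3T1_c4m : CD.Mem R (CD.gen R 0) 0 := D3T1_c4i.gen
theorem fx603 : CD.gen R 0 ≤ stabilizer _ pt557 := Act.fix_sound D3T1_c4i.top pt557r chk602
theorem cov610 : Cov (CD.gen R 9007199254740992) (CD.wds R [0]) pt557 3 := Act.cov_of_seen (Act.pieces_sound D3T1_c3m D3T1_c3m.top pt557r chk608) chk609
theorem D3T1_lb5 : 1 ≤ Nat.card (CD.gen R 0) := Nat.card_pos
theorem D3T1_lo4 : 3 * Nat.card (CD.gen R 0) ≤ Nat.card (CD.gen R 9007199254740992) := cov610.low le_rfl (GC.wds_zero _) D3T1_c4i.gen_le fx603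
theorem D3T1_lb4 : 3 ≤ Nat.card (CD.gen R 9007199254740992) := low_step D3T1_lo4 D3T1_lb5 (by decide +kernel)
theorem D3T1_lo3 : 4 * Nat.card (CD.gen R 9007199254740992) ≤ Nat.card (CD.gen R 13510798882111488) := cov600.low le_rfl (GC.wds_zero _) D3T1_c3i.gen_le fx593
theorem D3T1_lb3 : 12 ≤ Nat.card (CD.gen R 13510798882111488) := low_step D3T1_lo3 D3T1_lb4 (by decide +kernel)
theorem D3T1_lo2 : 5 * Nat.card (CD.gen R 13510798882111488) ≤ Nat.card (CD.gen R 15762598695796736) := cov590.low le_rfl (GC.wds_zero _) D3T1_c2i.gen_le fx583
theorem D3T1_lb2 : 60 ≤ Nat.card (CD.gen R 15762598695796736) := low_step D3T1_lo2 D3T1_lb3 (by decide +kernel)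
theorem D3T1_lo1 : 6 * Nat.card (CD.gen R 15762598695796736) ≤ Nat.card (CD.gen R 17451448556060672) := cov580.low le_rfl (GC.wds_zero _) D3T1_c1i.gen_le fx573
theorem D3T1_lb1 : 360 ≤ Nat.card (CD.gen R 17451448556060672) := low_step D3T1_lo1 D3T1_lb2 (by decide +kernel)
theorem D3T1_lo0 : 7 * Nat.card (CD.gen R 17451448556060672) ≤ Nat.card (CD.gen R 422212465065984) := cov570.low le_rfl (GC.wds_zero _) D3T1_c0i.gen_le fx563
theorem D3T1_lb0 : 2520 ≤ Nat.card (CD.gen R 422212465065984) := low_step D3T1_lo0 D3T1_lb1 (by decide +kernel)
theorem D3_T1c : ∀ τ ∈ (CD.gen R 422212465065984), CD.el (R 4) * τ * (CD.el (R 4))⁻¹ ∈ (CD.gen R 4064) := D4_m1.conjA (D3_I.get (i := 4) (by decide +kernel)).top D3T1_in552.top chk612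
theorem cov621 : Cov (CD.gen R 422212465065984) (CD.wds R (List.map Prod.fst (l613))) pt481 8 := Act.cov_of_seen (Act.pieces_sound D3T1_s0_560 D4_m1.top pt481r chk619) chk620
theorem D3_T1d : Dec (CD.gen R 4064) (CD.gen R 422212465065984) (CD.wds R (List.map Prod.fst (l613))) (CD.gen R 3298534883328) := cov621.dec D3T1_in552.gen_le (GC.wds_sub D4_m1 chk622) D3K_in487.gen_le fx549 (up_low D4_ub D3K_lb0 (by decide +kernel))
theorem D3_T1p : ∀ x ∈ DC1 (CD.gen R 4064) (CD.el (R 4)), x * CD.el (R 4) ∈ DCs (CD.gen R 4064) (CD.els R 16) := GC.dc_piece' D3_T1d D3_T1c D3_Kc (D4_m1.dcRel D3_I.top (D3_I.get (i := 4) (by decide +kernel)).top (D3_m1.get (i := 4) (by decide +kernel)).top chk614)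
theorem D3_T1u : Nat.card (CD.gen R 4064) ≤ 8 * Nat.card (CD.gen R 422212465065984) := up_low D4_ub D3T1_lb0 (by decide +kernel)
theorem D3_T1n : (DC1 (CD.gen R 4064) (CD.el (R 4))).ncard ≤ Nat.card (CD.gen R 4064) * 8 := ncard_DC1 D3T1_in552.gen_le D3_T1c D3_T1u
theorem D3_dc : ∀ x ∈ (CD.gen R 4080), x ∈ DCs (CD.gen R 4064) (CD.els R 16) := GC.dc_gen (MU := 16) D4_m1 (by decide +kernel) (GC.forall_els (L := [4]) (forall_cons ⟨D4_m1.inDC' D3_I.top (D3_m1.get (i := 4) (by decide +kernel)).top chk623, GC.forall_els (L := [4]) (forall_cons D3_T1p forall_nil) (by decide +kernel)⟩ forall_nil) (by decide +kernel))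
theorem D3_cs : ∀ p ∈ ([(4, 8)] : List (ℕ × ℕ)), (DC1 (CD.gen R 4064) (CD.el (R p.1))).ncard ≤ Nat.card (CD.gen R 4064) * p.2 := (forall_cons D3_T1n forall_nil)
theorem D3_ix : Nat.card (CD.gen R 4080) ≤ 9 * Nat.card (CD.gen R 4064) := GC.card_dc [(4, 8)] D3_dc D3_cs (by decide +kernel)
theorem D3_ub : Nat.card (CD.gen R 4080) ≤ 181440 := up_mul D3_ix D4_ub (by decide +kernel)
theorem pt625e : ∃ x, D0.Rep pt625c x := via_rep _ _ (via_rep _ _ (act2_rep (n := 12) (d := 4) (by decide) (by decide) (c := 0x8) (by decide +kernel)))
noncomputable def pt625 := Classical.choose pt625e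
theorem pt625r : D0.Rep pt625c pt625 := Classical.choose_spec pt625e
theorem D2_m0 : CD.Mem R (CD.gen R 4088) 4088 := GC.Mem.gen (vD.sub chk624)
theorem D2_m1 : CD.Mem R (CD.gen R 4088) 536875000 := D2_m0.lor' (D3_m1.mono (D2_m0.sub chk626).gen_le) chk627
theorem D2_I : CD.Mem R (CD.gen R 4088) 8 := D2_m1.sub chk628
theorem D2K_in655 : CD.Mem R (CD.gen R 4080) 54043195528445952 := D3_m1.slp' chk654
theorem D2K_m0 : CD.Mem R (CD.gen R 54043195528445952) 54043195528445952 := GC.Mem.gen D2K_in655.top
theorem pt656e : ∃ x, D0.Rep pt656c x := via_rep _ _ (via_rep _ _ (act2_rep (n := 12) (d := 4) (by decide) (by decide) (c := 0x40) (by decide +kernel)))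
noncomputable def pt656 := Classical.choose pt656e
theorem pt656r : D0.Rep pt656c pt656 := Classical.choose_spec pt656e
theorem pt657e : ∃ x, D0.Rep pt657c x := via_rep _ _ (via_rep _ _ (act2_rep (n := 12) (d := 4) (by decide) (by decide) (c := 0x10) (by decide +kernel)))
noncomputable def pt657 := Classical.choose pt657e
theorem pt657r : D0.Rep pt657c pt657 := Classical.choose_spec pt657e
theorem pt658e : ∃ x, D0.Rep pt658c x := via_rep _ _ (via_rep _ _ (act2_rep (n := 12) (d := 4) (by decide) (by decide) (c := 0x100) (by decide +kernel)))
noncomputable def pt658 := Classical.choose pt658e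
theorem pt658r : D0.Rep pt658c pt658 := Classical.choose_spec pt658e
theorem pt659e : ∃ x, D0.Rep pt659c x := via_rep _ _ (via_rep _ _ (act2_rep (n := 12) (d := 4) (by decide) (by decide) (c := 0x20) (by decide +kernel)))
noncomputable def pt659 := Classical.choose pt659e
theorem pt659r : D0.Rep pt659c pt659 := Classical.choose_spec pt659e
theorem pt660e : ∃ x, D0.Rep pt660c x := via_rep _ _ (via_rep _ _ (act2_rep (n := 12) (d := 4) (by decide) (by decide) (c := 0x80) (by decide +kernel)))
noncomputable def pt660 := Classical.choose pt660e
theorem pt660r : D0.Rep pt660c pt660 := Classical.choose_spec pt660e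
theorem pt661e : ∃ x, D0.Rep pt661c x := via_rep _ _ (via_rep _ _ (act2_rep (n := 12) (d := 4) (by decide) (by decide) (c := 0x200) (by decide +kernel)))
noncomputable def pt661 := Classical.choose pt661e
theorem pt661r : D0.Rep pt661c pt661 := Classical.choose_spec pt661e
theorem D2K_s0_664 : CD.Mem R (CD.gen R 54043195528445952) 18428729675200069632 := D2K_m0.slp' chk663
theorem D2K_c0i : CD.Mem R (CD.gen R 54043195528445952) 18374686479671623680 := D2K_s0_664.sub chk665
theorem D2K_c0m : CD.Mem R (CD.gen R 18374686479671623680) 18374686479671623680 := D2K_c0i.gen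
theorem fx667 : CD.gen R 18374686479671623680 ≤ stabilizer _ pt656 := Act.fix_sound D2K_c0i.top pt656r chk666
theorem cov674 : Cov (CD.gen R 54043195528445952) (CD.wds R [0]) pt656 8 := Act.cov_of_seen (Act.pieces_sound D2K_s0_664 D2K_s0_664.top pt656r chk672) chk673
theorem D2K_c1i : CD.Mem R (CD.gen R 18374686479671623680) 18158513697557839872 := D2K_c0m.sub chk675
theorem D2K_c1m : CD.Mem R (CD.gen R 18158513697557839872) 18158513697557839872 := D2K_c1i.gen
theorem fx677 : CD.gen R 18158513697557839872 ≤ stabilizer _ pt657 := Act.fix_sound D2K_c1i.top pt657r chk676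
theorem cov684 : Cov (CD.gen R 18374686479671623680) (CD.wds R [0]) pt657 7 := Act.cov_of_seen (Act.pieces_sound D2K_c0m D2K_c0m.top pt657r chk682) chk683
theorem D2K_c2i : CD.Mem R (CD.gen R 18158513697557839872) 17293822569102704640 := D2K_c1m.sub chk685
theorem D2K_c2m : CD.Mem R (CD.gen R 17293822569102704640) 17293822569102704640 := D2K_c2i.gen
theorem fx687 : CD.gen R 17293822569102704640 ≤ stabilizer _ pt658 := Act.fix_sound D2K_c2i.top pt658r chk686
theorem cov694 : Cov (CD.gen R 18158513697557839872) (CD.wds R [0]) pt658 6 := Act.cov_of_seen (Act.pieces_sound D2K_c1m D2K_c1m.top pt658r chk692) chk693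
theorem D2K_c3i : CD.Mem R (CD.gen R 17293822569102704640) 13835058055282163712 := D2K_c2m.sub chk695
theorem D2K_c3m : CD.Mem R (CD.gen R 13835058055282163712) 13835058055282163712 := D2K_c3i.gen
theorem fx697 : CD.gen R 13835058055282163712 ≤ stabilizer _ pt659 := Act.fix_sound D2K_c3i.top pt659r chk696
theorem cov704 : Cov (CD.gen R 17293822569102704640) (CD.wds R [0]) pt659 5 := Act.cov_of_seen (Act.pieces_sound D2K_c2m D2K_c2m.top pt659r chk702) chk703
theorem D2K_c4i : CD.Mem R (CD.gen R 13835058055282163712) 9223372036854775808 := D2K_c3m.sub chk705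
theorem D2K_c4m : CD.Mem R (CD.gen R 9223372036854775808) 9223372036854775808 := D2K_c4i.gen
theorem fx707 : CD.gen R 9223372036854775808 ≤ stabilizer _ pt660 := Act.fix_sound D2K_c4i.top pt660r chk706
theorem cov714 : Cov (CD.gen R 13835058055282163712) (CD.wds R [0]) pt660 4 := Act.cov_of_seen (Act.pieces_sound D2K_c3m D2K_c3m.top pt660r chk712) chk713
theorem D2K_c5i : CD.Mem R (CD.gen R 9223372036854775808) 0 := D2K_c4m.sub chk715
theorem D2K_c5m : CD.Mem R (CD.gen R 0) 0 := D2K_c5i.gen
theorem fx717 : CD.gen R 0 ≤ stabilizer _ pt661 := Act.fix_sound D2K_c5i.top pt661r chk716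
theorem cov724 : Cov (CD.gen R 9223372036854775808) (CD.wds R [0]) pt661 3 := Act.cov_of_seen (Act.pieces_sound D2K_c4m D2K_c4m.top pt661r chk722) chk723
theorem D2K_lb6 : 1 ≤ Nat.card (CD.gen R 0) := Nat.card_pos
theorem D2K_lo5 : 3 * Nat.card (CD.gen R 0) ≤ Nat.card (CD.gen R 9223372036854775808) := cov724.low le_rfl (GC.wds_zero _) D2K_c5i.gen_le fx717
theorem D2K_lb5 : 3 ≤ Nat.card (CD.gen R 9223372036854775808) := low_step D2K_lo5 D2K_lb6 (by decide +kernel)
theorem D2K_lo4 : 4 * Nat.card (CD.gen R 9223372036854775808) ≤ Nat.card (CD.gen R 13835058055282163712) := cov714.low le_rfl (GC.wds_zero _) D2K_c4i.gen_le fx707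
theorem D2K_lb4 : 12 ≤ Nat.card (CD.gen R 13835058055282163712) := low_step D2K_lo4 D2K_lb5 (by decide +kernel)
theorem D2K_lo3 : 5 * Nat.card (CD.gen R 13835058055282163712) ≤ Nat.card (CD.gen R 17293822569102704640) := cov704.low le_rfl (GC.wds_zero _) D2K_c3i.gen_le fx697
theorem D2K_lb3 : 60 ≤ Nat.card (CD.gen R 17293822569102704640) := low_step D2K_lo3 D2K_lb4 (by decide +kernel)
theorem D2K_lo2 : 6 * Nat.card (CD.gen R 17293822569102704640) ≤ Nat.card (CD.gen R 18158513697557839872) := cov694.low le_rfl (GC.wds_zero _) D2K_c2i.gen_le fx687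
theorem D2K_lb2 : 360 ≤ Nat.card (CD.gen R 18158513697557839872) := low_step D2K_lo2 D2K_lb3 (by decide +kernel)
theorem D2K_lo1 : 7 * Nat.card (CD.gen R 18158513697557839872) ≤ Nat.card (CD.gen R 18374686479671623680) := cov684.low le_rfl (GC.wds_zero _) D2K_c1i.gen_le fx677
theorem D2K_lb1 : 2520 ≤ Nat.card (CD.gen R 18374686479671623680) := low_step D2K_lo1 D2K_lb2 (by decide +kernel)
theorem D2K_lo0 : 8 * Nat.card (CD.gen R 18374686479671623680) ≤ Nat.card (CD.gen R 54043195528445952) := cov674.low le_rfl (GC.wds_zero _) D2K_c0i.gen_le fx667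
theorem D2K_lb0 : 20160 ≤ Nat.card (CD.gen R 54043195528445952) := low_step D2K_lo0 D2K_lb1 (by decide +kernel)
theorem fx728 : CD.gen R 54043195528445952 ≤ stabilizer _ pt625 := Act.fix_sound D2K_in655.top pt625r chk727
theorem D2_Kc : ∀ κ ∈ (CD.gen R 54043195528445952), (CD.el (R 3))⁻¹ * κ * CD.el (R 3) ∈ (CD.gen R 4080) := D3_m1.conjB (D2_m1.get (i := 3) (by decide +kernel)).top D2K_in655.top chk726
theorem D2T1_in731 : CD.Mem R (CD.gen R 4080) 55340232221128654848 := D3_m1.slp' chk730
theorem D2T1_m0 : CD.Mem R (CD.gen R 55340232221128654848) 55340232221128654848 := GC.Mem.gen D2T1_in731.top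
theorem pt732e : ∃ x, D0.Rep pt732c x := via_rep _ _ (via_rep _ _ (act2_rep (n := 12) (d := 4) (by decide) (by decide) (c := 0x8) (by decide +kernel)))
noncomputable def pt732 := Classical.choose pt732e
theorem pt732r : D0.Rep pt732c pt732 := Classical.choose_spec pt732e
theorem pt733e : ∃ x, D0.Rep pt733c x := via_rep _ _ (via_rep _ _ (act2_rep (n := 12) (d := 4) (by decide) (by decide) (c := 0x10) (by decide +kernel)))
noncomputable def pt733 := Classical.choose pt733e
theorem pt733r : D0.Rep pt733c pt733 := Classical.choose_spec pt733e
theorem pt734e : ∃ x, D0.Rep pt734c x := via_rep _ _ (via_rep _ _ (act2_rep (n := 12) (d := 4) (by decide) (by decide) (c := 0x20) (by decide +kernel)))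
noncomputable def pt734 := Classical.choose pt734e
theorem pt734r : D0.Rep pt734c pt734 := Classical.choose_spec pt734e
theorem pt735e : ∃ x, D0.Rep pt735c x := via_rep _ _ (via_rep _ _ (act2_rep (n := 12) (d := 4) (by decide) (by decide) (c := 0x40) (by decide +kernel)))
noncomputable def pt735 := Classical.choose pt735e
theorem pt735r : D0.Rep pt735c pt735 := Classical.choose_spec pt735e
theorem pt736e : ∃ x, D0.Rep pt736c x := via_rep _ _ (via_rep _ _ (act2_rep (n := 12) (d := 4) (by decide) (by decide) (c := 0x80) (by decide +kernel)))
noncomputable def pt736 := Classical.choose pt736e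
theorem pt736r : D0.Rep pt736c pt736 := Classical.choose_spec pt736e
theorem pt737e : ∃ x, D0.Rep pt737c x := via_rep _ _ (via_rep _ _ (act2_rep (n := 12) (d := 4) (by decide) (by decide) (c := 0x200) (by decide +kernel)))
noncomputable def pt737 := Classical.choose pt737e
theorem pt737r : D0.Rep pt737c pt737 := Classical.choose_spec pt737e
theorem D2T1_s0_740 : CD.Mem R (CD.gen R 55340232221128654848) 4703919738795935662080 := D2T1_m0.slp' chk739
theorem D2T1_c0i : CD.Mem R (CD.gen R 55340232221128654848) 4648579506574807007232 := D2T1_s0_740.sub chk741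
theorem D2T1_c0m : CD.Mem R (CD.gen R 4648579506574807007232) 4648579506574807007232 := D2T1_c0i.gen
theorem fx743 : CD.gen R 4648579506574807007232 ≤ stabilizer _ pt732 := Act.fix_sound D2T1_c0i.top pt732r chk742
theorem cov750 : Cov (CD.gen R 55340232221128654848) (CD.wds R [0]) pt732 8 := Act.cov_of_seen (Act.pieces_sound D2T1_s0_740 D2T1_s0_740.top pt732r chk748) chk749
theorem D2T1_c1i : CD.Mem R (CD.gen R 4648579506574807007232) 4279644625100615974912 := D2T1_c0m.sub chk751
theorem D2T1_c1m : CD.Mem R (CD.gen R 4279644625100615974912) 4279644625100615974912 := D2T1_c1i.gen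
theorem fx753 : CD.gen R 4279644625100615974912 ≤ stabilizer _ pt733 := Act.fix_sound D2T1_c1i.top pt733r chk752
theorem cov760 : Cov (CD.gen R 4648579506574807007232) (CD.wds R [0]) pt733 7 := Act.cov_of_seen (Act.pieces_sound D2T1_c0m D2T1_c0m.top pt733r chk758) chk759
theorem D2T1_c2i : CD.Mem R (CD.gen R 4279644625100615974912) 4132070672510939561984 := D2T1_c1m.sub chk761
theorem D2T1_c2m : CD.Mem R (CD.gen R 4132070672510939561984) 4132070672510939561984 := D2T1_c2i.gen
theorem fx763 : CD.gen R 4132070672510939561984 ≤ stabilizer _ pt734 := Act.fix_sound D2T1_c2i.top pt734r chk762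
theorem cov770 : Cov (CD.gen R 4279644625100615974912) (CD.wds R [0]) pt734 6 := Act.cov_of_seen (Act.pieces_sound D2T1_c1m D2T1_c1m.top pt734r chk768) chk769
theorem D2T1_c3i : CD.Mem R (CD.gen R 4132070672510939561984) 3541774862152233910272 := D2T1_c2m.sub chk771
theorem D2T1_c3m : CD.Mem R (CD.gen R 3541774862152233910272) 3541774862152233910272 := D2T1_c3i.gen
theorem fx773 : CD.gen R 3541774862152233910272 ≤ stabilizer _ pt735 := Act.fix_sound D2T1_c3i.top pt735r chk772
theorem cov780 : Cov (CD.gen R 4132070672510939561984) (CD.wds R [0]) pt735 5 := Act.cov_of_seen (Act.pieces_sound D2T1_c2m D2T1_c2m.top pt735r chk778) chk779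
theorem D2T1_c4i : CD.Mem R (CD.gen R 3541774862152233910272) 2361183241434822606848 := D2T1_c3m.sub chk781
theorem D2T1_c4m : CD.Mem R (CD.gen R 2361183241434822606848) 2361183241434822606848 := D2T1_c4i.gen
theorem fx783 : CD.gen R 2361183241434822606848 ≤ stabilizer _ pt736 := Act.fix_sound D2T1_c4i.top pt736r chk782
theorem cov790 : Cov (CD.gen R 3541774862152233910272) (CD.wds R [0]) pt736 4 := Act.cov_of_seen (Act.pieces_sound D2T1_c3m D2T1_c3m.top pt736r chk788) chk789
theorem D2T1_c5i : CD.Mem R (CD.gen R 2361183241434822606848) 0 := D2T1_c4m.sub chk791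
theorem D2T1_c5m : CD.Mem R (CD.gen R 0) 0 := D2T1_c5i.gen
theorem fx793 : CD.gen R 0 ≤ stabilizer _ pt737 := Act.fix_sound D2T1_c5i.top pt737r chk792
theorem cov800 : Cov (CD.gen R 2361183241434822606848) (CD.wds R [0]) pt737 3 := Act.cov_of_seen (Act.pieces_sound D2T1_c4m D2T1_c4m.top pt737r chk798) chk799
theorem D2T1_lb6 : 1 ≤ Nat.card (CD.gen R 0) := Nat.card_pos
theorem D2T1_lo5 : 3 * Nat.card (CD.gen R 0) ≤ Nat.card (CD.gen R 2361183241434822606848) := cov800.low le_rfl (GC.wds_zero _) D2T1_c5i.gen_le fx793
theorem D2T1_lb5 : 3 ≤ Nat.card (CD.gen R 2361183241434822606848) := low_step D2T1_lo5 D2T1_lb6 (by decide +kernel)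
theorem D2T1_lo4 : 4 * Nat.card (CD.gen R 2361183241434822606848) ≤ Nat.card (CD.gen R 3541774862152233910272) := cov790.low le_rfl (GC.wds_zero _) D2T1_c4i.gen_le fx783
theorem D2T1_lb4 : 12 ≤ Nat.card (CD.gen R 3541774862152233910272) := low_step D2T1_lo4 D2T1_lb5 (by decide +kernel)
theorem D2T1_lo3 : 5 * Nat.card (CD.gen R 3541774862152233910272) ≤ Nat.card (CD.gen R 4132070672510939561984) := cov780.low le_rfl (GC.wds_zero _) D2T1_c3i.gen_le fx773
theorem D2T1_lb3 : 60 ≤ Nat.card (CD.gen R 4132070672510939561984) := low_step D2T1_lo3 D2T1_lb4 (by decide +kernel)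
theorem D2T1_lo2 : 6 * Nat.card (CD.gen R 4132070672510939561984) ≤ Nat.card (CD.gen R 4279644625100615974912) := cov770.low le_rfl (GC.wds_zero _) D2T1_c2i.gen_le fx763
theorem D2T1_lb2 : 360 ≤ Nat.card (CD.gen R 4279644625100615974912) := low_step D2T1_lo2 D2T1_lb3 (by decide +kernel)
theorem D2T1_lo1 : 7 * Nat.card (CD.gen R 4279644625100615974912) ≤ Nat.card (CD.gen R 4648579506574807007232) := cov760.low le_rfl (GC.wds_zero _) D2T1_c1i.gen_le fx753
theorem D2T1_lb1 : 2520 ≤ Nat.card (CD.gen R 4648579506574807007232) := low_step D2T1_lo1 D2T1_lb2 (by decide +kernel)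
theorem D2T1_lo0 : 8 * Nat.card (CD.gen R 4648579506574807007232) ≤ Nat.card (CD.gen R 55340232221128654848) := cov750.low le_rfl (GC.wds_zero _) D2T1_c0i.gen_le fx743
theorem D2T1_lb0 : 20160 ≤ Nat.card (CD.gen R 55340232221128654848) := low_step D2T1_lo0 D2T1_lb1 (by decide +kernel)
theorem D2_T1c : ∀ τ ∈ (CD.gen R 55340232221128654848), CD.el (R 3) * τ * (CD.el (R 3))⁻¹ ∈ (CD.gen R 4080) := D3_m1.conjA (D2_I.get (i := 3) (by decide +kernel)).top D2T1_in731.top chk802
theorem cov811 : Cov (CD.gen R 55340232221128654848) (CD.wds R (List.map Prod.fst (l803))) pt625 9 := Act.cov_of_seen (Act.pieces_sound D2T1_s0_740 D3_m1.top pt625r chk809) chk810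
theorem D2_T1d : Dec (CD.gen R 4080) (CD.gen R 55340232221128654848) (CD.wds R (List.map Prod.fst (l803))) (CD.gen R 54043195528445952) := cov811.dec D2T1_in731.gen_le (GC.wds_sub D3_m1 chk812) D2K_in655.gen_le fx728 (up_low D3_ub D2K_lb0 (by decide +kernel))
theorem D2_T1p : ∀ x ∈ DC1 (CD.gen R 4080) (CD.el (R 3)), x * CD.el (R 3) ∈ DCs (CD.gen R 4080) (CD.els R 8) := GC.dc_piece' D2_T1d D2_T1c D2_Kc (D3_m1.dcRel D2_I.top (D2_I.get (i := 3) (by decide +kernel)).top (D2_m1.get (i := 3) (by decide +kernel)).top chk804)
theorem D2_T1u : Nat.card (CD.gen R 4080) ≤ 9 * Nat.card (CD.gen R 55340232221128654848) := up_low D3_ub D2T1_lb0 (by decide +kernel)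
theorem D2_T1n : (DC1 (CD.gen R 4080) (CD.el (R 3))).ncard ≤ Nat.card (CD.gen R 4080) * 9 := ncard_DC1 D2T1_in731.gen_le D2_T1c D2_T1u
theorem D2_dc : ∀ x ∈ (CD.gen R 4088), x ∈ DCs (CD.gen R 4080) (CD.els R 8) := GC.dc_gen (MU := 8) D3_m1 (by decide +kernel) (GC.forall_els (L := [3]) (forall_cons ⟨D3_m1.inDC' D2_I.top (D2_m1.get (i := 3) (by decide +kernel)).top chk813, GC.forall_els (L := [3]) (forall_cons D2_T1p forall_nil) (by decide +kernel)⟩ forall_nil) (by decide +kernel))
theorem D2_cs : ∀ p ∈ ([(3, 9)] : List (ℕ × ℕ)), (DC1 (CD.gen R 4080) (CD.el (R p.1))).ncard ≤ Nat.card (CD.gen R 4080) * p.2 := (forall_cons D2_T1n forall_nil)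
theorem D2_ix : Nat.card (CD.gen R 4088) ≤ 10 * Nat.card (CD.gen R 4080) := GC.card_dc [(3, 9)] D2_dc D2_cs (by decide +kernel)
theorem D2_ub : Nat.card (CD.gen R 4088) ≤ 1814400 := up_mul D2_ix D3_ub (by decide +kernel)
theorem pt815e : ∃ x, D0.Rep pt815c x := via_rep _ _ (via_rep _ _ (act2_rep (n := 12) (d := 4) (by decide) (by decide) (c := 0x4) (by decide +kernel)))
noncomputable def pt815 := Classical.choose pt815e
theorem pt815r : D0.Rep pt815c pt815 := Classical.choose_spec pt815e
theorem D2_s1_818 : CD.Mem R (CD.gen R 4088) 146393360968959538499576 := D2_m1.slp' chk817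
theorem D1_m0 : CD.Mem R (CD.gen R 4092) 4092 := GC.Mem.gen (vD.sub chk814)
theorem D1_m1 : CD.Mem R (CD.gen R 4092) 146393360968959538499580 := D1_m0.lor' (D2_s1_818.mono (D1_m0.sub chk819).gen_le) chk820
theorem D1_I : CD.Mem R (CD.gen R 4092) 4 := D1_m1.sub chk821
theorem D1K_in833 : CD.Mem R (CD.gen R 4088) 453347182355485940514816 := D2_s1_818.slp' chk832
theorem D1K_m0 : CD.Mem R (CD.gen R 453347182355485940514816) 453347182355485940514816 := GC.Mem.gen D1K_in833.top
theorem pt834e : ∃ x, D0.Rep pt834c x := via_rep _ _ (via_rep _ _ (act2_rep (n := 12) (d := 4) (by decide) (by decide) (c := 0x8) (by decide +kernel)))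
noncomputable def pt834 := Classical.choose pt834e
theorem pt834r : D0.Rep pt834c pt834 := Classical.choose_spec pt834e
theorem pt835e : ∃ x, D0.Rep pt835c x := via_rep _ _ (via_rep _ _ (act2_rep (n := 12) (d := 4) (by decide) (by decide) (c := 0x10) (by decide +kernel)))
noncomputable def pt835 := Classical.choose pt835e
theorem pt835r : D0.Rep pt835c pt835 := Classical.choose_spec pt835e
theorem pt836e : ∃ x, D0.Rep pt836c x := via_rep _ _ (via_rep _ _ (act2_rep (n := 12) (d := 4) (by decide) (by decide) (c := 0x40) (by decide +kernel)))
noncomputable def pt836 := Classical.choose pt836e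
theorem pt836r : D0.Rep pt836c pt836 := Classical.choose_spec pt836e
theorem pt837e : ∃ x, D0.Rep pt837c x := via_rep _ _ (via_rep _ _ (act2_rep (n := 12) (d := 4) (by decide) (by decide) (c := 0x20) (by decide +kernel)))
noncomputable def pt837 := Classical.choose pt837e
theorem pt837r : D0.Rep pt837c pt837 := Classical.choose_spec pt837e
theorem pt838e : ∃ x, D0.Rep pt838c x := via_rep _ _ (via_rep _ _ (act2_rep (n := 12) (d := 4) (by decide) (by decide) (c := 0x80) (by decide +kernel)))
noncomputable def pt838 := Classical.choose pt838e
theorem pt838r : D0.Rep pt838c pt838 := Classical.choose_spec pt838e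
theorem pt839e : ∃ x, D0.Rep pt839c x := via_rep _ _ (via_rep _ _ (act2_rep (n := 12) (d := 4) (by decide) (by decide) (c := 0x100) (by decide +kernel)))
noncomputable def pt839 := Classical.choose pt839e
theorem pt839r : D0.Rep pt839c pt839 := Classical.choose_spec pt839e
theorem pt840e : ∃ x, D0.Rep pt840c x := via_rep _ _ (via_rep _ _ (act2_rep (n := 12) (d := 4) (by decide) (by decide) (c := 0x200) (by decide +kernel)))
noncomputable def pt840 := Classical.choose pt840e
theorem pt840r : D0.Rep pt840c pt840 := Classical.choose_spec pt840e
theorem D1K_s0_843 : CD.Mem R (CD.gen R 453347182355485940514816) 77220136727884438534356992 := D1K_m0.slp' chk842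
theorem D1K_c0i : CD.Mem R (CD.gen R 453347182355485940514816) 76766789545528952593842176 := D1K_s0_843.sub chk844
theorem D1K_c0m : CD.Mem R (CD.gen R 76766789545528952593842176) 76766789545528952593842176 := D1K_c0i.gen
theorem fx846 : CD.gen R 76766789545528952593842176 ≤ stabilizer _ pt834 := Act.fix_sound D1K_c0i.top pt834r chk845
theorem cov853 : Cov (CD.gen R 453347182355485940514816) (CD.wds R [0]) pt834 9 := Act.cov_of_seen (Act.pieces_sound D1K_s0_843 D1K_s0_843.top pt834r chk851) chk852
theorem D1K_c1i : CD.Mem R (CD.gen R 76766789545528952593842176) 76162326635721638006489088 := D1K_c0m.sub chk854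
theorem D1K_c1m : CD.Mem R (CD.gen R 76162326635721638006489088) 76162326635721638006489088 := D1K_c1i.gen
theorem fx856 : CD.gen R 76162326635721638006489088 ≤ stabilizer _ pt835 := Act.fix_sound D1K_c1i.top pt835r chk855
theorem cov863 : Cov (CD.gen R 76766789545528952593842176) (CD.wds R [0]) pt835 8 := Act.cov_of_seen (Act.pieces_sound D1K_c0m D1K_c0m.top pt835r chk861) chk862
theorem D1K_c2i : CD.Mem R (CD.gen R 76162326635721638006489088) 72535549176877750482370560 := D1K_c1m.sub chk864
theorem D1K_c2m : CD.Mem R (CD.gen R 72535549176877750482370560) 72535549176877750482370560 := D1K_c2i.gen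
theorem fx866 : CD.gen R 72535549176877750482370560 ≤ stabilizer _ pt836 := Act.fix_sound D1K_c2i.top pt836r chk865
theorem cov873 : Cov (CD.gen R 76162326635721638006489088) (CD.wds R [0]) pt836 7 := Act.cov_of_seen (Act.pieces_sound D1K_c1m D1K_c1m.top pt836r chk871) chk872
theorem D1K_c3i : CD.Mem R (CD.gen R 72535549176877750482370560) 67699845898419233783545856 := D1K_c2m.sub chk874
theorem D1K_c3m : CD.Mem R (CD.gen R 67699845898419233783545856) 67699845898419233783545856 := D1K_c3i.gen
theorem fx876 : CD.gen R 67699845898419233783545856 ≤ stabilizer _ pt837 := Act.fix_sound D1K_c3i.top pt837r chk875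
theorem cov883 : Cov (CD.gen R 72535549176877750482370560) (CD.wds R [0]) pt837 6 := Act.cov_of_seen (Act.pieces_sound D1K_c2m D1K_c2m.top pt837r chk881) chk882
theorem D1K_c4i : CD.Mem R (CD.gen R 67699845898419233783545856) 58028439341502200385896448 := D1K_c3m.sub chk884
theorem D1K_c4m : CD.Mem R (CD.gen R 58028439341502200385896448) 58028439341502200385896448 := D1K_c4i.gen
theorem fx886 : CD.gen R 58028439341502200385896448 ≤ stabilizer _ pt838 := Act.fix_sound D1K_c4i.top pt838r chk885
theorem cov893 : Cov (CD.gen R 67699845898419233783545856) (CD.wds R [0]) pt838 5 := Act.cov_of_seen (Act.pieces_sound D1K_c3m D1K_c3m.top pt838r chk891) chk892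
theorem D1K_c5i : CD.Mem R (CD.gen R 58028439341502200385896448) 38685626227668133590597632 := D1K_c4m.sub chk894
theorem D1K_c5m : CD.Mem R (CD.gen R 38685626227668133590597632) 38685626227668133590597632 := D1K_c5i.gen
theorem fx896 : CD.gen R 38685626227668133590597632 ≤ stabilizer _ pt839 := Act.fix_sound D1K_c5i.top pt839r chk895
theorem cov903 : Cov (CD.gen R 58028439341502200385896448) (CD.wds R [0]) pt839 4 := Act.cov_of_seen (Act.pieces_sound D1K_c4m D1K_c4m.top pt839r chk901) chk902
theorem D1K_c6i : CD.Mem R (CD.gen R 38685626227668133590597632) 0 := D1K_c5m.sub chk904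
theorem D1K_c6m : CD.Mem R (CD.gen R 0) 0 := D1K_c6i.gen
theorem fx906 : CD.gen R 0 ≤ stabilizer _ pt840 := Act.fix_sound D1K_c6i.top pt840r chk905
theorem cov913 : Cov (CD.gen R 38685626227668133590597632) (CD.wds R [0]) pt840 3 := Act.cov_of_seen (Act.pieces_sound D1K_c5m D1K_c5m.top pt840r chk911) chk912
theorem D1K_lb7 : 1 ≤ Nat.card (CD.gen R 0) := Nat.card_pos
theorem D1K_lo6 : 3 * Nat.card (CD.gen R 0) ≤ Nat.card (CD.gen R 38685626227668133590597632) := cov913.low le_rfl (GC.wds_zero _) D1K_c6i.gen_le fx906
theorem D1K_lb6 : 3 ≤ Nat.card (CD.gen R 38685626227668133590597632) := low_step D1K_lo6 D1K_lb7 (by decide +kernel)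
theorem D1K_lo5 : 4 * Nat.card (CD.gen R 38685626227668133590597632) ≤ Nat.card (CD.gen R 58028439341502200385896448) := cov903.low le_rfl (GC.wds_zero _) D1K_c5i.gen_le fx896
theorem D1K_lb5 : 12 ≤ Nat.card (CD.gen R 58028439341502200385896448) := low_step D1K_lo5 D1K_lb6 (by decide +kernel)
theorem D1K_lo4 : 5 * Nat.card (CD.gen R 58028439341502200385896448) ≤ Nat.card (CD.gen R 67699845898419233783545856) := cov893.low le_rfl (GC.wds_zero _) D1K_c4i.gen_le fx886
theorem D1K_lb4 : 60 ≤ Nat.card (CD.gen R 67699845898419233783545856) := low_step D1K_lo4 D1K_lb5 (by decide +kernel)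
theorem D1K_lo3 : 6 * Nat.card (CD.gen R 67699845898419233783545856) ≤ Nat.card (CD.gen R 72535549176877750482370560) := cov883.low le_rfl (GC.wds_zero _) D1K_c3i.gen_le fx876
theorem D1K_lb3 : 360 ≤ Nat.card (CD.gen R 72535549176877750482370560) := low_step D1K_lo3 D1K_lb4 (by decide +kernel)
theorem D1K_lo2 : 7 * Nat.card (CD.gen R 72535549176877750482370560) ≤ Nat.card (CD.gen R 76162326635721638006489088) := cov873.low le_rfl (GC.wds_zero _) D1K_c2i.gen_le fx866
theorem D1K_lb2 : 2520 ≤ Nat.card (CD.gen R 76162326635721638006489088) := low_step D1K_lo2 D1K_lb3 (by decide +kernel)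
theorem D1K_lo1 : 8 * Nat.card (CD.gen R 76162326635721638006489088) ≤ Nat.card (CD.gen R 76766789545528952593842176) := cov863.low le_rfl (GC.wds_zero _) D1K_c1i.gen_le fx856
theorem D1K_lb1 : 20160 ≤ Nat.card (CD.gen R 76766789545528952593842176) := low_step D1K_lo1 D1K_lb2 (by decide +kernel)
theorem D1K_lo0 : 9 * Nat.card (CD.gen R 76766789545528952593842176) ≤ Nat.card (CD.gen R 453347182355485940514816) := cov853.low le_rfl (GC.wds_zero _) D1K_c0i.gen_le fx846
theorem D1K_lb0 : 181440 ≤ Nat.card (CD.gen R 453347182355485940514816) := low_step D1K_lo0 D1K_lb1 (by decide +kernel)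
theorem fx917 : CD.gen R 453347182355485940514816 ≤ stabilizer _ pt815 := Act.fix_sound D1K_in833.top pt815r chk916
theorem D1_Kc : ∀ κ ∈ (CD.gen R 453347182355485940514816), (CD.el (R 2))⁻¹ * κ * CD.el (R 2) ∈ (CD.gen R 4088) := D2_s1_818.conjB (D1_m1.get (i := 2) (by decide +kernel)).top D1K_in833.top chk915
theorem D1T1_in920 : CD.Mem R (CD.gen R 4088) 232113757366008801543585792 := D2_s1_818.slp' chk919
theorem D1T1_m0 : CD.Mem R (CD.gen R 232113757366008801543585792) 232113757366008801543585792 := GC.Mem.gen D1T1_in920.top
theorem pt921e : ∃ x, D0.Rep pt921c x := via_rep _ _ (via_rep _ _ (act2_rep (n := 12) (d := 4) (by decide) (by decide) (c := 0x4) (by decide +kernel)))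
noncomputable def pt921 := Classical.choose pt921e
theorem pt921r : D0.Rep pt921c pt921 := Classical.choose_spec pt921e
theorem pt922e : ∃ x, D0.Rep pt922c x := via_rep _ _ (via_rep _ _ (act2_rep (n := 12) (d := 4) (by decide) (by decide) (c := 0x10) (by decide +kernel)))
noncomputable def pt922 := Classical.choose pt922e
theorem pt922r : D0.Rep pt922c pt922 := Classical.choose_spec pt922e
theorem pt923e : ∃ x, D0.Rep pt923c x := via_rep _ _ (via_rep _ _ (act2_rep (n := 12) (d := 4) (by decide) (by decide) (c := 0x80) (by decide +kernel)))
noncomputable def pt923 := Classical.choose pt923e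
theorem pt923r : D0.Rep pt923c pt923 := Classical.choose_spec pt923e
theorem pt924e : ∃ x, D0.Rep pt924c x := via_rep _ _ (via_rep _ _ (act2_rep (n := 12) (d := 4) (by decide) (by decide) (c := 0x8) (by decide +kernel)))
noncomputable def pt924 := Classical.choose pt924e
theorem pt924r : D0.Rep pt924c pt924 := Classical.choose_spec pt924e
theorem pt925e : ∃ x, D0.Rep pt925c x := via_rep _ _ (via_rep _ _ (act2_rep (n := 12) (d := 4) (by decide) (by decide) (c := 0x20) (by decide +kernel)))
noncomputable def pt925 := Classical.choose pt925e
theorem pt925r : D0.Rep pt925c pt925 := Classical.choose_spec pt925e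
theorem pt926e : ∃ x, D0.Rep pt926c x := via_rep _ _ (via_rep _ _ (act2_rep (n := 12) (d := 4) (by decide) (by decide) (c := 0x40) (by decide +kernel)))
noncomputable def pt926 := Classical.choose pt926e
theorem pt926r : D0.Rep pt926c pt926 := Classical.choose_spec pt926e
theorem pt927e : ∃ x, D0.Rep pt927c x := via_rep _ _ (via_rep _ _ (act2_rep (n := 12) (d := 4) (by decide) (by decide) (c := 0x100) (by decide +kernel)))
noncomputable def pt927 := Classical.choose pt927e
theorem pt927r : D0.Rep pt927c pt927 := Classical.choose_spec pt927e
theorem D1T1_s0_930 : CD.Mem R (CD.gen R 232113757366008801543585792) 39536710004676832529590779904 := D1T1_m0.slp' chk929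
theorem D1T1_c0i : CD.Mem R (CD.gen R 232113757366008801543585792) 39304596247310823728047194112 := D1T1_s0_930.sub chk931
theorem D1T1_c0m : CD.Mem R (CD.gen R 39304596247310823728047194112) 39304596247310823728047194112 := D1T1_c0i.gen
theorem fx933 : CD.gen R 39304596247310823728047194112 ≤ stabilizer _ pt921 := Act.fix_sound D1T1_c0i.top pt921r chk932
theorem cov940 : Cov (CD.gen R 232113757366008801543585792) (CD.wds R [0]) pt921 9 := Act.cov_of_seen (Act.pieces_sound D1T1_s0_930 D1T1_s0_930.top pt921r chk938) chk939
theorem D1T1_c1i : CD.Mem R (CD.gen R 39304596247310823728047194112) 38995111237489478659322413056 := D1T1_c0m.sub chk941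
theorem D1T1_c1m : CD.Mem R (CD.gen R 38995111237489478659322413056) 38995111237489478659322413056 := D1T1_c1i.gen
theorem fx943 : CD.gen R 38995111237489478659322413056 ≤ stabilizer _ pt922 := Act.fix_sound D1T1_c1i.top pt922r chk942
theorem cov950 : Cov (CD.gen R 39304596247310823728047194112) (CD.wds R [0]) pt922 8 := Act.cov_of_seen (Act.pieces_sound D1T1_c0m D1T1_c0m.top pt922r chk948) chk949
theorem D1T1_c2i : CD.Mem R (CD.gen R 38995111237489478659322413056) 28472620903563746322679857152 := D1T1_c1m.sub chk951
theorem D1T1_c2m : CD.Mem R (CD.gen R 28472620903563746322679857152) 28472620903563746322679857152 := D1T1_c2i.gen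
theorem fx953 : CD.gen R 28472620903563746322679857152 ≤ stabilizer _ pt923 := Act.fix_sound D1T1_c2i.top pt923r chk952
theorem cov960 : Cov (CD.gen R 38995111237489478659322413056) (CD.wds R [0]) pt923 7 := Act.cov_of_seen (Act.pieces_sound D1T1_c1m D1T1_c1m.top pt923r chk958) chk959
theorem D1T1_c3i : CD.Mem R (CD.gen R 28472620903563746322679857152) 27234680864278366047780732928 := D1T1_c2m.sub chk961
theorem D1T1_c3m : CD.Mem R (CD.gen R 27234680864278366047780732928) 27234680864278366047780732928 := D1T1_c3i.gen
theorem fx963 : CD.gen R 27234680864278366047780732928 ≤ stabilizer _ pt924 := Act.fix_sound D1T1_c3i.top pt924r chk962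
theorem cov970 : Cov (CD.gen R 28472620903563746322679857152) (CD.wds R [0]) pt924 6 := Act.cov_of_seen (Act.pieces_sound D1T1_c2m D1T1_c2m.top pt924r chk968) chk969
theorem D1T1_c4i : CD.Mem R (CD.gen R 27234680864278366047780732928) 24758800785707605497982484480 := D1T1_c3m.sub chk971
theorem D1T1_c4m : CD.Mem R (CD.gen R 24758800785707605497982484480) 24758800785707605497982484480 := D1T1_c4i.gen
theorem fx973 : CD.gen R 24758800785707605497982484480 ≤ stabilizer _ pt925 := Act.fix_sound D1T1_c4i.top pt925r chk972
theorem cov980 : Cov (CD.gen R 27234680864278366047780732928) (CD.wds R [0]) pt925 5 := Act.cov_of_seen (Act.pieces_sound D1T1_c3m D1T1_c3m.top pt925r chk978) chk979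
theorem D1T1_c5i : CD.Mem R (CD.gen R 24758800785707605497982484480) 19807040628566084398385987584 := D1T1_c4m.sub chk981
theorem D1T1_c5m : CD.Mem R (CD.gen R 19807040628566084398385987584) 19807040628566084398385987584 := D1T1_c5i.gen
theorem fx983 : CD.gen R 19807040628566084398385987584 ≤ stabilizer _ pt926 := Act.fix_sound D1T1_c5i.top pt926r chk982
theorem cov990 : Cov (CD.gen R 24758800785707605497982484480) (CD.wds R [0]) pt926 4 := Act.cov_of_seen (Act.pieces_sound D1T1_c4m D1T1_c4m.top pt926r chk988) chk989
theorem D1T1_c6i : CD.Mem R (CD.gen R 19807040628566084398385987584) 0 := D1T1_c5m.sub chk991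
theorem D1T1_c6m : CD.Mem R (CD.gen R 0) 0 := D1T1_c6i.gen
theorem fx993 : CD.gen R 0 ≤ stabilizer _ pt927 := Act.fix_sound D1T1_c6i.top pt927r chk992
theorem cov1000 : Cov (CD.gen R 19807040628566084398385987584) (CD.wds R [0]) pt927 3 := Act.cov_of_seen (Act.pieces_sound D1T1_c5m D1T1_c5m.top pt927r chk998) chk999
theorem D1T1_lb7 : 1 ≤ Nat.card (CD.gen R 0) := Nat.card_pos
theorem D1T1_lo6 : 3 * Nat.card (CD.gen R 0) ≤ Nat.card (CD.gen R 19807040628566084398385987584) := cov1000.low le_rfl (GC.wds_zero _) D1T1_c6i.gen_le fx993
theorem D1T1_lb6 : 3 ≤ Nat.card (CD.gen R 19807040628566084398385987584) := low_step D1T1_lo6 D1T1_lb7 (by decide +kernel)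
theorem D1T1_lo5 : 4 * Nat.card (CD.gen R 19807040628566084398385987584) ≤ Nat.card (CD.gen R 24758800785707605497982484480) := cov990.low le_rfl (GC.wds_zero _) D1T1_c5i.gen_le fx983
theorem D1T1_lb5 : 12 ≤ Nat.card (CD.gen R 24758800785707605497982484480) := low_step D1T1_lo5 D1T1_lb6 (by decide +kernel)
theorem D1T1_lo4 : 5 * Nat.card (CD.gen R 24758800785707605497982484480) ≤ Nat.card (CD.gen R 27234680864278366047780732928) := cov980.low le_rfl (GC.wds_zero _) D1T1_c4i.gen_le fx973
theorem D1T1_lb4 : 60 ≤ Nat.card (CD.gen R 27234680864278366047780732928) := low_step D1T1_lo4 D1T1_lb5 (by decide +kernel)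
theorem D1T1_lo3 : 6 * Nat.card (CD.gen R 27234680864278366047780732928) ≤ Nat.card (CD.gen R 28472620903563746322679857152) := cov970.low le_rfl (GC.wds_zero _) D1T1_c3i.gen_le fx963
theorem D1T1_lb3 : 360 ≤ Nat.card (CD.gen R 28472620903563746322679857152) := low_step D1T1_lo3 D1T1_lb4 (by decide +kernel)
theorem D1T1_lo2 : 7 * Nat.card (CD.gen R 28472620903563746322679857152) ≤ Nat.card (CD.gen R 38995111237489478659322413056) := cov960.low le_rfl (GC.wds_zero _) D1T1_c2i.gen_le fx953
theorem D1T1_lb2 : 2520 ≤ Nat.card (CD.gen R 38995111237489478659322413056) := low_step D1T1_lo2 D1T1_lb3 (by decide +kernel)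
theorem D1T1_lo1 : 8 * Nat.card (CD.gen R 38995111237489478659322413056) ≤ Nat.card (CD.gen R 39304596247310823728047194112) := cov950.low le_rfl (GC.wds_zero _) D1T1_c1i.gen_le fx943
theorem D1T1_lb1 : 20160 ≤ Nat.card (CD.gen R 39304596247310823728047194112) := low_step D1T1_lo1 D1T1_lb2 (by decide +kernel)
theorem D1T1_lo0 : 9 * Nat.card (CD.gen R 39304596247310823728047194112) ≤ Nat.card (CD.gen R 232113757366008801543585792) := cov940.low le_rfl (GC.wds_zero _) D1T1_c0i.gen_le fx933
theorem D1T1_lb0 : 181440 ≤ Nat.card (CD.gen R 232113757366008801543585792) := low_step D1T1_lo0 D1T1_lb1 (by decide +kernel)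
theorem D1_T1c : ∀ τ ∈ (CD.gen R 232113757366008801543585792), CD.el (R 2) * τ * (CD.el (R 2))⁻¹ ∈ (CD.gen R 4088) := D2_s1_818.conjA (D1_I.get (i := 2) (by decide +kernel)).top D1T1_in920.top chk1002
theorem cov1011 : Cov (CD.gen R 232113757366008801543585792) (CD.wds R (List.map Prod.fst (l1003))) pt815 10 := Act.cov_of_seen (Act.pieces_sound D1T1_s0_930 D2_s1_818.top pt815r chk1009) chk1010
theorem D1_T1d : Dec (CD.gen R 4088) (CD.gen R 232113757366008801543585792) (CD.wds R (List.map Prod.fst (l1003))) (CD.gen R 453347182355485940514816) := cov1011.dec D1T1_in920.gen_le (GC.wds_sub D2_s1_818 chk1012) D1K_in833.gen_le fx917 (up_low D2_ub D1K_lb0 (by decide +kernel))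
theorem D1_T1p : ∀ x ∈ DC1 (CD.gen R 4088) (CD.el (R 2)), x * CD.el (R 2) ∈ DCs (CD.gen R 4088) (CD.els R 4) := GC.dc_piece' D1_T1d D1_T1c D1_Kc (D2_s1_818.dcRel D1_I.top (D1_I.get (i := 2) (by decide +kernel)).top (D1_m1.get (i := 2) (by decide +kernel)).top chk1004)
theorem D1_T1u : Nat.card (CD.gen R 4088) ≤ 10 * Nat.card (CD.gen R 232113757366008801543585792) := up_low D2_ub D1T1_lb0 (by decide +kernel)
theorem D1_T1n : (DC1 (CD.gen R 4088) (CD.el (R 2))).ncard ≤ Nat.card (CD.gen R 4088) * 10 := ncard_DC1 D1T1_in920.gen_le D1_T1c D1_T1u
theorem D1_dc : ∀ x ∈ (CD.gen R 4092), x ∈ DCs (CD.gen R 4088) (CD.els R 4) := GC.dc_gen (MU := 4) D2_s1_818 (by decide +kernel) (GC.forall_els (L := [2]) (forall_cons ⟨D2_s1_818.inDC' D1_I.top (D1_m1.get (i := 2) (by decide +kernel)).top chk1013, GC.forall_els (L := [2]) (forall_cons D1_T1p forall_nil) (by decide +kernel)⟩ forall_nil) (by decide +kernel))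
theorem D1_cs : ∀ p ∈ ([(2, 10)] : List (ℕ × ℕ)), (DC1 (CD.gen R 4088) (CD.el (R p.1))).ncard ≤ Nat.card (CD.gen R 4088) * p.2 := (forall_cons D1_T1n forall_nil)
theorem D1_ix : Nat.card (CD.gen R 4092) ≤ 11 * Nat.card (CD.gen R 4088) := GC.card_dc [(2, 10)] D1_dc D1_cs (by decide +kernel)
theorem D1_ub : Nat.card (CD.gen R 4092) ≤ 19958400 := up_mul D1_ix D2_ub (by decide +kernel)
theorem pt1015e : ∃ x, D0.Rep pt1015c x := via_rep _ _ (via_rep _ _ (act2_rep (n := 12) (d := 4) (by decide) (by decide) (c := 0x2) (by decide +kernel)))
noncomputable def pt1015 := Classical.choose pt1015e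
theorem pt1015r : D0.Rep pt1015c pt1015 := Classical.choose_spec pt1015e
theorem D1_s1_1018 : CD.Mem R (CD.gen R 4092) 594211365250343500911118127100 := D1_m1.slp' chk1017
theorem D0_m0 : CD.Mem R (CD.gen R 4094) 4094 := GC.Mem.gen (vD.sub chk1014)
theorem D0_m1 : CD.Mem R (CD.gen R 4094) 594211365250343500911118127102 := D0_m0.lor' (D1_s1_1018.mono (D0_m0.sub chk1019).gen_le) chk1020
theorem D0_I : CD.Mem R (CD.gen R 4094) 2 := D0_m1.sub chk1021
theorem D0K_in1024 : CD.Mem R (CD.gen R 4092) 1901475900342344102245054808064 := D1_s1_1018.slp' chk1023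
theorem D0K_m0 : CD.Mem R (CD.gen R 1901475900342344102245054808064) 1901475900342344102245054808064 := GC.Mem.gen D0K_in1024.top
theorem pt1025e : ∃ x, D0.Rep pt1025c x := via_rep _ _ (via_rep _ _ (act2_rep (n := 12) (d := 4) (by decide) (by decide) (c := 0x4) (by decide +kernel)))
noncomputable def pt1025 := Classical.choose pt1025e
theorem pt1025r : D0.Rep pt1025c pt1025 := Classical.choose_spec pt1025e
theorem pt1026e : ∃ x, D0.Rep pt1026c x := via_rep _ _ (via_rep _ _ (act2_rep (n := 12) (d := 4) (by decide) (by decide) (c := 0x10) (by decide +kernel)))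
noncomputable def pt1026 := Classical.choose pt1026e
theorem pt1026r : D0.Rep pt1026c pt1026 := Classical.choose_spec pt1026e
theorem pt1027e : ∃ x, D0.Rep pt1027c x := via_rep _ _ (via_rep _ _ (act2_rep (n := 12) (d := 4) (by decide) (by decide) (c := 0x20) (by decide +kernel)))
noncomputable def pt1027 := Classical.choose pt1027e
theorem pt1027r : D0.Rep pt1027c pt1027 := Classical.choose_spec pt1027e
theorem pt1028e : ∃ x, D0.Rep pt1028c x := via_rep _ _ (via_rep _ _ (act2_rep (n := 12) (d := 4) (by decide) (by decide) (c := 0x40) (by decide +kernel)))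
noncomputable def pt1028 := Classical.choose pt1028e
theorem pt1028r : D0.Rep pt1028c pt1028 := Classical.choose_spec pt1028e
theorem pt1029e : ∃ x, D0.Rep pt1029c x := via_rep _ _ (via_rep _ _ (act2_rep (n := 12) (d := 4) (by decide) (by decide) (c := 0x8) (by decide +kernel)))
noncomputable def pt1029 := Classical.choose pt1029e
theorem pt1029r : D0.Rep pt1029c pt1029 := Classical.choose_spec pt1029e
theorem pt1030e : ∃ x, D0.Rep pt1030c x := via_rep _ _ (via_rep _ _ (act2_rep (n := 12) (d := 4) (by decide) (by decide) (c := 0x80) (by decide +kernel)))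
noncomputable def pt1030 := Classical.choose pt1030e
theorem pt1030r : D0.Rep pt1030c pt1030 := Classical.choose_spec pt1030e
theorem pt1031e : ∃ x, D0.Rep pt1031c x := via_rep _ _ (via_rep _ _ (act2_rep (n := 12) (d := 4) (by decide) (by decide) (c := 0x100) (by decide +kernel)))
noncomputable def pt1031 := Classical.choose pt1031e
theorem pt1031r : D0.Rep pt1031c pt1031 := Classical.choose_spec pt1031e
theorem pt1032e : ∃ x, D0.Rep pt1032c x := via_rep _ _ (via_rep _ _ (act2_rep (n := 12) (d := 4) (by decide) (by decide) (c := 0x200) (by decide +kernel)))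
noncomputable def pt1032 := Classical.choose pt1032e
theorem pt1032r : D0.Rep pt1032c pt1032 := Classical.choose_spec pt1032e
theorem D0K_s0_1035 : CD.Mem R (CD.gen R 1901475900342344102245054808064) 323884728358312612082407668973568 := D0K_m0.slp' chk1034
theorem D0K_s0_1038 : CD.Mem R (CD.gen R 1901475900342344102245054808064) 1297440389333592792431875730702336 := D0K_s0_1035.slp' chk1037
theorem D0K_c0i : CD.Mem R (CD.gen R 1901475900342344102245054808064) 1295538913433250448329630675894272 := D0K_s0_1038.sub chk1039
theorem D0K_c0m : CD.Mem R (CD.gen R 1295538913433250448329630675894272) 1295538913433250448329630675894272 := D0K_c0i.gen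
theorem fx1041 : CD.gen R 1295538913433250448329630675894272 ≤ stabilizer _ pt1025 := Act.fix_sound D0K_c0i.top pt1025r chk1040
theorem cov1048 : Cov (CD.gen R 1901475900342344102245054808064) (CD.wds R [0]) pt1025 10 := Act.cov_of_seen (Act.pieces_sound D0K_s0_1038 D0K_s0_1038.top pt1025r chk1046) chk1047
theorem D0K_c1i : CD.Mem R (CD.gen R 1295538913433250448329630675894272) 1293003612232793989526637269483520 := D0K_c0m.sub chk1049
theorem D0K_c1m : CD.Mem R (CD.gen R 1293003612232793989526637269483520) 1293003612232793989526637269483520 := D0K_c1i.gen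
theorem fx1051 : CD.gen R 1293003612232793989526637269483520 ≤ stabilizer _ pt1026 := Act.fix_sound D0K_c1i.top pt1026r chk1050
theorem cov1058 : Cov (CD.gen R 1295538913433250448329630675894272) (CD.wds R [0]) pt1026 9 := Act.cov_of_seen (Act.pieces_sound D0K_c0m D0K_c0m.top pt1026r chk1056) chk1057
theorem D0K_c2i : CD.Mem R (CD.gen R 1293003612232793989526637269483520) 1267650600228229401496703205376000 := D0K_c1m.sub chk1059
theorem D0K_c2m : CD.Mem R (CD.gen R 1267650600228229401496703205376000) 1267650600228229401496703205376000 := D0K_c2i.gen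
theorem fx1061 : CD.gen R 1267650600228229401496703205376000 ≤ stabilizer _ pt1027 := Act.fix_sound D0K_c2i.top pt1027r chk1060
theorem cov1068 : Cov (CD.gen R 1293003612232793989526637269483520) (CD.wds R [0]) pt1027 8 := Act.cov_of_seen (Act.pieces_sound D0K_c1m D0K_c1m.top pt1027r chk1066) chk1067
theorem D0K_c3i : CD.Mem R (CD.gen R 1267650600228229401496703205376000) 1257509395426403566284729579732992 := D0K_c2m.sub chk1069
theorem D0K_c3m : CD.Mem R (CD.gen R 1257509395426403566284729579732992) 1257509395426403566284729579732992 := D0K_c3i.gen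
theorem fx1071 : CD.gen R 1257509395426403566284729579732992 ≤ stabilizer _ pt1028 := Act.fix_sound D0K_c3i.top pt1028r chk1070
theorem cov1078 : Cov (CD.gen R 1267650600228229401496703205376000) (CD.wds R [0]) pt1028 7 := Act.cov_of_seen (Act.pieces_sound D0K_c2m D0K_c2m.top pt1028r chk1076) chk1077
theorem D0K_c4i : CD.Mem R (CD.gen R 1257509395426403566284729579732992) 1216944576219100225436835077160960 := D0K_c3m.sub chk1079
theorem D0K_c4m : CD.Mem R (CD.gen R 1216944576219100225436835077160960) 1216944576219100225436835077160960 := D0K_c4i.gen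
theorem fx1081 : CD.gen R 1216944576219100225436835077160960 ≤ stabilizer _ pt1029 := Act.fix_sound D0K_c4i.top pt1029r chk1080
theorem cov1088 : Cov (CD.gen R 1257509395426403566284729579732992) (CD.wds R [0]) pt1029 6 := Act.cov_of_seen (Act.pieces_sound D0K_c3m D0K_c3m.top pt1029r chk1086) chk1087
theorem D0K_c5i : CD.Mem R (CD.gen R 1216944576219100225436835077160960) 1135814937804493543741046072016896 := D0K_c4m.sub chk1089
theorem D0K_c5m : CD.Mem R (CD.gen R 1135814937804493543741046072016896) 1135814937804493543741046072016896 := D0K_c5i.gen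
theorem fx1091 : CD.gen R 1135814937804493543741046072016896 ≤ stabilizer _ pt1030 := Act.fix_sound D0K_c5i.top pt1030r chk1090
theorem cov1098 : Cov (CD.gen R 1216944576219100225436835077160960) (CD.wds R [0]) pt1030 5 := Act.cov_of_seen (Act.pieces_sound D0K_c4m D0K_c4m.top pt1030r chk1096) chk1097
theorem D0K_c6i : CD.Mem R (CD.gen R 1135814937804493543741046072016896) 649037107316853453566312041152512 := D0K_c5m.sub chk1099
theorem D0K_c6m : CD.Mem R (CD.gen R 649037107316853453566312041152512) 649037107316853453566312041152512 := D0K_c6i.gen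
theorem fx1101 : CD.gen R 649037107316853453566312041152512 ≤ stabilizer _ pt1031 := Act.fix_sound D0K_c6i.top pt1031r chk1100
theorem cov1108 : Cov (CD.gen R 1135814937804493543741046072016896) (CD.wds R [0]) pt1031 4 := Act.cov_of_seen (Act.pieces_sound D0K_c5m D0K_c5m.top pt1031r chk1106) chk1107
theorem D0K_c7i : CD.Mem R (CD.gen R 649037107316853453566312041152512) 0 := D0K_c6m.sub chk1109
theorem D0K_c7m : CD.Mem R (CD.gen R 0) 0 := D0K_c7i.gen
theorem fx1111 : CD.gen R 0 ≤ stabilizer _ pt1032 := Act.fix_sound D0K_c7i.top pt1032r chk1110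
theorem cov1118 : Cov (CD.gen R 649037107316853453566312041152512) (CD.wds R [0]) pt1032 3 := Act.cov_of_seen (Act.pieces_sound D0K_c6m D0K_c6m.top pt1032r chk1116) chk1117
theorem D0K_lb8 : 1 ≤ Nat.card (CD.gen R 0) := Nat.card_pos
theorem D0K_lo7 : 3 * Nat.card (CD.gen R 0) ≤ Nat.card (CD.gen R 649037107316853453566312041152512) := cov1118.low le_rfl (GC.wds_zero _) D0K_c7i.gen_le fx1111
theorem D0K_lb7 : 3 ≤ Nat.card (CD.gen R 649037107316853453566312041152512) := low_step D0K_lo7 D0K_lb8 (by decide +kernel)
theorem D0K_lo6 : 4 * Nat.card (CD.gen R 649037107316853453566312041152512) ≤ Nat.card (CD.gen R 1135814937804493543741046072016896) := cov1108.low le_rfl (GC.wds_zero _) D0K_c6i.gen_le fx1101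
theorem D0K_lb6 : 12 ≤ Nat.card (CD.gen R 1135814937804493543741046072016896) := low_step D0K_lo6 D0K_lb7 (by decide +kernel)
theorem D0K_lo5 : 5 * Nat.card (CD.gen R 1135814937804493543741046072016896) ≤ Nat.card (CD.gen R 1216944576219100225436835077160960) := cov1098.low le_rfl (GC.wds_zero _) D0K_c5i.gen_le fx1091
theorem D0K_lb5 : 60 ≤ Nat.card (CD.gen R 1216944576219100225436835077160960) := low_step D0K_lo5 D0K_lb6 (by decide +kernel)
theorem D0K_lo4 : 6 * Nat.card (CD.gen R 1216944576219100225436835077160960) ≤ Nat.card (CD.gen R 1257509395426403566284729579732992) := cov1088.low le_rfl (GC.wds_zero _) D0K_c4i.gen_le fx1081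
theorem D0K_lb4 : 360 ≤ Nat.card (CD.gen R 1257509395426403566284729579732992) := low_step D0K_lo4 D0K_lb5 (by decide +kernel)
theorem D0K_lo3 : 7 * Nat.card (CD.gen R 1257509395426403566284729579732992) ≤ Nat.card (CD.gen R 1267650600228229401496703205376000) := cov1078.low le_rfl (GC.wds_zero _) D0K_c3i.gen_le fx1071
theorem D0K_lb3 : 2520 ≤ Nat.card (CD.gen R 1267650600228229401496703205376000) := low_step D0K_lo3 D0K_lb4 (by decide +kernel)
theorem D0K_lo2 : 8 * Nat.card (CD.gen R 1267650600228229401496703205376000) ≤ Nat.card (CD.gen R 1293003612232793989526637269483520) := cov1068.low le_rfl (GC.wds_zero _) D0K_c2i.gen_le fx1061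
theorem D0K_lb2 : 20160 ≤ Nat.card (CD.gen R 1293003612232793989526637269483520) := low_step D0K_lo2 D0K_lb3 (by decide +kernel)
theorem D0K_lo1 : 9 * Nat.card (CD.gen R 1293003612232793989526637269483520) ≤ Nat.card (CD.gen R 1295538913433250448329630675894272) := cov1058.low le_rfl (GC.wds_zero _) D0K_c1i.gen_le fx1051
theorem D0K_lb1 : 181440 ≤ Nat.card (CD.gen R 1295538913433250448329630675894272) := low_step D0K_lo1 D0K_lb2 (by decide +kernel)
theorem D0K_lo0 : 10 * Nat.card (CD.gen R 1295538913433250448329630675894272) ≤ Nat.card (CD.gen R 1901475900342344102245054808064) := cov1048.low le_rfl (GC.wds_zero _) D0K_c0i.gen_le fx1041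
theorem D0K_lb0 : 1814400 ≤ Nat.card (CD.gen R 1901475900342344102245054808064) := low_step D0K_lo0 D0K_lb1 (by decide +kernel)
theorem fx1122 : CD.gen R 1901475900342344102245054808064 ≤ stabilizer _ pt1015 := Act.fix_sound D0K_in1024.top pt1015r chk1121
theorem D0_Kc : ∀ κ ∈ (CD.gen R 1901475900342344102245054808064), (CD.el (R 1))⁻¹ * κ * CD.el (R 1) ∈ (CD.gen R 4092) := D1_s1_1018.conjB (D0_m1.get (i := 1) (by decide +kernel)).top D0K_in1024.top chk1120
theorem D0T1_in1125 : CD.Mem R (CD.gen R 4092) 3894222643901120721397872246915072 := D1_s1_1018.slp' chk1124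
theorem D0T1_m0 : CD.Mem R (CD.gen R 3894222643901120721397872246915072) 3894222643901120721397872246915072 := GC.Mem.gen D0T1_in1125.top
theorem pt1126e : ∃ x, D0.Rep pt1126c x := via_rep _ _ (via_rep _ _ (act2_rep (n := 12) (d := 4) (by decide) (by decide) (c := 0x2) (by decide +kernel)))
noncomputable def pt1126 := Classical.choose pt1126e
theorem pt1126r : D0.Rep pt1126c pt1126 := Classical.choose_spec pt1126e
theorem pt1127e : ∃ x, D0.Rep pt1127c x := via_rep _ _ (via_rep _ _ (act2_rep (n := 12) (d := 4) (by decide) (by decide) (c := 0x10) (by decide +kernel)))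
noncomputable def pt1127 := Classical.choose pt1127e
theorem pt1127r : D0.Rep pt1127c pt1127 := Classical.choose_spec pt1127e
theorem pt1128e : ∃ x, D0.Rep pt1128c x := via_rep _ _ (via_rep _ _ (act2_rep (n := 12) (d := 4) (by decide) (by decide) (c := 0x8) (by decide +kernel)))
noncomputable def pt1128 := Classical.choose pt1128e
theorem pt1128r : D0.Rep pt1128c pt1128 := Classical.choose_spec pt1128e
theorem pt1129e : ∃ x, D0.Rep pt1129c x := via_rep _ _ (via_rep _ _ (act2_rep (n := 12) (d := 4) (by decide) (by decide) (c := 0x100) (by decide +kernel)))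
noncomputable def pt1129 := Classical.choose pt1129e
theorem pt1129r : D0.Rep pt1129c pt1129 := Classical.choose_spec pt1129e
theorem pt1130e : ∃ x, D0.Rep pt1130c x := via_rep _ _ (via_rep _ _ (act2_rep (n := 12) (d := 4) (by decide) (by decide) (c := 0x20) (by decide +kernel)))
noncomputable def pt1130 := Classical.choose pt1130e
theorem pt1130r : D0.Rep pt1130c pt1130 := Classical.choose_spec pt1130e
theorem pt1131e : ∃ x, D0.Rep pt1131c x := via_rep _ _ (via_rep _ _ (act2_rep (n := 12) (d := 4) (by decide) (by decide) (c := 0x40) (by decide +kernel)))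
noncomputable def pt1131 := Classical.choose pt1131e
theorem pt1131r : D0.Rep pt1131c pt1131 := Classical.choose_spec pt1131e
theorem pt1132e : ∃ x, D0.Rep pt1132c x := via_rep _ _ (via_rep _ _ (act2_rep (n := 12) (d := 4) (by decide) (by decide) (c := 0x80) (by decide +kernel)))
noncomputable def pt1132 := Classical.choose pt1132e
theorem pt1132r : D0.Rep pt1132c pt1132 := Classical.choose_spec pt1132e
theorem pt1133e : ∃ x, D0.Rep pt1133c x := via_rep _ _ (via_rep _ _ (act2_rep (n := 12) (d := 4) (by decide) (by decide) (c := 0x200) (by decide +kernel)))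
noncomputable def pt1133 := Classical.choose pt1133e
theorem pt1133r : D0.Rep pt1133c pt1133 := Classical.choose_spec pt1133e
theorem D0T1_s0_1136 : CD.Mem R (CD.gen R 3894222643901120721397872246915072) 1327929921570282165996674436198039552 := D0T1_m0.slp' chk1135
theorem D0T1_s0_1139 : CD.Mem R (CD.gen R 3894222643901120721397872246915072) 5315613908925029784708095617039073280 := D0T1_s0_1136.slp' chk1138
theorem D0T1_c0i : CD.Mem R (CD.gen R 3894222643901120721397872246915072) 5311719686281128663986697744792158208 := D0T1_s0_1139.sub chk1140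
theorem D0T1_c0m : CD.Mem R (CD.gen R 5311719686281128663986697744792158208) 5311719686281128663986697744792158208 := D0T1_c0i.gen
theorem fx1142 : CD.gen R 5311719686281128663986697744792158208 ≤ stabilizer _ pt1126 := Act.fix_sound D0T1_c0i.top pt1126r chk1141
theorem cov1149 : Cov (CD.gen R 3894222643901120721397872246915072) (CD.wds R [0]) pt1126 10 := Act.cov_of_seen (Act.pieces_sound D0T1_s0_1139 D0T1_s0_1139.top pt1126r chk1147) chk1148
theorem D0T1_c1i : CD.Mem R (CD.gen R 5311719686281128663986697744792158208) 5306527389422593836358167248462938112 := D0T1_c0m.sub chk1150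
theorem D0T1_c1m : CD.Mem R (CD.gen R 5306527389422593836358167248462938112) 5306527389422593836358167248462938112 := D0T1_c1i.gen
theorem fx1152 : CD.gen R 5306527389422593836358167248462938112 ≤ stabilizer _ pt1127 := Act.fix_sound D0T1_c1i.top pt1127r chk1151
theorem cov1159 : Cov (CD.gen R 5311719686281128663986697744792158208) (CD.wds R [0]) pt1127 9 := Act.cov_of_seen (Act.pieces_sound D0T1_c0m D0T1_c0m.top pt1127r chk1157) chk1158
theorem D0T1_c2i : CD.Mem R (CD.gen R 5306527389422593836358167248462938112) 5275373608271384870586984270487617536 := D0T1_c1m.sub chk1160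
theorem D0T1_c2m : CD.Mem R (CD.gen R 5275373608271384870586984270487617536) 5275373608271384870586984270487617536 := D0T1_c2i.gen
theorem fx1162 : CD.gen R 5275373608271384870586984270487617536 ≤ stabilizer _ pt1128 := Act.fix_sound D0T1_c2i.top pt1128r chk1161
theorem cov1169 : Cov (CD.gen R 5306527389422593836358167248462938112) (CD.wds R [0]) pt1128 8 := Act.cov_of_seen (Act.pieces_sound D0T1_c1m D0T1_c1m.top pt1128r chk1167) chk1168
theorem D0T1_c3i : CD.Mem R (CD.gen R 5275373608271384870586984270487617536) 5150758483666549007502252358586335232 := D0T1_c2m.sub chk1170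
theorem D0T1_c3m : CD.Mem R (CD.gen R 5150758483666549007502252358586335232) 5150758483666549007502252358586335232 := D0T1_c3i.gen
theorem fx1172 : CD.gen R 5150758483666549007502252358586335232 ≤ stabilizer _ pt1129 := Act.fix_sound D0T1_c3i.top pt1129r chk1171
theorem cov1179 : Cov (CD.gen R 5275373608271384870586984270487617536) (CD.wds R [0]) pt1129 7 := Act.cov_of_seen (Act.pieces_sound D0T1_c2m D0T1_c2m.top pt1129r chk1177) chk1178
theorem D0T1_c4i : CD.Mem R (CD.gen R 5150758483666549007502252358586335232) 4652297985247205555163324710981206016 := D0T1_c3m.sub chk1180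
theorem D0T1_c4m : CD.Mem R (CD.gen R 4652297985247205555163324710981206016) 4652297985247205555163324710981206016 := D0T1_c4i.gen
theorem fx1182 : CD.gen R 4652297985247205555163324710981206016 ≤ stabilizer _ pt1130 := Act.fix_sound D0T1_c4i.top pt1130r chk1181
theorem cov1189 : Cov (CD.gen R 5150758483666549007502252358586335232) (CD.wds R [0]) pt1130 6 := Act.cov_of_seen (Act.pieces_sound D0T1_c3m D0T1_c3m.top pt1130r chk1187) chk1188
theorem D0T1_c5i : CD.Mem R (CD.gen R 4652297985247205555163324710981206016) 3987683987354747618711421180841033728 := D0T1_c4m.sub chk1190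
theorem D0T1_c5m : CD.Mem R (CD.gen R 3987683987354747618711421180841033728) 3987683987354747618711421180841033728 := D0T1_c5i.gen
theorem fx1192 : CD.gen R 3987683987354747618711421180841033728 ≤ stabilizer _ pt1131 := Act.fix_sound D0T1_c5i.top pt1131r chk1191
theorem cov1199 : Cov (CD.gen R 4652297985247205555163324710981206016) (CD.wds R [0]) pt1131 5 := Act.cov_of_seen (Act.pieces_sound D0T1_c4m D0T1_c4m.top pt1131r chk1197) chk1198
theorem D0T1_c6i : CD.Mem R (CD.gen R 3987683987354747618711421180841033728) 2658455991569831745807614120560689152 := D0T1_c5m.sub chk1200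
theorem D0T1_c6m : CD.Mem R (CD.gen R 2658455991569831745807614120560689152) 2658455991569831745807614120560689152 := D0T1_c6i.gen
theorem fx1202 : CD.gen R 2658455991569831745807614120560689152 ≤ stabilizer _ pt1132 := Act.fix_sound D0T1_c6i.top pt1132r chk1201
theorem cov1209 : Cov (CD.gen R 3987683987354747618711421180841033728) (CD.wds R [0]) pt1132 4 := Act.cov_of_seen (Act.pieces_sound D0T1_c5m D0T1_c5m.top pt1132r chk1207) chk1208
theorem D0T1_c7i : CD.Mem R (CD.gen R 2658455991569831745807614120560689152) 0 := D0T1_c6m.sub chk1210
theorem D0T1_c7m : CD.Mem R (CD.gen R 0) 0 := D0T1_c7i.gen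
theorem fx1212 : CD.gen R 0 ≤ stabilizer _ pt1133 := Act.fix_sound D0T1_c7i.top pt1133r chk1211
theorem cov1219 : Cov (CD.gen R 2658455991569831745807614120560689152) (CD.wds R [0]) pt1133 3 := Act.cov_of_seen (Act.pieces_sound D0T1_c6m D0T1_c6m.top pt1133r chk1217) chk1218
theorem D0T1_lb8 : 1 ≤ Nat.card (CD.gen R 0) := Nat.card_pos
theorem D0T1_lo7 : 3 * Nat.card (CD.gen R 0) ≤ Nat.card (CD.gen R 2658455991569831745807614120560689152) := cov1219.low le_rfl (GC.wds_zero _) D0T1_c7i.gen_le fx1212
theorem D0T1_lb7 : 3 ≤ Nat.card (CD.gen R 2658455991569831745807614120560689152) := low_step D0T1_lo7 D0T1_lb8 (by decide +kernel)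
theorem D0T1_lo6 : 4 * Nat.card (CD.gen R 2658455991569831745807614120560689152) ≤ Nat.card (CD.gen R 3987683987354747618711421180841033728) := cov1209.low le_rfl (GC.wds_zero _) D0T1_c6i.gen_le fx1202
theorem D0T1_lb6 : 12 ≤ Nat.card (CD.gen R 3987683987354747618711421180841033728) := low_step D0T1_lo6 D0T1_lb7 (by decide +kernel)
theorem D0T1_lo5 : 5 * Nat.card (CD.gen R 3987683987354747618711421180841033728) ≤ Nat.card (CD.gen R 4652297985247205555163324710981206016) := cov1199.low le_rfl (GC.wds_zero _) D0T1_c5i.gen_le fx1192
theorem D0T1_lb5 : 60 ≤ Nat.card (CD.gen R 4652297985247205555163324710981206016) := low_step D0T1_lo5 D0T1_lb6 (by decide +kernel)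
theorem D0T1_lo4 : 6 * Nat.card (CD.gen R 4652297985247205555163324710981206016) ≤ Nat.card (CD.gen R 5150758483666549007502252358586335232) := cov1189.low le_rfl (GC.wds_zero _) D0T1_c4i.gen_le fx1182
theorem D0T1_lb4 : 360 ≤ Nat.card (CD.gen R 5150758483666549007502252358586335232) := low_step D0T1_lo4 D0T1_lb5 (by decide +kernel)
theorem D0T1_lo3 : 7 * Nat.card (CD.gen R 5150758483666549007502252358586335232) ≤ Nat.card (CD.gen R 5275373608271384870586984270487617536) := cov1179.low le_rfl (GC.wds_zero _) D0T1_c3i.gen_le fx1172
theorem D0T1_lb3 : 2520 ≤ Nat.card (CD.gen R 5275373608271384870586984270487617536) := low_step D0T1_lo3 D0T1_lb4 (by decide +kernel)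
theorem D0T1_lo2 : 8 * Nat.card (CD.gen R 5275373608271384870586984270487617536) ≤ Nat.card (CD.gen R 5306527389422593836358167248462938112) := cov1169.low le_rfl (GC.wds_zero _) D0T1_c2i.gen_le fx1162
theorem D0T1_lb2 : 20160 ≤ Nat.card (CD.gen R 5306527389422593836358167248462938112) := low_step D0T1_lo2 D0T1_lb3 (by decide +kernel)
theorem D0T1_lo1 : 9 * Nat.card (CD.gen R 5306527389422593836358167248462938112) ≤ Nat.card (CD.gen R 5311719686281128663986697744792158208) := cov1159.low le_rfl (GC.wds_zero _) D0T1_c1i.gen_le fx1152
theorem D0T1_lb1 : 181440 ≤ Nat.card (CD.gen R 5311719686281128663986697744792158208) := low_step D0T1_lo1 D0T1_lb2 (by decide +kernel)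
theorem D0T1_lo0 : 10 * Nat.card (CD.gen R 5311719686281128663986697744792158208) ≤ Nat.card (CD.gen R 3894222643901120721397872246915072) := cov1149.low le_rfl (GC.wds_zero _) D0T1_c0i.gen_le fx1142
theorem D0T1_lb0 : 1814400 ≤ Nat.card (CD.gen R 3894222643901120721397872246915072) := low_step D0T1_lo0 D0T1_lb1 (by decide +kernel)
theorem D0_T1c : ∀ τ ∈ (CD.gen R 3894222643901120721397872246915072), CD.el (R 1) * τ * (CD.el (R 1))⁻¹ ∈ (CD.gen R 4092) := D1_s1_1018.conjA (D0_I.get (i := 1) (by decide +kernel)).top D0T1_in1125.top chk1221
theorem cov1230 : Cov (CD.gen R 3894222643901120721397872246915072) (CD.wds R (List.map Prod.fst (l1222))) pt1015 11 := Act.cov_of_seen (Act.pieces_sound D0T1_s0_1139 D1_s1_1018.top pt1015r chk1228) chk1229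
theorem D0_T1d : Dec (CD.gen R 4092) (CD.gen R 3894222643901120721397872246915072) (CD.wds R (List.map Prod.fst (l1222))) (CD.gen R 1901475900342344102245054808064) := cov1230.dec D0T1_in1125.gen_le (GC.wds_sub D1_s1_1018 chk1231) D0K_in1024.gen_le fx1122 (up_low D1_ub D0K_lb0 (by decide +kernel))
theorem D0_T1p : ∀ x ∈ DC1 (CD.gen R 4092) (CD.el (R 1)), x * CD.el (R 1) ∈ DCs (CD.gen R 4092) (CD.els R 2) := GC.dc_piece' D0_T1d D0_T1c D0_Kc (D1_s1_1018.dcRel D0_I.top (D0_I.get (i := 1) (by decide +kernel)).top (D0_m1.get (i := 1) (by decide +kernel)).top chk1223)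
theorem D0_T1u : Nat.card (CD.gen R 4092) ≤ 11 * Nat.card (CD.gen R 3894222643901120721397872246915072) := up_low D1_ub D0T1_lb0 (by decide +kernel)
theorem D0_T1n : (DC1 (CD.gen R 4092) (CD.el (R 1))).ncard ≤ Nat.card (CD.gen R 4092) * 11 := ncard_DC1 D0T1_in1125.gen_le D0_T1c D0_T1u
theorem D0_dc : ∀ x ∈ (CD.gen R 4094), x ∈ DCs (CD.gen R 4092) (CD.els R 2) := GC.dc_gen (MU := 2) D1_s1_1018 (by decide +kernel) (GC.forall_els (L := [1]) (forall_cons ⟨D1_s1_1018.inDC' D0_I.top (D0_m1.get (i := 1) (by decide +kernel)).top chk1232, GC.forall_els (L := [1]) (forall_cons D0_T1p forall_nil) (by decide +kernel)⟩ forall_nil) (by decide +kernel))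
theorem D0_cs : ∀ p ∈ ([(1, 11)] : List (ℕ × ℕ)), (DC1 (CD.gen R 4092) (CD.el (R p.1))).ncard ≤ Nat.card (CD.gen R 4092) * p.2 := (forall_cons D0_T1n forall_nil)
theorem D0_ix : Nat.card (CD.gen R 4094) ≤ 12 * Nat.card (CD.gen R 4092) := GC.card_dc [(1, 11)] D0_dc D0_cs (by decide +kernel)
theorem D0_ub : Nat.card (CD.gen R 4094) ≤ 239500800 := up_mul D0_ix D1_ub (by decide +kernel)
theorem H2_m0 : C2.Mem R2 (C2.gen R2 4094) 4094 := GC.Mem.gen (D0_m0.map hf2).top
theorem H2_map : (C2.gen R2 4094) = (CD.gen R 4094).map (MonoidHom.snd _ _) := D0_m0.gen_map hf2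
theorem H2_ub : Nat.card (C2.gen R2 4094) ≤ 239500800 := H2_map ▸ (card_map_le _ _).trans D0_ub
theorem pt1233e : ∃ x, B0.Rep pt1233c x := via_rep _ _ (act2_rep (n := 12) (d := 4) (by decide) (by decide) (c := 0x100) (by decide +kernel))
noncomputable def pt1233 := Classical.choose pt1233e
theorem pt1233r : B0.Rep pt1233c pt1233 := Classical.choose_spec pt1233e
theorem pt1234e : ∃ x, B0.Rep pt1234c x := via_rep _ _ (act2_rep (n := 12) (d := 4) (by decide) (by decide) (c := 0x2) (by decide +kernel))
noncomputable def pt1234 := Classical.choose pt1234e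
theorem pt1234r : B0.Rep pt1234c pt1234 := Classical.choose_spec pt1234e
theorem pt1235e : ∃ x, B0.Rep pt1235c x := via_rep _ _ (act2_rep (n := 12) (d := 4) (by decide) (by decide) (c := 0x80) (by decide +kernel))
noncomputable def pt1235 := Classical.choose pt1235e
theorem pt1235r : B0.Rep pt1235c pt1235 := Classical.choose_spec pt1235e
theorem pt1236e : ∃ x, B0.Rep pt1236c x := via_rep _ _ (act2_rep (n := 12) (d := 4) (by decide) (by decide) (c := 0x4) (by decide +kernel))
noncomputable def pt1236 := Classical.choose pt1236e
theorem pt1236r : B0.Rep pt1236c pt1236 := Classical.choose_spec pt1236e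
theorem pt1237e : ∃ x, B0.Rep pt1237c x := via_rep _ _ (act2_rep (n := 12) (d := 4) (by decide) (by decide) (c := 0x20) (by decide +kernel))
noncomputable def pt1237 := Classical.choose pt1237e
theorem pt1237r : B0.Rep pt1237c pt1237 := Classical.choose_spec pt1237e
theorem pt1238e : ∃ x, B0.Rep pt1238c x := via_rep _ _ (act2_rep (n := 12) (d := 4) (by decide) (by decide) (c := 0x8) (by decide +kernel))
noncomputable def pt1238 := Classical.choose pt1238e
theorem pt1238r : B0.Rep pt1238c pt1238 := Classical.choose_spec pt1238e
theorem pt1239e : ∃ x, B0.Rep pt1239c x := via_rep _ _ (act2_rep (n := 12) (d := 4) (by decide) (by decide) (c := 0x10) (by decide +kernel))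
noncomputable def pt1239 := Classical.choose pt1239e
theorem pt1239r : B0.Rep pt1239c pt1239 := Classical.choose_spec pt1239e
theorem pt1240e : ∃ x, B0.Rep pt1240c x := via_rep _ _ (act2_rep (n := 12) (d := 4) (by decide) (by decide) (c := 0x40) (by decide +kernel))
noncomputable def pt1240 := Classical.choose pt1240e
theorem pt1240r : B0.Rep pt1240c pt1240 := Classical.choose_spec pt1240e
theorem pt1241e : ∃ x, B0.Rep pt1241c x := via_rep _ _ (act2_rep (n := 12) (d := 4) (by decide) (by decide) (c := 0x200) (by decide +kernel))
noncomputable def pt1241 := Classical.choose pt1241e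
theorem pt1241r : B0.Rep pt1241c pt1241 := Classical.choose_spec pt1241e
theorem pt1242e : ∃ x, B0.Rep pt1242c x := via_rep _ _ (act2_rep (n := 12) (d := 4) (by decide) (by decide) (c := 0x1) (by decide +kernel))
noncomputable def pt1242 := Classical.choose pt1242e
theorem pt1242r : B0.Rep pt1242c pt1242 := Classical.choose_spec pt1242e
theorem H2_s0_1245 : C2.Mem R2 (C2.gen R2 4094) 174182036567655375985314877179136353243134 := H2_m0.slp' chk1244
theorem H2_c0i : C2.Mem R2 (C2.gen R2 4094) 174182036567655375985314877179136353239040 := H2_s0_1245.sub chk1246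
theorem H2_c0m : C2.Mem R2 (C2.gen R2 174182036567655375985314877179136353239040) 174182036567655375985314877179136353239040 := H2_c0i.gen
theorem fx1248 : C2.gen R2 174182036567655375985314877179136353239040 ≤ stabilizer _ pt1233 := Act.fix_sound H2_c0i.top pt1233r chk1247
theorem cov1255 : Cov (C2.gen R2 4094) (C2.wds R2 [0]) pt1233 12 := Act.cov_of_seen (Act.pieces_sound H2_s0_1245 H2_s0_1245.top pt1233r chk1253) chk1254
theorem H2_c1i : C2.Mem R2 (C2.gen R2 174182036567655375985314877179136353239040) 174054430680060024061516111701349440159744 := H2_c0m.sub chk1256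
theorem H2_c1m : C2.Mem R2 (C2.gen R2 174054430680060024061516111701349440159744) 174054430680060024061516111701349440159744 := H2_c1i.gen
theorem fx1258 : C2.gen R2 174054430680060024061516111701349440159744 ≤ stabilizer _ pt1234 := Act.fix_sound H2_c1i.top pt1234r chk1257
theorem cov1265 : Cov (C2.gen R2 174182036567655375985314877179136353239040) (C2.wds R2 [0]) pt1234 11 := Act.cov_of_seen (Act.pieces_sound H2_c0m H2_c0m.top pt1234r chk1263) chk1264
theorem H2_c2i : C2.Mem R2 (C2.gen R2 174054430680060024061516111701349440159744) 173203724762757677902857675182770019631104 := H2_c1m.sub chk1266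
theorem H2_c2m : C2.Mem R2 (C2.gen R2 173203724762757677902857675182770019631104) 173203724762757677902857675182770019631104 := H2_c2i.gen
theorem fx1268 : C2.gen R2 173203724762757677902857675182770019631104 ≤ stabilizer _ pt1235 := Act.fix_sound H2_c2i.top pt1235r chk1267
theorem cov1275 : Cov (C2.gen R2 174054430680060024061516111701349440159744) (C2.wds R2 [0]) pt1235 10 := Act.cov_of_seen (Act.pieces_sound H2_c1m H2_c1m.top pt1235r chk1273) chk1274
theorem H2_c3i : C2.Mem R2 (C2.gen R2 173203724762757677902857675182770019631104) 172863442395836739439394300575338251419648 := H2_c2m.sub chk1276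
theorem H2_c3m : C2.Mem R2 (C2.gen R2 172863442395836739439394300575338251419648) 172863442395836739439394300575338251419648 := H2_c3i.gen
theorem fx1278 : C2.gen R2 172863442395836739439394300575338251419648 ≤ stabilizer _ pt1236 := Act.fix_sound H2_c3i.top pt1236r chk1277
theorem cov1285 : Cov (C2.gen R2 173203724762757677902857675182770019631104) (C2.wds R2 [0]) pt1236 9 := Act.cov_of_seen (Act.pieces_sound H2_c2m H2_c2m.top pt1236r chk1283) chk1284
theorem H2_c4i : C2.Mem R2 (C2.gen R2 172863442395836739439394300575338251419648) 171502312928152985585540802145611178573824 := H2_c3m.sub chk1286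
theorem H2_c4m : C2.Mem R2 (C2.gen R2 171502312928152985585540802145611178573824) 171502312928152985585540802145611178573824 := H2_c4i.gen
theorem fx1288 : C2.gen R2 171502312928152985585540802145611178573824 ≤ stabilizer _ pt1237 := Act.fix_sound H2_c4i.top pt1237r chk1287
theorem cov1295 : Cov (C2.gen R2 172863442395836739439394300575338251419648) (C2.wds R2 [0]) pt1237 8 := Act.cov_of_seen (Act.pieces_sound H2_c3m H2_c3m.top pt1237r chk1293) chk1294
theorem H2_c5i : C2.Mem R2 (C2.gen R2 171502312928152985585540802145611178573824) 168780053992785477877833805286157032882176 := H2_c4m.sub chk1296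
theorem H2_c5m : C2.Mem R2 (C2.gen R2 168780053992785477877833805286157032882176) 168780053992785477877833805286157032882176 := H2_c5i.gen
theorem fx1298 : C2.gen R2 168780053992785477877833805286157032882176 ≤ stabilizer _ pt1238 := Act.fix_sound H2_c5i.top pt1238r chk1297
theorem cov1305 : Cov (C2.gen R2 171502312928152985585540802145611178573824) (C2.wds R2 [0]) pt1238 7 := Act.cov_of_seen (Act.pieces_sound H2_c4m H2_c4m.top pt1238r chk1303) chk1304
theorem H2_c6i : C2.Mem R2 (C2.gen R2 168780053992785477877833805286157032882176) 152446500380580431631591824129432158732288 := H2_c5m.sub chk1306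
theorem H2_c6m : C2.Mem R2 (C2.gen R2 152446500380580431631591824129432158732288) 152446500380580431631591824129432158732288 := H2_c6i.gen
theorem fx1308 : C2.gen R2 152446500380580431631591824129432158732288 ≤ stabilizer _ pt1239 := Act.fix_sound H2_c6i.top pt1239r chk1307
theorem cov1315 : Cov (C2.gen R2 168780053992785477877833805286157032882176) (C2.wds R2 [0]) pt1239 6 := Act.cov_of_seen (Act.pieces_sound H2_c5m H2_c5m.top pt1239r chk1313) chk1314
theorem H2_c7i : C2.Mem R2 (C2.gen R2 152446500380580431631591824129432158732288) 130668428897640369969935849253798993199104 := H2_c6m.sub chk1316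
theorem H2_c7m : C2.Mem R2 (C2.gen R2 130668428897640369969935849253798993199104) 130668428897640369969935849253798993199104 := H2_c7i.gen
theorem fx1318 : C2.gen R2 130668428897640369969935849253798993199104 ≤ stabilizer _ pt1240 := Act.fix_sound H2_c7i.top pt1240r chk1317
theorem cov1325 : Cov (C2.gen R2 152446500380580431631591824129432158732288) (C2.wds R2 [0]) pt1240 5 := Act.cov_of_seen (Act.pieces_sound H2_c6m H2_c6m.top pt1240r chk1323) chk1324
theorem H2_c8i : C2.Mem R2 (C2.gen R2 130668428897640369969935849253798993199104) 87112285931760246646623899502532662132736 := H2_c7m.sub chk1326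
theorem H2_c8m : C2.Mem R2 (C2.gen R2 87112285931760246646623899502532662132736) 87112285931760246646623899502532662132736 := H2_c8i.gen
theorem fx1328 : C2.gen R2 87112285931760246646623899502532662132736 ≤ stabilizer _ pt1241 := Act.fix_sound H2_c8i.top pt1241r chk1327
theorem cov1335 : Cov (C2.gen R2 130668428897640369969935849253798993199104) (C2.wds R2 [0]) pt1241 4 := Act.cov_of_seen (Act.pieces_sound H2_c7m H2_c7m.top pt1241r chk1333) chk1334
theorem H2_c9i : C2.Mem R2 (C2.gen R2 87112285931760246646623899502532662132736) 0 := H2_c8m.sub chk1336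
theorem H2_c9m : C2.Mem R2 (C2.gen R2 0) 0 := H2_c9i.gen
theorem fx1338 : C2.gen R2 0 ≤ stabilizer _ pt1242 := Act.fix_sound H2_c9i.top pt1242r chk1337
theorem cov1345 : Cov (C2.gen R2 87112285931760246646623899502532662132736) (C2.wds R2 [0]) pt1242 3 := Act.cov_of_seen (Act.pieces_sound H2_c8m H2_c8m.top pt1242r chk1343) chk1344
theorem H2_lb10 : 1 ≤ Nat.card (C2.gen R2 0) := Nat.card_pos
theorem H2_lo9 : 3 * Nat.card (C2.gen R2 0) ≤ Nat.card (C2.gen R2 87112285931760246646623899502532662132736) := cov1345.low le_rfl (GC.wds_zero _) H2_c9i.gen_le fx1338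
theorem H2_lb9 : 3 ≤ Nat.card (C2.gen R2 87112285931760246646623899502532662132736) := low_step H2_lo9 H2_lb10 (by decide +kernel)
theorem H2_lo8 : 4 * Nat.card (C2.gen R2 87112285931760246646623899502532662132736) ≤ Nat.card (C2.gen R2 130668428897640369969935849253798993199104) := cov1335.low le_rfl (GC.wds_zero _) H2_c8i.gen_le fx1328
theorem H2_lb8 : 12 ≤ Nat.card (C2.gen R2 130668428897640369969935849253798993199104) := low_step H2_lo8 H2_lb9 (by decide +kernel)
theorem H2_lo7 : 5 * Nat.card (C2.gen R2 130668428897640369969935849253798993199104) ≤ Nat.card (C2.gen R2 152446500380580431631591824129432158732288) := cov1325.low le_rfl (GC.wds_zero _) H2_c7i.gen_le fx1318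
theorem H2_lb7 : 60 ≤ Nat.card (C2.gen R2 152446500380580431631591824129432158732288) := low_step H2_lo7 H2_lb8 (by decide +kernel)
theorem H2_lo6 : 6 * Nat.card (C2.gen R2 152446500380580431631591824129432158732288) ≤ Nat.card (C2.gen R2 168780053992785477877833805286157032882176) := cov1315.low le_rfl (GC.wds_zero _) H2_c6i.gen_le fx1308
theorem H2_lb6 : 360 ≤ Nat.card (C2.gen R2 168780053992785477877833805286157032882176) := low_step H2_lo6 H2_lb7 (by decide +kernel)
theorem H2_lo5 : 7 * Nat.card (C2.gen R2 168780053992785477877833805286157032882176) ≤ Nat.card (C2.gen R2 171502312928152985585540802145611178573824) := cov1305.low le_rfl (GC.wds_zero _) H2_c5i.gen_le fx1298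
theorem H2_lb5 : 2520 ≤ Nat.card (C2.gen R2 171502312928152985585540802145611178573824) := low_step H2_lo5 H2_lb6 (by decide +kernel)
theorem H2_lo4 : 8 * Nat.card (C2.gen R2 171502312928152985585540802145611178573824) ≤ Nat.card (C2.gen R2 172863442395836739439394300575338251419648) := cov1295.low le_rfl (GC.wds_zero _) H2_c4i.gen_le fx1288
theorem H2_lb4 : 20160 ≤ Nat.card (C2.gen R2 172863442395836739439394300575338251419648) := low_step H2_lo4 H2_lb5 (by decide +kernel)
theorem H2_lo3 : 9 * Nat.card (C2.gen R2 172863442395836739439394300575338251419648) ≤ Nat.card (C2.gen R2 173203724762757677902857675182770019631104) := cov1285.low le_rfl (GC.wds_zero _) H2_c3i.gen_le fx1278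
theorem H2_lb3 : 181440 ≤ Nat.card (C2.gen R2 173203724762757677902857675182770019631104) := low_step H2_lo3 H2_lb4 (by decide +kernel)
theorem H2_lo2 : 10 * Nat.card (C2.gen R2 173203724762757677902857675182770019631104) ≤ Nat.card (C2.gen R2 174054430680060024061516111701349440159744) := cov1275.low le_rfl (GC.wds_zero _) H2_c2i.gen_le fx1268
theorem H2_lb2 : 1814400 ≤ Nat.card (C2.gen R2 174054430680060024061516111701349440159744) := low_step H2_lo2 H2_lb3 (by decide +kernel)
theorem H2_lo1 : 11 * Nat.card (C2.gen R2 174054430680060024061516111701349440159744) ≤ Nat.card (C2.gen R2 174182036567655375985314877179136353239040) := cov1265.low le_rfl (GC.wds_zero _) H2_c1i.gen_le fx1258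
theorem H2_lb1 : 19958400 ≤ Nat.card (C2.gen R2 174182036567655375985314877179136353239040) := low_step H2_lo1 H2_lb2 (by decide +kernel)
theorem H2_lo0 : 12 * Nat.card (C2.gen R2 174182036567655375985314877179136353239040) ≤ Nat.card (C2.gen R2 4094) := cov1255.low le_rfl (GC.wds_zero _) H2_c0i.gen_le fx1248
theorem H2_lb0 : 239500800 ≤ Nat.card (C2.gen R2 4094) := low_step H2_lo0 H2_lb1 (by decide +kernel)
theorem H_m0 : C1.Mem R1 (C1.gen R1 4094) 4094 := GC.Mem.gen (D0_m0.map hf1).top
theorem H_map : (C1.gen R1 4094) = (CD.gen R 4094).map (MonoidHom.fst _ _) := D0_m0.gen_map hf1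
theorem H_ub : Nat.card (C1.gen R1 4094) ≤ 239500800 := H_map ▸ (card_map_le _ _).trans D0_ub
theorem val1348 : C1.Mem R1 ⊤ 174224571863520493293247799005065324265472 := MC.mem_units (PP.mc P_ok) (PP.can_sound P_ok) chk1347
theorem vG : C1.Mem R1 ⊤ 174224571863520493293247799005065324269566 := (D0_m0.map hf1).top.lor' val1348 (by decide +kernel)
theorem H_s0_1351 : C1.Mem R1 (C1.gen R1 4094) 22835614634151631055945989015593912051475419134 := H_m0.slp' chk1350
theorem H_s0_1354 : C1.Mem R1 (C1.gen R1 4094) 2923002926212662109366383078936968029181216559102 := H_s0_1351.slp' chk1353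
theorem H_s0_1357 : C1.Mem R1 (C1.gen R1 4094) 23384025848845302964217970736964930304364272160766 := H_s0_1354.slp' chk1356
theorem pt1358e : ∃ x, A0.Rep pt1358c x := PP.exists_vec P_ok (c := 0x10009) (by decide +kernel)
noncomputable def pt1358 := Classical.choose pt1358e
theorem pt1358r : A0.Rep pt1358c pt1358 := Classical.choose_spec pt1358e
theorem G_m0 : C1.Mem R1 (C1.gen R1 174224571863520493293247799005065324269566) 174224571863520493293247799005065324269566 := GC.Mem.gen vG
theorem G_m1 : C1.Mem R1 (C1.gen R1 174224571863520493293247799005065324269566) 23384026023069874827738464030212729309429596426238 := G_m0.lor' (H_s0_1357.mono (G_m0.sub chk1359).gen_le) chk1360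
theorem G_s1_1363 : C1.Mem R1 (C1.gen R1 174224571863520493293247799005065324269566) 23945242825855288839985651805930333195037733459857406 := G_m1.slp' chk1362
theorem G_I : C1.Mem R1 (C1.gen R1 174224571863520493293247799005065324269566) 23921858800006443537021433835193368264733369187696640 := G_s1_1363.sub chk1364
theorem GK_in1374 : C1.Mem R1 (C1.gen R1 4094) 71835728478088540235547516897670742982128396352356352 := H_s0_1357.slp' chk1373
theorem GK_m0 : C1.Mem R1 (C1.gen R1 71835728478088540235547516897670742982128396352356352) 71835728478088540235547516897670742982128396352356352 := GC.Mem.gen GK_in1374.top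
theorem pt1375e : ∃ x, A0.Rep pt1375c x := PP.exists_vec P_ok (c := 0x600060004000a0006000a000700010006000300030005000400050005000a00010004000400080006000600080006000400090009) (by decide +kernel)
noncomputable def pt1375 := Classical.choose pt1375e
theorem pt1375r : A0.Rep pt1375c pt1375 := Classical.choose_spec pt1375e
theorem pt1376e : ∃ x, A0.Rep pt1376c x := PP.exists_vec P_ok (c := 0x4000a00020001000300050008000900010009000100000001000500010005000800050008000900080004000800080008000400080009000200040006000800090001000600040007000600080009000900080004000900060007000100050001000700070009000a00070008000a000a000a0008000a00090008000200080003000100070009000a00070008000800060008000800080008000a00060008000a00000000000000000000000000000000000000000000000000000000000000000000000000000000000000000000000000000005000100000005000500050004000a00050005000700050007000400020001000a0007000600010003000500010005000700030009) (by decide +kernel)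
noncomputable def pt1376 := Classical.choose pt1376e
theorem pt1376r : A0.Rep pt1376c pt1376 := Classical.choose_spec pt1376e
theorem pt1377e : ∃ x, A0.Rep pt1377c x := PP.exists_vec P_ok (c := 0x800020001000900010002000200090005000900090008000500020007000800060008000600070002000700020002000800060002000a00010001000a0002000100070003000500090007000800040004000400090002000700080009000200030001000600000006000800070002000a000600020003000600080004000800050000000000090002000000000004000000060000000a00000005000a000200060009000200020005000000050002000900080009000900000001000100000007000700000005000200090002000500020009000200090009000000090000000900000002000900000000000400020004000000080002000a00090000000900090002000400060009) (by decide +kernel)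
noncomputable def pt1377 := Classical.choose pt1377e
theorem pt1377r : A0.Rep pt1377c pt1377 := Classical.choose_spec pt1377e
theorem pt1378e : ∃ x, A0.Rep pt1378c x := PP.exists_vec P_ok (c := 0x7000a00050004000800070006000500040005000400020001000a000300070005000900070005000700080005000700070008000a000800020000000a000700060002000100040000000a00070006000a000a00010008000600080004000a0008000a00070002000700050004000700080009000500030007000700060005000400060006000100060001000200060001000400080001000200010008000a000a0000000000000000000000000000000000000000000000000000000000000000000000000000000000000000000000000000000900010000000100090001000300020001000100040005000500040007000500060005000900090004000100090001000500030009) (by decide +kernel)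
noncomputable def pt1378 := Classical.choose pt1378e
theorem pt1378r : A0.Rep pt1378c pt1378 := Classical.choose_spec pt1378e
theorem GK_s0_1381 : C1.Mem R1 (C1.gen R1 71835728478088540235547516897670742982128396352356352) 24495983411028192220321703262105723356905783156153516032 := GK_m0.slp' chk1380
theorem GK_s0_1384 : C1.Mem R1 (C1.gen R1 71835728478088540235547516897670742982128396352356352) 49015912064882413954055255696510670294805609111091150848 := GK_s0_1381.slp' chk1383
theorem GK_c0i : C1.Mem R1 (C1.gen R1 71835728478088540235547516897670742982128396352356352) 48944076336404325413819708179612999551823480714738794496 := GK_s0_1384.sub chk1385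
theorem GK_c0m : C1.Mem R1 (C1.gen R1 48944076336404325413819708179612999551823480714738794496) 48944076336404325413819708179612999551823480714738794496 := GK_c0i.gen
theorem fx1387 : C1.gen R1 48944076336404325413819708179612999551823480714738794496 ≤ stabilizer _ pt1375 := Act.fix_sound GK_c0i.top pt1375r chk1386
theorem cov1394 : Cov (C1.gen R1 71835728478088540235547516897670742982128396352356352) (C1.wds R1 [0]) pt1375 36 := Act.cov_of_seen (Act.pieces_sound GK_s0_1384 GK_s0_1384.top pt1375r chk1392) chk1393
theorem GK_c1i : C1.Mem R1 (C1.gen R1 48944076336404325413819708179612999551823480714738794496) 47507361766842554609108757841659584692180912787691667456 := GK_c0m.sub chk1395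
theorem GK_c1m : C1.Mem R1 (C1.gen R1 47507361766842554609108757841659584692180912787691667456) 47507361766842554609108757841659584692180912787691667456 := GK_c1i.gen
theorem fx1397 : C1.gen R1 47507361766842554609108757841659584692180912787691667456 ≤ stabilizer _ pt1376 := Act.fix_sound GK_c1i.top pt1376r chk1396
theorem cov1404 : Cov (C1.gen R1 48944076336404325413819708179612999551823480714738794496) (C1.wds R1 [0]) pt1376 100 := Act.cov_of_seen (Act.pieces_sound GK_c0m GK_c0m.top pt1376r chk1402) chk1403
theorem GK_c2i : C1.Mem R1 (C1.gen R1 47507361766842554609108757841659584692180912787691667456) 30649910817317777167166940543006183672374782443672043520 := GK_c1m.sub chk1405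
theorem GK_c2m : C1.Mem R1 (C1.gen R1 30649910817317777167166940543006183672374782443672043520) 30649910817317777167166940543006183672374782443672043520 := GK_c2i.gen
theorem fx1407 : C1.gen R1 30649910817317777167166940543006183672374782443672043520 ≤ stabilizer _ pt1377 := Act.fix_sound GK_c2i.top pt1377r chk1406
theorem cov1414 : Cov (C1.gen R1 47507361766842554609108757841659584692180912787691667456) (C1.wds R1 [0]) pt1377 24 := Act.cov_of_seen (Act.pieces_sound GK_c1m GK_c1m.top pt1377r chk1412) chk1413
theorem GK_c3i : C1.Mem R1 (C1.gen R1 30649910817317777167166940543006183672374782443672043520) 0 := GK_c2m.sub chk1415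
theorem GK_c3m : C1.Mem R1 (C1.gen R1 0) 0 := GK_c3i.gen
theorem fx1417 : C1.gen R1 0 ≤ stabilizer _ pt1378 := Act.fix_sound GK_c3i.top pt1378r chk1416
theorem cov1424 : Cov (C1.gen R1 30649910817317777167166940543006183672374782443672043520) (C1.wds R1 [0]) pt1378 6 := Act.cov_of_seen (Act.pieces_sound GK_c2m GK_c2m.top pt1378r chk1422) chk1423
theorem GK_lb4 : 1 ≤ Nat.card (C1.gen R1 0) := Nat.card_pos
theorem GK_lo3 : 6 * Nat.card (C1.gen R1 0) ≤ Nat.card (C1.gen R1 30649910817317777167166940543006183672374782443672043520) := cov1424.low le_rfl (GC.wds_zero _) GK_c3i.gen_le fx1417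
theorem GK_lb3 : 6 ≤ Nat.card (C1.gen R1 30649910817317777167166940543006183672374782443672043520) := low_step GK_lo3 GK_lb4 (by decide +kernel)
theorem GK_lo2 : 24 * Nat.card (C1.gen R1 30649910817317777167166940543006183672374782443672043520) ≤ Nat.card (C1.gen R1 47507361766842554609108757841659584692180912787691667456) := cov1414.low le_rfl (GC.wds_zero _) GK_c2i.gen_le fx1407
theorem GK_lb2 : 144 ≤ Nat.card (C1.gen R1 47507361766842554609108757841659584692180912787691667456) := low_step GK_lo2 GK_lb3 (by decide +kernel)
theorem GK_lo1 : 100 * Nat.card (C1.gen R1 47507361766842554609108757841659584692180912787691667456) ≤ Nat.card (C1.gen R1 48944076336404325413819708179612999551823480714738794496) := cov1404.low le_rfl (GC.wds_zero _) GK_c1i.gen_le fx1397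
theorem GK_lb1 : 14400 ≤ Nat.card (C1.gen R1 48944076336404325413819708179612999551823480714738794496) := low_step GK_lo1 GK_lb2 (by decide +kernel)
theorem GK_lo0 : 36 * Nat.card (C1.gen R1 48944076336404325413819708179612999551823480714738794496) ≤ Nat.card (C1.gen R1 71835728478088540235547516897670742982128396352356352) := cov1394.low le_rfl (GC.wds_zero _) GK_c0i.gen_le fx1387
theorem GK_lb0 : 518400 ≤ Nat.card (C1.gen R1 71835728478088540235547516897670742982128396352356352) := low_step GK_lo0 GK_lb1 (by decide +kernel)
theorem fx1428 : C1.gen R1 71835728478088540235547516897670742982128396352356352 ≤ stabilizer _ pt1358 := Act.fix_sound GK_in1374.top pt1358r chk1427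
theorem G_Kc : ∀ κ ∈ (C1.gen R1 71835728478088540235547516897670742982128396352356352), (C1.el (R1 137))⁻¹ * κ * C1.el (R1 137) ∈ (C1.gen R1 4094) := H_s0_1357.conjB (G_m1.get (i := 137) (by decide +kernel)).top GK_in1374.top chk1426
theorem GT1_in1438 : C1.Mem R1 (C1.gen R1 4094) 147119571923125330402401314606429681627398955729625808896 := H_s0_1357.slp' chk1437
theorem GT1_m0 : C1.Mem R1 (C1.gen R1 147119571923125330402401314606429681627398955729625808896) 147119571923125330402401314606429681627398955729625808896 := GC.Mem.gen GT1_in1438.top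
theorem pt1439e : ∃ x, A0.Rep pt1439c x := PP.exists_vec P_ok (c := 0x600060004000a0006000a000700010006000300030005000400050005000a00010004000400080006000600080006000400090009) (by decide +kernel)
noncomputable def pt1439 := Classical.choose pt1439e
theorem pt1439r : A0.Rep pt1439c pt1439 := Classical.choose_spec pt1439e
theorem pt1440e : ∃ x, A0.Rep pt1440c x := PP.exists_vec P_ok (c := 0x4000a00020001000300050008000900010009000100000001000500010005000800050008000900080004000800080008000400080009000200040006000800090001000600040007000600080009000900080004000900060007000100050001000700070009000a00070008000a000a000a0008000a00090008000200080003000100070009000a00070008000800060008000800080008000a00060008000a00000000000000000000000000000000000000000000000000000000000000000000000000000000000000000000000000000005000100000005000500050004000a00050005000700050007000400020001000a0007000600010003000500010005000700030009) (by decide +kernel)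
noncomputable def pt1440 := Classical.choose pt1440e
theorem pt1440r : A0.Rep pt1440c pt1440 := Classical.choose_spec pt1440e
theorem pt1441e : ∃ x, A0.Rep pt1441c x := PP.exists_vec P_ok (c := 0x800020001000900010002000200090005000900090008000500020007000800060008000600070002000700020002000800060002000a00010001000a0002000100070003000500090007000800040004000400090002000700080009000200030001000600000006000800070002000a000600020003000600080004000800050000000000090002000000000004000000060000000a00000005000a000200060009000200020005000000050002000900080009000900000001000100000007000700000005000200090002000500020009000200090009000000090000000900000002000900000000000400020004000000080002000a00090000000900090002000400060009) (by decide +kernel)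
noncomputable def pt1441 := Classical.choose pt1441e
theorem pt1441r : A0.Rep pt1441c pt1441 := Classical.choose_spec pt1441e
theorem pt1442e : ∃ x, A0.Rep pt1442c x := PP.exists_vec P_ok (c := 0x7000a00050004000800070006000500040005000400020001000a000300070005000900070005000700080005000700070008000a000800020000000a000700060002000100040000000a00070006000a000a00010008000600080004000a0008000a00070002000700050004000700080009000500030007000700060005000400060006000100060001000200060001000400080001000200010008000a000a0000000000000000000000000000000000000000000000000000000000000000000000000000000000000000000000000000000900010000000100090001000300020001000100040005000500040007000500060005000900090004000100090001000500030009) (by decide +kernel)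
noncomputable def pt1442 := Classical.choose pt1442e
theorem pt1442r : A0.Rep pt1442c pt1442 := Classical.choose_spec pt1442e
theorem GT1_s0_1445 : C1.Mem R1 (C1.gen R1 147119571923125330402401314606429681627398955729625808896) 200818215675066075999277794437776515421399574570939229143040 := GT1_m0.slp' chk1444
theorem GT1_c0i : C1.Mem R1 (C1.gen R1 147119571923125330402401314606429681627398955729625808896) 200474936673912116895005524703694846164268977007570102255616 := GT1_s0_1445.sub chk1446
theorem GT1_c0m : C1.Mem R1 (C1.gen R1 200474936673912116895005524703694846164268977007570102255616) 200474936673912116895005524703694846164268977007570102255616 := GT1_c0i.gen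
theorem fx1448 : C1.gen R1 200474936673912116895005524703694846164268977007570102255616 ≤ stabilizer _ pt1439 := Act.fix_sound GT1_c0i.top pt1439r chk1447
theorem cov1455 : Cov (C1.gen R1 147119571923125330402401314606429681627398955729625808896) (C1.wds R1 [0]) pt1439 36 := Act.cov_of_seen (Act.pieces_sound GT1_s0_1445 GT1_s0_1445.top pt1439r chk1453) chk1454
theorem GT1_c1i : C1.Mem R1 (C1.gen R1 200474936673912116895005524703694846164268977007570102255616) 194590153796987103678909472119437658899173018778385069899776 := GT1_c0m.sub chk1456
theorem GT1_c1m : C1.Mem R1 (C1.gen R1 194590153796987103678909472119437658899173018778385069899776) 194590153796987103678909472119437658899173018778385069899776 := GT1_c1i.gen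
theorem fx1458 : C1.gen R1 194590153796987103678909472119437658899173018778385069899776 ≤ stabilizer _ pt1440 := Act.fix_sound GT1_c1i.top pt1440r chk1457
theorem cov1465 : Cov (C1.gen R1 200474936673912116895005524703694846164268977007570102255616) (C1.wds R1 [0]) pt1440 100 := Act.cov_of_seen (Act.pieces_sound GT1_c0m GT1_c0m.top pt1440r chk1463) chk1464
theorem GT1_c2i : C1.Mem R1 (C1.gen R1 194590153796987103678909472119437658899173018778385069899776) 150650441649280338332058946156983993986456530667136828309504 := GT1_c1m.sub chk1466
theorem GT1_c2m : C1.Mem R1 (C1.gen R1 150650441649280338332058946156983993986456530667136828309504) 150650441649280338332058946156983993986456530667136828309504 := GT1_c2i.gen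
theorem fx1468 : C1.gen R1 150650441649280338332058946156983993986456530667136828309504 ≤ stabilizer _ pt1441 := Act.fix_sound GT1_c2i.top pt1441r chk1467
theorem cov1475 : Cov (C1.gen R1 194590153796987103678909472119437658899173018778385069899776) (C1.wds R1 [0]) pt1441 24 := Act.cov_of_seen (Act.pieces_sound GT1_c1m GT1_c1m.top pt1441r chk1473) chk1474
theorem GT1_c3i : C1.Mem R1 (C1.gen R1 150650441649280338332058946156983993986456530667136828309504) 0 := GT1_c2m.sub chk1476
theorem GT1_c3m : C1.Mem R1 (C1.gen R1 0) 0 := GT1_c3i.gen
theorem fx1478 : C1.gen R1 0 ≤ stabilizer _ pt1442 := Act.fix_sound GT1_c3i.top pt1442r chk1477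
theorem cov1485 : Cov (C1.gen R1 150650441649280338332058946156983993986456530667136828309504) (C1.wds R1 [0]) pt1442 6 := Act.cov_of_seen (Act.pieces_sound GT1_c2m GT1_c2m.top pt1442r chk1483) chk1484
theorem GT1_lb4 : 1 ≤ Nat.card (C1.gen R1 0) := Nat.card_pos
theorem GT1_lo3 : 6 * Nat.card (C1.gen R1 0) ≤ Nat.card (C1.gen R1 150650441649280338332058946156983993986456530667136828309504) := cov1485.low le_rfl (GC.wds_zero _) GT1_c3i.gen_le fx1478
theorem GT1_lb3 : 6 ≤ Nat.card (C1.gen R1 150650441649280338332058946156983993986456530667136828309504) := low_step GT1_lo3 GT1_lb4 (by decide +kernel)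
theorem GT1_lo2 : 24 * Nat.card (C1.gen R1 150650441649280338332058946156983993986456530667136828309504) ≤ Nat.card (C1.gen R1 194590153796987103678909472119437658899173018778385069899776) := cov1475.low le_rfl (GC.wds_zero _) GT1_c2i.gen_le fx1468
theorem GT1_lb2 : 144 ≤ Nat.card (C1.gen R1 194590153796987103678909472119437658899173018778385069899776) := low_step GT1_lo2 GT1_lb3 (by decide +kernel)
theorem GT1_lo1 : 100 * Nat.card (C1.gen R1 194590153796987103678909472119437658899173018778385069899776) ≤ Nat.card (C1.gen R1 200474936673912116895005524703694846164268977007570102255616) := cov1465.low le_rfl (GC.wds_zero _) GT1_c1i.gen_le fx1458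
theorem GT1_lb1 : 14400 ≤ Nat.card (C1.gen R1 200474936673912116895005524703694846164268977007570102255616) := low_step GT1_lo1 GT1_lb2 (by decide +kernel)
theorem GT1_lo0 : 36 * Nat.card (C1.gen R1 200474936673912116895005524703694846164268977007570102255616) ≤ Nat.card (C1.gen R1 147119571923125330402401314606429681627398955729625808896) := cov1455.low le_rfl (GC.wds_zero _) GT1_c0i.gen_le fx1448
theorem GT1_lb0 : 518400 ≤ Nat.card (C1.gen R1 147119571923125330402401314606429681627398955729625808896) := low_step GT1_lo0 GT1_lb1 (by decide +kernel)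
theorem G_T1c : ∀ τ ∈ (C1.gen R1 147119571923125330402401314606429681627398955729625808896), C1.el (R1 137) * τ * (C1.el (R1 137))⁻¹ ∈ (C1.gen R1 4094) := H_s0_1357.conjA (G_I.get (i := 137) (by decide +kernel)).top GT1_in1438.top chk1487
theorem cov1496 : Cov (C1.gen R1 147119571923125330402401314606429681627398955729625808896) (C1.wds R1 (List.map Prod.fst (l1488))) pt1358 462 := Act.cov_of_seen (Act.pieces_sound GT1_s0_1445 H_s0_1357.top pt1358r chk1494) chk1495
theorem G_T1d : Dec (C1.gen R1 4094) (C1.gen R1 147119571923125330402401314606429681627398955729625808896) (C1.wds R1 (List.map Prod.fst (l1488))) (C1.gen R1 71835728478088540235547516897670742982128396352356352) := cov1496.dec GT1_in1438.gen_le (GC.wds_sub H_s0_1357 chk1497) GK_in1374.gen_le fx1428 (up_low H_ub GK_lb0 (by decide +kernel))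
theorem G_T1p : ∀ x ∈ DC1 (C1.gen R1 4094) (C1.el (R1 137)), x * C1.el (R1 137) ∈ DCs (C1.gen R1 4094) (C1.els R1 23921858800006443537021433835193368264733369187696640) := GC.dc_piece' G_T1d G_T1c G_Kc (H_s0_1357.dcRel G_I.top (G_I.get (i := 137) (by decide +kernel)).top (G_m1.get (i := 137) (by decide +kernel)).top chk1489)
theorem G_T1u : Nat.card (C1.gen R1 4094) ≤ 462 * Nat.card (C1.gen R1 147119571923125330402401314606429681627398955729625808896) := up_low H_ub GT1_lb0 (by decide +kernel)
theorem G_T1n : (DC1 (C1.gen R1 4094) (C1.el (R1 137))).ncard ≤ Nat.card (C1.gen R1 4094) * 462 := ncard_DC1 GT1_in1438.gen_le G_T1c G_T1u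
theorem GT2_in1526 : C1.Mem R1 (C1.gen R1 4094) 1406070788726616491099216830798517277206927619559943730888704 := H_s0_1357.slp' chk1525
theorem GT2_m0 : C1.Mem R1 (C1.gen R1 1406070788726616491099216830798517277206927619559943730888704) 1406070788726616491099216830798517277206927619559943730888704 := GC.Mem.gen GT2_in1526.top
theorem pt1527e : ∃ x, A0.Rep pt1527c x := PP.exists_vec P_ok (c := 0x600060004000a0006000a000700010006000300030005000400050005000a00010004000400080006000600080006000400090009) (by decide +kernel)
noncomputable def pt1527 := Classical.choose pt1527e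
theorem pt1527r : A0.Rep pt1527c pt1527 := Classical.choose_spec pt1527e
theorem pt1528e : ∃ x, A0.Rep pt1528c x := PP.exists_vec P_ok (c := 0x4000a00020001000300050008000900010009000100000001000500010005000800050008000900080004000800080008000400080009000200040006000800090001000600040007000600080009000900080004000900060007000100050001000700070009000a00070008000a000a000a0008000a00090008000200080003000100070009000a00070008000800060008000800080008000a00060008000a00000000000000000000000000000000000000000000000000000000000000000000000000000000000000000000000000000005000100000005000500050004000a00050005000700050007000400020001000a0007000600010003000500010005000700030009) (by decide +kernel)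
noncomputable def pt1528 := Classical.choose pt1528e
theorem pt1528r : A0.Rep pt1528c pt1528 := Classical.choose_spec pt1528e
theorem pt1529e : ∃ x, A0.Rep pt1529c x := PP.exists_vec P_ok (c := 0x800020001000900010002000200090005000900090008000500020007000800060008000600070002000700020002000800060002000a00010001000a0002000100070003000500090007000800040004000400090002000700080009000200030001000600000006000800070002000a000600020003000600080004000800050000000000090002000000000004000000060000000a00000005000a000200060009000200020005000000050002000900080009000900000001000100000007000700000005000200090002000500020009000200090009000000090000000900000002000900000000000400020004000000080002000a00090000000900090002000400060009) (by decide +kernel)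
noncomputable def pt1529 := Classical.choose pt1529e
theorem pt1529r : A0.Rep pt1529c pt1529 := Classical.choose_spec pt1529e
theorem GT2_s0_1532 : C1.Mem R1 (C1.gen R1 1406070788726616491099216830798517277206927619559943730888704) 102643167577043003850242828648291761236105716227875892354875392 := GT2_m0.slp' chk1531
theorem GT2_c0i : C1.Mem R1 (C1.gen R1 1406070788726616491099216830798517277206927619559943730888704) 101237096788316387359143611817493243958898788608315948623986688 := GT2_s0_1532.sub chk1533
theorem GT2_c0m : C1.Mem R1 (C1.gen R1 101237096788316387359143611817493243958898788608315948623986688) 101237096788316387359143611817493243958898788608315948623986688 := GT2_c0i.gen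
theorem fx1535 : C1.gen R1 101237096788316387359143611817493243958898788608315948623986688 ≤ stabilizer _ pt1527 := Act.fix_sound GT2_c0i.top pt1527r chk1534
theorem cov1542 : Cov (C1.gen R1 1406070788726616491099216830798517277206927619559943730888704) (C1.wds R1 [0]) pt1527 36 := Act.cov_of_seen (Act.pieces_sound GT2_s0_1532 GT2_s0_1532.top pt1527r chk1540) chk1541
theorem GT2_c1i : C1.Mem R1 (C1.gen R1 101237096788316387359143611817493243958898788608315948623986688) 77133026124431533226014180432375804921065743701574056094466048 := GT2_c0m.sub chk1543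
theorem GT2_c1m : C1.Mem R1 (C1.gen R1 77133026124431533226014180432375804921065743701574056094466048) 77133026124431533226014180432375804921065743701574056094466048 := GT2_c1i.gen
theorem fx1545 : C1.gen R1 77133026124431533226014180432375804921065743701574056094466048 ≤ stabilizer _ pt1528 := Act.fix_sound GT2_c1i.top pt1528r chk1544
theorem cov1552 : Cov (C1.gen R1 101237096788316387359143611817493243958898788608315948623986688) (C1.wds R1 [0]) pt1528 100 := Act.cov_of_seen (Act.pieces_sound GT2_c0m GT2_c0m.top pt1528r chk1550) chk1551
theorem GT2_c2i : C1.Mem R1 (C1.gen R1 77133026124431533226014180432375804921065743701574056094466048) 0 := GT2_c1m.sub chk1553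
theorem GT2_c2m : C1.Mem R1 (C1.gen R1 0) 0 := GT2_c2i.gen
theorem fx1555 : C1.gen R1 0 ≤ stabilizer _ pt1529 := Act.fix_sound GT2_c2i.top pt1529r chk1554
theorem cov1562 : Cov (C1.gen R1 77133026124431533226014180432375804921065743701574056094466048) (C1.wds R1 [0]) pt1529 4 := Act.cov_of_seen (Act.pieces_sound GT2_c1m GT2_c1m.top pt1529r chk1560) chk1561
theorem GT2_lb3 : 1 ≤ Nat.card (C1.gen R1 0) := Nat.card_pos
theorem GT2_lo2 : 4 * Nat.card (C1.gen R1 0) ≤ Nat.card (C1.gen R1 77133026124431533226014180432375804921065743701574056094466048) := cov1562.low le_rfl (GC.wds_zero _) GT2_c2i.gen_le fx1555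
theorem GT2_lb2 : 4 ≤ Nat.card (C1.gen R1 77133026124431533226014180432375804921065743701574056094466048) := low_step GT2_lo2 GT2_lb3 (by decide +kernel)
theorem GT2_lo1 : 100 * Nat.card (C1.gen R1 77133026124431533226014180432375804921065743701574056094466048) ≤ Nat.card (C1.gen R1 101237096788316387359143611817493243958898788608315948623986688) := cov1552.low le_rfl (GC.wds_zero _) GT2_c1i.gen_le fx1545
theorem GT2_lb1 : 400 ≤ Nat.card (C1.gen R1 101237096788316387359143611817493243958898788608315948623986688) := low_step GT2_lo1 GT2_lb2 (by decide +kernel)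
theorem GT2_lo0 : 36 * Nat.card (C1.gen R1 101237096788316387359143611817493243958898788608315948623986688) ≤ Nat.card (C1.gen R1 1406070788726616491099216830798517277206927619559943730888704) := cov1542.low le_rfl (GC.wds_zero _) GT2_c0i.gen_le fx1535
theorem GT2_lb0 : 14400 ≤ Nat.card (C1.gen R1 1406070788726616491099216830798517277206927619559943730888704) := low_step GT2_lo0 GT2_lb1 (by decide +kernel)
theorem G_T2c : ∀ τ ∈ (C1.gen R1 1406070788726616491099216830798517277206927619559943730888704), C1.el (R1 164) * τ * (C1.el (R1 164))⁻¹ ∈ (C1.gen R1 4094) := H_s0_1357.conjA (G_I.get (i := 164) (by decide +kernel)).top GT2_in1526.top chk1564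
theorem cov1573 : Cov (C1.gen R1 1406070788726616491099216830798517277206927619559943730888704) (C1.wds R1 (List.map Prod.fst (l1565))) pt1358 462 := Act.cov_of_seen (Act.pieces_sound GT2_s0_1532 H_s0_1357.top pt1358r chk1571) chk1572
theorem G_T2d : Dec (C1.gen R1 4094) (C1.gen R1 1406070788726616491099216830798517277206927619559943730888704) (C1.wds R1 (List.map Prod.fst (l1565))) (C1.gen R1 71835728478088540235547516897670742982128396352356352) := cov1573.dec GT2_in1526.gen_le (GC.wds_sub H_s0_1357 chk1574) GK_in1374.gen_le fx1428 (up_low H_ub GK_lb0 (by decide +kernel))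
theorem G_T2p : ∀ x ∈ DC1 (C1.gen R1 4094) (C1.el (R1 164)), x * C1.el (R1 137) ∈ DCs (C1.gen R1 4094) (C1.els R1 23921858800006443537021433835193368264733369187696640) := GC.dc_piece' G_T2d G_T2c G_Kc (H_s0_1357.dcRel G_I.top (G_I.get (i := 164) (by decide +kernel)).top (G_m1.get (i := 137) (by decide +kernel)).top chk1566)
theorem G_T2u : Nat.card (C1.gen R1 4094) ≤ 16632 * Nat.card (C1.gen R1 1406070788726616491099216830798517277206927619559943730888704) := up_low H_ub GT2_lb0 (by decide +kernel)
theorem G_T2n : (DC1 (C1.gen R1 4094) (C1.el (R1 164))).ncard ≤ Nat.card (C1.gen R1 4094) * 16632 := ncard_DC1 GT2_in1526.gen_le G_T2c G_T2u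
theorem GT3_in1600 : C1.Mem R1 (C1.gen R1 4094) 719908243828027643442799017368840845929946941214691190215016448 := H_s0_1357.slp' chk1599
theorem GT3_m0 : C1.Mem R1 (C1.gen R1 719908243828027643442799017368840845929946941214691190215016448) 719908243828027643442799017368840845929946941214691190215016448 := GC.Mem.gen GT3_in1600.top
theorem pt1601e : ∃ x, A0.Rep pt1601c x := PP.exists_vec P_ok (c := 0x800020001000900010002000200090005000900090008000500020007000800060008000600070002000700020002000800060002000a00010001000a0002000100070003000500090007000800040004000400090002000700080009000200030001000600000006000800070002000a000600020003000600080004000800050000000000090002000000000004000000060000000a00000005000a000200060009000200020005000000050002000900080009000900000001000100000007000700000005000200090002000500020009000200090009000000090000000900000002000900000000000400020004000000080002000a00090000000900090002000400060009) (by decide +kernel)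
noncomputable def pt1601 := Classical.choose pt1601e
theorem pt1601r : A0.Rep pt1601c pt1601 := Classical.choose_spec pt1601e
theorem pt1602e : ∃ x, A0.Rep pt1602c x := PP.exists_vec P_ok (c := 0x7000a00050004000800070006000500040005000400020001000a000300070005000900070005000700080005000700070008000a000800020000000a000700060002000100040000000a00070006000a000a00010008000600080004000a0008000a00070002000700050004000700080009000500030007000700060005000400060006000100060001000200060001000400080001000200010008000a000a0000000000000000000000000000000000000000000000000000000000000000000000000000000000000000000000000000000900010000000100090001000300020001000100040005000500040007000500060005000900090004000100090001000500030009) (by decide +kernel)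
noncomputable def pt1602 := Classical.choose pt1602e
theorem pt1602r : A0.Rep pt1602c pt1602 := Classical.choose_spec pt1602e
theorem pt1603e : ∃ x, A0.Rep pt1603c x := PP.exists_vec P_ok (c := 0x4000a00020001000300050008000900010009000100000001000500010005000800050008000900080004000800080008000400080009000200040006000800090001000600040007000600080009000900080004000900060007000100050001000700070009000a00070008000a000a000a0008000a00090008000200080003000100070009000a00070008000800060008000800080008000a00060008000a00000000000000000000000000000000000000000000000000000000000000000000000000000000000000000000000000000005000100000005000500050004000a00050005000700050007000400020001000a0007000600010003000500010005000700030009) (by decide +kernel)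
noncomputable def pt1603 := Classical.choose pt1603e
theorem pt1603r : A0.Rep pt1603c pt1603 := Classical.choose_spec pt1603e
theorem GT3_s0_1606 : C1.Mem R1 (C1.gen R1 719908243828027643442799017368840845929946941214691190215016448) 26225228882306721296844821347007773673162352858535179072118456320 := GT3_m0.slp' chk1605
theorem GT3_c0i : C1.Mem R1 (C1.gen R1 719908243828027643442799017368840845929946941214691190215016448) 25505320638478693653402022329638932827232405917320487881903439872 := GT3_s0_1606.sub chk1607
theorem GT3_c0m : C1.Mem R1 (C1.gen R1 25505320638478693653402022329638932827232405917320487881903439872) 25505320638478693653402022329638932827232405917320487881903439872 := GT3_c0i.gen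
theorem fx1609 : C1.gen R1 25505320638478693653402022329638932827232405917320487881903439872 ≤ stabilizer _ pt1601 := Act.fix_sound GT3_c0i.top pt1601r chk1608
theorem cov1616 : Cov (C1.gen R1 719908243828027643442799017368840845929946941214691190215016448) (C1.wds R1 [0]) pt1601 54 := Act.cov_of_seen (Act.pieces_sound GT3_s0_1606 GT3_s0_1606.top pt1601r chk1614) chk1615
theorem GT3_c1i : C1.Mem R1 (C1.gen R1 25505320638478693653402022329638932827232405917320487881903439872) 19746054687854472505859630190688206059792830387602958360183308288 := GT3_c0m.sub chk1617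
theorem GT3_c1m : C1.Mem R1 (C1.gen R1 19746054687854472505859630190688206059792830387602958360183308288) 19746054687854472505859630190688206059792830387602958360183308288 := GT3_c1i.gen
theorem fx1619 : C1.gen R1 19746054687854472505859630190688206059792830387602958360183308288 ≤ stabilizer _ pt1602 := Act.fix_sound GT3_c1i.top pt1602r chk1618
theorem cov1626 : Cov (C1.gen R1 25505320638478693653402022329638932827232405917320487881903439872) (C1.wds R1 [0]) pt1602 36 := Act.cov_of_seen (Act.pieces_sound GT3_c0m GT3_c0m.top pt1602r chk1624) chk1625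
theorem GT3_c2i : C1.Mem R1 (C1.gen R1 19746054687854472505859630190688206059792830387602958360183308288) 0 := GT3_c1m.sub chk1627
theorem GT3_c2m : C1.Mem R1 (C1.gen R1 0) 0 := GT3_c2i.gen
theorem fx1629 : C1.gen R1 0 ≤ stabilizer _ pt1603 := Act.fix_sound GT3_c2i.top pt1603r chk1628
theorem cov1636 : Cov (C1.gen R1 19746054687854472505859630190688206059792830387602958360183308288) (C1.wds R1 [0]) pt1603 4 := Act.cov_of_seen (Act.pieces_sound GT3_c1m GT3_c1m.top pt1603r chk1634) chk1635
theorem GT3_lb3 : 1 ≤ Nat.card (C1.gen R1 0) := Nat.card_pos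
theorem GT3_lo2 : 4 * Nat.card (C1.gen R1 0) ≤ Nat.card (C1.gen R1 19746054687854472505859630190688206059792830387602958360183308288) := cov1636.low le_rfl (GC.wds_zero _) GT3_c2i.gen_le fx1629
theorem GT3_lb2 : 4 ≤ Nat.card (C1.gen R1 19746054687854472505859630190688206059792830387602958360183308288) := low_step GT3_lo2 GT3_lb3 (by decide +kernel)
theorem GT3_lo1 : 36 * Nat.card (C1.gen R1 19746054687854472505859630190688206059792830387602958360183308288) ≤ Nat.card (C1.gen R1 25505320638478693653402022329638932827232405917320487881903439872) := cov1626.low le_rfl (GC.wds_zero _) GT3_c1i.gen_le fx1619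
theorem GT3_lb1 : 144 ≤ Nat.card (C1.gen R1 25505320638478693653402022329638932827232405917320487881903439872) := low_step GT3_lo1 GT3_lb2 (by decide +kernel)
theorem GT3_lo0 : 54 * Nat.card (C1.gen R1 25505320638478693653402022329638932827232405917320487881903439872) ≤ Nat.card (C1.gen R1 719908243828027643442799017368840845929946941214691190215016448) := cov1616.low le_rfl (GC.wds_zero _) GT3_c0i.gen_le fx1609
theorem GT3_lb0 : 7776 ≤ Nat.card (C1.gen R1 719908243828027643442799017368840845929946941214691190215016448) := low_step GT3_lo0 GT3_lb1 (by decide +kernel)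
theorem G_T3c : ∀ τ ∈ (C1.gen R1 719908243828027643442799017368840845929946941214691190215016448), C1.el (R1 165) * τ * (C1.el (R1 165))⁻¹ ∈ (C1.gen R1 4094) := H_s0_1357.conjA (G_I.get (i := 165) (by decide +kernel)).top GT3_in1600.top chk1638
theorem cov1649 : Cov (C1.gen R1 719908243828027643442799017368840845929946941214691190215016448) (C1.wds R1 (List.map Prod.fst (l1639 ++ (l1641)))) pt1358 462 := Act.cov_of_seen (Act.pieces_sound GT3_s0_1606 H_s0_1357.top pt1358r chk1647) chk1648
theorem G_T3d : Dec (C1.gen R1 4094) (C1.gen R1 719908243828027643442799017368840845929946941214691190215016448) (C1.wds R1 (List.map Prod.fst (l1639 ++ (l1641)))) (C1.gen R1 71835728478088540235547516897670742982128396352356352) := cov1649.dec GT3_in1600.gen_le (GC.wds_sub H_s0_1357 chk1650) GK_in1374.gen_le fx1428 (up_low H_ub GK_lb0 (by decide +kernel))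
theorem G_T3p : ∀ x ∈ DC1 (C1.gen R1 4094) (C1.el (R1 165)), x * C1.el (R1 137) ∈ DCs (C1.gen R1 4094) (C1.els R1 23921858800006443537021433835193368264733369187696640) := GC.dc_piece' G_T3d G_T3c G_Kc (forall_app (H_s0_1357.dcRel G_I.top (G_I.get (i := 165) (by decide +kernel)).top (G_m1.get (i := 137) (by decide +kernel)).top chk1640) (H_s0_1357.dcRel G_I.top (G_I.get (i := 165) (by decide +kernel)).top (G_m1.get (i := 137) (by decide +kernel)).top chk1642))
theorem G_T3u : Nat.card (C1.gen R1 4094) ≤ 30800 * Nat.card (C1.gen R1 719908243828027643442799017368840845929946941214691190215016448) := up_low H_ub GT3_lb0 (by decide +kernel)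
theorem G_T3n : (DC1 (C1.gen R1 4094) (C1.el (R1 165))).ncard ≤ Nat.card (C1.gen R1 4094) * 30800 := ncard_DC1 GT3_in1600.gen_le G_T3c G_T3u
theorem GT4_in1659 : C1.Mem R1 (C1.gen R1 4094) 78984218751417890023438520762752824239171321550411833440733233152 := H_s0_1357.slp' chk1658
theorem GT4_m0 : C1.Mem R1 (C1.gen R1 78984218751417890023438520762752824239171321550411833440733233152) 78984218751417890023438520762752824239171321550411833440733233152 := GC.Mem.gen GT4_in1659.top
theorem pt1660e : ∃ x, A0.Rep pt1660c x := PP.exists_vec P_ok (c := 0x60006000300090003000600020009000500090009000800050002000700060002000a0006000900020000000800020008000000020008000300050007000600080007000a0009000700060002000a0003000200050008000700010005000900050004000200040009000a000100020007000300020007000200020004000a0005000300020009000400030005000400030008000400030005000300060002000200090009000200090000000900090002000000020002000800000000000400000000000000020002000900090009000900020009000200020004000900040002000000020002000a0007000900020009000700090009000200020007000200010009000900060009) (by decide +kernel)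
noncomputable def pt1660 := Classical.choose pt1660e
theorem pt1660r : A0.Rep pt1660c pt1660 := Classical.choose_spec pt1660e
theorem pt1661e : ∃ x, A0.Rep pt1661c x := PP.exists_vec P_ok (c := 0x4000a00020001000300050008000900010009000100000001000500010005000800050008000900080004000800080008000400080009000200040006000800090001000600040007000600080009000900080004000900060007000100050001000700070009000a00070008000a000a000a0008000a00090008000200080003000100070009000a00070008000800060008000800080008000a00060008000a00000000000000000000000000000000000000000000000000000000000000000000000000000000000000000000000000000005000100000005000500050004000a00050005000700050007000400020001000a0007000600010003000500010005000700030009) (by decide +kernel)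
noncomputable def pt1661 := Classical.choose pt1661e
theorem pt1661r : A0.Rep pt1661c pt1661 := Classical.choose_spec pt1661e
theorem pt1662e : ∃ x, A0.Rep pt1662c x := PP.exists_vec P_ok (c := 0x800020001000900010002000200090005000900090008000500020007000800060008000600070002000700020002000800060002000a00010001000a0002000100070003000500090007000800040004000400090002000700080009000200030001000600000006000800070002000a000600020003000600080004000800050000000000090002000000000004000000060000000a00000005000a000200060009000200020005000000050002000900080009000900000001000100000007000700000005000200090002000500020009000200090009000000090000000900000002000900000000000400020004000000080002000a00090000000900090002000400060009) (by decide +kernel)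
noncomputable def pt1662 := Classical.choose pt1662e
theorem pt1662r : A0.Rep pt1662c pt1662 := Classical.choose_spec pt1662e
theorem GT4_s0_1665 : C1.Mem R1 (C1.gen R1 78984218751417890023438520762752824239171321550411833440733233152) 26933618594233500497992535580098713065557420648690435203290032504832 := GT4_m0.slp' chk1664
theorem GT4_c0i : C1.Mem R1 (C1.gen R1 78984218751417890023438520762752824239171321550411833440733233152) 26854634375482082607969097059335960241318249327140023369849299271680 := GT4_s0_1665.sub chk1666
theorem GT4_c0m : C1.Mem R1 (C1.gen R1 26854634375482082607969097059335960241318249327140023369849299271680) 26854634375482082607969097059335960241318249327140023369849299271680 := GT4_c0i.gen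
theorem fx1668 : C1.gen R1 26854634375482082607969097059335960241318249327140023369849299271680 ≤ stabilizer _ pt1660 := Act.fix_sound GT4_c0i.top pt1660r chk1667
theorem cov1675 : Cov (C1.gen R1 78984218751417890023438520762752824239171321550411833440733233152) (C1.wds R1 [0]) pt1660 16 := Act.cov_of_seen (Act.pieces_sound GT4_s0_1665 GT4_s0_1665.top pt1660r chk1673) chk1674
theorem GT4_c1i : C1.Mem R1 (C1.gen R1 26854634375482082607969097059335960241318249327140023369849299271680) 23589953333756809820333638201142176839432501369723000920965658968064 := GT4_c0m.sub chk1676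
theorem GT4_c1m : C1.Mem R1 (C1.gen R1 23589953333756809820333638201142176839432501369723000920965658968064) 23589953333756809820333638201142176839432501369723000920965658968064 := GT4_c1i.gen
theorem fx1678 : C1.gen R1 23589953333756809820333638201142176839432501369723000920965658968064 ≤ stabilizer _ pt1661 := Act.fix_sound GT4_c1i.top pt1661r chk1677
theorem cov1685 : Cov (C1.gen R1 26854634375482082607969097059335960241318249327140023369849299271680) (C1.wds R1 [0]) pt1661 120 := Act.cov_of_seen (Act.pieces_sound GT4_c0m GT4_c0m.top pt1661r chk1683) chk1684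
theorem GT4_c2i : C1.Mem R1 (C1.gen R1 23589953333756809820333638201142176839432501369723000920965658968064) 0 := GT4_c1m.sub chk1686
theorem GT4_c2m : C1.Mem R1 (C1.gen R1 0) 0 := GT4_c2i.gen
theorem fx1688 : C1.gen R1 0 ≤ stabilizer _ pt1662 := Act.fix_sound GT4_c2i.top pt1662r chk1687
theorem cov1695 : Cov (C1.gen R1 23589953333756809820333638201142176839432501369723000920965658968064) (C1.wds R1 [0]) pt1662 12 := Act.cov_of_seen (Act.pieces_sound GT4_c1m GT4_c1m.top pt1662r chk1693) chk1694
theorem GT4_lb3 : 1 ≤ Nat.card (C1.gen R1 0) := Nat.card_pos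
theorem GT4_lo2 : 12 * Nat.card (C1.gen R1 0) ≤ Nat.card (C1.gen R1 23589953333756809820333638201142176839432501369723000920965658968064) := cov1695.low le_rfl (GC.wds_zero _) GT4_c2i.gen_le fx1688
theorem GT4_lb2 : 12 ≤ Nat.card (C1.gen R1 23589953333756809820333638201142176839432501369723000920965658968064) := low_step GT4_lo2 GT4_lb3 (by decide +kernel)
theorem GT4_lo1 : 120 * Nat.card (C1.gen R1 23589953333756809820333638201142176839432501369723000920965658968064) ≤ Nat.card (C1.gen R1 26854634375482082607969097059335960241318249327140023369849299271680) := cov1685.low le_rfl (GC.wds_zero _) GT4_c1i.gen_le fx1678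
theorem GT4_lb1 : 1440 ≤ Nat.card (C1.gen R1 26854634375482082607969097059335960241318249327140023369849299271680) := low_step GT4_lo1 GT4_lb2 (by decide +kernel)
theorem GT4_lo0 : 16 * Nat.card (C1.gen R1 26854634375482082607969097059335960241318249327140023369849299271680) ≤ Nat.card (C1.gen R1 78984218751417890023438520762752824239171321550411833440733233152) := cov1675.low le_rfl (GC.wds_zero _) GT4_c0i.gen_le fx1668
theorem GT4_lb0 : 23040 ≤ Nat.card (C1.gen R1 78984218751417890023438520762752824239171321550411833440733233152) := low_step GT4_lo0 GT4_lb1 (by decide +kernel)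
theorem G_T4c : ∀ τ ∈ (C1.gen R1 78984218751417890023438520762752824239171321550411833440733233152), C1.el (R1 166) * τ * (C1.el (R1 166))⁻¹ ∈ (C1.gen R1 4094) := H_s0_1357.conjA (G_I.get (i := 166) (by decide +kernel)).top GT4_in1659.top chk1697
theorem cov1708 : Cov (C1.gen R1 78984218751417890023438520762752824239171321550411833440733233152) (C1.wds R1 (List.map Prod.fst (l1698 ++ (l1700)))) pt1358 462 := Act.cov_of_seen (Act.pieces_sound GT4_s0_1665 H_s0_1357.top pt1358r chk1706) chk1707
theorem G_T4d : Dec (C1.gen R1 4094) (C1.gen R1 78984218751417890023438520762752824239171321550411833440733233152) (C1.wds R1 (List.map Prod.fst (l1698 ++ (l1700)))) (C1.gen R1 71835728478088540235547516897670742982128396352356352) := cov1708.dec GT4_in1659.gen_le (GC.wds_sub H_s0_1357 chk1709) GK_in1374.gen_le fx1428 (up_low H_ub GK_lb0 (by decide +kernel))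
theorem G_T4p : ∀ x ∈ DC1 (C1.gen R1 4094) (C1.el (R1 166)), x * C1.el (R1 137) ∈ DCs (C1.gen R1 4094) (C1.els R1 23921858800006443537021433835193368264733369187696640) := GC.dc_piece' G_T4d G_T4c G_Kc (forall_app (H_s0_1357.dcRel G_I.top (G_I.get (i := 166) (by decide +kernel)).top (G_m1.get (i := 137) (by decide +kernel)).top chk1699) (H_s0_1357.dcRel G_I.top (G_I.get (i := 166) (by decide +kernel)).top (G_m1.get (i := 137) (by decide +kernel)).top chk1701))
theorem G_T4u : Nat.card (C1.gen R1 4094) ≤ 10395 * Nat.card (C1.gen R1 78984218751417890023438520762752824239171321550411833440733233152) := up_low H_ub GT4_lb0 (by decide +kernel)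
theorem G_T4n : (DC1 (C1.gen R1 4094) (C1.el (R1 166))).ncard ≤ Nat.card (C1.gen R1 4094) * 10395 := ncard_DC1 GT4_in1659.gen_le G_T4c G_T4u
theorem GT5_in1740 : C1.Mem R1 (C1.gen R1 4094) 188719626670054478562669105609137414715460010957784007367725271744512 := H_s0_1357.slp' chk1739
theorem GT5_m0 : C1.Mem R1 (C1.gen R1 188719626670054478562669105609137414715460010957784007367725271744512) 188719626670054478562669105609137414715460010957784007367725271744512 := GC.Mem.gen GT5_in1740.top
theorem pt1741e : ∃ x, A0.Rep pt1741c x := PP.exists_vec P_ok (c := 0x600060004000a0006000a000700010006000300030005000400050005000a00010004000400080006000600080006000400090009) (by decide +kernel)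
noncomputable def pt1741 := Classical.choose pt1741e
theorem pt1741r : A0.Rep pt1741c pt1741 := Classical.choose_spec pt1741e
theorem pt1742e : ∃ x, A0.Rep pt1742c x := PP.exists_vec P_ok (c := 0x4000a00020001000300050008000900010009000100000001000500010005000800050008000900080004000800080008000400080009000200040006000800090001000600040007000600080009000900080004000900060007000100050001000700070009000a00070008000a000a000a0008000a00090008000200080003000100070009000a00070008000800060008000800080008000a00060008000a00000000000000000000000000000000000000000000000000000000000000000000000000000000000000000000000000000005000100000005000500050004000a00050005000700050007000400020001000a0007000600010003000500010005000700030009) (by decide +kernel)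
noncomputable def pt1742 := Classical.choose pt1742e
theorem pt1742r : A0.Rep pt1742c pt1742 := Classical.choose_spec pt1742e
theorem pt1743e : ∃ x, A0.Rep pt1743c x := PP.exists_vec P_ok (c := 0x7000a00050004000800070006000500040005000400020001000a000300070005000900070005000700080005000700070008000a000800020000000a000700060002000100040000000a00070006000a000a00010008000600080004000a0008000a00070002000700050004000700080009000500030007000700060005000400060006000100060001000200060001000400080001000200010008000a000a0000000000000000000000000000000000000000000000000000000000000000000000000000000000000000000000000000000900010000000100090001000300020001000100040005000500040007000500060005000900090004000100090001000500030009) (by decide +kernel)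
noncomputable def pt1743 := Classical.choose pt1743e
theorem pt1743r : A0.Rep pt1743c pt1743 := Classical.choose_spec pt1743e
theorem GT5_s0_1746 : C1.Mem R1 (C1.gen R1 188719626670054478562669105609137414715460010957784007367725271744512) 3423913226728131253922710916051493095551917341662652705100158501650432 := GT5_m0.slp' chk1745
theorem GT5_c0i : C1.Mem R1 (C1.gen R1 188719626670054478562669105609137414715460010957784007367725271744512) 3235193600058076775360041810442355680836457330704868697732433229905920 := GT5_s0_1746.sub chk1747
theorem GT5_c0m : C1.Mem R1 (C1.gen R1 3235193600058076775360041810442355680836457330704868697732433229905920) 3235193600058076775360041810442355680836457330704868697732433229905920 := GT5_c0i.gen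
theorem fx1749 : C1.gen R1 3235193600058076775360041810442355680836457330704868697732433229905920 ≤ stabilizer _ pt1741 := Act.fix_sound GT5_c0i.top pt1741r chk1748
theorem cov1756 : Cov (C1.gen R1 188719626670054478562669105609137414715460010957784007367725271744512) (C1.wds R1 [0]) pt1741 15 := Act.cov_of_seen (Act.pieces_sound GT5_s0_1746 GT5_s0_1746.top pt1741r chk1754) chk1755
theorem GT5_c1i : C1.Mem R1 (C1.gen R1 3235193600058076775360041810442355680836457330704868697732433229905920) 2588154880046461420288033448353884544669165864563894958185946583924736 := GT5_c0m.sub chk1757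
theorem GT5_c1m : C1.Mem R1 (C1.gen R1 2588154880046461420288033448353884544669165864563894958185946583924736) 2588154880046461420288033448353884544669165864563894958185946583924736 := GT5_c1i.gen
theorem fx1759 : C1.gen R1 2588154880046461420288033448353884544669165864563894958185946583924736 ≤ stabilizer _ pt1742 := Act.fix_sound GT5_c1i.top pt1742r chk1758
theorem cov1766 : Cov (C1.gen R1 3235193600058076775360041810442355680836457330704868697732433229905920) (C1.wds R1 [0]) pt1742 24 := Act.cov_of_seen (Act.pieces_sound GT5_c0m GT5_c0m.top pt1742r chk1764) chk1765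
theorem GT5_c2i : C1.Mem R1 (C1.gen R1 2588154880046461420288033448353884544669165864563894958185946583924736) 0 := GT5_c1m.sub chk1767
theorem GT5_c2m : C1.Mem R1 (C1.gen R1 0) 0 := GT5_c2i.gen
theorem fx1769 : C1.gen R1 0 ≤ stabilizer _ pt1743 := Act.fix_sound GT5_c2i.top pt1743r chk1768
theorem cov1776 : Cov (C1.gen R1 2588154880046461420288033448353884544669165864563894958185946583924736) (C1.wds R1 [0]) pt1743 4 := Act.cov_of_seen (Act.pieces_sound GT5_c1m GT5_c1m.top pt1743r chk1774) chk1775
theorem GT5_lb3 : 1 ≤ Nat.card (C1.gen R1 0) := Nat.card_pos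
theorem GT5_lo2 : 4 * Nat.card (C1.gen R1 0) ≤ Nat.card (C1.gen R1 2588154880046461420288033448353884544669165864563894958185946583924736) := cov1776.low le_rfl (GC.wds_zero _) GT5_c2i.gen_le fx1769
theorem GT5_lb2 : 4 ≤ Nat.card (C1.gen R1 2588154880046461420288033448353884544669165864563894958185946583924736) := low_step GT5_lo2 GT5_lb3 (by decide +kernel)
theorem GT5_lo1 : 24 * Nat.card (C1.gen R1 2588154880046461420288033448353884544669165864563894958185946583924736) ≤ Nat.card (C1.gen R1 3235193600058076775360041810442355680836457330704868697732433229905920) := cov1766.low le_rfl (GC.wds_zero _) GT5_c1i.gen_le fx1759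
theorem GT5_lb1 : 96 ≤ Nat.card (C1.gen R1 3235193600058076775360041810442355680836457330704868697732433229905920) := low_step GT5_lo1 GT5_lb2 (by decide +kernel)
theorem GT5_lo0 : 15 * Nat.card (C1.gen R1 3235193600058076775360041810442355680836457330704868697732433229905920) ≤ Nat.card (C1.gen R1 188719626670054478562669105609137414715460010957784007367725271744512) := cov1756.low le_rfl (GC.wds_zero _) GT5_c0i.gen_le fx1749
theorem GT5_lb0 : 1440 ≤ Nat.card (C1.gen R1 188719626670054478562669105609137414715460010957784007367725271744512) := low_step GT5_lo0 GT5_lb1 (by decide +kernel)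
theorem G_T5c : ∀ τ ∈ (C1.gen R1 188719626670054478562669105609137414715460010957784007367725271744512), C1.el (R1 167) * τ * (C1.el (R1 167))⁻¹ ∈ (C1.gen R1 4094) := H_s0_1357.conjA (G_I.get (i := 167) (by decide +kernel)).top GT5_in1740.top chk1778
theorem cov1793 : Cov (C1.gen R1 188719626670054478562669105609137414715460010957784007367725271744512) (C1.wds R1 (List.map Prod.fst (l1779 ++ (l1781 ++ (l1783 ++ (l1785)))))) pt1358 462 := Act.cov_of_seen (Act.pieces_sound GT5_s0_1746 H_s0_1357.top pt1358r chk1791) chk1792
theorem G_T5d : Dec (C1.gen R1 4094) (C1.gen R1 188719626670054478562669105609137414715460010957784007367725271744512) (C1.wds R1 (List.map Prod.fst (l1779 ++ (l1781 ++ (l1783 ++ (l1785)))))) (C1.gen R1 71835728478088540235547516897670742982128396352356352) := cov1793.dec GT5_in1740.gen_le (GC.wds_sub H_s0_1357 chk1794) GK_in1374.gen_le fx1428 (up_low H_ub GK_lb0 (by decide +kernel))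
theorem G_T5p : ∀ x ∈ DC1 (C1.gen R1 4094) (C1.el (R1 167)), x * C1.el (R1 137) ∈ DCs (C1.gen R1 4094) (C1.els R1 23921858800006443537021433835193368264733369187696640) := GC.dc_piece' G_T5d G_T5c G_Kc (forall_app (H_s0_1357.dcRel G_I.top (G_I.get (i := 167) (by decide +kernel)).top (G_m1.get (i := 137) (by decide +kernel)).top chk1780) (forall_app (H_s0_1357.dcRel G_I.top (G_I.get (i := 167) (by decide +kernel)).top (G_m1.get (i := 137) (by decide +kernel)).top chk1782) (forall_app (H_s0_1357.dcRel G_I.top (G_I.get (i := 167) (by decide +kernel)).top (G_m1.get (i := 137) (by decide +kernel)).top chk1784) (H_s0_1357.dcRel G_I.top (G_I.get (i := 167) (by decide +kernel)).top (G_m1.get (i := 137) (by decide +kernel)).top chk1786))))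
theorem G_T5u : Nat.card (C1.gen R1 4094) ≤ 166320 * Nat.card (C1.gen R1 188719626670054478562669105609137414715460010957784007367725271744512) := up_low H_ub GT5_lb0 (by decide +kernel)
theorem G_T5n : (DC1 (C1.gen R1 4094) (C1.el (R1 167))).ncard ≤ Nat.card (C1.gen R1 4094) * 166320 := ncard_DC1 GT5_in1740.gen_le G_T5c G_T5u
theorem GT6_in1809 : C1.Mem R1 (C1.gen R1 4094) 10352619520185845681152133793415538178676663458255579832743786335698944 := H_s0_1357.slp' chk1808
theorem GT6_m0 : C1.Mem R1 (C1.gen R1 10352619520185845681152133793415538178676663458255579832743786335698944) 10352619520185845681152133793415538178676663458255579832743786335698944 := GC.Mem.gen GT6_in1809.top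
theorem pt1810e : ∃ x, A0.Rep pt1810c x := PP.exists_vec P_ok (c := 0xa0008000400030005000a0006000900040009000100050004000a000a0007000a0007000a00050007000000080008000a000000070003000600080005000a000900010005000300040004000800050007000700010007000a00090001000400020007000a000a000700090005000800030003000800030004000a00060006000400000000000300080000000000080000000a00000008000000080005000a000a00000000000000000000000000000000000000000000000000000000000000000000000000000000000000000000000000000005000100040001000500010000000600010005000000010009000a0008000100080009000100010004000100010005000100030009) (by decide +kernel)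
noncomputable def pt1810 := Classical.choose pt1810e
theorem pt1810r : A0.Rep pt1810c pt1810 := Classical.choose_spec pt1810e
theorem pt1811e : ∃ x, A0.Rep pt1811c x := PP.exists_vec P_ok (c := 0x20002000100030007000600040009000900090003000100090006000500060006000800060009000600040002000200020005000600040001000800030002000100060007000900090001000800040001000100050001000a00080009000500000003000a00040006000a000300020007000200060007000900060008000a00050001000100090009000100040004000200020004000300040003000100080002000500090002000900040009000200020000000a000200000000000000040000000400070002000900050009000900020002000900090002000400020007000900000009000200040007000900020000000400060002000800020004000200090009000200060009) (by decide +kernel)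
noncomputable def pt1811 := Classical.choose pt1811e
theorem pt1811r : A0.Rep pt1811c pt1811 := Classical.choose_spec pt1811e
theorem pt1812e : ∃ x, A0.Rep pt1812c x := PP.exists_vec P_ok (c := 0x4000a00020001000300050008000900010009000100000001000500010005000800050008000900080004000800080008000400080009000200040006000800090001000600040007000600080009000900080004000900060007000100050001000700070009000a00070008000a000a000a0008000a00090008000200080003000100070009000a00070008000800060008000800080008000a00060008000a00000000000000000000000000000000000000000000000000000000000000000000000000000000000000000000000000000005000100000005000500050004000a00050005000700050007000400020001000a0007000600010003000500010005000700030009) (by decide +kernel)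
noncomputable def pt1812 := Classical.choose pt1812e
theorem pt1812r : A0.Rep pt1812c pt1812 := Classical.choose_spec pt1812e
theorem pt1813e : ∃ x, A0.Rep pt1813c x := PP.exists_vec P_ok (c := 0x800020001000900010002000200090005000900090008000500020007000800060008000600070002000700020002000800060002000a00010001000a0002000100070003000500090007000800040004000400090002000700080009000200030001000600000006000800070002000a000600020003000600080004000800050000000000090002000000000004000000060000000a00000005000a000200060009000200020005000000050002000900080009000900000001000100000007000700000005000200090002000500020009000200090009000000090000000900000002000900000000000400020004000000080002000a00090000000900090002000400060009) (by decide +kernel)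
noncomputable def pt1813 := Classical.choose pt1813e
theorem pt1813r : A0.Rep pt1813c pt1813 := Classical.choose_spec pt1813e
theorem GT6_s0_1816 : C1.Mem R1 (C1.gen R1 10352619520185845681152133793415538178676663458255579832743786335698944) 879972659215796882897931372440320745187516393951724285783221838534410240 := GT6_m0.slp' chk1815
theorem GT6_c0i : C1.Mem R1 (C1.gen R1 10352619520185845681152133793415538178676663458255579832743786335698944) 869620039695611037216779238646905207008839730493468705950478052198711296 := GT6_s0_1816.sub chk1817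
theorem GT6_c0m : C1.Mem R1 (C1.gen R1 869620039695611037216779238646905207008839730493468705950478052198711296) 869620039695611037216779238646905207008839730493468705950478052198711296 := GT6_c0i.gen
theorem fx1819 : C1.gen R1 869620039695611037216779238646905207008839730493468705950478052198711296 ≤ stabilizer _ pt1810 := Act.fix_sound GT6_c0i.top pt1810r chk1818
theorem cov1826 : Cov (C1.gen R1 10352619520185845681152133793415538178676663458255579832743786335698944) (C1.wds R1 [0]) pt1810 12 := Act.cov_of_seen (Act.pieces_sound GT6_s0_1816 GT6_s0_1816.top pt1810r chk1824) chk1825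
theorem GT6_c1i : C1.Mem R1 (C1.gen R1 869620039695611037216779238646905207008839730493468705950478052198711296) 800602576227705399342431680024134952484328640771764840398852809960718336 := GT6_c0m.sub chk1827
theorem GT6_c1m : C1.Mem R1 (C1.gen R1 800602576227705399342431680024134952484328640771764840398852809960718336) 800602576227705399342431680024134952484328640771764840398852809960718336 := GT6_c1i.gen
theorem fx1829 : C1.gen R1 800602576227705399342431680024134952484328640771764840398852809960718336 ≤ stabilizer _ pt1811 := Act.fix_sound GT6_c1i.top pt1811r chk1828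
theorem cov1836 : Cov (C1.gen R1 869620039695611037216779238646905207008839730493468705950478052198711296) (C1.wds R1 [0]) pt1811 4 := Act.cov_of_seen (Act.pieces_sound GT6_c0m GT6_c0m.top pt1811r chk1834) chk1835
theorem GT6_c2i : C1.Mem R1 (C1.gen R1 800602576227705399342431680024134952484328640771764840398852809960718336) 110427941548649020598956093796432407239217743554726184882600387580788736 := GT6_c1m.sub chk1837
theorem GT6_c2m : C1.Mem R1 (C1.gen R1 110427941548649020598956093796432407239217743554726184882600387580788736) 110427941548649020598956093796432407239217743554726184882600387580788736 := GT6_c2i.gen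
theorem fx1839 : C1.gen R1 110427941548649020598956093796432407239217743554726184882600387580788736 ≤ stabilizer _ pt1812 := Act.fix_sound GT6_c2i.top pt1812r chk1838
theorem cov1846 : Cov (C1.gen R1 800602576227705399342431680024134952484328640771764840398852809960718336) (C1.wds R1 [0]) pt1812 8 := Act.cov_of_seen (Act.pieces_sound GT6_c1m GT6_c1m.top pt1812r chk1844) chk1845
theorem GT6_c3i : C1.Mem R1 (C1.gen R1 110427941548649020598956093796432407239217743554726184882600387580788736) 0 := GT6_c2m.sub chk1847
theorem GT6_c3m : C1.Mem R1 (C1.gen R1 0) 0 := GT6_c3i.gen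
theorem fx1849 : C1.gen R1 0 ≤ stabilizer _ pt1813 := Act.fix_sound GT6_c3i.top pt1813r chk1848
theorem cov1856 : Cov (C1.gen R1 110427941548649020598956093796432407239217743554726184882600387580788736) (C1.wds R1 [0]) pt1813 2 := Act.cov_of_seen (Act.pieces_sound GT6_c2m GT6_c2m.top pt1813r chk1854) chk1855
theorem GT6_lb4 : 1 ≤ Nat.card (C1.gen R1 0) := Nat.card_pos
theorem GT6_lo3 : 2 * Nat.card (C1.gen R1 0) ≤ Nat.card (C1.gen R1 110427941548649020598956093796432407239217743554726184882600387580788736) := cov1856.low le_rfl (GC.wds_zero _) GT6_c3i.gen_le fx1849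
theorem GT6_lb3 : 2 ≤ Nat.card (C1.gen R1 110427941548649020598956093796432407239217743554726184882600387580788736) := low_step GT6_lo3 GT6_lb4 (by decide +kernel)
theorem GT6_lo2 : 8 * Nat.card (C1.gen R1 110427941548649020598956093796432407239217743554726184882600387580788736) ≤ Nat.card (C1.gen R1 800602576227705399342431680024134952484328640771764840398852809960718336) := cov1846.low le_rfl (GC.wds_zero _) GT6_c2i.gen_le fx1839
theorem GT6_lb2 : 16 ≤ Nat.card (C1.gen R1 800602576227705399342431680024134952484328640771764840398852809960718336) := low_step GT6_lo2 GT6_lb3 (by decide +kernel)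
theorem GT6_lo1 : 4 * Nat.card (C1.gen R1 800602576227705399342431680024134952484328640771764840398852809960718336) ≤ Nat.card (C1.gen R1 869620039695611037216779238646905207008839730493468705950478052198711296) := cov1836.low le_rfl (GC.wds_zero _) GT6_c1i.gen_le fx1829
theorem GT6_lb1 : 64 ≤ Nat.card (C1.gen R1 869620039695611037216779238646905207008839730493468705950478052198711296) := low_step GT6_lo1 GT6_lb2 (by decide +kernel)
theorem GT6_lo0 : 12 * Nat.card (C1.gen R1 869620039695611037216779238646905207008839730493468705950478052198711296) ≤ Nat.card (C1.gen R1 10352619520185845681152133793415538178676663458255579832743786335698944) := cov1826.low le_rfl (GC.wds_zero _) GT6_c0i.gen_le fx1819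
theorem GT6_lb0 : 768 ≤ Nat.card (C1.gen R1 10352619520185845681152133793415538178676663458255579832743786335698944) := low_step GT6_lo0 GT6_lb1 (by decide +kernel)
theorem G_T6c : ∀ τ ∈ (C1.gen R1 10352619520185845681152133793415538178676663458255579832743786335698944), C1.el (R1 168) * τ * (C1.el (R1 168))⁻¹ ∈ (C1.gen R1 4094) := H_s0_1357.conjA (G_I.get (i := 168) (by decide +kernel)).top GT6_in1809.top chk1858
theorem cov1873 : Cov (C1.gen R1 10352619520185845681152133793415538178676663458255579832743786335698944) (C1.wds R1 (List.map Prod.fst (l1859 ++ (l1861 ++ (l1863 ++ (l1865)))))) pt1358 462 := Act.cov_of_seen (Act.pieces_sound GT6_s0_1816 H_s0_1357.top pt1358r chk1871) chk1872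
theorem G_T6d : Dec (C1.gen R1 4094) (C1.gen R1 10352619520185845681152133793415538178676663458255579832743786335698944) (C1.wds R1 (List.map Prod.fst (l1859 ++ (l1861 ++ (l1863 ++ (l1865)))))) (C1.gen R1 71835728478088540235547516897670742982128396352356352) := cov1873.dec GT6_in1809.gen_le (GC.wds_sub H_s0_1357 chk1874) GK_in1374.gen_le fx1428 (up_low H_ub GK_lb0 (by decide +kernel))
theorem G_T6p : ∀ x ∈ DC1 (C1.gen R1 4094) (C1.el (R1 168)), x * C1.el (R1 137) ∈ DCs (C1.gen R1 4094) (C1.els R1 23921858800006443537021433835193368264733369187696640) := GC.dc_piece' G_T6d G_T6c G_Kc (forall_app (H_s0_1357.dcRel G_I.top (G_I.get (i := 168) (by decide +kernel)).top (G_m1.get (i := 137) (by decide +kernel)).top chk1860) (forall_app (H_s0_1357.dcRel G_I.top (G_I.get (i := 168) (by decide +kernel)).top (G_m1.get (i := 137) (by decide +kernel)).top chk1862) (forall_app (H_s0_1357.dcRel G_I.top (G_I.get (i := 168) (by decide +kernel)).top (G_m1.get (i := 137) (by decide +kernel)).top chk1864) (H_s0_1357.dcRel G_I.top (G_I.get (i := 168) (by decide +kernel)).top (G_m1.get (i := 137) (by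 decide +kernel)).top chk1866))))
theorem G_T6u : Nat.card (C1.gen R1 4094) ≤ 311850 * Nat.card (C1.gen R1 10352619520185845681152133793415538178676663458255579832743786335698944) := up_low H_ub GT6_lb0 (by decide +kernel)
theorem G_T6n : (DC1 (C1.gen R1 4094) (C1.el (R1 168))).ncard ≤ Nat.card (C1.gen R1 4094) * 311850 := ncard_DC1 GT6_in1809.gen_le G_T6c G_T6u
theorem GT7_in1895 : C1.Mem R1 (C1.gen R1 4094) 2650270597167576494374946251114377773741225845313428437182409301938929664 := H_s0_1357.slp' chk1894
theorem GT7_m0 : C1.Mem R1 (C1.gen R1 2650270597167576494374946251114377773741225845313428437182409301938929664) 2650270597167576494374946251114377773741225845313428437182409301938929664 := GC.Mem.gen GT7_in1895.top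
theorem pt1896e : ∃ x, A0.Rep pt1896c x := PP.exists_vec P_ok (c := 0x6000200030009000a000200020009000500090005000100090006000700060002000a0006000900060000000200060006000000020006000300030003000600080000000300030005000300060008000600060009000800030001000900050005000a000600000004000600010002000200040008000500020002000a0001000300080008000900040009000700020009000200070005000600050003000600020002000200090009000700090002000200000002000200000004000100000007000000040002000900020002000900020005000200090002000700020007000900070009000900040004000200020002000700090009000200090000000900020009000200060009) (by decide +kernel)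
noncomputable def pt1896 := Classical.choose pt1896e
theorem pt1896r : A0.Rep pt1896c pt1896 := Classical.choose_spec pt1896e
theorem pt1897e : ∃ x, A0.Rep pt1897c x := PP.exists_vec P_ok (c := 0xa0004000200010005000a0002000300010009000100000001000a0007000a000a0009000a000300040007000a000a00040007000400050002000700020008000500010003000100090002000800050009000900010005000600090004000700010008000a0004000a000a000800080005000a0007000100020005000100090002000a000a000a0008000a00090008000500070009000a0009000a0008000a000a00000000000000000000000000000000000000000000000000000000000000000000000000000000000000000000000000000001000500040001000500050000000a00050005000400050009000200020005000800090004000a000a000100010001000900030009) (by decide +kernel)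
noncomputable def pt1897 := Classical.choose pt1897e
theorem pt1897r : A0.Rep pt1897c pt1897 := Classical.choose_spec pt1897e
theorem pt1898e : ∃ x, A0.Rep pt1898c x := PP.exists_vec P_ok (c := 0x4000a00020001000300050008000900010009000100000001000500010005000800050008000900080004000800080008000400080009000200040006000800090001000600040007000600080009000900080004000900060007000100050001000700070009000a00070008000a000a000a0008000a00090008000200080003000100070009000a00070008000800060008000800080008000a00060008000a00000000000000000000000000000000000000000000000000000000000000000000000000000000000000000000000000000005000100000005000500050004000a00050005000700050007000400020001000a0007000600010003000500010005000700030009) (by decide +kernel)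
noncomputable def pt1898 := Classical.choose pt1898e
theorem pt1898r : A0.Rep pt1898c pt1898 := Classical.choose_spec pt1898e
theorem pt1899e : ∃ x, A0.Rep pt1899c x := PP.exists_vec P_ok (c := 0x800020001000900010002000200090005000900090008000500020007000800060008000600070002000700020002000800060002000a00010001000a0002000100070003000500090007000800040004000400090002000700080009000200030001000600000006000800070002000a000600020003000600080004000800050000000000090002000000000004000000060000000a00000005000a000200060009000200020005000000050002000900080009000900000001000100000007000700000005000200090002000500020009000200090009000000090000000900000002000900000000000400020004000000080002000a00090000000900090002000400060009) (by decide +kernel)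
noncomputable def pt1899 := Classical.choose pt1899e
theorem pt1899r : A0.Rep pt1899c pt1899 := Classical.choose_spec pt1899e
theorem GT7_s0_1902 : C1.Mem R1 (C1.gen R1 2650270597167576494374946251114377773741225845313428437182409301938929664) 225273000759244002021870431344722110768004196851641417160504790664809021440 := GT7_m0.slp' chk1901
theorem GT7_c0i : C1.Mem R1 (C1.gen R1 2650270597167576494374946251114377773741225845313428437182409301938929664) 222622730162076425527495485093607732994262971006327988723322381362870091776 := GT7_s0_1902.sub chk1903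
theorem GT7_c0m : C1.Mem R1 (C1.gen R1 222622730162076425527495485093607732994262971006327988723322381362870091776) 222622730162076425527495485093607732994262971006327988723322381362870091776 := GT7_c0i.gen
theorem fx1905 : C1.gen R1 222622730162076425527495485093607732994262971006327988723322381362870091776 ≤ stabilizer _ pt1896 := Act.fix_sound GT7_c0i.top pt1896r chk1904
theorem cov1912 : Cov (C1.gen R1 2650270597167576494374946251114377773741225845313428437182409301938929664) (C1.wds R1 [0]) pt1896 15 := Act.cov_of_seen (Act.pieces_sound GT7_s0_1902 GT7_s0_1902.top pt1896r chk1910) chk1911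
theorem GT7_c1i : C1.Mem R1 (C1.gen R1 222622730162076425527495485093607732994262971006327988723322381362870091776) 162549929959611358321663370068348503456128518512556944147187770518921019392 := GT7_c0m.sub chk1913
theorem GT7_c1m : C1.Mem R1 (C1.gen R1 162549929959611358321663370068348503456128518512556944147187770518921019392) 162549929959611358321663370068348503456128518512556944147187770518921019392 := GT7_c1i.gen
theorem fx1915 : C1.gen R1 162549929959611358321663370068348503456128518512556944147187770518921019392 ≤ stabilizer _ pt1897 := Act.fix_sound GT7_c1i.top pt1897r chk1914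
theorem cov1922 : Cov (C1.gen R1 222622730162076425527495485093607732994262971006327988723322381362870091776) (C1.wds R1 [0]) pt1897 8 := Act.cov_of_seen (Act.pieces_sound GT7_c0m GT7_c0m.top pt1897r chk1920) chk1921
theorem GT7_c2i : C1.Mem R1 (C1.gen R1 162549929959611358321663370068348503456128518512556944147187770518921019392) 113078212145816597093331040047546785012958969400039613319782796882727665664 := GT7_c1m.sub chk1923
theorem GT7_c2m : C1.Mem R1 (C1.gen R1 113078212145816597093331040047546785012958969400039613319782796882727665664) 113078212145816597093331040047546785012958969400039613319782796882727665664 := GT7_c2i.gen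
theorem fx1925 : C1.gen R1 113078212145816597093331040047546785012958969400039613319782796882727665664 ≤ stabilizer _ pt1898 := Act.fix_sound GT7_c2i.top pt1898r chk1924
theorem cov1932 : Cov (C1.gen R1 162549929959611358321663370068348503456128518512556944147187770518921019392) (C1.wds R1 [0]) pt1898 6 := Act.cov_of_seen (Act.pieces_sound GT7_c1m GT7_c1m.top pt1898r chk1930) chk1931
theorem GT7_c3i : C1.Mem R1 (C1.gen R1 113078212145816597093331040047546785012958969400039613319782796882727665664) 0 := GT7_c2m.sub chk1933
theorem GT7_c3m : C1.Mem R1 (C1.gen R1 0) 0 := GT7_c3i.gen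
theorem fx1935 : C1.gen R1 0 ≤ stabilizer _ pt1899 := Act.fix_sound GT7_c3i.top pt1899r chk1934
theorem cov1942 : Cov (C1.gen R1 113078212145816597093331040047546785012958969400039613319782796882727665664) (C1.wds R1 [0]) pt1899 2 := Act.cov_of_seen (Act.pieces_sound GT7_c2m GT7_c2m.top pt1899r chk1940) chk1941
theorem GT7_lb4 : 1 ≤ Nat.card (C1.gen R1 0) := Nat.card_pos
theorem GT7_lo3 : 2 * Nat.card (C1.gen R1 0) ≤ Nat.card (C1.gen R1 113078212145816597093331040047546785012958969400039613319782796882727665664) := cov1942.low le_rfl (GC.wds_zero _) GT7_c3i.gen_le fx1935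
theorem GT7_lb3 : 2 ≤ Nat.card (C1.gen R1 113078212145816597093331040047546785012958969400039613319782796882727665664) := low_step GT7_lo3 GT7_lb4 (by decide +kernel)
theorem GT7_lo2 : 6 * Nat.card (C1.gen R1 113078212145816597093331040047546785012958969400039613319782796882727665664) ≤ Nat.card (C1.gen R1 162549929959611358321663370068348503456128518512556944147187770518921019392) := cov1932.low le_rfl (GC.wds_zero _) GT7_c2i.gen_le fx1925
theorem GT7_lb2 : 12 ≤ Nat.card (C1.gen R1 162549929959611358321663370068348503456128518512556944147187770518921019392) := low_step GT7_lo2 GT7_lb3 (by decide +kernel)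
theorem GT7_lo1 : 8 * Nat.card (C1.gen R1 162549929959611358321663370068348503456128518512556944147187770518921019392) ≤ Nat.card (C1.gen R1 222622730162076425527495485093607732994262971006327988723322381362870091776) := cov1922.low le_rfl (GC.wds_zero _) GT7_c1i.gen_le fx1915
theorem GT7_lb1 : 96 ≤ Nat.card (C1.gen R1 222622730162076425527495485093607732994262971006327988723322381362870091776) := low_step GT7_lo1 GT7_lb2 (by decide +kernel)
theorem GT7_lo0 : 15 * Nat.card (C1.gen R1 222622730162076425527495485093607732994262971006327988723322381362870091776) ≤ Nat.card (C1.gen R1 2650270597167576494374946251114377773741225845313428437182409301938929664) := cov1912.low le_rfl (GC.wds_zero _) GT7_c0i.gen_le fx1905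
theorem GT7_lb0 : 1440 ≤ Nat.card (C1.gen R1 2650270597167576494374946251114377773741225845313428437182409301938929664) := low_step GT7_lo0 GT7_lb1 (by decide +kernel)
theorem G_T7c : ∀ τ ∈ (C1.gen R1 2650270597167576494374946251114377773741225845313428437182409301938929664), C1.el (R1 169) * τ * (C1.el (R1 169))⁻¹ ∈ (C1.gen R1 4094) := H_s0_1357.conjA (G_I.get (i := 169) (by decide +kernel)).top GT7_in1895.top chk1944
theorem cov1959 : Cov (C1.gen R1 2650270597167576494374946251114377773741225845313428437182409301938929664) (C1.wds R1 (List.map Prod.fst (l1945 ++ (l1947 ++ (l1949 ++ (l1951)))))) pt1358 462 := Act.cov_of_seen (Act.pieces_sound GT7_s0_1902 H_s0_1357.top pt1358r chk1957) chk1958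
theorem G_T7d : Dec (C1.gen R1 4094) (C1.gen R1 2650270597167576494374946251114377773741225845313428437182409301938929664) (C1.wds R1 (List.map Prod.fst (l1945 ++ (l1947 ++ (l1949 ++ (l1951)))))) (C1.gen R1 71835728478088540235547516897670742982128396352356352) := cov1959.dec GT7_in1895.gen_le (GC.wds_sub H_s0_1357 chk1960) GK_in1374.gen_le fx1428 (up_low H_ub GK_lb0 (by decide +kernel))
theorem G_T7p : ∀ x ∈ DC1 (C1.gen R1 4094) (C1.el (R1 169)), x * C1.el (R1 137) ∈ DCs (C1.gen R1 4094) (C1.els R1 23921858800006443537021433835193368264733369187696640) := GC.dc_piece' G_T7d G_T7c G_Kc (forall_app (H_s0_1357.dcRel G_I.top (G_I.get (i := 169) (by decide +kernel)).top (G_m1.get (i := 137) (by decide +kernel)).top chk1946) (forall_app (H_s0_1357.dcRel G_I.top (G_I.get (i := 169) (by decide +kernel)).top (G_m1.get (i := 137) (by decide +kernel)).top chk1948) (forall_app (H_s0_1357.dcRel G_I.top (G_I.get (i := 169) (by decide +kernel)).top (G_m1.get (i := 137) (by decide +kernel)).top chk1950) (H_s0_1357.dcRel G_I.top (G_I.get (i := 169) (by decide +kernel)).top (G_m1.get (i := 137) (by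 decide +kernel)).top chk1952))))
theorem G_T7u : Nat.card (C1.gen R1 4094) ≤ 166320 * Nat.card (C1.gen R1 2650270597167576494374946251114377773741225845313428437182409301938929664) := up_low H_ub GT7_lb0 (by decide +kernel)
theorem G_T7n : (DC1 (C1.gen R1 4094) (C1.el (R1 169))).ncard ≤ Nat.card (C1.gen R1 4094) * 166320 := ncard_DC1 GT7_in1895.gen_le G_T7c G_T7u
theorem GT8_in1998 : C1.Mem R1 (C1.gen R1 4094) 1583094970041432359306634560665654990181425571600554586476959156358187319296 := H_s0_1357.slp' chk1997
theorem GT8_m0 : C1.Mem R1 (C1.gen R1 1583094970041432359306634560665654990181425571600554586476959156358187319296) 1583094970041432359306634560665654990181425571600554586476959156358187319296 := GC.Mem.gen GT8_in1998.top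
theorem pt1999e : ∃ x, A0.Rep pt1999c x := PP.exists_vec P_ok (c := 0xa0008000600030005000700060005000300090001000a000100070003000a0008000900080009000a0000000a000a000700000007000300060005000400080009000900040001000a0005000a00030008000900010005000a000700030003000a000a000a00060009000000040007000a0009000800010002000a0007000600040008000900070001000900060006000900080007000a0007000800040008000a00000000000000000000000000000000000000000000000000000000000000000000000000000000000000000000000000000005000500000001000500010000000600050005000000010009000a0006000900080001000100050001000500010001000900030009) (by decide +kernel)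
noncomputable def pt1999 := Classical.choose pt1999e
theorem pt1999r : A0.Rep pt1999c pt1999 := Classical.choose_spec pt1999e
theorem pt2000e : ∃ x, A0.Rep pt2000c x := PP.exists_vec P_ok (c := 0x4000a00020001000300050008000900010009000100000001000500010005000800050008000900080004000800080008000400080009000200040006000800090001000600040007000600080009000900080004000900060007000100050001000700070009000a00070008000a000a000a0008000a00090008000200080003000100070009000a00070008000800060008000800080008000a00060008000a00000000000000000000000000000000000000000000000000000000000000000000000000000000000000000000000000000005000100000005000500050004000a00050005000700050007000400020001000a0007000600010003000500010005000700030009) (by decide +kernel)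
noncomputable def pt2000 := Classical.choose pt2000e
theorem pt2000r : A0.Rep pt2000c pt2000 := Classical.choose_spec pt2000e
theorem pt2001e : ∃ x, A0.Rep pt2001c x := PP.exists_vec P_ok (c := 0x800020001000900010002000200090005000900090008000500020007000800060008000600070002000700020002000800060002000a00010001000a0002000100070003000500090007000800040004000400090002000700080009000200030001000600000006000800070002000a000600020003000600080004000800050000000000090002000000000004000000060000000a00000005000a000200060009000200020005000000050002000900080009000900000001000100000007000700000005000200090002000500020009000200090009000000090000000900000002000900000000000400020004000000080002000a00090000000900090002000400060009) (by decide +kernel)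
noncomputable def pt2001 := Classical.choose pt2001e
theorem pt2001r : A0.Rep pt2001c pt2001 := Classical.choose_spec pt2001e
theorem GT8_s0_2004 : C1.Mem R1 (C1.gen R1 1583094970041432359306634560665654990181425571600554586476959156358187319296) 57669888194366464517598830424248860356609074394020202793089226410191109488640 := GT8_m0.slp' chk2003
theorem GT8_c0i : C1.Mem R1 (C1.gen R1 1583094970041432359306634560665654990181425571600554586476959156358187319296) 56086793224325032158292195863583205366427648822419648206612267253832922169344 := GT8_s0_2004.sub chk2005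
theorem GT8_c0m : C1.Mem R1 (C1.gen R1 56086793224325032158292195863583205366427648822419648206612267253832922169344) 56086793224325032158292195863583205366427648822419648206612267253832922169344 := GT8_c0i.gen
theorem fx2007 : C1.gen R1 56086793224325032158292195863583205366427648822419648206612267253832922169344 ≤ stabilizer _ pt1999 := Act.fix_sound GT8_c0i.top pt1999r chk2006
theorem cov2014 : Cov (C1.gen R1 1583094970041432359306634560665654990181425571600554586476959156358187319296) (C1.wds R1 [0]) pt1999 18 := Act.cov_of_seen (Act.pieces_sound GT8_s0_2004 GT8_s0_2004.top pt1999r chk2012) chk2013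
theorem GT8_c1i : C1.Mem R1 (C1.gen R1 56086793224325032158292195863583205366427648822419648206612267253832922169344) 28948022309329048855892746252171976963317496166410141009864396001978282409984 := GT8_c0m.sub chk2015
theorem GT8_c1m : C1.Mem R1 (C1.gen R1 28948022309329048855892746252171976963317496166410141009864396001978282409984) 28948022309329048855892746252171976963317496166410141009864396001978282409984 := GT8_c1i.gen
theorem fx2017 : C1.gen R1 28948022309329048855892746252171976963317496166410141009864396001978282409984 ≤ stabilizer _ pt2000 := Act.fix_sound GT8_c1i.top pt2000r chk2016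
theorem cov2024 : Cov (C1.gen R1 56086793224325032158292195863583205366427648822419648206612267253832922169344) (C1.wds R1 [0]) pt2000 96 := Act.cov_of_seen (Act.pieces_sound GT8_c0m GT8_c0m.top pt2000r chk2022) chk2023
theorem GT8_c2i : C1.Mem R1 (C1.gen R1 28948022309329048855892746252171976963317496166410141009864396001978282409984) 0 := GT8_c1m.sub chk2025
theorem GT8_c2m : C1.Mem R1 (C1.gen R1 0) 0 := GT8_c2i.gen
theorem fx2027 : C1.gen R1 0 ≤ stabilizer _ pt2001 := Act.fix_sound GT8_c2i.top pt2001r chk2026
theorem cov2034 : Cov (C1.gen R1 28948022309329048855892746252171976963317496166410141009864396001978282409984) (C1.wds R1 [0]) pt2001 2 := Act.cov_of_seen (Act.pieces_sound GT8_c1m GT8_c1m.top pt2001r chk2032) chk2033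
theorem GT8_lb3 : 1 ≤ Nat.card (C1.gen R1 0) := Nat.card_pos
theorem GT8_lo2 : 2 * Nat.card (C1.gen R1 0) ≤ Nat.card (C1.gen R1 28948022309329048855892746252171976963317496166410141009864396001978282409984) := cov2034.low le_rfl (GC.wds_zero _) GT8_c2i.gen_le fx2027
theorem GT8_lb2 : 2 ≤ Nat.card (C1.gen R1 28948022309329048855892746252171976963317496166410141009864396001978282409984) := low_step GT8_lo2 GT8_lb3 (by decide +kernel)
theorem GT8_lo1 : 96 * Nat.card (C1.gen R1 28948022309329048855892746252171976963317496166410141009864396001978282409984) ≤ Nat.card (C1.gen R1 56086793224325032158292195863583205366427648822419648206612267253832922169344) := cov2024.low le_rfl (GC.wds_zero _) GT8_c1i.gen_le fx2017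
theorem GT8_lb1 : 192 ≤ Nat.card (C1.gen R1 56086793224325032158292195863583205366427648822419648206612267253832922169344) := low_step GT8_lo1 GT8_lb2 (by decide +kernel)
theorem GT8_lo0 : 18 * Nat.card (C1.gen R1 56086793224325032158292195863583205366427648822419648206612267253832922169344) ≤ Nat.card (C1.gen R1 1583094970041432359306634560665654990181425571600554586476959156358187319296) := cov2014.low le_rfl (GC.wds_zero _) GT8_c0i.gen_le fx2007
theorem GT8_lb0 : 3456 ≤ Nat.card (C1.gen R1 1583094970041432359306634560665654990181425571600554586476959156358187319296) := low_step GT8_lo0 GT8_lb1 (by decide +kernel)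
theorem G_T8c : ∀ τ ∈ (C1.gen R1 1583094970041432359306634560665654990181425571600554586476959156358187319296), C1.el (R1 170) * τ * (C1.el (R1 170))⁻¹ ∈ (C1.gen R1 4094) := H_s0_1357.conjA (G_I.get (i := 170) (by decide +kernel)).top GT8_in1998.top chk2036
theorem cov2047 : Cov (C1.gen R1 1583094970041432359306634560665654990181425571600554586476959156358187319296) (C1.wds R1 (List.map Prod.fst (l2037 ++ (l2039)))) pt1358 462 := Act.cov_of_seen (Act.pieces_sound GT8_s0_2004 H_s0_1357.top pt1358r chk2045) chk2046
theorem G_T8d : Dec (C1.gen R1 4094) (C1.gen R1 1583094970041432359306634560665654990181425571600554586476959156358187319296) (C1.wds R1 (List.map Prod.fst (l2037 ++ (l2039)))) (C1.gen R1 71835728478088540235547516897670742982128396352356352) := cov2047.dec GT8_in1998.gen_le (GC.wds_sub H_s0_1357 chk2048) GK_in1374.gen_le fx1428 (up_low H_ub GK_lb0 (by decide +kernel))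
theorem G_T8p : ∀ x ∈ DC1 (C1.gen R1 4094) (C1.el (R1 170)), x * C1.el (R1 137) ∈ DCs (C1.gen R1 4094) (C1.els R1 23921858800006443537021433835193368264733369187696640) := GC.dc_piece' G_T8d G_T8c G_Kc (forall_app (H_s0_1357.dcRel G_I.top (G_I.get (i := 170) (by decide +kernel)).top (G_m1.get (i := 137) (by decide +kernel)).top chk2038) (H_s0_1357.dcRel G_I.top (G_I.get (i := 170) (by decide +kernel)).top (G_m1.get (i := 137) (by decide +kernel)).top chk2040))
theorem G_T8u : Nat.card (C1.gen R1 4094) ≤ 69300 * Nat.card (C1.gen R1 1583094970041432359306634560665654990181425571600554586476959156358187319296) := up_low H_ub GT8_lb0 (by decide +kernel)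
theorem G_T8n : (DC1 (C1.gen R1 4094) (C1.el (R1 170))).ncard ≤ Nat.card (C1.gen R1 4094) * 69300 := ncard_DC1 GT8_in1998.gen_le G_T8c G_T8u
theorem GT9_in2051 : C1.Mem R1 (C1.gen R1 4094) 173688133855974293135356477513031861779904976998460846059186376011869694459904 := H_s0_1357.slp' chk2050
theorem GT9_m0 : C1.Mem R1 (C1.gen R1 173688133855974293135356477513031861779904976998460846059186376011869694459904) 173688133855974293135356477513031861779904976998460846059186376011869694459904 := GC.Mem.gen GT9_in2051.top
theorem pt2052e : ∃ x, A0.Rep pt2052c x := PP.exists_vec P_ok (c := 0x800020001000900010002000200090005000900090008000500020007000800060008000600070002000700020002000800060002000a00010001000a0002000100070003000500090007000800040004000400090002000700080009000200030001000600000006000800070002000a000600020003000600080004000800050000000000090002000000000004000000060000000a00000005000a000200060009000200020005000000050002000900080009000900000001000100000007000700000005000200090002000500020009000200090009000000090000000900000002000900000000000400020004000000080002000a00090000000900090002000400060009)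 (by decide +kernel)
noncomputable def pt2052 := Classical.choose pt2052e
theorem pt2052r : A0.Rep pt2052c pt2052 := Classical.choose_spec pt2052e
theorem pt2053e : ∃ x, A0.Rep pt2053c x := PP.exists_vec P_ok (c := 0x4000a00020001000300050008000900010009000100000001000500010005000800050008000900080004000800080008000400080009000200040006000800090001000600040007000600080009000900080004000900060007000100050001000700070009000a00070008000a000a000a0008000a00090008000200080003000100070009000a00070008000800060008000800080008000a00060008000a00000000000000000000000000000000000000000000000000000000000000000000000000000000000000000000000000000005000100000005000500050004000a00050005000700050007000400020001000a0007000600010003000500010005000700030009) (by decide +kernel)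
noncomputable def pt2053 := Classical.choose pt2053e
theorem pt2053r : A0.Rep pt2053c pt2053 := Classical.choose_spec pt2053e
theorem GT9_s0_2056 : C1.Mem R1 (C1.gen R1 173688133855974293135356477513031861779904976998460846059186376011869694459904) 3647450810975460155842486027773669097378004516967677767242913896249263583657984 := GT9_m0.slp' chk2055
theorem GT9_c0i : C1.Mem R1 (C1.gen R1 173688133855974293135356477513031861779904976998460846059186376011869694459904) 3242178498644853471859987580243261419891559570637935793104812352221567629918208 := GT9_s0_2056.sub chk2057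
theorem GT9_c0m : C1.Mem R1 (C1.gen R1 3242178498644853471859987580243261419891559570637935793104812352221567629918208) 3242178498644853471859987580243261419891559570637935793104812352221567629918208 := GT9_c0i.gen
theorem fx2059 : C1.gen R1 3242178498644853471859987580243261419891559570637935793104812352221567629918208 ≤ stabilizer _ pt2052 := Act.fix_sound GT9_c0i.top pt2052r chk2058
theorem cov2066 : Cov (C1.gen R1 173688133855974293135356477513031861779904976998460846059186376011869694459904) (C1.wds R1 [0]) pt2052 55 := Act.cov_of_seen (Act.pieces_sound GT9_s0_2056 GT9_s0_2056.top pt2052r chk2064) chk2065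
theorem GT9_c1i : C1.Mem R1 (C1.gen R1 3242178498644853471859987580243261419891559570637935793104812352221567629918208) 0 := GT9_c0m.sub chk2067
theorem GT9_c1m : C1.Mem R1 (C1.gen R1 0) 0 := GT9_c1i.gen
theorem fx2069 : C1.gen R1 0 ≤ stabilizer _ pt2053 := Act.fix_sound GT9_c1i.top pt2053r chk2068
theorem cov2076 : Cov (C1.gen R1 3242178498644853471859987580243261419891559570637935793104812352221567629918208) (C1.wds R1 [0]) pt2053 12 := Act.cov_of_seen (Act.pieces_sound GT9_c0m GT9_c0m.top pt2053r chk2074) chk2075
theorem GT9_lb2 : 1 ≤ Nat.card (C1.gen R1 0) := Nat.card_pos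
theorem GT9_lo1 : 12 * Nat.card (C1.gen R1 0) ≤ Nat.card (C1.gen R1 3242178498644853471859987580243261419891559570637935793104812352221567629918208) := cov2076.low le_rfl (GC.wds_zero _) GT9_c1i.gen_le fx2069
theorem GT9_lb1 : 12 ≤ Nat.card (C1.gen R1 3242178498644853471859987580243261419891559570637935793104812352221567629918208) := low_step GT9_lo1 GT9_lb2 (by decide +kernel)
theorem GT9_lo0 : 55 * Nat.card (C1.gen R1 3242178498644853471859987580243261419891559570637935793104812352221567629918208) ≤ Nat.card (C1.gen R1 173688133855974293135356477513031861779904976998460846059186376011869694459904) := cov2066.low le_rfl (GC.wds_zero _) GT9_c0i.gen_le fx2059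
theorem GT9_lb0 : 660 ≤ Nat.card (C1.gen R1 173688133855974293135356477513031861779904976998460846059186376011869694459904) := low_step GT9_lo0 GT9_lb1 (by decide +kernel)
theorem G_T9c : ∀ τ ∈ (C1.gen R1 173688133855974293135356477513031861779904976998460846059186376011869694459904), C1.el (R1 171) * τ * (C1.el (R1 171))⁻¹ ∈ (C1.gen R1 4094) := H_s0_1357.conjA (G_I.get (i := 171) (by decide +kernel)).top GT9_in2051.top chk2078
theorem cov2089 : Cov (C1.gen R1 173688133855974293135356477513031861779904976998460846059186376011869694459904) (C1.wds R1 (List.map Prod.fst (l2079 ++ (l2081)))) pt1358 462 := Act.cov_of_seen (Act.pieces_sound GT9_s0_2056 H_s0_1357.top pt1358r chk2087) chk2088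
theorem G_T9d : Dec (C1.gen R1 4094) (C1.gen R1 173688133855974293135356477513031861779904976998460846059186376011869694459904) (C1.wds R1 (List.map Prod.fst (l2079 ++ (l2081)))) (C1.gen R1 71835728478088540235547516897670742982128396352356352) := cov2089.dec GT9_in2051.gen_le (GC.wds_sub H_s0_1357 chk2090) GK_in1374.gen_le fx1428 (up_low H_ub GK_lb0 (by decide +kernel))
theorem G_T9p : ∀ x ∈ DC1 (C1.gen R1 4094) (C1.el (R1 171)), x * C1.el (R1 137) ∈ DCs (C1.gen R1 4094) (C1.els R1 23921858800006443537021433835193368264733369187696640) := GC.dc_piece' G_T9d G_T9c G_Kc (forall_app (H_s0_1357.dcRel G_I.top (G_I.get (i := 171) (by decide +kernel)).top (G_m1.get (i := 137) (by decide +kernel)).top chk2080) (H_s0_1357.dcRel G_I.top (G_I.get (i := 171) (by decide +kernel)).top (G_m1.get (i := 137) (by decide +kernel)).top chk2082))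
theorem G_T9u : Nat.card (C1.gen R1 4094) ≤ 362880 * Nat.card (C1.gen R1 173688133855974293135356477513031861779904976998460846059186376011869694459904) := up_low H_ub GT9_lb0 (by decide +kernel)
theorem G_T9n : (DC1 (C1.gen R1 4094) (C1.el (R1 171))).ncard ≤ Nat.card (C1.gen R1 4094) * 362880 := ncard_DC1 GT9_in2051.gen_le G_T9c G_T9u
theorem GT10_in2105 : C1.Mem R1 (C1.gen R1 4094) 11116040566782354760662814560834039153913918527901494147787928064759660445433856 := H_s0_1357.slp' chk2104
theorem GT10_m0 : C1.Mem R1 (C1.gen R1 11116040566782354760662814560834039153913918527901494147787928064759660445433856) 11116040566782354760662814560834039153913918527901494147787928064759660445433856 := GC.Mem.gen GT10_in2105.top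
theorem pt2106e : ∃ x, A0.Rep pt2106c x := PP.exists_vec P_ok (c := 0xa0008000600030005000700060005000300090001000a000100070003000a0008000900080009000a0000000a000a000700000007000300060005000400080009000900040001000a0005000a00030008000900010005000a000700030003000a000a000a00060009000000040007000a0009000800010002000a0007000600040008000900070001000900060006000900080007000a0007000800040008000a00000000000000000000000000000000000000000000000000000000000000000000000000000000000000000000000000000005000500000001000500010000000600050005000000010009000a0006000900080001000100050001000500010001000900030009) (by decide +kernel)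
noncomputable def pt2106 := Classical.choose pt2106e
theorem pt2106r : A0.Rep pt2106c pt2106 := Classical.choose_spec pt2106e
theorem pt2107e : ∃ x, A0.Rep pt2107c x := PP.exists_vec P_ok (c := 0x60006000300090003000600020009000500090009000800050002000700060002000a0006000900020000000800020008000000020008000300050007000600080007000a0009000700060002000a0003000200050008000700010005000900050004000200040009000a000100020007000300020007000200020004000a0005000300020009000400030005000400030008000400030005000300060002000200090009000200090000000900090002000000020002000800000000000400000000000000020002000900090009000900020009000200020004000900040002000000020002000a0007000900020009000700090009000200020007000200010009000900060009) (by decide +kernel)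
noncomputable def pt2107 := Classical.choose pt2107e
theorem pt2107r : A0.Rep pt2107c pt2107 := Classical.choose_spec pt2107e
theorem pt2108e : ∃ x, A0.Rep pt2108c x := PP.exists_vec P_ok (c := 0x4000a00020001000300050008000900010009000100000001000500010005000800050008000900080004000800080008000400080009000200040006000800090001000600040007000600080009000900080004000900060007000100050001000700070009000a00070008000a000a000a0008000a00090008000200080003000100070009000a00070008000800060008000800080008000a00060008000a00000000000000000000000000000000000000000000000000000000000000000000000000000000000000000000000000000005000100000005000500050004000a00050005000700050007000400020001000a0007000600010003000500010005000700030009) (by decide +kernel)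
noncomputable def pt2108 := Classical.choose pt2108e
theorem pt2108r : A0.Rep pt2108c pt2108 := Classical.choose_spec pt2108e
theorem GT10_s0_2111 : C1.Mem R1 (C1.gen R1 11116040566782354760662814560834039153913918527901494147787928064759660445433856) 233436851902429449973919105777514822232192289085931377103546489359952869354110976 := GT10_m0.slp' chk2110
theorem GT10_c0i : C1.Mem R1 (C1.gen R1 11116040566782354760662814560834039153913918527901494147787928064759660445433856) 222320811335647095213256291216680783078278370558029882955758561295193208908677120 := GT10_s0_2111.sub chk2112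
theorem GT10_c0m : C1.Mem R1 (C1.gen R1 222320811335647095213256291216680783078278370558029882955758561295193208908677120) 222320811335647095213256291216680783078278370558029882955758561295193208908677120 := GT10_c0i.gen
theorem fx2114 : C1.gen R1 222320811335647095213256291216680783078278370558029882955758561295193208908677120 ≤ stabilizer _ pt2106 := Act.fix_sound GT10_c0i.top pt2106r chk2113
theorem cov2121 : Cov (C1.gen R1 11116040566782354760662814560834039153913918527901494147787928064759660445433856) (C1.wds R1 [0]) pt2106 66 := Act.cov_of_seen (Act.pieces_sound GT10_s0_2111 GT10_s0_2111.top pt2106r chk2119) chk2120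
theorem GT10_c1i : C1.Mem R1 (C1.gen R1 222320811335647095213256291216680783078278370558029882955758561295193208908677120) 88928324534258838085302516486672313231311348223211953182303424518077283563470848 := GT10_c0m.sub chk2122
theorem GT10_c1m : C1.Mem R1 (C1.gen R1 88928324534258838085302516486672313231311348223211953182303424518077283563470848) 88928324534258838085302516486672313231311348223211953182303424518077283563470848 := GT10_c1i.gen
theorem fx2124 : C1.gen R1 88928324534258838085302516486672313231311348223211953182303424518077283563470848 ≤ stabilizer _ pt2107 := Act.fix_sound GT10_c1i.top pt2107r chk2123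
theorem cov2131 : Cov (C1.gen R1 222320811335647095213256291216680783078278370558029882955758561295193208908677120) (C1.wds R1 [0]) pt2107 20 := Act.cov_of_seen (Act.pieces_sound GT10_c0m GT10_c0m.top pt2107r chk2129) chk2130
theorem GT10_c2i : C1.Mem R1 (C1.gen R1 88928324534258838085302516486672313231311348223211953182303424518077283563470848) 0 := GT10_c1m.sub chk2132
theorem GT10_c2m : C1.Mem R1 (C1.gen R1 0) 0 := GT10_c2i.gen
theorem fx2134 : C1.gen R1 0 ≤ stabilizer _ pt2108 := Act.fix_sound GT10_c2i.top pt2108r chk2133
theorem cov2141 : Cov (C1.gen R1 88928324534258838085302516486672313231311348223211953182303424518077283563470848) (C1.wds R1 [0]) pt2108 72 := Act.cov_of_seen (Act.pieces_sound GT10_c1m GT10_c1m.top pt2108r chk2139) chk2140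
theorem GT10_lb3 : 1 ≤ Nat.card (C1.gen R1 0) := Nat.card_pos
theorem GT10_lo2 : 72 * Nat.card (C1.gen R1 0) ≤ Nat.card (C1.gen R1 88928324534258838085302516486672313231311348223211953182303424518077283563470848) := cov2141.low le_rfl (GC.wds_zero _) GT10_c2i.gen_le fx2134
theorem GT10_lb2 : 72 ≤ Nat.card (C1.gen R1 88928324534258838085302516486672313231311348223211953182303424518077283563470848) := low_step GT10_lo2 GT10_lb3 (by decide +kernel)
theorem GT10_lo1 : 20 * Nat.card (C1.gen R1 88928324534258838085302516486672313231311348223211953182303424518077283563470848) ≤ Nat.card (C1.gen R1 222320811335647095213256291216680783078278370558029882955758561295193208908677120) := cov2131.low le_rfl (GC.wds_zero _) GT10_c1i.gen_le fx2124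
theorem GT10_lb1 : 1440 ≤ Nat.card (C1.gen R1 222320811335647095213256291216680783078278370558029882955758561295193208908677120) := low_step GT10_lo1 GT10_lb2 (by decide +kernel)
theorem GT10_lo0 : 66 * Nat.card (C1.gen R1 222320811335647095213256291216680783078278370558029882955758561295193208908677120) ≤ Nat.card (C1.gen R1 11116040566782354760662814560834039153913918527901494147787928064759660445433856) := cov2121.low le_rfl (GC.wds_zero _) GT10_c0i.gen_le fx2114
theorem GT10_lb0 : 95040 ≤ Nat.card (C1.gen R1 11116040566782354760662814560834039153913918527901494147787928064759660445433856) := low_step GT10_lo0 GT10_lb1 (by decide +kernel)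
theorem G_T10c : ∀ τ ∈ (C1.gen R1 11116040566782354760662814560834039153913918527901494147787928064759660445433856), C1.el (R1 172) * τ * (C1.el (R1 172))⁻¹ ∈ (C1.gen R1 4094) := H_s0_1357.conjA (G_I.get (i := 172) (by decide +kernel)).top GT10_in2105.top chk2143
theorem cov2152 : Cov (C1.gen R1 11116040566782354760662814560834039153913918527901494147787928064759660445433856) (C1.wds R1 (List.map Prod.fst (l2144))) pt1358 462 := Act.cov_of_seen (Act.pieces_sound GT10_s0_2111 H_s0_1357.top pt1358r chk2150) chk2151
theorem G_T10d : Dec (C1.gen R1 4094) (C1.gen R1 11116040566782354760662814560834039153913918527901494147787928064759660445433856) (C1.wds R1 (List.map Prod.fst (l2144))) (C1.gen R1 71835728478088540235547516897670742982128396352356352) := cov2152.dec GT10_in2105.gen_le (GC.wds_sub H_s0_1357 chk2153) GK_in1374.gen_le fx1428 (up_low H_ub GK_lb0 (by decide +kernel))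
theorem G_T10p : ∀ x ∈ DC1 (C1.gen R1 4094) (C1.el (R1 172)), x * C1.el (R1 137) ∈ DCs (C1.gen R1 4094) (C1.els R1 23921858800006443537021433835193368264733369187696640) := GC.dc_piece' G_T10d G_T10c G_Kc (H_s0_1357.dcRel G_I.top (G_I.get (i := 172) (by decide +kernel)).top (G_m1.get (i := 137) (by decide +kernel)).top chk2145)
theorem G_T10u : Nat.card (C1.gen R1 4094) ≤ 2520 * Nat.card (C1.gen R1 11116040566782354760662814560834039153913918527901494147787928064759660445433856) := up_low H_ub GT10_lb0 (by decide +kernel)
theorem G_T10n : (DC1 (C1.gen R1 4094) (C1.el (R1 172))).ncard ≤ Nat.card (C1.gen R1 4094) * 2520 := ncard_DC1 GT10_in2105.gen_le G_T10c G_T10u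
theorem GT11_in2156 : C1.Mem R1 (C1.gen R1 4094) 711426596274070704682420131893378505850490785785695625458427396144618268507766784 := H_s0_1357.slp' chk2155
theorem GT11_m0 : C1.Mem R1 (C1.gen R1 711426596274070704682420131893378505850490785785695625458427396144618268507766784) 711426596274070704682420131893378505850490785785695625458427396144618268507766784 := GC.Mem.gen GT11_in2156.top
theorem pt2157e : ∃ x, A0.Rep pt2157c x := PP.exists_vec P_ok (c := 0x800020001000900010002000200090005000900090008000500020007000800060008000600070002000700020002000800060002000a00010001000a0002000100070003000500090007000800040004000400090002000700080009000200030001000600000006000800070002000a000600020003000600080004000800050000000000090002000000000004000000060000000a00000005000a000200060009000200020005000000050002000900080009000900000001000100000007000700000005000200090002000500020009000200090009000000090000000900000002000900000000000400020004000000080002000a00090000000900090002000400060009) (by decide +kernel)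
noncomputable def pt2157 := Classical.choose pt2157e
theorem pt2157r : A0.Rep pt2157c pt2157 := Classical.choose_spec pt2157e
theorem pt2158e : ∃ x, A0.Rep pt2158c x := PP.exists_vec P_ok (c := 0x4000a00020001000300050008000900010009000100000001000500010005000800050008000900080004000800080008000400080009000200040006000800090001000600040007000600080009000900080004000900060007000100050001000700070009000a00070008000a000a000a0008000a00090008000200080003000100070009000a00070008000800060008000800080008000a00060008000a00000000000000000000000000000000000000000000000000000000000000000000000000000000000000000000000000000005000100000005000500050004000a00050005000700050007000400020001000a0007000600010003000500010005000700030009) (by decide +kernel)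
noncomputable def pt2158 := Classical.choose pt2158e
theorem pt2158r : A0.Rep pt2158c pt2158 := Classical.choose_spec pt2158e
theorem pt2159e : ∃ x, A0.Rep pt2159c x := PP.exists_vec P_ok (c := 0x7000a00050004000800070006000500040005000400020001000a000300070005000900070005000700080005000700070008000a000800020000000a000700060002000100040000000a00070006000a000a00010008000600080004000a0008000a00070002000700050004000700080009000500030007000700060005000400060006000100060001000200060001000400080001000200010008000a000a0000000000000000000000000000000000000000000000000000000000000000000000000000000000000000000000000000000900010000000100090001000300020001000100040005000500040007000500060005000900090004000100090001000500030009) (by decide +kernel)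
noncomputable def pt2159 := Classical.choose pt2159e
theorem pt2159r : A0.Rep pt2159c pt2159 := Classical.choose_spec pt2159e
theorem GT11_s0_2162 : C1.Mem R1 (C1.gen R1 711426596274070704682420131893378505850490785785695625458427396144618268507766784) 242596469329458110296705264975642070495017357952922208281323742085314829561148473344 := GT11_m0.slp' chk2161
theorem GT11_c0i : C1.Mem R1 (C1.gen R1 711426596274070704682420131893378505850490785785695625458427396144618268507766784) 240936473938151945319112951334557520648032879452755585155254078160977386934630350848 := GT11_s0_2162.sub chk2163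
theorem GT11_c0m : C1.Mem R1 (C1.gen R1 240936473938151945319112951334557520648032879452755585155254078160977386934630350848) 240936473938151945319112951334557520648032879452755585155254078160977386934630350848 := GT11_c0i.gen
theorem fx2165 : C1.gen R1 240936473938151945319112951334557520648032879452755585155254078160977386934630350848 ≤ stabilizer _ pt2157 := Act.fix_sound GT11_c0i.top pt2157r chk2164
theorem cov2172 : Cov (C1.gen R1 711426596274070704682420131893378505850490785785695625458427396144618268507766784) (C1.wds R1 [0]) pt2157 66 := Act.cov_of_seen (Act.pieces_sound GT11_s0_2162 GT11_s0_2162.top pt2157r chk2170) chk2171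
theorem GT11_c1i : C1.Mem R1 (C1.gen R1 240936473938151945319112951334557520648032879452755585155254078160977386934630350848) 212479410087189117131816146058822380414013248021327760136916982315192656194319679488 := GT11_c0m.sub chk2173
theorem GT11_c1m : C1.Mem R1 (C1.gen R1 212479410087189117131816146058822380414013248021327760136916982315192656194319679488) 212479410087189117131816146058822380414013248021327760136916982315192656194319679488 := GT11_c1i.gen
theorem fx2175 : C1.gen R1 212479410087189117131816146058822380414013248021327760136916982315192656194319679488 ≤ stabilizer _ pt2158 := Act.fix_sound GT11_c1i.top pt2158r chk2174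
theorem cov2182 : Cov (C1.gen R1 240936473938151945319112951334557520648032879452755585155254078160977386934630350848) (C1.wds R1 [0]) pt2158 180 := Act.cov_of_seen (Act.pieces_sound GT11_c0m GT11_c0m.top pt2158r chk2180) chk2181
theorem GT11_c2i : C1.Mem R1 (C1.gen R1 212479410087189117131816146058822380414013248021327760136916982315192656194319679488) 0 := GT11_c1m.sub chk2183
theorem GT11_c2m : C1.Mem R1 (C1.gen R1 0) 0 := GT11_c2i.gen
theorem fx2185 : C1.gen R1 0 ≤ stabilizer _ pt2159 := Act.fix_sound GT11_c2i.top pt2159r chk2184
theorem cov2192 : Cov (C1.gen R1 212479410087189117131816146058822380414013248021327760136916982315192656194319679488) (C1.wds R1 [0]) pt2159 8 := Act.cov_of_seen (Act.pieces_sound GT11_c1m GT11_c1m.top pt2159r chk2190) chk2191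
theorem GT11_lb3 : 1 ≤ Nat.card (C1.gen R1 0) := Nat.card_pos
theorem GT11_lo2 : 8 * Nat.card (C1.gen R1 0) ≤ Nat.card (C1.gen R1 212479410087189117131816146058822380414013248021327760136916982315192656194319679488) := cov2192.low le_rfl (GC.wds_zero _) GT11_c2i.gen_le fx2185
theorem GT11_lb2 : 8 ≤ Nat.card (C1.gen R1 212479410087189117131816146058822380414013248021327760136916982315192656194319679488) := low_step GT11_lo2 GT11_lb3 (by decide +kernel)
theorem GT11_lo1 : 180 * Nat.card (C1.gen R1 212479410087189117131816146058822380414013248021327760136916982315192656194319679488) ≤ Nat.card (C1.gen R1 240936473938151945319112951334557520648032879452755585155254078160977386934630350848) := cov2182.low le_rfl (GC.wds_zero _) GT11_c1i.gen_le fx2175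
theorem GT11_lb1 : 1440 ≤ Nat.card (C1.gen R1 240936473938151945319112951334557520648032879452755585155254078160977386934630350848) := low_step GT11_lo1 GT11_lb2 (by decide +kernel)
theorem GT11_lo0 : 66 * Nat.card (C1.gen R1 240936473938151945319112951334557520648032879452755585155254078160977386934630350848) ≤ Nat.card (C1.gen R1 711426596274070704682420131893378505850490785785695625458427396144618268507766784) := cov2172.low le_rfl (GC.wds_zero _) GT11_c0i.gen_le fx2165
theorem GT11_lb0 : 95040 ≤ Nat.card (C1.gen R1 711426596274070704682420131893378505850490785785695625458427396144618268507766784) := low_step GT11_lo0 GT11_lb1 (by decide +kernel)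
theorem G_T11c : ∀ τ ∈ (C1.gen R1 711426596274070704682420131893378505850490785785695625458427396144618268507766784), C1.el (R1 173) * τ * (C1.el (R1 173))⁻¹ ∈ (C1.gen R1 4094) := H_s0_1357.conjA (G_I.get (i := 173) (by decide +kernel)).top GT11_in2156.top chk2194
theorem cov2203 : Cov (C1.gen R1 711426596274070704682420131893378505850490785785695625458427396144618268507766784) (C1.wds R1 (List.map Prod.fst (l2195))) pt1358 462 := Act.cov_of_seen (Act.pieces_sound GT11_s0_2162 H_s0_1357.top pt1358r chk2201) chk2202
theorem G_T11d : Dec (C1.gen R1 4094) (C1.gen R1 711426596274070704682420131893378505850490785785695625458427396144618268507766784) (C1.wds R1 (List.map Prod.fst (l2195))) (C1.gen R1 71835728478088540235547516897670742982128396352356352) := cov2203.dec GT11_in2156.gen_le (GC.wds_sub H_s0_1357 chk2204) GK_in1374.gen_le fx1428 (up_low H_ub GK_lb0 (by decide +kernel))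
theorem G_T11p : ∀ x ∈ DC1 (C1.gen R1 4094) (C1.el (R1 173)), x * C1.el (R1 137) ∈ DCs (C1.gen R1 4094) (C1.els R1 23921858800006443537021433835193368264733369187696640) := GC.dc_piece' G_T11d G_T11c G_Kc (H_s0_1357.dcRel G_I.top (G_I.get (i := 173) (by decide +kernel)).top (G_m1.get (i := 137) (by decide +kernel)).top chk2196)
theorem G_T11u : Nat.card (C1.gen R1 4094) ≤ 2520 * Nat.card (C1.gen R1 711426596274070704682420131893378505850490785785695625458427396144618268507766784) := up_low H_ub GT11_lb0 (by decide +kernel)
theorem G_T11n : (DC1 (C1.gen R1 4094) (C1.el (R1 173))).ncard ≤ Nat.card (C1.gen R1 4094) * 2520 := ncard_DC1 GT11_in2156.gen_le G_T11c G_T11u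
theorem G_dc : ∀ x ∈ (C1.gen R1 174224571863520493293247799005065324269566), x ∈ DCs (C1.gen R1 4094) (C1.els R1 23921858800006443537021433835193368264733369187696640) := GC.dc_gen (MU := 174224571863520493293247799005065324265472) H_s0_1357 (by decide +kernel) (GC.forall_els (L := [137]) (forall_cons ⟨H_s0_1357.inDC' G_I.top (G_m1.get (i := 137) (by decide +kernel)).top chk2205, GC.forall_els (L := [137, 164, 165, 166, 167, 168, 169, 170, 171, 172, 173]) (forall_cons G_T1p (forall_cons G_T2p (forall_cons G_T3p (forall_cons G_T4p (forall_cons G_T5p (forall_cons G_T6p (forall_cons G_T7p (forall_cons G_T8p (forall_cons G_T9p (forall_cons G_T10p (forall_cons G_T11p forall_nil))))))))))) (by decide +kernel)⟩ forall_nil) (by decide +kernel))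
theorem G_cs : ∀ p ∈ ([(137, 462), (164, 16632), (165, 30800), (166, 10395), (167, 166320), (168, 311850), (169, 166320), (170, 69300), (171, 362880), (172, 2520), (173, 2520)] : List (ℕ × ℕ)), (DC1 (C1.gen R1 4094) (C1.el (R1 p.1))).ncard ≤ Nat.card (C1.gen R1 4094) * p.2 := (forall_cons G_T1n (forall_cons G_T2n (forall_cons G_T3n (forall_cons G_T4n (forall_cons G_T5n (forall_cons G_T6n (forall_cons G_T7n (forall_cons G_T8n (forall_cons G_T9n (forall_cons G_T10n (forall_cons G_T11n forall_nil)))))))))))
theorem G_ix : Nat.card (C1.gen R1 174224571863520493293247799005065324269566) ≤ 1140000 * Nat.card (C1.gen R1 4094) := GC.card_dc [(137, 462), (164, 16632), (165, 30800), (166, 10395), (167, 166320), (168, 311850), (169, 166320), (170, 69300), (171, 362880), (172, 2520), (173, 2520)] G_dc G_cs (by decide +kernel)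
theorem G_ub : Nat.card (C1.gen R1 174224571863520493293247799005065324269566) ≤ 273030912000000 := up_mul G_ix H_ub (by decide +kernel)
theorem G_max : ∀ L, (C1.gen R1 4094) ≤ L → L ≤ (C1.gen R1 174224571863520493293247799005065324269566) → L = (C1.gen R1 4094) ∨ L = (C1.gen R1 174224571863520493293247799005065324269566) := maximal_of_DCs G_dc (H_s0_1357.maxChk G_I.top chk2207 chk2208)
theorem pt2209e : ∃ x, A0.Rep pt2209c x := PP.exists_vec P_ok (c := 0x1) (by decide +kernel)
noncomputable def pt2209 := Classical.choose pt2209e
theorem pt2209r : A0.Rep pt2209c pt2209 := Classical.choose_spec pt2209e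
noncomputable def pt2210 := C1.wd R1 137 • pt2209
theorem pt2210r : A0.Rep pt2210c pt2210 := Act.appW_ok G_s1_1363 chk2211 pt2209r
theorem pt2210g : C1.wd R1 137 ∈ (C1.gen R1 174224571863520493293247799005065324269566) := G_s1_1363.wd_mem chk2211
noncomputable def pt2212 := C1.wd R1 150805060684961 • pt2209
theorem pt2212r : A0.Rep pt2212c pt2212 := Act.appW_ok G_s1_1363 chk2213 pt2209r
theorem pt2212g : C1.wd R1 150805060684961 ∈ (C1.gen R1 174224571863520493293247799005065324269566) := G_s1_1363.wd_mem chk2213
noncomputable def pt2214 := C1.wd R1 154423282628721825 • pt2209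
theorem pt2214r : A0.Rep pt2214c pt2214 := Act.appW_ok G_s1_1363 chk2215 pt2209r
theorem pt2214g : C1.wd R1 154423282628721825 ∈ (C1.gen R1 174224571863520493293247799005065324269566) := G_s1_1363.wd_mem chk2215
noncomputable def pt2216 := C1.wd R1 150805062780065 • pt2209
theorem pt2216r : A0.Rep pt2216c pt2216 := Act.appW_ok G_s1_1363 chk2217 pt2209r
theorem pt2216g : C1.wd R1 150805062780065 ∈ (C1.gen R1 174224571863520493293247799005065324269566) := G_s1_1363.wd_mem chk2217
noncomputable def pt2218 := C1.wd R1 154424379990768803 • pt2209
theorem pt2218r : A0.Rep pt2218c pt2218 := Act.appW_ok G_s1_1363 chk2219 pt2209r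
theorem pt2218g : C1.wd R1 154424379990768803 ∈ (C1.gen R1 174224571863520493293247799005065324269566) := G_s1_1363.wd_mem chk2219
noncomputable def pt2220 := C1.wd R1 150803984844962 • pt2209
theorem pt2220r : A0.Rep pt2220c pt2220 := Act.appW_ok G_s1_1363 chk2221 pt2209r
theorem pt2220g : C1.wd R1 150803984844962 ∈ (C1.gen R1 174224571863520493293247799005065324269566) := G_s1_1363.wd_mem chk2221
theorem H_s1_2224 : C1.Mem R1 (C1.gen R1 4094) 1989050112027618352487664059848930420561878328183354655285917401758385555318847123230718 := H_s0_1357.slp' chk2223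
theorem H_s1_2227 : C1.Mem R1 (C1.gen R1 4094) 63657131426841161979755062830054714593018441027054471617903450536510163184872985689329662 := H_s1_2224.slp' chk2226
theorem H_c0i : C1.Mem R1 (C1.gen R1 4094) 63656402926006577331353468031839655773405066098640981762618763136119546165461669463982080 := H_s1_2227.sub chk2228
theorem H_c0m : C1.Mem R1 (C1.gen R1 63656402926006577331353468031839655773405066098640981762618763136119546165461669463982080) 63656402926006577331353468031839655773405066098640981762618763136119546165461669463982080 := H_c0i.gen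
theorem fx2230 : C1.gen R1 63656402926006577331353468031839655773405066098640981762618763136119546165461669463982080 ≤ stabilizer _ pt2210 := Act.fix_sound H_c0i.top pt2210r chk2229
theorem cov2237 : Cov (C1.gen R1 4094) (C1.wds R1 [0]) pt2210 462 := Act.cov_of_seen (Act.pieces_sound H_s1_2227 H_s1_2227.top pt2210r chk2235) chk2236
theorem H_c1i : C1.Mem R1 (C1.gen R1 63656402926006577331353468031839655773405066098640981762618763136119546165461669463982080) 63534986120242469264421001662663185841739915671200223042540524860510864647636343932846080 := H_c0m.sub chk2238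
theorem H_c1m : C1.Mem R1 (C1.gen R1 63534986120242469264421001662663185841739915671200223042540524860510864647636343932846080) 63534986120242469264421001662663185841739915671200223042540524860510864647636343932846080 := H_c1i.gen
theorem fx2240 : C1.gen R1 63534986120242469264421001662663185841739915671200223042540524860510864647636343932846080 ≤ stabilizer _ pt2212 := Act.fix_sound H_c1i.top pt2212r chk2239
theorem cov2247 : Cov (C1.gen R1 63656402926006577331353468031839655773405066098640981762618763136119546165461669463982080) (C1.wds R1 [0]) pt2212 225 := Act.cov_of_seen (Act.pieces_sound H_c0m H_c0m.top pt2212r chk2245) chk2246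
theorem H_c2i : C1.Mem R1 (C1.gen R1 63534986120242469264421001662663185841739915671200223042540524860510864647636343932846080) 61668081314813543627267398770205784172456562698871116962617533134751777629554138566098944 := H_c1m.sub chk2248
theorem H_c2m : C1.Mem R1 (C1.gen R1 61668081314813543627267398770205784172456562698871116962617533134751777629554138566098944) 61668081314813543627267398770205784172456562698871116962617533134751777629554138566098944 := H_c2i.gen
theorem fx2250 : C1.gen R1 61668081314813543627267398770205784172456562698871116962617533134751777629554138566098944 ≤ stabilizer _ pt2214 := Act.fix_sound H_c2i.top pt2214r chk2249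
theorem cov2257 : Cov (C1.gen R1 63534986120242469264421001662663185841739915671200223042540524860510864647636343932846080) (C1.wds R1 [0]) pt2214 72 := Act.cov_of_seen (Act.pieces_sound H_c1m H_c1m.top pt2214r chk2255) chk2256
theorem H_c3i : C1.Mem R1 (C1.gen R1 61668081314813543627267398770205784172456562698871116962617533134751777629554138566098944) 43764444804061224509673637836920233928840141270166599134760829966598035737102937046908928 := H_c2m.sub chk2258
theorem H_c3m : C1.Mem R1 (C1.gen R1 43764444804061224509673637836920233928840141270166599134760829966598035737102937046908928) 43764444804061224509673637836920233928840141270166599134760829966598035737102937046908928 := H_c3i.gen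
theorem fx2260 : C1.gen R1 43764444804061224509673637836920233928840141270166599134760829966598035737102937046908928 ≤ stabilizer _ pt2216 := Act.fix_sound H_c3i.top pt2216r chk2259
theorem cov2267 : Cov (C1.gen R1 61668081314813543627267398770205784172456562698871116962617533134751777629554138566098944) (C1.wds R1 [0]) pt2216 4 := Act.cov_of_seen (Act.pieces_sound H_c2m H_c2m.top pt2216r chk2265) chk2266
theorem H_c4i : C1.Mem R1 (C1.gen R1 43764444804061224509673637836920233928840141270166599134760829966598035737102937046908928) 31828687130226345097944463881396533766429193651030253916189694521162207808802136034115584 := H_c3m.sub chk2268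
theorem H_c4m : C1.Mem R1 (C1.gen R1 31828687130226345097944463881396533766429193651030253916189694521162207808802136034115584) 31828687130226345097944463881396533766429193651030253916189694521162207808802136034115584 := H_c4i.gen
theorem fx2270 : C1.gen R1 31828687130226345097944463881396533766429193651030253916189694521162207808802136034115584 ≤ stabilizer _ pt2218 := Act.fix_sound H_c4i.top pt2218r chk2269
theorem cov2277 : Cov (C1.gen R1 43764444804061224509673637836920233928840141270166599134760829966598035737102937046908928) (C1.wds R1 [0]) pt2218 4 := Act.cov_of_seen (Act.pieces_sound H_c3m H_c3m.top pt2218r chk2275) chk2276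
theorem H_c5i : C1.Mem R1 (C1.gen R1 31828687130226345097944463881396533766429193651030253916189694521162207808802136034115584) 0 := H_c4m.sub chk2278
theorem H_c5m : C1.Mem R1 (C1.gen R1 0) 0 := H_c5i.gen
theorem fx2280 : C1.gen R1 0 ≤ stabilizer _ pt2220 := Act.fix_sound H_c5i.top pt2220r chk2279
theorem cov2287 : Cov (C1.gen R1 31828687130226345097944463881396533766429193651030253916189694521162207808802136034115584) (C1.wds R1 [0]) pt2220 2 := Act.cov_of_seen (Act.pieces_sound H_c4m H_c4m.top pt2220r chk2285) chk2286
theorem H_lb6 : 1 ≤ Nat.card (C1.gen R1 0) := Nat.card_pos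
theorem H_lo5 : 2 * Nat.card (C1.gen R1 0) ≤ Nat.card (C1.gen R1 31828687130226345097944463881396533766429193651030253916189694521162207808802136034115584) := cov2287.low le_rfl (GC.wds_zero _) H_c5i.gen_le fx2280
theorem H_lb5 : 2 ≤ Nat.card (C1.gen R1 31828687130226345097944463881396533766429193651030253916189694521162207808802136034115584) := low_step H_lo5 H_lb6 (by decide +kernel)
theorem H_lo4 : 4 * Nat.card (C1.gen R1 31828687130226345097944463881396533766429193651030253916189694521162207808802136034115584) ≤ Nat.card (C1.gen R1 43764444804061224509673637836920233928840141270166599134760829966598035737102937046908928) := cov2277.low le_rfl (GC.wds_zero _) H_c4i.gen_le fx2270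
theorem H_lb4 : 8 ≤ Nat.card (C1.gen R1 43764444804061224509673637836920233928840141270166599134760829966598035737102937046908928) := low_step H_lo4 H_lb5 (by decide +kernel)
theorem H_lo3 : 4 * Nat.card (C1.gen R1 43764444804061224509673637836920233928840141270166599134760829966598035737102937046908928) ≤ Nat.card (C1.gen R1 61668081314813543627267398770205784172456562698871116962617533134751777629554138566098944) := cov2267.low le_rfl (GC.wds_zero _) H_c3i.gen_le fx2260
theorem H_lb3 : 32 ≤ Nat.card (C1.gen R1 61668081314813543627267398770205784172456562698871116962617533134751777629554138566098944) := low_step H_lo3 H_lb4 (by decide +kernel)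
theorem H_lo2 : 72 * Nat.card (C1.gen R1 61668081314813543627267398770205784172456562698871116962617533134751777629554138566098944) ≤ Nat.card (C1.gen R1 63534986120242469264421001662663185841739915671200223042540524860510864647636343932846080) := cov2257.low le_rfl (GC.wds_zero _) H_c2i.gen_le fx2250
theorem H_lb2 : 2304 ≤ Nat.card (C1.gen R1 63534986120242469264421001662663185841739915671200223042540524860510864647636343932846080) := low_step H_lo2 H_lb3 (by decide +kernel)
theorem H_lo1 : 225 * Nat.card (C1.gen R1 63534986120242469264421001662663185841739915671200223042540524860510864647636343932846080) ≤ Nat.card (C1.gen R1 63656402926006577331353468031839655773405066098640981762618763136119546165461669463982080) := cov2247.low le_rfl (GC.wds_zero _) H_c1i.gen_le fx2240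
theorem H_lb1 : 518400 ≤ Nat.card (C1.gen R1 63656402926006577331353468031839655773405066098640981762618763136119546165461669463982080) := low_step H_lo1 H_lb2 (by decide +kernel)
theorem H_lo0 : 462 * Nat.card (C1.gen R1 63656402926006577331353468031839655773405066098640981762618763136119546165461669463982080) ≤ Nat.card (C1.gen R1 4094) := cov2237.low le_rfl (GC.wds_zero _) H_c0i.gen_le fx2230
theorem H_lb0 : 239500800 ≤ Nat.card (C1.gen R1 4094) := low_step H_lo0 H_lb1 (by decide +kernel)
theorem H_st0 : (C1.gen R1 4094) ⊓ stabilizer _ pt2210 = (C1.gen R1 63656402926006577331353468031839655773405066098640981762618763136119546165461669463982080) ∧ (orbit (C1.gen R1 4094) pt2210).ncard = 462 := cov2237.stab le_rfl (GC.wds_zero _) H_c0i.gen_le fx2230 (up_low H_ub H_lb1 (by decide +kernel))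
theorem H_ub1 : Nat.card (C1.gen R1 63656402926006577331353468031839655773405066098640981762618763136119546165461669463982080) ≤ 518400 := up_step H_lo0 H_ub (by decide +kernel)
theorem H_st1 : (C1.gen R1 63656402926006577331353468031839655773405066098640981762618763136119546165461669463982080) ⊓ stabilizer _ pt2212 = (C1.gen R1 63534986120242469264421001662663185841739915671200223042540524860510864647636343932846080) ∧ (orbit (C1.gen R1 63656402926006577331353468031839655773405066098640981762618763136119546165461669463982080) pt2212).ncard = 225 := cov2247.stab le_rfl (GC.wds_zero _) H_c1i.gen_le fx2240 (up_low H_ub1 H_lb2 (by decide +kernel))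
theorem H_ub2 : Nat.card (C1.gen R1 63534986120242469264421001662663185841739915671200223042540524860510864647636343932846080) ≤ 2304 := up_step H_lo1 H_ub1 (by decide +kernel)
theorem H_st2 : (C1.gen R1 63534986120242469264421001662663185841739915671200223042540524860510864647636343932846080) ⊓ stabilizer _ pt2214 = (C1.gen R1 61668081314813543627267398770205784172456562698871116962617533134751777629554138566098944) ∧ (orbit (C1.gen R1 63534986120242469264421001662663185841739915671200223042540524860510864647636343932846080) pt2214).ncard = 72 := cov2257.stab le_rfl (GC.wds_zero _) H_c2i.gen_le fx2250 (up_low H_ub2 H_lb3 (by decide +kernel))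
theorem H_ub3 : Nat.card (C1.gen R1 61668081314813543627267398770205784172456562698871116962617533134751777629554138566098944) ≤ 32 := up_step H_lo2 H_ub2 (by decide +kernel)
theorem H_st3 : (C1.gen R1 61668081314813543627267398770205784172456562698871116962617533134751777629554138566098944) ⊓ stabilizer _ pt2216 = (C1.gen R1 43764444804061224509673637836920233928840141270166599134760829966598035737102937046908928) ∧ (orbit (C1.gen R1 61668081314813543627267398770205784172456562698871116962617533134751777629554138566098944) pt2216).ncard = 4 := cov2267.stab le_rfl (GC.wds_zero _) H_c3i.gen_le fx2260 (up_low H_ub3 H_lb4 (by decide +kernel))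
theorem H_ub4 : Nat.card (C1.gen R1 43764444804061224509673637836920233928840141270166599134760829966598035737102937046908928) ≤ 8 := up_step H_lo3 H_ub3 (by decide +kernel)
theorem H_st4 : (C1.gen R1 43764444804061224509673637836920233928840141270166599134760829966598035737102937046908928) ⊓ stabilizer _ pt2218 = (C1.gen R1 31828687130226345097944463881396533766429193651030253916189694521162207808802136034115584) ∧ (orbit (C1.gen R1 43764444804061224509673637836920233928840141270166599134760829966598035737102937046908928) pt2218).ncard = 4 := cov2277.stab le_rfl (GC.wds_zero _) H_c4i.gen_le fx2270 (up_low H_ub4 H_lb5 (by decide +kernel))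
theorem H_ub5 : Nat.card (C1.gen R1 31828687130226345097944463881396533766429193651030253916189694521162207808802136034115584) ≤ 2 := up_step H_lo4 H_ub4 (by decide +kernel)
theorem H_st5 : (C1.gen R1 31828687130226345097944463881396533766429193651030253916189694521162207808802136034115584) ⊓ stabilizer _ pt2220 = (C1.gen R1 0) ∧ (orbit (C1.gen R1 31828687130226345097944463881396533766429193651030253916189694521162207808802136034115584) pt2220).ncard = 2 := cov2287.stab le_rfl (GC.wds_zero _) H_c5i.gen_le fx2280 (up_low H_ub5 H_lb6 (by decide +kernel))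
theorem H_ub6 : Nat.card (C1.gen R1 0) ≤ 1 := up_step H_lo5 H_ub5 (by decide +kernel)
theorem G_m3 : C1.Mem R1 (C1.gen R1 174224571863520493293247799005065324269566) 63657131426841161979755062830054714616940299827060915154924884371703531449606354877026302 := G_s1_1363.lor' (H_s1_2227.mono (G_s1_1363.sub chk2288).gen_le) chk2289
theorem Sa0_m0 : C1.Mem R1 (C1.gen R1 0) 0 := GC.Mem.gen (GC.Mem.zero ⊤)
theorem Sain2292 : C1.Mem R1 (C1.gen R1 174224571863520493293247799005065324269566) 2037035733500874558052311823476639808135550306190936657958685944683760415595338788992192510 := G_m3.slp' chk2291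
theorem Sain2295 : C1.Mem R1 (C1.gen R1 174224571863520493293247799005065324269566) 32592575378518165852078997149617312223907576211179980417500792684999479912045389381743153150 := Sain2292.slp' chk2294
theorem Sain2298 : C1.Mem R1 (C1.gen R1 174224571863520493293247799005065324269566) 521481209698794826556505962367868070876259990691004680570174500530050991855246198865758523390 := Sain2295.slp' chk2297
theorem Sain2301 : C1.Mem R1 (C1.gen R1 174224571863520493293247799005065324269566) 2085861182392253299648692496003440443849170776726616660143575440749844126542039182859730681856 := Sain2298.slp' chk2300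
theorem Sa1_m0 : C1.Mem R1 (C1.gen R1 63657374260452690195888927762793067532858387302060507832379389042324415617604272068231168) 63657374260452690195888927762793067532858387302060507832379389042324415617604272068231168 := GC.Mem.gen (Sain2301.top.sub chk2302)
theorem Sa1_dvd : Nat.card (C1.gen R1 63657374260452690195888927762793067532858387302060507832379389042324415617604272068231168) ∣ 2 := GC.card_ins (dvd_step (Sa0_m0.pc (m := 2) (w := 0) (Sain2301.top.get (i := 295) (by decide +kernel)) Sa0_m0.top chk2304 chk2305) GC.card_gen_zero (n := 2) (by decide +kernel)) (by decide +kernel)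
theorem Sa2_m0 : C1.Mem R1 (C1.gen R1 190972122781358070587666783288379202598575161906181523497138167126973246852812816204693504) 190972122781358070587666783288379202598575161906181523497138167126973246852812816204693504 := GC.Mem.gen (Sain2301.top.sub chk2306)
theorem Sa2_dvd : Nat.card (C1.gen R1 190972122781358070587666783288379202598575161906181523497138167126973246852812816204693504) ∣ 4 := GC.card_ins (dvd_step (Sa1_m0.pc (m := 2) (w := 0) (Sain2301.top.get (i := 296) (by decide +kernel)) Sa1_m0.top chk2308 chk2309) Sa1_dvd (n := 4) (by decide +kernel)) (by decide +kernel)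
theorem Sa3_m0 : C1.Mem R1 (C1.gen R1 445601619823168831371222494339551472730008711114423554826655723296270909323229904477618176) 445601619823168831371222494339551472730008711114423554826655723296270909323229904477618176 := GC.Mem.gen (Sain2301.top.sub chk2310)
theorem Sa3_dvd : Nat.card (C1.gen R1 445601619823168831371222494339551472730008711114423554826655723296270909323229904477618176) ∣ 8 := GC.card_ins (dvd_step (Sa2_m0.pc (m := 2) (w := 0) (Sain2301.top.get (i := 297) (by decide +kernel)) Sa2_m0.top chk2312 chk2313) Sa2_dvd (n := 8) (by decide +kernel)) (by decide +kernel)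
theorem Sa4_m0 : C1.Mem R1 (C1.gen R1 954860613906790352938333916441896012992875809530907617485690835634866234264064081023467520) 954860613906790352938333916441896012992875809530907617485690835634866234264064081023467520 := GC.Mem.gen (Sain2301.top.sub chk2314)
theorem Sa4_dvd : Nat.card (C1.gen R1 954860613906790352938333916441896012992875809530907617485690835634866234264064081023467520) ∣ 16 := GC.card_ins (dvd_step (Sa3_m0.pc (m := 2) (w := 0) (Sain2301.top.get (i := 298) (by decide +kernel)) Sa3_m0.top chk2316 chk2317) Sa3_dvd (n := 16) (by decide +kernel)) (by decide +kernel)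
theorem Sa5_m0 : C1.Mem R1 (C1.gen R1 1973378602074033396072556760646585093518610006363875742803761060312056884145732434115166208) 1973378602074033396072556760646585093518610006363875742803761060312056884145732434115166208 := GC.Mem.gen (Sain2301.top.sub chk2318)
theorem Sa5_dvd : Nat.card (C1.gen R1 1973378602074033396072556760646585093518610006363875742803761060312056884145732434115166208) ∣ 32 := GC.card_ins (dvd_step (Sa4_m0.pc (m := 2) (w := 0) (Sain2301.top.get (i := 299) (by decide +kernel)) Sa4_m0.top chk2320 chk2321) Sa4_dvd (n := 32) (by decide +kernel)) (by decide +kernel)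
theorem Sa6_m0 : C1.Mem R1 (C1.gen R1 4010414578408519482341002449055963254570078400029811993439901509666438183909069140298563584) 4010414578408519482341002449055963254570078400029811993439901509666438183909069140298563584 := GC.Mem.gen (Sain2301.top.sub chk2322)
theorem Sa6_dvd : Nat.card (C1.gen R1 4010414578408519482341002449055963254570078400029811993439901509666438183909069140298563584) ∣ 64 := GC.card_ins (dvd_step (Sa5_m0.pc (m := 2) (w := 295) (Sain2301.top.get (i := 300) (by decide +kernel)) Sa5_m0.top chk2324 chk2325) Sa5_dvd (n := 64) (by decide +kernel)) (by decide +kernel)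
theorem Sa7_m0 : C1.Mem R1 (C1.gen R1 8084486531077491654877893825874719576673015187361684494712182408375200783435742552665358336) 8084486531077491654877893825874719576673015187361684494712182408375200783435742552665358336 := GC.Mem.gen (Sain2301.top.sub chk2326)
theorem Sa7_dvd : Nat.card (C1.gen R1 8084486531077491654877893825874719576673015187361684494712182408375200783435742552665358336) ∣ 128 := GC.card_ins (dvd_step (Sa6_m0.pc (m := 2) (w := 0) (Sain2301.top.get (i := 301) (by decide +kernel)) Sa6_m0.top chk2328 chk2329) Sa6_dvd (n := 128) (by decide +kernel)) (by decide +kernel)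
theorem Sa8_m0 : C1.Mem R1 (C1.gen R1 16232630436415435999951676579512232220878888762025429497256744205792725982489089377398947840) 16232630436415435999951676579512232220878888762025429497256744205792725982489089377398947840 := GC.Mem.gen (Sain2301.top.sub chk2330)
theorem Sa8_dvd : Nat.card (C1.gen R1 16232630436415435999951676579512232220878888762025429497256744205792725982489089377398947840) ∣ 256 := GC.card_ins (dvd_step (Sa7_m0.pc (m := 2) (w := 317064521004) (Sain2301.top.get (i := 302) (by decide +kernel)) Sa7_m0.top chk2332 chk2333) Sa7_dvd (n := 256) (by decide +kernel)) (by decide +kernel)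
theorem Sa9_m0 : C1.Mem R1 (C1.gen R1 32528918247091324690099242086787257509290635911352919502345867800627776380595783026866126848) 32528918247091324690099242086787257509290635911352919502345867800627776380595783026866126848 := GC.Mem.gen (Sain2301.top.sub chk2334)
theorem Sa9_dvd : Nat.card (C1.gen R1 32528918247091324690099242086787257509290635911352919502345867800627776380595783026866126848) ∣ 512 := GC.card_ins (dvd_step (Sa8_m0.pc (m := 2) (w := 295) (Sain2301.top.get (i := 303) (by decide +kernel)) Sa8_m0.top chk2336 chk2337) Sa8_dvd (n := 512) (by decide +kernel)) (by decide +kernel)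
theorem Sa10_m0 : C1.Mem R1 (C1.gen R1 65121493868443102070394373101337308086114130210007899512524114990297877176809170325800484864) 65121493868443102070394373101337308086114130210007899512524114990297877176809170325800484864 := GC.Mem.gen (Sain2301.top.sub chk2338)
theorem Sa10_dvd : Nat.card (C1.gen R1 65121493868443102070394373101337308086114130210007899512524114990297877176809170325800484864) ∣ 1024 := GC.card_ins (dvd_step (Sa9_m0.pc (m := 2) (w := 324675144298797) (Sain2301.top.get (i := 304) (by decide +kernel)) Sa9_m0.top chk2340 chk2341) Sa9_dvd (n := 1024) (by decide +kernel)) (by decide +kernel)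
theorem Sa11_m0 : C1.Mem R1 (C1.gen R1 130306645111146656830984635130437409239761118807317859532880609369638078769235944923669200896) 130306645111146656830984635130437409239761118807317859532880609369638078769235944923669200896 := GC.Mem.gen (Sain2301.top.sub chk2342)
theorem Sa11_dvd : Nat.card (C1.gen R1 130306645111146656830984635130437409239761118807317859532880609369638078769235944923669200896) ∣ 2048 := GC.card_ins (dvd_step (Sa10_m0.pc (m := 2) (w := 304426) (Sain2301.top.get (i := 305) (by decide +kernel)) Sa10_m0.top chk2344 chk2345) Sa10_dvd (n := 2048) (by decide +kernel)) (by decide +kernel)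
theorem Sa12_m0 : C1.Mem R1 (C1.gen R1 260676947596553766352165159188637611547055096001937779573593598128318481954089494119406632960) 260676947596553766352165159188637611547055096001937779573593598128318481954089494119406632960 := GC.Mem.gen (Sain2301.top.sub chk2346)
theorem Sa12_dvd : Nat.card (C1.gen R1 260676947596553766352165159188637611547055096001937779573593598128318481954089494119406632960) ∣ 4096 := GC.card_ins (dvd_step (Sa11_m0.pc (m := 2) (w := 0) (Sain2301.top.get (i := 306) (by decide +kernel)) Sa11_m0.top chk2348 chk2349) Sa11_dvd (n := 4096) (by decide +kernel)) (by decide +kernel)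
theorem Sa13_m0 : C1.Mem R1 (C1.gen R1 521417552567367985394526207305038016161643050391177619655019575645679288323796592510881497088) 521417552567367985394526207305038016161643050391177619655019575645679288323796592510881497088 := GC.Mem.gen (Sain2301.top.sub chk2350)
theorem Sa13_dvd : Nat.card (C1.gen R1 521417552567367985394526207305038016161643050391177619655019575645679288323796592510881497088) ∣ 12288 := GC.card_ins (dvd_step (Sa12_m0.pc (m := 3) (w := 334723549920281906) (Sain2301.top.get (i := 307) (by decide +kernel)) Sa12_m0.top chk2352 chk2353) Sa12_dvd (n := 12288) (by decide +kernel)) (by decide +kernel)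
theorem Sa14_m0 : C1.Mem R1 (C1.gen R1 1042898762508996423479248303537838825390818959169657299817871530680400901063210789293831225344) 1042898762508996423479248303537838825390818959169657299817871530680400901063210789293831225344 := GC.Mem.gen (Sain2301.top.sub chk2354)
theorem Sa14_dvd : Nat.card (C1.gen R1 1042898762508996423479248303537838825390818959169657299817871530680400901063210789293831225344) ∣ 24576 := GC.card_ins (dvd_step (Sa13_m0.pc (m := 2) (w := 324674069508397) (Sain2301.top.get (i := 308) (by decide +kernel)) Sa13_m0.top chk2356 chk2357) Sa13_dvd (n := 24576) (by decide +kernel)) (by decide +kernel)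
theorem Sa15_m0 : C1.Mem R1 (C1.gen R1 2085861182392253299648692496003440443849170776726616660143575440749844126542039182859730681856) 2085861182392253299648692496003440443849170776726616660143575440749844126542039182859730681856 := GC.Mem.gen (Sain2301.top.sub chk2358)
theorem Sa15_dvd : Nat.card (C1.gen R1 2085861182392253299648692496003440443849170776726616660143575440749844126542039182859730681856) ∣ 49152 := GC.card_ins (dvd_step (Sa14_m0.pc (m := 2) (w := 343907583723649156403) (Sain2301.top.get (i := 309) (by decide +kernel)) Sa14_m0.top chk2360 chk2361) Sa14_dvd (n := 49152) (by decide +kernel)) (by decide +kernel)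
theorem Sa15_ub : Nat.card (C1.gen R1 2085861182392253299648692496003440443849170776726616660143575440749844126542039182859730681856) ≤ 49152 := le_of_dvd' Sa15_dvd (by decide +kernel)
theorem pt2362e : ∃ x, A0.Rep pt2362c x := PP.exists_vec P_ok (c := 0x40005000700080003000900060007000a0000000300030008000400050003000800000000000200090006000a0005000900000005000a0000000000060009000400060004000a0003000100070008000100020004000700070002000000060009000000040006000200060004000900070004000a00060009000a000a00030002000200010005000800070004000a000a00060008000900060003000200070000000800070004000300010006000300060001000400030005000700070006000000070004000200040001000200040003000600080008000100030007000800030001000a000800070003000a0005000200070005000a000200090000000000000000) (by decide +kernel)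
noncomputable def pt2362 := Classical.choose pt2362e
theorem pt2362r : A0.Rep pt2362c pt2362 := Classical.choose_spec pt2362e
theorem pt2363e : ∃ x, A0.Rep pt2363c x := PP.exists_vec P_ok (c := 0x2000300000000000600070002000600010007000800090008000700040007000a0006000a00060004000a00030003000a0003000a0006000800000002000500080000000700060005000500070009000700090006000300020001000a00030002000700040002000100040005000a0006000100080003000a00040001000600010008000600060004000600040000000800080004000a0004000a0006000a0009000000000009000100000000000000020000000100010000000a0000000a0001000000020009000200050005000500060000000a0006000700040006000500050003000600060009000500050001000a000200040009000300000001000a00020006000900050000) (by decide +kernel)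
noncomputable def pt2363 := Classical.choose pt2363e
theorem pt2363r : A0.Rep pt2363c pt2363 := Classical.choose_spec pt2363e
theorem Sa15_s0_2366 : C1.Mem R1 (C1.gen R1 2085861182392253299648692496003440443849170776726616660143575440749844126542039182859730681856) 4171786022158767051987580880934643680765874411840535380794983260888730577499695969991529594880 := Sa15_m0.slp' chk2365
theorem Sa15_c0i : C1.Mem R1 (C1.gen R1 2085861182392253299648692496003440443849170776726616660143575440749844126542039182859730681856) 2085924839766513752338888384931203236916703635113918720651407820138886450957656787131798913024 := Sa15_s0_2366.sub chk2367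
theorem Sa15_c0m : C1.Mem R1 (C1.gen R1 2085924839766513752338888384931203236916703635113918720651407820138886450957656787131798913024) 2085924839766513752338888384931203236916703635113918720651407820138886450957656787131798913024 := Sa15_c0i.gen
theorem fx2369 : C1.gen R1 2085924839766513752338888384931203236916703635113918720651407820138886450957656787131798913024 ≤ stabilizer _ pt2362 := Act.fix_sound Sa15_c0i.top pt2362r chk2368
theorem cov2400 : Cov (C1.gen R1 2085861182392253299648692496003440443849170776726616660143575440749844126542039182859730681856) (C1.wds R1 [0]) pt2362 24576 := Act.cov_of_seen (forall_app (Act.pieces_sound Sa15_s0_2366 Sa15_s0_2366.top pt2362r chk2394) (forall_app (Act.pieces_sound Sa15_s0_2366 Sa15_s0_2366.top pt2362r chk2396) (Act.pieces_sound Sa15_s0_2366 Sa15_s0_2366.top pt2362r chk2398))) chk2399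
theorem Sa15_c1i : C1.Mem R1 (C1.gen R1 2085924839766513752338888384931203236916703635113918720651407820138886450957656787131798913024) 0 := Sa15_c0m.sub chk2401
theorem Sa15_c1m : C1.Mem R1 (C1.gen R1 0) 0 := Sa15_c1i.gen
theorem fx2403 : C1.gen R1 0 ≤ stabilizer _ pt2363 := Act.fix_sound Sa15_c1i.top pt2363r chk2402
theorem cov2410 : Cov (C1.gen R1 2085924839766513752338888384931203236916703635113918720651407820138886450957656787131798913024) (C1.wds R1 [0]) pt2363 2 := Act.cov_of_seen (Act.pieces_sound Sa15_c0m Sa15_c0m.top pt2363r chk2408) chk2409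
theorem Sa15_lb2 : 1 ≤ Nat.card (C1.gen R1 0) := Nat.card_pos
theorem Sa15_lo1 : 2 * Nat.card (C1.gen R1 0) ≤ Nat.card (C1.gen R1 2085924839766513752338888384931203236916703635113918720651407820138886450957656787131798913024) := cov2410.low le_rfl (GC.wds_zero _) Sa15_c1i.gen_le fx2403
theorem Sa15_lb1 : 2 ≤ Nat.card (C1.gen R1 2085924839766513752338888384931203236916703635113918720651407820138886450957656787131798913024) := low_step Sa15_lo1 Sa15_lb2 (by decide +kernel)
theorem Sa15_lo0 : 24576 * Nat.card (C1.gen R1 2085924839766513752338888384931203236916703635113918720651407820138886450957656787131798913024) ≤ Nat.card (C1.gen R1 2085861182392253299648692496003440443849170776726616660143575440749844126542039182859730681856) := cov2400.low le_rfl (GC.wds_zero _) Sa15_c0i.gen_le fx2369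
theorem Sa15_lb0 : 49152 ≤ Nat.card (C1.gen R1 2085861182392253299648692496003440443849170776726616660143575440749844126542039182859730681856) := low_step Sa15_lo0 Sa15_lb1 (by decide +kernel)
theorem Sb0_m0 : C1.Mem R1 (C1.gen R1 0) 0 := GC.Mem.gen (GC.Mem.zero ⊤)
theorem Sbin2413 : C1.Mem R1 (C1.gen R1 174224571863520493293247799005065324269566) 129327403722655279486173059620797430743550242317362787741302439773495331662906170408526409633790 := G_m3.slp' chk2412
theorem Sbin2416 : C1.Mem R1 (C1.gen R1 174224571863520493293247799005065324269566) 262826529810580732794699936501331607851504658024353758802077385337499692820664755178606663041024 := Sbin2413.slp' chk2415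
theorem Sb1_m0 : C1.Mem R1 (C1.gen R1 4171849679533027504677776769862406473833407270227837441302815640277772901915313574263597826048) 4171849679533027504677776769862406473833407270227837441302815640277772901915313574263597826048 := GC.Mem.gen (Sbin2416.top.sub chk2417)
theorem Sb1_dvd : Nat.card (C1.gen R1 4171849679533027504677776769862406473833407270227837441302815640277772901915313574263597826048) ∣ 3 := GC.card_ins (dvd_step (Sb0_m0.pc (m := 3) (w := 0) (Sbin2416.top.get (i := 311) (by decide +kernel)) Sb0_m0.top chk2419 chk2420) GC.card_gen_zero (n := 3) (by decide +kernel)) (by decide +kernel)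
theorem Sb2_m0 : C1.Mem R1 (C1.gen R1 12515549038599082514033330309587219421500221810683512323908446920833318705745940722790793478144) 12515549038599082514033330309587219421500221810683512323908446920833318705745940722790793478144 := GC.Mem.gen (Sbin2416.top.sub chk2421)
theorem Sb2_dvd : Nat.card (C1.gen R1 12515549038599082514033330309587219421500221810683512323908446920833318705745940722790793478144) ∣ 9 := GC.card_ins (dvd_step (Sb1_m0.pc (m := 3) (w := 0) (Sbin2416.top.get (i := 312) (by decide +kernel)) Sb1_m0.top chk2423 chk2424) Sb1_dvd (n := 9) (by decide +kernel)) (by decide +kernel)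
theorem Sb3_m0 : C1.Mem R1 (C1.gen R1 29202947756731192532744437389036845316833850891594862089119709481944410313407195019845184782336) 29202947756731192532744437389036845316833850891594862089119709481944410313407195019845184782336 := GC.Mem.gen (Sbin2416.top.sub chk2425)
theorem Sb3_dvd : Nat.card (C1.gen R1 29202947756731192532744437389036845316833850891594862089119709481944410313407195019845184782336) ∣ 27 := GC.card_ins (dvd_step (Sb2_m0.pc (m := 3) (w := 0) (Sbin2416.top.get (i := 313) (by decide +kernel)) Sb2_m0.top chk2427 chk2428) Sb2_dvd (n := 27) (by decide +kernel)) (by decide +kernel)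
theorem Sb4_m0 : C1.Mem R1 (C1.gen R1 62577745192995412570166651547936097107501109053417561619542234604166593528729703613953967390720) 62577745192995412570166651547936097107501109053417561619542234604166593528729703613953967390720 := GC.Mem.gen (Sbin2416.top.sub chk2429)
theorem Sb4_dvd : Nat.card (C1.gen R1 62577745192995412570166651547936097107501109053417561619542234604166593528729703613953967390720) ∣ 81 := GC.card_ins (dvd_step (Sb3_m0.pc (m := 3) (w := 0) (Sbin2416.top.get (i := 314) (by decide +kernel)) Sb3_m0.top chk2431 chk2432) Sb3_dvd (n := 81) (by decide +kernel)) (by decide +kernel)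
theorem Sb5_m0 : C1.Mem R1 (C1.gen R1 129327340065523852645011079865734600688835625377062960680387284848610959959374720802171532607488) 129327340065523852645011079865734600688835625377062960680387284848610959959374720802171532607488 := GC.Mem.gen (Sbin2416.top.sub chk2433)
theorem Sb5_dvd : Nat.card (C1.gen R1 129327340065523852645011079865734600688835625377062960680387284848610959959374720802171532607488) ∣ 243 := GC.card_ins (dvd_step (Sb4_m0.pc (m := 3) (w := 318775) (Sbin2416.top.get (i := 315) (by decide +kernel)) Sb4_m0.top chk2435 chk2436) Sb4_dvd (n := 243) (by decide +kernel)) (by decide +kernel)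
theorem Sb6_m0 : C1.Mem R1 (C1.gen R1 262826529810580732794699936501331607851504658024353758802077385337499692820664755178606663041024) 262826529810580732794699936501331607851504658024353758802077385337499692820664755178606663041024 := GC.Mem.gen (Sbin2416.top.sub chk2437)
theorem Sb6_dvd : Nat.card (C1.gen R1 262826529810580732794699936501331607851504658024353758802077385337499692820664755178606663041024) ∣ 729 := GC.card_ins (dvd_step (Sb5_m0.pc (m := 3) (w := 0) (Sbin2416.top.get (i := 316) (by decide +kernel)) Sb5_m0.top chk2439 chk2440) Sb5_dvd (n := 729) (by decide +kernel)) (by decide +kernel)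
theorem Sb6_ub : Nat.card (C1.gen R1 262826529810580732794699936501331607851504658024353758802077385337499692820664755178606663041024) ≤ 729 := le_of_dvd' Sb6_dvd (by decide +kernel)
theorem pt2441e : ∃ x, A0.Rep pt2441c x := PP.exists_vec P_ok (c := 0x800040008000a0001000800070001000600060004000300020007000900090001000200040007000a0002000000010000000600010007000500080000000000060002000200010008000500000001000a0000000a000200050005000200070006000400020008000200000009000300020002000000000002000a00000007000200010003000a000700030005000400050004000200090002000300000002000900050008000100010009000900040008000a000200010005000000050007000a00010009000a000500090003000500090009000400050009000200030002000700060002000a000000000002000a000700090000000a000200070008000200070003000600010000) (by decide +kernel)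
noncomputable def pt2441 := Classical.choose pt2441e
theorem pt2441r : A0.Rep pt2441c pt2441 := Classical.choose_spec pt2441e
theorem Sb6_c0i : C1.Mem R1 (C1.gen R1 262826529810580732794699936501331607851504658024353758802077385337499692820664755178606663041024) 0 := Sb6_m0.sub chk2442
theorem Sb6_c0m : C1.Mem R1 (C1.gen R1 0) 0 := Sb6_c0i.gen
theorem fx2444 : C1.gen R1 0 ≤ stabilizer _ pt2441 := Act.fix_sound Sb6_c0i.top pt2441r chk2443
theorem cov2451 : Cov (C1.gen R1 262826529810580732794699936501331607851504658024353758802077385337499692820664755178606663041024) (C1.wds R1 [0]) pt2441 729 := Act.cov_of_seen (Act.pieces_sound Sb6_m0 Sb6_m0.top pt2441r chk2449) chk2450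
theorem Sb6_lb1 : 1 ≤ Nat.card (C1.gen R1 0) := Nat.card_pos
theorem Sb6_lo0 : 729 * Nat.card (C1.gen R1 0) ≤ Nat.card (C1.gen R1 262826529810580732794699936501331607851504658024353758802077385337499692820664755178606663041024) := cov2451.low le_rfl (GC.wds_zero _) Sb6_c0i.gen_le fx2444
theorem Sb6_lb0 : 729 ≤ Nat.card (C1.gen R1 262826529810580732794699936501331607851504658024353758802077385337499692820664755178606663041024) := low_step Sb6_lo0 Sb6_lb1 (by decide +kernel)
theorem Sc0_m0 : C1.Mem R1 (C1.gen R1 0) 0 := GC.Mem.gen (GC.Mem.zero ⊤)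
theorem Scin2454 : C1.Mem R1 (C1.gen R1 174224571863520493293247799005065324269566) 4004975756008837831331827678822973044934785596359023770711618169591546357542232480899408790032382 := G_m3.slp' chk2453
theorem Scin2457 : C1.Mem R1 (C1.gen R1 174224571863520493293247799005065324269566) 16820897907877166898860795936085222902496298113558640563332952661599980340522544331430826434625536 := Scin2454.slp' chk2456
theorem Sc1_m0 : C1.Mem R1 (C1.gen R1 266998379490113760299377713271194014325338065294581596243380200977777465722580068752870260867072) 266998379490113760299377713271194014325338065294581596243380200977777465722580068752870260867072 := GC.Mem.gen (Scin2457.top.sub chk2458)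
theorem Sc1_dvd : Nat.card (C1.gen R1 266998379490113760299377713271194014325338065294581596243380200977777465722580068752870260867072) ∣ 5 := GC.card_ins (dvd_step (Sc0_m0.pc (m := 5) (w := 0) (Scin2457.top.get (i := 317) (by decide +kernel)) Sc0_m0.top chk2460 chk2461) GC.card_gen_zero (n := 5) (by decide +kernel)) (by decide +kernel)
theorem Sc2_m0 : C1.Mem R1 (C1.gen R1 800995138470341280898133139813582042976014195883744788730140602933332397167740206258610782601216) 800995138470341280898133139813582042976014195883744788730140602933332397167740206258610782601216 := GC.Mem.gen (Scin2457.top.sub chk2462)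
theorem Sc2_dvd : Nat.card (C1.gen R1 800995138470341280898133139813582042976014195883744788730140602933332397167740206258610782601216) ∣ 25 := GC.card_ins (dvd_step (Sc1_m0.pc (m := 5) (w := 0) (Scin2457.top.get (i := 318) (by decide +kernel)) Sc1_m0.top chk2464 chk2465) Sc1_dvd (n := 25) (by decide +kernel)) (by decide +kernel)
theorem Sc3_m0 : C1.Mem R1 (C1.gen R1 1868988656430796322095643992898358100277366457062071173703661406844442260058060481270091826069504) 1868988656430796322095643992898358100277366457062071173703661406844442260058060481270091826069504 := GC.Mem.gen (Scin2457.top.sub chk2466)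
theorem Sc3_dvd : Nat.card (C1.gen R1 1868988656430796322095643992898358100277366457062071173703661406844442260058060481270091826069504) ∣ 125 := GC.card_ins (dvd_step (Sc2_m0.pc (m := 5) (w := 0) (Scin2457.top.get (i := 319) (by decide +kernel)) Sc2_m0.top chk2468 chk2469) Sc2_dvd (n := 125) (by decide +kernel)) (by decide +kernel)
theorem Sc4_m0 : C1.Mem R1 (C1.gen R1 4004975692351706404490665699067910214880070979418723943650703014666661985838701031293053913006080) 4004975692351706404490665699067910214880070979418723943650703014666661985838701031293053913006080 := GC.Mem.gen (Scin2457.top.sub chk2470)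
theorem Sc4_dvd : Nat.card (C1.gen R1 4004975692351706404490665699067910214880070979418723943650703014666661985838701031293053913006080) ∣ 625 := GC.card_ins (dvd_step (Sc3_m0.pc (m := 5) (w := 0) (Scin2457.top.get (i := 320) (by decide +kernel)) Sc3_m0.top chk2472 chk2473) Sc3_dvd (n := 625) (by decide +kernel)) (by decide +kernel)
theorem Sc5_m0 : C1.Mem R1 (C1.gen R1 8276949764193526569280709111407014444085480024132029483544786230311101437399982131338978086879232) 8276949764193526569280709111407014444085480024132029483544786230311101437399982131338978086879232 := GC.Mem.gen (Scin2457.top.sub chk2474)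
theorem Sc5_dvd : Nat.card (C1.gen R1 8276949764193526569280709111407014444085480024132029483544786230311101437399982131338978086879232) ∣ 3125 := GC.card_ins (dvd_step (Sc4_m0.pc (m := 5) (w := 0) (Scin2457.top.get (i := 321) (by decide +kernel)) Sc4_m0.top chk2476 chk2477) Sc4_dvd (n := 3125) (by decide +kernel)) (by decide +kernel)
theorem Sc6_m0 : C1.Mem R1 (C1.gen R1 16820897907877166898860795936085222902496298113558640563332952661599980340522544331430826434625536) 16820897907877166898860795936085222902496298113558640563332952661599980340522544331430826434625536 := GC.Mem.gen (Scin2457.top.sub chk2478)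
theorem Sc6_dvd : Nat.card (C1.gen R1 16820897907877166898860795936085222902496298113558640563332952661599980340522544331430826434625536) ∣ 15625 := GC.card_ins (dvd_step (Sc5_m0.pc (m := 5) (w := 0) (Scin2457.top.get (i := 322) (by decide +kernel)) Sc5_m0.top chk2480 chk2481) Sc5_dvd (n := 15625) (by decide +kernel)) (by decide +kernel)
theorem Sc6_ub : Nat.card (C1.gen R1 16820897907877166898860795936085222902496298113558640563332952661599980340522544331430826434625536) ≤ 15625 := le_of_dvd' Sc6_dvd (by decide +kernel)
theorem pt2482e : ∃ x, A0.Rep pt2482c x := PP.exists_vec P_ok (c := 0x1000400020008000a00070008000400060008000800070005000400040009000400040007000900010005000a00040009000600080001000600020005000600040000000000010005000700010008000900090003000000070000000a00000007000700080004000a00050008000200020001000000090003000100050000000a000800000004000100070003000900080001000000030001000500080005000900090005000900070003000200050000000600040007000a00040007000a000100020002000a000300030004000800070001000a000800020009000400090000000200070003000500080001000a000a00020005000700020004000300090004000800000006000a)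 (by decide +kernel)
noncomputable def pt2482 := Classical.choose pt2482e
theorem pt2482r : A0.Rep pt2482c pt2482 := Classical.choose_spec pt2482e
theorem Sc6_s0_2485 : C1.Mem R1 (C1.gen R1 16820897907877166898860795936085222902496298113558640563332952661599980340522544331430826434625536) 4374234451186533734984705076521971536692013523721130291255297832618928220933029266378273483785240576 := Sc6_m0.slp' chk2484
theorem Sc6_c0i : C1.Mem R1 (C1.gen R1 16820897907877166898860795936085222902496298113558640563332952661599980340522544331430826434625536) 0 := Sc6_s0_2485.sub chk2486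
theorem Sc6_c0m : C1.Mem R1 (C1.gen R1 0) 0 := Sc6_c0i.gen
theorem fx2488 : C1.gen R1 0 ≤ stabilizer _ pt2482 := Act.fix_sound Sc6_c0i.top pt2482r chk2487
theorem cov2521 : Cov (C1.gen R1 16820897907877166898860795936085222902496298113558640563332952661599980340522544331430826434625536) (C1.wds R1 [0]) pt2482 15625 := Act.cov_of_seen (forall_app (Act.pieces_sound Sc6_s0_2485 Sc6_s0_2485.top pt2482r chk2513) (forall_app (Act.pieces_sound Sc6_s0_2485 Sc6_s0_2485.top pt2482r chk2515) (forall_app (Act.pieces_sound Sc6_s0_2485 Sc6_s0_2485.top pt2482r chk2517) (Act.pieces_sound Sc6_s0_2485 Sc6_s0_2485.top pt2482r chk2519)))) chk2520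
theorem Sc6_lb1 : 1 ≤ Nat.card (C1.gen R1 0) := Nat.card_pos
theorem Sc6_lo0 : 15625 * Nat.card (C1.gen R1 0) ≤ Nat.card (C1.gen R1 16820897907877166898860795936085222902496298113558640563332952661599980340522544331430826434625536) := cov2521.low le_rfl (GC.wds_zero _) Sc6_c0i.gen_le fx2488
theorem Sc6_lb0 : 15625 ≤ Nat.card (C1.gen R1 16820897907877166898860795936085222902496298113558640563332952661599980340522544331430826434625536) := low_step Sc6_lo0 Sc6_lb1 (by decide +kernel)
theorem G_s3_2524 : C1.Mem R1 (C1.gen R1 174224571863520493293247799005065324269566) 4374501449629680980171845616214997793536393576403365172678602127974830882770455377896632708923133950 := G_m3.slp' chk2523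
theorem G_lb : 273030912000000 ≤ Nat.card (C1.gen R1 174224571863520493293247799005065324269566) := Nat.le_of_dvd Nat.card_pos (lcm_step (lcm_step (lcm_step (lcm_step (dvd_of_sub (G_s3_2524.sub chk2525).gen_le H_ub H_lb0) (dvd_of_sub Sain2301.gen_le Sa15_ub Sa15_lb0) (n := 7664025600) (by decide +kernel)) (dvd_of_sub Sbin2416.gen_le Sb6_ub Sb6_lb0) (n := 22992076800) (by decide +kernel)) (dvd_of_sub Scin2457.gen_le Sc6_ub Sc6_lb0) (n := 14370048000000) (by decide +kernel)) ((G_s3_2524.get (i := 331) (by decide +kernel)).prime_dvd (p := 19) (by norm_num) chk2526).2 (n := 273030912000000) (by decide +kernel))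
theorem fx2528 : C1.gen R1 4094 ≤ stabilizer _ pt2209 := Act.fix_sound (D0_m0.map hf1).top pt2209r chk2527
theorem core (N : Subgroup _) (h : N ≤ (C1.gen R1 4094)) (hN : NormBy (C1.gen R1 174224571863520493293247799005065324269566) N) : N ≤ (C1.gen R1 0) := (le_next H_st5 (le_next H_st4 (le_next H_st3 (le_next H_st2 (le_next H_st1 (le_next H_st0 h (hN.fix (h.trans fx2528) pt2210g)) (hN.fix (h.trans fx2528) pt2212g)) (hN.fix (h.trans fx2528) pt2214g)) (hN.fix (h.trans fx2528) pt2216g)) (hN.fix (h.trans fx2528) pt2218g)) (hN.fix (h.trans fx2528) pt2220g))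
theorem G_s4_2531 : C1.Mem R1 (C1.gen R1 174224571863520493293247799005065324269566) 30621510147025824072641872341626454177774426747121914409787849404894266873162966456578790833199779838 := G_s3_2524.slp' chk2530
theorem ncl (N : Subgroup _) (hN : NormBy (C1.gen R1 174224571863520493293247799005065324269566) N) (hz : C1.el (R1 331) ∈ N) : C1.gen R1 174224571863520493293247799005065324269566 ≤ N := by
  have h0 := (GC.Mem.single (G_s4_2531.get (i := 331) (by decide +kernel)).top hz).lor' (G_s4_2531.nconj (GC.Mem.single (G_s4_2531.get (i := 331) (by decide +kernel)).top hz) hN (G_s4_2531.sub chk2532).top chk2534) (M'' := 30621510146962166941215031179646699114944372032504974109960788489739341988791262925129184478322753536) (by decide +kernel)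
  have h1 := G_s4_2531.ncop h0 hN chk2536
  have h2 := h1.lor' (G_s4_2531.ncop h0 hN chk2538) (M'' := 4064) (by decide +kernel)
  have h3 := h2.lor' (G_s4_2531.ncop h0 hN chk2540) (M'' := 4092) (by decide +kernel)
  have h4 := h3.lor' (G_s4_2531.ncop h0 hN chk2542) (M'' := 174224571863520493293247799005065324269566) (by decide +kernel)
  exact h4.gen_le
theorem dich (N : Subgroup _) (h : N ≤ (C1.gen R1 174224571863520493293247799005065324269566)) (hN : NormBy (C1.gen R1 174224571863520493293247799005065324269566) N) : N ≤ (C1.gen R1 0) ∨ N = (C1.gen R1 174224571863520493293247799005065324269566) :=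
  normal_dichotomy (G_s4_2531.sub chk2544).gen_le G_max core (p := 19) (k := 1) (n := 1140000) (by norm_num)
    (eq_mul_of G_ub G_lb H_ub H_lb0 (by decide +kernel)) (by norm_num)
    (not_dvd_of G_ub G_lb (by decide +kernel)) (G_s4_2531.get (i := 331) (by decide +kernel)).el_mem ((G_s4_2531.get (i := 331) (by decide +kernel)).prime_dvd (by norm_num) chk2543).1.1
    (fun N _ hN hz => ncl N hN hz) N h hN
theorem simple : IsSimpleGroup (C1.gen R1 174224571863520493293247799005065324269566) := simple_of_dichotomy (ne_bot_of G_lb (by decide +kernel)) fun N h hN => GC.gen_zero (C := C1) (R := R1) ▸ dich N h hN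
theorem cardG : Nat.card (C1.gen R1 174224571863520493293247799005065324269566) = 273030912000000 := le_antisymm G_ub G_lb
theorem cardH : Nat.card (C1.gen R1 4094) = 239500800 := le_antisymm H_ub H_lb0
theorem cardH2 : Nat.card (C2.gen R2 4094) = 239500800 := le_antisymm H2_ub H2_lb0
theorem iso : Nonempty ((C1.gen R1 4094) ≃* (C2.gen R2 4094)) := by
  have h1 := D0_ub.trans H_lb0
  have h2 := D0_ub.trans H2_lb0
  rw [H_map] at h1 ⊢
  rw [H2_map] at h2 ⊢
  exact equiv_of_prod _ h1 h2
theorem alt : (C2.gen R2 4094) = alternatingGroup (Fin 12) := eq_alternating (by rw [cardH2]; decide)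
theorem main : ∃ G H : Subgroup (Matrix (Fin 133) (Fin 133) (ZMod 11))ˣ, H ≤ G ∧ IsSimpleGroup G ∧ Nat.card G = 273030912000000 ∧ Nat.card H = 239500800 ∧ Nonempty (H ≃* alternatingGroup (Fin 12)) :=
  ⟨_, _, (G_s4_2531.sub chk2545).gen_le, simple, cardG, cardH, alt ▸ iso⟩
end

end CfsgH6.HN
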