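import Cfsg.Agent.H6.HND1

set_option autoImplicit false
set_option maxRecDepth 100000
set_option linter.all false
set_option Elab.async false

namespace CfsgH6.HN

open CfsgH5 CfsgH6 Subgroup MulAction Pointwise

noncomputable section

theorem chk2 : band (allL l1 fun e => band (P.can (force (hd e) R1)) (band (Nat.ble 1 (tl e)) (Nat.beq (powC P.ops (force (hd e) R1) (tl e)) P.ops.one))) (subM 254 (insL l1 0)) = true := by decide +kernel
theorem chk5 : band (allL l4 fun e => band (P.can (force (hd e) R1)) (band (Nat.ble 1 (tl e)) (Nat.beq (powC P.ops (force (hd e) R1) (tl e)) P.ops.one))) (subM 3840 (insL l4 0)) = true := by decide +kernel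
theorem chk8 : Nat.beq (C2.code pm7) (R2 1) = true := by decide +kernel
theorem chk10 : Nat.beq (C2.code pm9) (R2 2) = true := by decide +kernel
theorem chk12 : Nat.beq (C2.code pm11) (R2 3) = true := by decide +kernel
theorem chk14 : Nat.beq (C2.code pm13) (R2 4) = true := by decide +kernel
theorem chk16 : Nat.beq (C2.code pm15) (R2 5) = true := by decide +kernel
theorem chk18 : Nat.beq (C2.code pm17) (R2 6) = true := by decide +kernel
theorem chk20 : Nat.beq (C2.code pm19) (R2 7) = true := by decide +kernel
theorem chk22 : Nat.beq (C2.code pm21) (R2 8) = true := by decide +kernel
theorem chk24 : Nat.beq (C2.code pm23) (R2 9) = true := by decide +kernel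
theorem chk26 : Nat.beq (C2.code pm25) (R2 10) = true := by decide +kernel
theorem chk28 : Nat.beq (C2.code pm27) (R2 11) = true := by decide +kernel
theorem chk30 : subM 512 4094 = true := by decide +kernel
theorem chk32 : band (conjB (prodOps 283024 P.ops (ops2 12)) R 0 9 l31) (subM 0 (insL l31 0)) = true := by decide +kernel
theorem chk33 : band (Nat.ble 1 2) (band (subW 0 0) (Nat.beq (powC (prodOps 283024 P.ops (ops2 12)) (R 9) 2) (evalW (prodOps 283024 P.ops (ops2 12)) R 0))) = true := by decide +kernel
theorem chk34 : subM 1536 4094 = true := by decide +kernel
theorem chk36 : band (conjB (prodOps 283024 P.ops (ops2 12)) R 512 10 l35) (subM 512 (insL l35 0)) = true := by decide +kernel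
theorem chk37 : band (Nat.ble 1 2) (band (subW 512 0) (Nat.beq (powC (prodOps 283024 P.ops (ops2 12)) (R 10) 2) (evalW (prodOps 283024 P.ops (ops2 12)) R 0))) = true := by decide +kernel
theorem chk38 : subM 3584 4094 = true := by decide +kernel
theorem chk40 : band (conjB (prodOps 283024 P.ops (ops2 12)) R 1536 11 l39) (subM 1536 (insL l39 0)) = true := by decide +kernel
theorem chk41 : band (Nat.ble 1 3) (band (subW 1536 0) (Nat.beq (powC (prodOps 283024 P.ops (ops2 12)) (R 11) 3) (evalW (prodOps 283024 P.ops (ops2 12)) R 0))) = true := by decide +kernel
theorem chk42 : subM 3840 4094 = true := by decide +kernel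
theorem chk44 : subM 256 3840 = true := by decide +kernel
theorem chk46 : band (slp (prodOps 283024 P.ops (ops2 12)) R l45 3584) (subM 4096 (insL l45 3584)) = true := by decide +kernel
theorem chk49 : subM 0 4096 = true := by decide +kernel
theorem chk50 : band (fixL (fun c v => (fun c v => (app2 12 13 4) ((fun x => x) c) v) (pr2 283024 c) v) (fun x => x) R [] pt48c) (subM 0 (insL [] 0)) = true := by decide +kernel
theorem chk56 : band (pieces (fun c v => (fun c v => (app2 12 13 4) ((fun x => x) c) v) (pr2 283024 c) v) (fun x => x) tab54 R 4096 [12] pt48c l55) (allL l55 fun p => subW 4096 p.2.1) = true := by decide +kernel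
theorem chk57 : cover 3 [0] (l55) 0 = true := by decide +kernel
theorem chk60 : band (conjB (prodOps 283024 P.ops (ops2 12)) R 3584 8 l59) (subM 4096 (insL l59 0)) = true := by decide +kernel
theorem chk61 : band (fixL (fun c v => (fun c v => (app2 12 13 4) ((fun x => x) c) v) (pr2 283024 c) v) (fun x => x) R [12] pt43c) (subM 4096 (insL [12] 0)) = true := by decide +kernel
theorem chk64 : band (slp (prodOps 283024 P.ops (ops2 12)) R l63 3584) (subM 8192 (insL l63 3584)) = true := by decide +kernel
theorem chk67 : subM 0 8192 = true := by decide +kernel
theorem chk68 : band (fixL (fun c v => (fun c v => (app2 12 13 4) ((fun x => x) c) v) (pr2 283024 c) v) (fun x => x) R [] pt66c) (subM 0 (insL [] 0)) = true := by decide +kernel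
theorem chk74 : band (pieces (fun c v => (fun c v => (app2 12 13 4) ((fun x => x) c) v) (pr2 283024 c) v) (fun x => x) tab72 R 8192 [13] pt66c l73) (allL l73 fun p => subW 8192 p.2.1) = true := by decide +kernel
theorem chk75 : cover 3 [0] (l73) 0 = true := by decide +kernel
theorem chk78 : band (conjA (prodOps 283024 P.ops (ops2 12)) R 3584 8 l77) (subM 8192 (insL l77 0)) = true := by decide +kernel
theorem chk80 : dcRel (prodOps 283024 P.ops (ops2 12)) R 3584 256 8 8 l79 = true := by decide +kernel
theorem chk85 : band (pieces (fun c v => (fun c v => (app2 12 13 4) ((fun x => x) c) v) (pr2 283024 c) v) (fun x => x) tab83 R 8192 [13] pt43c l84) (allL l84 fun p => subW 3584 p.2.1) = true := by decide +kernel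
theorem chk86 : cover 4 (List.map Prod.fst (l79)) (l84) 0 = true := by decide +kernel
theorem chk88 : allL (List.map Prod.fst (l79)) (subW 3584) = true := by decide +kernel
theorem chk89 : inDC (prodOps 283024 P.ops (ops2 12)) R 3584 256 (R 8) 0 8 = true := by decide +kernel
theorem chk90 : subM 3968 4094 = true := by decide +kernel
theorem chk92 : subM 128 3968 = true := by decide +kernel
theorem chk114 : band (slp (prodOps 283024 P.ops (ops2 12)) R l113 3840) (subM 49152 (insL l113 3840)) = true := by decide +kernel
theorem chk119 : band (slp (prodOps 283024 P.ops (ops2 12)) R l118 49152) (subM 114688 (insL l118 49152)) = true := by decide +kernel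
theorem chk121 : subM 65536 114688 = true := by decide +kernel
theorem chk122 : band (fixL (fun c v => (fun c v => (app2 12 13 4) ((fun x => x) c) v) (pr2 283024 c) v) (fun x => x) R [16] pt116c) (subM 65536 (insL [16] 0)) = true := by decide +kernel
theorem chk128 : band (pieces (fun c v => (fun c v => (app2 12 13 4) ((fun x => x) c) v) (pr2 283024 c) v) (fun x => x) tab126 R 114688 [14, 15, 16] pt116c l127) (allL l127 fun p => subW 114688 p.2.1) = true := by decide +kernel
theorem chk129 : cover 4 [0] (l127) 0 = true := by decide +kernel
theorem chk131 : subM 0 65536 = true := by decide +kernel
theorem chk132 : band (fixL (fun c v => (fun c v => (app2 12 13 4) ((fun x => x) c) v) (pr2 283024 c) v) (fun x => x) R [] pt117c) (subM 0 (insL [] 0)) = true := by decide +kernel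
theorem chk138 : band (pieces (fun c v => (fun c v => (app2 12 13 4) ((fun x => x) c) v) (pr2 283024 c) v) (fun x => x) tab136 R 65536 [16] pt117c l137) (allL l137 fun p => subW 65536 p.2.1) = true := by decide +kernel
theorem chk139 : cover 3 [0] (l137) 0 = true := by decide +kernel
theorem chk142 : band (conjB (prodOps 283024 P.ops (ops2 12)) R 3840 7 l141) (subM 49152 (insL l141 0)) = true := by decide +kernel
theorem chk143 : band (fixL (fun c v => (fun c v => (app2 12 13 4) ((fun x => x) c) v) (pr2 283024 c) v) (fun x => x) R [14, 15] pt91c) (subM 49152 (insL [14, 15] 0)) = true := by decide +kernel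
theorem chk158 : band (slp (prodOps 283024 P.ops (ops2 12)) R l157 3840) (subM 393216 (insL l157 3840)) = true := by decide +kernel
theorem chk163 : band (slp (prodOps 283024 P.ops (ops2 12)) R l162 393216) (subM 917504 (insL l162 393216)) = true := by decide +kernel
theorem chk165 : subM 524288 917504 = true := by decide +kernel
theorem chk166 : band (fixL (fun c v => (fun c v => (app2 12 13 4) ((fun x => x) c) v) (pr2 283024 c) v) (fun x => x) R [19] pt160c) (subM 524288 (insL [19] 0)) = true := by decide +kernel
theorem chk172 : band (pieces (fun c v => (fun c v => (app2 12 13 4) ((fun x => x) c) v) (pr2 283024 c) v) (fun x => x) tab170 R 917504 [17, 18, 19] pt160c l171) (allL l171 fun p => subW 917504 p.2.1) = true := by decide +kernel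
theorem chk173 : cover 4 [0] (l171) 0 = true := by decide +kernel
theorem chk175 : subM 0 524288 = true := by decide +kernel
theorem chk176 : band (fixL (fun c v => (fun c v => (app2 12 13 4) ((fun x => x) c) v) (pr2 283024 c) v) (fun x => x) R [] pt161c) (subM 0 (insL [] 0)) = true := by decide +kernel
theorem chk182 : band (pieces (fun c v => (fun c v => (app2 12 13 4) ((fun x => x) c) v) (pr2 283024 c) v) (fun x => x) tab180 R 524288 [19] pt161c l181) (allL l181 fun p => subW 524288 p.2.1) = true := by decide +kernel
theorem chk183 : cover 3 [0] (l181) 0 = true := by decide +kernel
theorem chk186 : band (conjA (prodOps 283024 P.ops (ops2 12)) R 3840 7 l185) (subM 393216 (insL l185 0)) = true := by decide +kernel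
theorem chk188 : dcRel (prodOps 283024 P.ops (ops2 12)) R 3840 128 7 7 l187 = true := by decide +kernel
theorem chk193 : band (pieces (fun c v => (fun c v => (app2 12 13 4) ((fun x => x) c) v) (pr2 283024 c) v) (fun x => x) tab191 R 917504 [17, 18, 19] pt91c l192) (allL l192 fun p => subW 3840 p.2.1) = true := by decide +kernel
theorem chk194 : cover 5 (List.map Prod.fst (l187)) (l192) 0 = true := by decide +kernel
theorem chk196 : allL (List.map Prod.fst (l187)) (subW 3840) = true := by decide +kernel
theorem chk197 : inDC (prodOps 283024 P.ops (ops2 12)) R 3840 128 (R 7) 0 7 = true := by decide +kernel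
theorem chk198 : subM 4032 4094 = true := by decide +kernel
theorem chk200 : subM 64 4032 = true := by decide +kernel
theorem chk214 : band (slp (prodOps 283024 P.ops (ops2 12)) R l213 3968) (subM 3145728 (insL l213 3968)) = true := by decide +kernel
theorem chk220 : band (slp (prodOps 283024 P.ops (ops2 12)) R l219 3145728) (subM 15728640 (insL l219 3145728)) = true := by decide +kernel
theorem chk222 : subM 12582912 15728640 = true := by decide +kernel
theorem chk223 : band (fixL (fun c v => (fun c v => (app2 12 13 4) ((fun x => x) c) v) (pr2 283024 c) v) (fun x => x) R [22, 23] pt216c) (subM 12582912 (insL [22, 23] 0)) = true := by decide +kernel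
theorem chk229 : band (pieces (fun c v => (fun c v => (app2 12 13 4) ((fun x => x) c) v) (pr2 283024 c) v) (fun x => x) tab227 R 15728640 [20, 21, 22, 23] pt216c l228) (allL l228 fun p => subW 15728640 p.2.1) = true := by decide +kernel
theorem chk230 : cover 5 [0] (l228) 0 = true := by decide +kernel
theorem chk232 : subM 8388608 12582912 = true := by decide +kernel
theorem chk233 : band (fixL (fun c v => (fun c v => (app2 12 13 4) ((fun x => x) c) v) (pr2 283024 c) v) (fun x => x) R [23] pt217c) (subM 8388608 (insL [23] 0)) = true := by decide +kernel
theorem chk239 : band (pieces (fun c v => (fun c v => (app2 12 13 4) ((fun x => x) c) v) (pr2 283024 c) v) (fun x => x) tab237 R 12582912 [22, 23] pt217c l238) (allL l238 fun p => subW 12582912 p.2.1) = true := by decide +kernel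
theorem chk240 : cover 4 [0] (l238) 0 = true := by decide +kernel
theorem chk242 : subM 0 8388608 = true := by decide +kernel
theorem chk243 : band (fixL (fun c v => (fun c v => (app2 12 13 4) ((fun x => x) c) v) (pr2 283024 c) v) (fun x => x) R [] pt218c) (subM 0 (insL [] 0)) = true := by decide +kernel
theorem chk249 : band (pieces (fun c v => (fun c v => (app2 12 13 4) ((fun x => x) c) v) (pr2 283024 c) v) (fun x => x) tab247 R 8388608 [23] pt218c l248) (allL l248 fun p => subW 8388608 p.2.1) = true := by decide +kernel
theorem chk250 : cover 3 [0] (l248) 0 = true := by decide +kernel
theorem chk253 : band (conjB (prodOps 283024 P.ops (ops2 12)) R 3968 6 l252) (subM 3145728 (insL l252 0)) = true := by decide +kernel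
theorem chk254 : band (fixL (fun c v => (fun c v => (app2 12 13 4) ((fun x => x) c) v) (pr2 283024 c) v) (fun x => x) R [20, 21] pt199c) (subM 3145728 (insL [20, 21] 0)) = true := by decide +kernel
theorem chk269 : band (slp (prodOps 283024 P.ops (ops2 12)) R l268 3968) (subM 50331648 (insL l268 3968)) = true := by decide +kernel
theorem chk275 : band (slp (prodOps 283024 P.ops (ops2 12)) R l274 50331648) (subM 520093696 (insL l274 50331648)) = true := by decide +kernel
theorem chk277 : subM 469762048 520093696 = true := by decide +kernel
theorem chk278 : band (fixL (fun c v => (fun c v => (app2 12 13 4) ((fun x => x) c) v) (pr2 283024 c) v) (fun x => x) R [26, 27, 28] pt271c) (subM 469762048 (insL [26, 27, 28] 0)) = true := by decide +kernel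
theorem chk284 : band (pieces (fun c v => (fun c v => (app2 12 13 4) ((fun x => x) c) v) (pr2 283024 c) v) (fun x => x) tab282 R 520093696 [24, 25, 26, 27, 28] pt271c l283) (allL l283 fun p => subW 520093696 p.2.1) = true := by decide +kernel
theorem chk285 : cover 5 [0] (l283) 0 = true := by decide +kernel
theorem chk287 : subM 268435456 469762048 = true := by decide +kernel
theorem chk288 : band (fixL (fun c v => (fun c v => (app2 12 13 4) ((fun x => x) c) v) (pr2 283024 c) v) (fun x => x) R [28] pt272c) (subM 268435456 (insL [28] 0)) = true := by decide +kernel
theorem chk294 : band (pieces (fun c v => (fun c v => (app2 12 13 4) ((fun x => x) c) v) (pr2 283024 c) v) (fun x => x) tab292 R 469762048 [26, 27, 28] pt272c l293) (allL l293 fun p => subW 469762048 p.2.1) = true := by decide +kernel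
theorem chk295 : cover 4 [0] (l293) 0 = true := by decide +kernel
theorem chk297 : subM 0 268435456 = true := by decide +kernel
theorem chk298 : band (fixL (fun c v => (fun c v => (app2 12 13 4) ((fun x => x) c) v) (pr2 283024 c) v) (fun x => x) R [] pt273c) (subM 0 (insL [] 0)) = true := by decide +kernel
theorem chk304 : band (pieces (fun c v => (fun c v => (app2 12 13 4) ((fun x => x) c) v) (pr2 283024 c) v) (fun x => x) tab302 R 268435456 [28] pt273c l303) (allL l303 fun p => subW 268435456 p.2.1) = true := by decide +kernel
theorem chk305 : cover 3 [0] (l303) 0 = true := by decide +kernel
theorem chk308 : band (conjA (prodOps 283024 P.ops (ops2 12)) R 3968 6 l307) (subM 50331648 (insL l307 0)) = true := by decide +kernel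
theorem chk310 : dcRel (prodOps 283024 P.ops (ops2 12)) R 3968 64 6 6 l309 = true := by decide +kernel
theorem chk315 : band (pieces (fun c v => (fun c v => (app2 12 13 4) ((fun x => x) c) v) (pr2 283024 c) v) (fun x => x) tab313 R 520093696 [24, 25, 26, 27, 28] pt199c l314) (allL l314 fun p => subW 3968 p.2.1) = true := by decide +kernel
theorem chk316 : cover 6 (List.map Prod.fst (l309)) (l314) 0 = true := by decide +kernel
theorem chk318 : allL (List.map Prod.fst (l309)) (subW 3968) = true := by decide +kernel
theorem chk319 : inDC (prodOps 283024 P.ops (ops2 12)) R 3968 64 (R 6) 0 6 = true := by decide +kernel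
theorem chk320 : subM 4064 4094 = true := by decide +kernel
theorem chk323 : band (slp (prodOps 283024 P.ops (ops2 12)) R l322 4032) (subM 536874944 (insL l322 4032)) = true := by decide +kernel
theorem chk325 : subM 4032 4064 = true := by decide +kernel
theorem chk326 : subM 536874976 (Nat.lor 4064 536874944) = true := by decide +kernel
theorem chk327 : subM 32 536874976 = true := by decide +kernel
theorem chk347 : band (slp (prodOps 283024 P.ops (ops2 12)) R l346 536874944) (subM 3221225472 (insL l346 536874944)) = true := by decide +kernel
theorem chk354 : band (slp (prodOps 283024 P.ops (ops2 12)) R l353 3221225472) (subM 33285996544 (insL l353 3221225472)) = true := by decide +kernel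
theorem chk356 : subM 30064771072 33285996544 = true := by decide +kernel
theorem chk357 : band (fixL (fun c v => (fun c v => (app2 12 13 4) ((fun x => x) c) v) (pr2 283024 c) v) (fun x => x) R [32, 33, 34] pt349c) (subM 30064771072 (insL [32, 33, 34] 0)) = true := by decide +kernel
theorem chk363 : band (pieces (fun c v => (fun c v => (app2 12 13 4) ((fun x => x) c) v) (pr2 283024 c) v) (fun x => x) tab361 R 33285996544 [30, 31, 32, 33, 34] pt349c l362) (allL l362 fun p => subW 33285996544 p.2.1) = true := by decide +kernel
theorem chk364 : cover 6 [0] (l362) 0 = true := by decide +kernel
theorem chk366 : subM 25769803776 30064771072 = true := by decide +kernel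
theorem chk367 : band (fixL (fun c v => (fun c v => (app2 12 13 4) ((fun x => x) c) v) (pr2 283024 c) v) (fun x => x) R [33, 34] pt350c) (subM 25769803776 (insL [33, 34] 0)) = true := by decide +kernel
theorem chk373 : band (pieces (fun c v => (fun c v => (app2 12 13 4) ((fun x => x) c) v) (pr2 283024 c) v) (fun x => x) tab371 R 30064771072 [32, 33, 34] pt350c l372) (allL l372 fun p => subW 30064771072 p.2.1) = true := by decide +kernel
theorem chk374 : cover 5 [0] (l372) 0 = true := by decide +kernel
theorem chk376 : subM 17179869184 25769803776 = true := by decide +kernel
theorem chk377 : band (fixL (fun c v => (fun c v => (app2 12 13 4) ((fun x => x) c) v) (pr2 283024 c) v) (fun x => x) R [34] pt351c) (subM 17179869184 (insL [34] 0)) = true := by decide +kernel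
theorem chk383 : band (pieces (fun c v => (fun c v => (app2 12 13 4) ((fun x => x) c) v) (pr2 283024 c) v) (fun x => x) tab381 R 25769803776 [33, 34] pt351c l382) (allL l382 fun p => subW 25769803776 p.2.1) = true := by decide +kernel
theorem chk384 : cover 4 [0] (l382) 0 = true := by decide +kernel
theorem chk386 : subM 0 17179869184 = true := by decide +kernel
theorem chk387 : band (fixL (fun c v => (fun c v => (app2 12 13 4) ((fun x => x) c) v) (pr2 283024 c) v) (fun x => x) R [] pt352c) (subM 0 (insL [] 0)) = true := by decide +kernel
theorem chk393 : band (pieces (fun c v => (fun c v => (app2 12 13 4) ((fun x => x) c) v) (pr2 283024 c) v) (fun x => x) tab391 R 17179869184 [34] pt352c l392) (allL l392 fun p => subW 17179869184 p.2.1) = true := by decide +kernel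
theorem chk394 : cover 3 [0] (l392) 0 = true := by decide +kernel
theorem chk397 : band (conjB (prodOps 283024 P.ops (ops2 12)) R 536874944 5 l396) (subM 3221225472 (insL l396 0)) = true := by decide +kernel
theorem chk398 : band (fixL (fun c v => (fun c v => (app2 12 13 4) ((fun x => x) c) v) (pr2 283024 c) v) (fun x => x) R [30, 31] pt321c) (subM 3221225472 (insL [30, 31] 0)) = true := by decide +kernel
theorem chk418 : band (slp (prodOps 283024 P.ops (ops2 12)) R l417 536874944) (subM 103079215104 (insL l417 536874944)) = true := by decide +kernel
theorem chk425 : band (slp (prodOps 283024 P.ops (ops2 12)) R l424 103079215104) (subM 1065151889408 (insL l424 103079215104)) = true := by decide +kernel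
theorem chk427 : subM 962072674304 1065151889408 = true := by decide +kernel
theorem chk428 : band (fixL (fun c v => (fun c v => (app2 12 13 4) ((fun x => x) c) v) (pr2 283024 c) v) (fun x => x) R [37, 38, 39] pt420c) (subM 962072674304 (insL [37, 38, 39] 0)) = true := by decide +kernel
theorem chk434 : band (pieces (fun c v => (fun c v => (app2 12 13 4) ((fun x => x) c) v) (pr2 283024 c) v) (fun x => x) tab432 R 1065151889408 [35, 36, 37, 38, 39] pt420c l433) (allL l433 fun p => subW 1065151889408 p.2.1) = true := by decide +kernel
theorem chk435 : cover 6 [0] (l433) 0 = true := by decide +kernel
theorem chk437 : subM 824633720832 962072674304 = true := by decide +kernel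
theorem chk438 : band (fixL (fun c v => (fun c v => (app2 12 13 4) ((fun x => x) c) v) (pr2 283024 c) v) (fun x => x) R [38, 39] pt421c) (subM 824633720832 (insL [38, 39] 0)) = true := by decide +kernel
theorem chk444 : band (pieces (fun c v => (fun c v => (app2 12 13 4) ((fun x => x) c) v) (pr2 283024 c) v) (fun x => x) tab442 R 962072674304 [37, 38, 39] pt421c l443) (allL l443 fun p => subW 962072674304 p.2.1) = true := by decide +kernel
theorem chk445 : cover 5 [0] (l443) 0 = true := by decide +kernel
theorem chk447 : subM 549755813888 824633720832 = true := by decide +kernel
theorem chk448 : band (fixL (fun c v => (fun c v => (app2 12 13 4) ((fun x => x) c) v) (pr2 283024 c) v) (fun x => x) R [39] pt422c) (subM 549755813888 (insL [39] 0)) = true := by decide +kernel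
theorem chk454 : band (pieces (fun c v => (fun c v => (app2 12 13 4) ((fun x => x) c) v) (pr2 283024 c) v) (fun x => x) tab452 R 824633720832 [38, 39] pt422c l453) (allL l453 fun p => subW 824633720832 p.2.1) = true := by decide +kernel
theorem chk455 : cover 4 [0] (l453) 0 = true := by decide +kernel
theorem chk457 : subM 0 549755813888 = true := by decide +kernel
theorem chk458 : band (fixL (fun c v => (fun c v => (app2 12 13 4) ((fun x => x) c) v) (pr2 283024 c) v) (fun x => x) R [] pt423c) (subM 0 (insL [] 0)) = true := by decide +kernel
theorem chk464 : band (pieces (fun c v => (fun c v => (app2 12 13 4) ((fun x => x) c) v) (pr2 283024 c) v) (fun x => x) tab462 R 549755813888 [39] pt423c l463) (allL l463 fun p => subW 549755813888 p.2.1) = true := by decide +kernel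
theorem chk465 : cover 3 [0] (l463) 0 = true := by decide +kernel
theorem chk468 : band (conjA (prodOps 283024 P.ops (ops2 12)) R 536874944 5 l467) (subM 103079215104 (insL l467 0)) = true := by decide +kernel
theorem chk470 : dcRel (prodOps 283024 P.ops (ops2 12)) R 536874944 32 5 5 l469 = true := by decide +kernel
theorem chk475 : band (pieces (fun c v => (fun c v => (app2 12 13 4) ((fun x => x) c) v) (pr2 283024 c) v) (fun x => x) tab473 R 1065151889408 [35, 36, 37, 38, 39] pt321c l474) (allL l474 fun p => subW 536874944 p.2.1) = true := by decide +kernel
theorem chk476 : cover 7 (List.map Prod.fst (l469)) (l474) 0 = true := by decide +kernel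
theorem chk478 : allL (List.map Prod.fst (l469)) (subW 536874944) = true := by decide +kernel
theorem chk479 : inDC (prodOps 283024 P.ops (ops2 12)) R 536874944 32 (R 5) 0 5 = true := by decide +kernel
theorem chk480 : subM 4080 4094 = true := by decide +kernel
theorem chk482 : subM 4064 4080 = true := by decide +kernel
theorem chk483 : subM 536874992 (Nat.lor 4080 536874976) = true := by decide +kernel
theorem chk484 : subM 16 536874992 = true := by decide +kernel
theorem chk486 : band (slp (prodOps 283024 P.ops (ops2 12)) R l485 536874976) (subM 3298534883328 (insL l485 536874976)) = true := by decide +kernel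
theorem chk494 : band (slp (prodOps 283024 P.ops (ops2 12)) R l493 3298534883328) (subM 139637976727552 (insL l493 3298534883328)) = true := by decide +kernel
theorem chk496 : subM 136339441844224 139637976727552 = true := by decide +kernel
theorem chk497 : band (fixL (fun c v => (fun c v => (app2 12 13 4) ((fun x => x) c) v) (pr2 283024 c) v) (fun x => x) R [42, 43, 44, 45, 46] pt488c) (subM 136339441844224 (insL [42, 43, 44, 45, 46] 0)) = true := by decide +kernel
theorem chk503 : band (pieces (fun c v => (fun c v => (app2 12 13 4) ((fun x => x) c) v) (pr2 283024 c) v) (fun x => x) tab501 R 139637976727552 [40, 41, 42, 43, 44, 45, 46] pt488c l502) (allL l502 fun p => subW 139637976727552 p.2.1) = true := by decide +kernel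
theorem chk504 : cover 7 [0] (l502) 0 = true := by decide +kernel
theorem chk506 : subM 131941395333120 136339441844224 = true := by decide +kernel
theorem chk507 : band (fixL (fun c v => (fun c v => (app2 12 13 4) ((fun x => x) c) v) (pr2 283024 c) v) (fun x => x) R [43, 44, 45, 46] pt489c) (subM 131941395333120 (insL [43, 44, 45, 46] 0)) = true := by decide +kernel
theorem chk513 : band (pieces (fun c v => (fun c v => (app2 12 13 4) ((fun x => x) c) v) (pr2 283024 c) v) (fun x => x) tab511 R 136339441844224 [42, 43, 44, 45, 46] pt489c l512) (allL l512 fun p => subW 136339441844224 p.2.1) = true := by decide +kernel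
theorem chk514 : cover 6 [0] (l512) 0 = true := by decide +kernel
theorem chk516 : subM 123145302310912 131941395333120 = true := by decide +kernel
theorem chk517 : band (fixL (fun c v => (fun c v => (app2 12 13 4) ((fun x => x) c) v) (pr2 283024 c) v) (fun x => x) R [44, 45, 46] pt490c) (subM 123145302310912 (insL [44, 45, 46] 0)) = true := by decide +kernel
theorem chk523 : band (pieces (fun c v => (fun c v => (app2 12 13 4) ((fun x => x) c) v) (pr2 283024 c) v) (fun x => x) tab521 R 131941395333120 [43, 44, 45, 46] pt490c l522) (allL l522 fun p => subW 131941395333120 p.2.1) = true := by decide +kernel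
theorem chk524 : cover 5 [0] (l522) 0 = true := by decide +kernel
theorem chk526 : subM 70368744177664 123145302310912 = true := by decide +kernel
theorem chk527 : band (fixL (fun c v => (fun c v => (app2 12 13 4) ((fun x => x) c) v) (pr2 283024 c) v) (fun x => x) R [46] pt491c) (subM 70368744177664 (insL [46] 0)) = true := by decide +kernel
theorem chk533 : band (pieces (fun c v => (fun c v => (app2 12 13 4) ((fun x => x) c) v) (pr2 283024 c) v) (fun x => x) tab531 R 123145302310912 [44, 45, 46] pt491c l532) (allL l532 fun p => subW 123145302310912 p.2.1) = true := by decide +kernel
theorem chk534 : cover 4 [0] (l532) 0 = true := by decide +kernel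
theorem chk536 : subM 0 70368744177664 = true := by decide +kernel
theorem chk537 : band (fixL (fun c v => (fun c v => (app2 12 13 4) ((fun x => x) c) v) (pr2 283024 c) v) (fun x => x) R [] pt492c) (subM 0 (insL [] 0)) = true := by decide +kernel
theorem chk543 : band (pieces (fun c v => (fun c v => (app2 12 13 4) ((fun x => x) c) v) (pr2 283024 c) v) (fun x => x) tab541 R 70368744177664 [46] pt492c l542) (allL l542 fun p => subW 70368744177664 p.2.1) = true := by decide +kernel
theorem chk544 : cover 3 [0] (l542) 0 = true := by decide +kernel
theorem chk547 : band (conjB (prodOps 283024 P.ops (ops2 12)) R 536874976 4 l546) (subM 3298534883328 (insL l546 0)) = true := by decide +kernel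
theorem chk548 : band (fixL (fun c v => (fun c v => (app2 12 13 4) ((fun x => x) c) v) (pr2 283024 c) v) (fun x => x) R [40, 41] pt481c) (subM 3298534883328 (insL [40, 41] 0)) = true := by decide +kernel
theorem chk551 : band (slp (prodOps 283024 P.ops (ops2 12)) R l550 536874976) (subM 422212465065984 (insL l550 536874976)) = true := by decide +kernel
theorem chk559 : band (slp (prodOps 283024 P.ops (ops2 12)) R l558 422212465065984) (subM 17873661021126656 (insL l558 422212465065984)) = true := by decide +kernel
theorem chk561 : subM 17451448556060672 17873661021126656 = true := by decide +kernel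
theorem chk562 : band (fixL (fun c v => (fun c v => (app2 12 13 4) ((fun x => x) c) v) (pr2 283024 c) v) (fun x => x) R [49, 50, 51, 52, 53] pt553c) (subM 17451448556060672 (insL [49, 50, 51, 52, 53] 0)) = true := by decide +kernel
theorem chk568 : band (pieces (fun c v => (fun c v => (app2 12 13 4) ((fun x => x) c) v) (pr2 283024 c) v) (fun x => x) tab566 R 17873661021126656 [47, 48, 49, 50, 51, 52, 53] pt553c l567) (allL l567 fun p => subW 17873661021126656 p.2.1) = true := by decide +kernel
theorem chk569 : cover 7 [0] (l567) 0 = true := by decide +kernel
theorem chk571 : subM 15762598695796736 17451448556060672 = true := by decide +kernel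
theorem chk572 : band (fixL (fun c v => (fun c v => (app2 12 13 4) ((fun x => x) c) v) (pr2 283024 c) v) (fun x => x) R [51, 52, 53] pt554c) (subM 15762598695796736 (insL [51, 52, 53] 0)) = true := by decide +kernel
theorem chk578 : band (pieces (fun c v => (fun c v => (app2 12 13 4) ((fun x => x) c) v) (pr2 283024 c) v) (fun x => x) tab576 R 17451448556060672 [49, 50, 51, 52, 53] pt554c l577) (allL l577 fun p => subW 17451448556060672 p.2.1) = true := by decide +kernel
theorem chk579 : cover 6 [0] (l577) 0 = true := by decide +kernel
theorem chk581 : subM 13510798882111488 15762598695796736 = true := by decide +kernel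
theorem chk582 : band (fixL (fun c v => (fun c v => (app2 12 13 4) ((fun x => x) c) v) (pr2 283024 c) v) (fun x => x) R [52, 53] pt555c) (subM 13510798882111488 (insL [52, 53] 0)) = true := by decide +kernel
theorem chk588 : band (pieces (fun c v => (fun c v => (app2 12 13 4) ((fun x => x) c) v) (pr2 283024 c) v) (fun x => x) tab586 R 15762598695796736 [51, 52, 53] pt555c l587) (allL l587 fun p => subW 15762598695796736 p.2.1) = true := by decide +kernel
theorem chk589 : cover 5 [0] (l587) 0 = true := by decide +kernel
theorem chk591 : subM 9007199254740992 13510798882111488 = true := by decide +kernel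
theorem chk592 : band (fixL (fun c v => (fun c v => (app2 12 13 4) ((fun x => x) c) v) (pr2 283024 c) v) (fun x => x) R [53] pt556c) (subM 9007199254740992 (insL [53] 0)) = true := by decide +kernel
theorem chk598 : band (pieces (fun c v => (fun c v => (app2 12 13 4) ((fun x => x) c) v) (pr2 283024 c) v) (fun x => x) tab596 R 13510798882111488 [52, 53] pt556c l597) (allL l597 fun p => subW 13510798882111488 p.2.1) = true := by decide +kernel
theorem chk599 : cover 4 [0] (l597) 0 = true := by decide +kernel
theorem chk601 : subM 0 9007199254740992 = true := by decide +kernel
theorem chk602 : band (fixL (fun c v => (fun c v => (app2 12 13 4) ((fun x => x) c) v) (pr2 283024 c) v) (fun x => x) R [] pt557c) (subM 0 (insL [] 0)) = true := by decide +kernel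
theorem chk608 : band (pieces (fun c v => (fun c v => (app2 12 13 4) ((fun x => x) c) v) (pr2 283024 c) v) (fun x => x) tab606 R 9007199254740992 [53] pt557c l607) (allL l607 fun p => subW 9007199254740992 p.2.1) = true := by decide +kernel
theorem chk609 : cover 3 [0] (l607) 0 = true := by decide +kernel
theorem chk612 : band (conjA (prodOps 283024 P.ops (ops2 12)) R 536874976 4 l611) (subM 422212465065984 (insL l611 0)) = true := by decide +kernel
theorem chk614 : dcRel (prodOps 283024 P.ops (ops2 12)) R 536874976 16 4 4 l613 = true := by decide +kernel
theorem chk619 : band (pieces (fun c v => (fun c v => (app2 12 13 4) ((fun x => x) c) v) (pr2 283024 c) v) (fun x => x) tab617 R 17873661021126656 [47, 48, 49, 50, 51, 52, 53] pt481c l618) (allL l618 fun p => subW 536874976 p.2.1) = true := by decide +kernel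
theorem chk620 : cover 8 (List.map Prod.fst (l613)) (l618) 0 = true := by decide +kernel
theorem chk622 : allL (List.map Prod.fst (l613)) (subW 536874976) = true := by decide +kernel
theorem chk623 : inDC (prodOps 283024 P.ops (ops2 12)) R 536874976 16 (R 4) 0 4 = true := by decide +kernel
theorem chk624 : subM 4088 4094 = true := by decide +kernel
theorem chk626 : subM 4080 4088 = true := by decide +kernel
theorem chk627 : subM 536875000 (Nat.lor 4088 536874992) = true := by decide +kernel
theorem chk628 : subM 8 536875000 = true := by decide +kernel
theorem chk654 : band (slp (prodOps 283024 P.ops (ops2 12)) R l653 536874992) (subM 54043195528445952 (insL l653 536874992)) = true := by decide +kernel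
theorem chk663 : band (slp (prodOps 283024 P.ops (ops2 12)) R l662 54043195528445952) (subM 18428729675200069632 (insL l662 54043195528445952)) = true := by decide +kernel
theorem chk665 : subM 18374686479671623680 18428729675200069632 = true := by decide +kernel
theorem chk666 : band (fixL (fun c v => (fun c v => (app2 12 13 4) ((fun x => x) c) v) (pr2 283024 c) v) (fun x => x) R [56, 57, 58, 59, 60, 61, 62, 63] pt656c) (subM 18374686479671623680 (insL [56, 57, 58, 59, 60, 61, 62, 63] 0)) = true := by decide +kernel
theorem chk672 : band (pieces (fun c v => (fun c v => (app2 12 13 4) ((fun x => x) c) v) (pr2 283024 c) v) (fun x => x) tab670 R 18428729675200069632 [54, 55, 56, 57, 58, 59, 60, 61, 62, 63] pt656c l671) (allL l671 fun p => subW 18428729675200069632 p.2.1) = true := by decide +kernel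
theorem chk673 : cover 8 [0] (l671) 0 = true := by decide +kernel
theorem chk675 : subM 18158513697557839872 18374686479671623680 = true := by decide +kernel
theorem chk676 : band (fixL (fun c v => (fun c v => (app2 12 13 4) ((fun x => x) c) v) (pr2 283024 c) v) (fun x => x) R [58, 59, 60, 61, 62, 63] pt657c) (subM 18158513697557839872 (insL [58, 59, 60, 61, 62, 63] 0)) = true := by decide +kernel
theorem chk682 : band (pieces (fun c v => (fun c v => (app2 12 13 4) ((fun x => x) c) v) (pr2 283024 c) v) (fun x => x) tab680 R 18374686479671623680 [56, 57, 58, 59, 60, 61, 62, 63] pt657c l681) (allL l681 fun p => subW 18374686479671623680 p.2.1) = true := by decide +kernel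
theorem chk683 : cover 7 [0] (l681) 0 = true := by decide +kernel
theorem chk685 : subM 17293822569102704640 18158513697557839872 = true := by decide +kernel
theorem chk686 : band (fixL (fun c v => (fun c v => (app2 12 13 4) ((fun x => x) c) v) (pr2 283024 c) v) (fun x => x) R [60, 61, 62, 63] pt658c) (subM 17293822569102704640 (insL [60, 61, 62, 63] 0)) = true := by decide +kernel
theorem chk692 : band (pieces (fun c v => (fun c v => (app2 12 13 4) ((fun x => x) c) v) (pr2 283024 c) v) (fun x => x) tab690 R 18158513697557839872 [58, 59, 60, 61, 62, 63] pt658c l691) (allL l691 fun p => subW 18158513697557839872 p.2.1) = true := by decide +kernel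
theorem chk693 : cover 6 [0] (l691) 0 = true := by decide +kernel
theorem chk695 : subM 13835058055282163712 17293822569102704640 = true := by decide +kernel
theorem chk696 : band (fixL (fun c v => (fun c v => (app2 12 13 4) ((fun x => x) c) v) (pr2 283024 c) v) (fun x => x) R [62, 63] pt659c) (subM 13835058055282163712 (insL [62, 63] 0)) = true := by decide +kernel
theorem chk702 : band (pieces (fun c v => (fun c v => (app2 12 13 4) ((fun x => x) c) v) (pr2 283024 c) v) (fun x => x) tab700 R 17293822569102704640 [60, 61, 62, 63] pt659c l701) (allL l701 fun p => subW 17293822569102704640 p.2.1) = true := by decide +kernel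
theorem chk703 : cover 5 [0] (l701) 0 = true := by decide +kernel
theorem chk705 : subM 9223372036854775808 13835058055282163712 = true := by decide +kernel
theorem chk706 : band (fixL (fun c v => (fun c v => (app2 12 13 4) ((fun x => x) c) v) (pr2 283024 c) v) (fun x => x) R [63] pt660c) (subM 9223372036854775808 (insL [63] 0)) = true := by decide +kernel
theorem chk712 : band (pieces (fun c v => (fun c v => (app2 12 13 4) ((fun x => x) c) v) (pr2 283024 c) v) (fun x => x) tab710 R 13835058055282163712 [62, 63] pt660c l711) (allL l711 fun p => subW 13835058055282163712 p.2.1) = true := by decide +kernel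
theorem chk713 : cover 4 [0] (l711) 0 = true := by decide +kernel
theorem chk715 : subM 0 9223372036854775808 = true := by decide +kernel
theorem chk716 : band (fixL (fun c v => (fun c v => (app2 12 13 4) ((fun x => x) c) v) (pr2 283024 c) v) (fun x => x) R [] pt661c) (subM 0 (insL [] 0)) = true := by decide +kernel
theorem chk722 : band (pieces (fun c v => (fun c v => (app2 12 13 4) ((fun x => x) c) v) (pr2 283024 c) v) (fun x => x) tab720 R 9223372036854775808 [63] pt661c l721) (allL l721 fun p => subW 9223372036854775808 p.2.1) = true := by decide +kernel
theorem chk723 : cover 3 [0] (l721) 0 = true := by decide +kernel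
theorem chk726 : band (conjB (prodOps 283024 P.ops (ops2 12)) R 536874992 3 l725) (subM 54043195528445952 (insL l725 0)) = true := by decide +kernel
theorem chk727 : band (fixL (fun c v => (fun c v => (app2 12 13 4) ((fun x => x) c) v) (pr2 283024 c) v) (fun x => x) R [54, 55] pt625c) (subM 54043195528445952 (insL [54, 55] 0)) = true := by decide +kernel
theorem chk730 : band (slp (prodOps 283024 P.ops (ops2 12)) R l729 536874992) (subM 55340232221128654848 (insL l729 536874992)) = true := by decide +kernel
theorem chk739 : band (slp (prodOps 283024 P.ops (ops2 12)) R l738 55340232221128654848) (subM 4703919738795935662080 (insL l738 55340232221128654848)) = true := by decide +kernel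
theorem chk741 : subM 4648579506574807007232 4703919738795935662080 = true := by decide +kernel
theorem chk742 : band (fixL (fun c v => (fun c v => (app2 12 13 4) ((fun x => x) c) v) (pr2 283024 c) v) (fun x => x) R [66, 67, 68, 69, 70, 71] pt732c) (subM 4648579506574807007232 (insL [66, 67, 68, 69, 70, 71] 0)) = true := by decide +kernel
theorem chk748 : band (pieces (fun c v => (fun c v => (app2 12 13 4) ((fun x => x) c) v) (pr2 283024 c) v) (fun x => x) tab746 R 4703919738795935662080 [64, 65, 66, 67, 68, 69, 70, 71] pt732c l747) (allL l747 fun p => subW 4703919738795935662080 p.2.1) = true := by decide +kernel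
theorem chk749 : cover 8 [0] (l747) 0 = true := by decide +kernel
theorem chk751 : subM 4279644625100615974912 4648579506574807007232 = true := by decide +kernel
theorem chk752 : band (fixL (fun c v => (fun c v => (app2 12 13 4) ((fun x => x) c) v) (pr2 283024 c) v) (fun x => x) R [67, 69, 70, 71] pt733c) (subM 4279644625100615974912 (insL [67, 69, 70, 71] 0)) = true := by decide +kernel
theorem chk758 : band (pieces (fun c v => (fun c v => (app2 12 13 4) ((fun x => x) c) v) (pr2 283024 c) v) (fun x => x) tab756 R 4648579506574807007232 [66, 67, 68, 69, 70, 71] pt733c l757) (allL l757 fun p => subW 4648579506574807007232 p.2.1) = true := by decide +kernel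
theorem chk759 : cover 7 [0] (l757) 0 = true := by decide +kernel
theorem chk761 : subM 4132070672510939561984 4279644625100615974912 = true := by decide +kernel
theorem chk762 : band (fixL (fun c v => (fun c v => (app2 12 13 4) ((fun x => x) c) v) (pr2 283024 c) v) (fun x => x) R [69, 70, 71] pt734c) (subM 4132070672510939561984 (insL [69, 70, 71] 0)) = true := by decide +kernel
theorem chk768 : band (pieces (fun c v => (fun c v => (app2 12 13 4) ((fun x => x) c) v) (pr2 283024 c) v) (fun x => x) tab766 R 4279644625100615974912 [67, 69, 70, 71] pt734c l767) (allL l767 fun p => subW 4279644625100615974912 p.2.1) = true := by decide +kernel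
theorem chk769 : cover 6 [0] (l767) 0 = true := by decide +kernel
theorem chk771 : subM 3541774862152233910272 4132070672510939561984 = true := by decide +kernel
theorem chk772 : band (fixL (fun c v => (fun c v => (app2 12 13 4) ((fun x => x) c) v) (pr2 283024 c) v) (fun x => x) R [70, 71] pt735c) (subM 3541774862152233910272 (insL [70, 71] 0)) = true := by decide +kernel
theorem chk778 : band (pieces (fun c v => (fun c v => (app2 12 13 4) ((fun x => x) c) v) (pr2 283024 c) v) (fun x => x) tab776 R 4132070672510939561984 [69, 70, 71] pt735c l777) (allL l777 fun p => subW 4132070672510939561984 p.2.1) = true := by decide +kernel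
theorem chk779 : cover 5 [0] (l777) 0 = true := by decide +kernel
theorem chk781 : subM 2361183241434822606848 3541774862152233910272 = true := by decide +kernel
theorem chk782 : band (fixL (fun c v => (fun c v => (app2 12 13 4) ((fun x => x) c) v) (pr2 283024 c) v) (fun x => x) R [71] pt736c) (subM 2361183241434822606848 (insL [71] 0)) = true := by decide +kernel
theorem chk788 : band (pieces (fun c v => (fun c v => (app2 12 13 4) ((fun x => x) c) v) (pr2 283024 c) v) (fun x => x) tab786 R 3541774862152233910272 [70, 71] pt736c l787) (allL l787 fun p => subW 3541774862152233910272 p.2.1) = true := by decide +kernel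
theorem chk789 : cover 4 [0] (l787) 0 = true := by decide +kernel
theorem chk791 : subM 0 2361183241434822606848 = true := by decide +kernel
theorem chk792 : band (fixL (fun c v => (fun c v => (app2 12 13 4) ((fun x => x) c) v) (pr2 283024 c) v) (fun x => x) R [] pt737c) (subM 0 (insL [] 0)) = true := by decide +kernel
theorem chk798 : band (pieces (fun c v => (fun c v => (app2 12 13 4) ((fun x => x) c) v) (pr2 283024 c) v) (fun x => x) tab796 R 2361183241434822606848 [71] pt737c l797) (allL l797 fun p => subW 2361183241434822606848 p.2.1) = true := by decide +kernel
theorem chk799 : cover 3 [0] (l797) 0 = true := by decide +kernel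
theorem chk802 : band (conjA (prodOps 283024 P.ops (ops2 12)) R 536874992 3 l801) (subM 55340232221128654848 (insL l801 0)) = true := by decide +kernel
theorem chk804 : dcRel (prodOps 283024 P.ops (ops2 12)) R 536874992 8 3 3 l803 = true := by decide +kernel
theorem chk809 : band (pieces (fun c v => (fun c v => (app2 12 13 4) ((fun x => x) c) v) (pr2 283024 c) v) (fun x => x) tab807 R 4703919738795935662080 [64, 65, 66, 67, 68, 69, 70, 71] pt625c l808) (allL l808 fun p => subW 536874992 p.2.1) = true := by decide +kernel
theorem chk810 : cover 9 (List.map Prod.fst (l803)) (l808) 0 = true := by decide +kernel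
theorem chk812 : allL (List.map Prod.fst (l803)) (subW 536874992) = true := by decide +kernel
theorem chk813 : inDC (prodOps 283024 P.ops (ops2 12)) R 536874992 8 (R 3) 0 3 = true := by decide +kernel
theorem chk814 : subM 4092 4094 = true := by decide +kernel
theorem chk817 : band (slp (prodOps 283024 P.ops (ops2 12)) R l816 536875000) (subM 146393360968959538499576 (insL l816 536875000)) = true := by decide +kernel
theorem chk819 : subM 4088 4092 = true := by decide +kernel
theorem chk820 : subM 146393360968959538499580 (Nat.lor 4092 146393360968959538499576) = true := by decide +kernel
theorem chk821 : subM 4 146393360968959538499580 = true := by decide +kernel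
theorem chk832 : band (slp (prodOps 283024 P.ops (ops2 12)) R l831 146393360968959538499576) (subM 453347182355485940514816 (insL l831 146393360968959538499576)) = true := by decide +kernel
theorem chk842 : band (slp (prodOps 283024 P.ops (ops2 12)) R l841 453347182355485940514816) (subM 77220136727884438534356992 (insL l841 453347182355485940514816)) = true := by decide +kernel
theorem chk844 : subM 76766789545528952593842176 77220136727884438534356992 = true := by decide +kernel
theorem chk845 : band (fixL (fun c v => (fun c v => (app2 12 13 4) ((fun x => x) c) v) (pr2 283024 c) v) (fun x => x) R [79, 80, 81, 82, 83, 84, 85] pt834c) (subM 76766789545528952593842176 (insL [79, 80, 81, 82, 83, 84, 85] 0)) = true := by decide +kernel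
theorem chk851 : band (pieces (fun c v => (fun c v => (app2 12 13 4) ((fun x => x) c) v) (pr2 283024 c) v) (fun x => x) tab849 R 77220136727884438534356992 [77, 78, 79, 80, 81, 82, 83, 84, 85] pt834c l850) (allL l850 fun p => subW 77220136727884438534356992 p.2.1) = true := by decide +kernel
theorem chk852 : cover 9 [0] (l850) 0 = true := by decide +kernel
theorem chk854 : subM 76162326635721638006489088 76766789545528952593842176 = true := by decide +kernel
theorem chk855 : band (fixL (fun c v => (fun c v => (app2 12 13 4) ((fun x => x) c) v) (pr2 283024 c) v) (fun x => x) R [80, 81, 82, 83, 84, 85] pt835c) (subM 76162326635721638006489088 (insL [80, 81, 82, 83, 84, 85] 0)) = true := by decide +kernel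
theorem chk861 : band (pieces (fun c v => (fun c v => (app2 12 13 4) ((fun x => x) c) v) (pr2 283024 c) v) (fun x => x) tab859 R 76766789545528952593842176 [79, 80, 81, 82, 83, 84, 85] pt835c l860) (allL l860 fun p => subW 76766789545528952593842176 p.2.1) = true := by decide +kernel
theorem chk862 : cover 8 [0] (l860) 0 = true := by decide +kernel
theorem chk864 : subM 72535549176877750482370560 76162326635721638006489088 = true := by decide +kernel
theorem chk865 : band (fixL (fun c v => (fun c v => (app2 12 13 4) ((fun x => x) c) v) (pr2 283024 c) v) (fun x => x) R [82, 83, 84, 85] pt836c) (subM 72535549176877750482370560 (insL [82, 83, 84, 85] 0)) = true := by decide +kernel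
theorem chk871 : band (pieces (fun c v => (fun c v => (app2 12 13 4) ((fun x => x) c) v) (pr2 283024 c) v) (fun x => x) tab869 R 76162326635721638006489088 [80, 81, 82, 83, 84, 85] pt836c l870) (allL l870 fun p => subW 76162326635721638006489088 p.2.1) = true := by decide +kernel
theorem chk872 : cover 7 [0] (l870) 0 = true := by decide +kernel
theorem chk874 : subM 67699845898419233783545856 72535549176877750482370560 = true := by decide +kernel
theorem chk875 : band (fixL (fun c v => (fun c v => (app2 12 13 4) ((fun x => x) c) v) (pr2 283024 c) v) (fun x => x) R [83, 84, 85] pt837c) (subM 67699845898419233783545856 (insL [83, 84, 85] 0)) = true := by decide +kernel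
theorem chk881 : band (pieces (fun c v => (fun c v => (app2 12 13 4) ((fun x => x) c) v) (pr2 283024 c) v) (fun x => x) tab879 R 72535549176877750482370560 [82, 83, 84, 85] pt837c l880) (allL l880 fun p => subW 72535549176877750482370560 p.2.1) = true := by decide +kernel
theorem chk882 : cover 6 [0] (l880) 0 = true := by decide +kernel
theorem chk884 : subM 58028439341502200385896448 67699845898419233783545856 = true := by decide +kernel
theorem chk885 : band (fixL (fun c v => (fun c v => (app2 12 13 4) ((fun x => x) c) v) (pr2 283024 c) v) (fun x => x) R [84, 85] pt838c) (subM 58028439341502200385896448 (insL [84, 85] 0)) = true := by decide +kernel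
theorem chk891 : band (pieces (fun c v => (fun c v => (app2 12 13 4) ((fun x => x) c) v) (pr2 283024 c) v) (fun x => x) tab889 R 67699845898419233783545856 [83, 84, 85] pt838c l890) (allL l890 fun p => subW 67699845898419233783545856 p.2.1) = true := by decide +kernel
theorem chk892 : cover 5 [0] (l890) 0 = true := by decide +kernel
theorem chk894 : subM 38685626227668133590597632 58028439341502200385896448 = true := by decide +kernel
theorem chk895 : band (fixL (fun c v => (fun c v => (app2 12 13 4) ((fun x => x) c) v) (pr2 283024 c) v) (fun x => x) R [85] pt839c) (subM 38685626227668133590597632 (insL [85] 0)) = true := by decide +kernel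
theorem chk901 : band (pieces (fun c v => (fun c v => (app2 12 13 4) ((fun x => x) c) v) (pr2 283024 c) v) (fun x => x) tab899 R 58028439341502200385896448 [84, 85] pt839c l900) (allL l900 fun p => subW 58028439341502200385896448 p.2.1) = true := by decide +kernel
theorem chk902 : cover 4 [0] (l900) 0 = true := by decide +kernel
theorem chk904 : subM 0 38685626227668133590597632 = true := by decide +kernel
theorem chk905 : band (fixL (fun c v => (fun c v => (app2 12 13 4) ((fun x => x) c) v) (pr2 283024 c) v) (fun x => x) R [] pt840c) (subM 0 (insL [] 0)) = true := by decide +kernel
theorem chk911 : band (pieces (fun c v => (fun c v => (app2 12 13 4) ((fun x => x) c) v) (pr2 283024 c) v) (fun x => x) tab909 R 38685626227668133590597632 [85] pt840c l910) (allL l910 fun p => subW 38685626227668133590597632 p.2.1) = true := by decide +kernel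
theorem chk912 : cover 3 [0] (l910) 0 = true := by decide +kernel
theorem chk915 : band (conjB (prodOps 283024 P.ops (ops2 12)) R 146393360968959538499576 2 l914) (subM 453347182355485940514816 (insL l914 0)) = true := by decide +kernel
theorem chk916 : band (fixL (fun c v => (fun c v => (app2 12 13 4) ((fun x => x) c) v) (pr2 283024 c) v) (fun x => x) R [77, 78] pt815c) (subM 453347182355485940514816 (insL [77, 78] 0)) = true := by decide +kernel
theorem chk919 : band (slp (prodOps 283024 P.ops (ops2 12)) R l918 146393360968959538499576) (subM 232113757366008801543585792 (insL l918 146393360968959538499576)) = true := by decide +kernel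
theorem chk929 : band (slp (prodOps 283024 P.ops (ops2 12)) R l928 232113757366008801543585792) (subM 39536710004676832529590779904 (insL l928 232113757366008801543585792)) = true := by decide +kernel
theorem chk931 : subM 39304596247310823728047194112 39536710004676832529590779904 = true := by decide +kernel
theorem chk932 : band (fixL (fun c v => (fun c v => (app2 12 13 4) ((fun x => x) c) v) (pr2 283024 c) v) (fun x => x) R [88, 89, 90, 91, 92, 93, 94] pt921c) (subM 39304596247310823728047194112 (insL [88, 89, 90, 91, 92, 93, 94] 0)) = true := by decide +kernel
theorem chk938 : band (pieces (fun c v => (fun c v => (app2 12 13 4) ((fun x => x) c) v) (pr2 283024 c) v) (fun x => x) tab936 R 39536710004676832529590779904 [86, 87, 88, 89, 90, 91, 92, 93, 94] pt921c l937) (allL l937 fun p => subW 39536710004676832529590779904 p.2.1) = true := by decide +kernel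
theorem chk939 : cover 9 [0] (l937) 0 = true := by decide +kernel
theorem chk941 : subM 38995111237489478659322413056 39304596247310823728047194112 = true := by decide +kernel
theorem chk942 : band (fixL (fun c v => (fun c v => (app2 12 13 4) ((fun x => x) c) v) (pr2 283024 c) v) (fun x => x) R [89, 90, 91, 92, 93, 94] pt922c) (subM 38995111237489478659322413056 (insL [89, 90, 91, 92, 93, 94] 0)) = true := by decide +kernel
theorem chk948 : band (pieces (fun c v => (fun c v => (app2 12 13 4) ((fun x => x) c) v) (pr2 283024 c) v) (fun x => x) tab946 R 39304596247310823728047194112 [88, 89, 90, 91, 92, 93, 94] pt922c l947) (allL l947 fun p => subW 39304596247310823728047194112 p.2.1) = true := by decide +kernel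
theorem chk949 : cover 8 [0] (l947) 0 = true := by decide +kernel
theorem chk951 : subM 28472620903563746322679857152 38995111237489478659322413056 = true := by decide +kernel
theorem chk952 : band (fixL (fun c v => (fun c v => (app2 12 13 4) ((fun x => x) c) v) (pr2 283024 c) v) (fun x => x) R [90, 91, 92, 94] pt923c) (subM 28472620903563746322679857152 (insL [90, 91, 92, 94] 0)) = true := by decide +kernel
theorem chk958 : band (pieces (fun c v => (fun c v => (app2 12 13 4) ((fun x => x) c) v) (pr2 283024 c) v) (fun x => x) tab956 R 38995111237489478659322413056 [89, 90, 91, 92, 93, 94] pt923c l957) (allL l957 fun p => subW 38995111237489478659322413056 p.2.1) = true := by decide +kernel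
theorem chk959 : cover 7 [0] (l957) 0 = true := by decide +kernel
theorem chk961 : subM 27234680864278366047780732928 28472620903563746322679857152 = true := by decide +kernel
theorem chk962 : band (fixL (fun c v => (fun c v => (app2 12 13 4) ((fun x => x) c) v) (pr2 283024 c) v) (fun x => x) R [91, 92, 94] pt924c) (subM 27234680864278366047780732928 (insL [91, 92, 94] 0)) = true := by decide +kernel
theorem chk968 : band (pieces (fun c v => (fun c v => (app2 12 13 4) ((fun x => x) c) v) (pr2 283024 c) v) (fun x => x) tab966 R 28472620903563746322679857152 [90, 91, 92, 94] pt924c l967) (allL l967 fun p => subW 28472620903563746322679857152 p.2.1) = true := by decide +kernel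
theorem chk969 : cover 6 [0] (l967) 0 = true := by decide +kernel
theorem chk971 : subM 24758800785707605497982484480 27234680864278366047780732928 = true := by decide +kernel
theorem chk972 : band (fixL (fun c v => (fun c v => (app2 12 13 4) ((fun x => x) c) v) (pr2 283024 c) v) (fun x => x) R [92, 94] pt925c) (subM 24758800785707605497982484480 (insL [92, 94] 0)) = true := by decide +kernel
theorem chk978 : band (pieces (fun c v => (fun c v => (app2 12 13 4) ((fun x => x) c) v) (pr2 283024 c) v) (fun x => x) tab976 R 27234680864278366047780732928 [91, 92, 94] pt925c l977) (allL l977 fun p => subW 27234680864278366047780732928 p.2.1) = true := by decide +kernel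
theorem chk979 : cover 5 [0] (l977) 0 = true := by decide +kernel
theorem chk981 : subM 19807040628566084398385987584 24758800785707605497982484480 = true := by decide +kernel
theorem chk982 : band (fixL (fun c v => (fun c v => (app2 12 13 4) ((fun x => x) c) v) (pr2 283024 c) v) (fun x => x) R [94] pt926c) (subM 19807040628566084398385987584 (insL [94] 0)) = true := by decide +kernel
theorem chk988 : band (pieces (fun c v => (fun c v => (app2 12 13 4) ((fun x => x) c) v) (pr2 283024 c) v) (fun x => x) tab986 R 24758800785707605497982484480 [92, 94] pt926c l987) (allL l987 fun p => subW 24758800785707605497982484480 p.2.1) = true := by decide +kernel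
theorem chk989 : cover 4 [0] (l987) 0 = true := by decide +kernel
theorem chk991 : subM 0 19807040628566084398385987584 = true := by decide +kernel
theorem chk992 : band (fixL (fun c v => (fun c v => (app2 12 13 4) ((fun x => x) c) v) (pr2 283024 c) v) (fun x => x) R [] pt927c) (subM 0 (insL [] 0)) = true := by decide +kernel
theorem chk998 : band (pieces (fun c v => (fun c v => (app2 12 13 4) ((fun x => x) c) v) (pr2 283024 c) v) (fun x => x) tab996 R 19807040628566084398385987584 [94] pt927c l997) (allL l997 fun p => subW 19807040628566084398385987584 p.2.1) = true := by decide +kernel
theorem chk999 : cover 3 [0] (l997) 0 = true := by decide +kernel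
theorem chk1002 : band (conjA (prodOps 283024 P.ops (ops2 12)) R 146393360968959538499576 2 l1001) (subM 232113757366008801543585792 (insL l1001 0)) = true := by decide +kernel
theorem chk1004 : dcRel (prodOps 283024 P.ops (ops2 12)) R 146393360968959538499576 4 2 2 l1003 = true := by decide +kernel
theorem chk1009 : band (pieces (fun c v => (fun c v => (app2 12 13 4) ((fun x => x) c) v) (pr2 283024 c) v) (fun x => x) tab1007 R 39536710004676832529590779904 [86, 87, 88, 89, 90, 91, 92, 93, 94] pt815c l1008) (allL l1008 fun p => subW 146393360968959538499576 p.2.1) = true := by decide +kernel
theorem chk1010 : cover 10 (List.map Prod.fst (l1003)) (l1008) 0 = true := by decide +kernel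
theorem chk1012 : allL (List.map Prod.fst (l1003)) (subW 146393360968959538499576) = true := by decide +kernel
theorem chk1013 : inDC (prodOps 283024 P.ops (ops2 12)) R 146393360968959538499576 4 (R 2) 0 2 = true := by decide +kernel
theorem chk1014 : subM 4094 4094 = true := by decide +kernel
theorem chk1017 : band (slp (prodOps 283024 P.ops (ops2 12)) R l1016 146393360968959538499580) (subM 594211365250343500911118127100 (insL l1016 146393360968959538499580)) = true := by decide +kernel
theorem chk1019 : subM 4092 4094 = true := by decide +kernel
theorem chk1020 : subM 594211365250343500911118127102 (Nat.lor 4094 594211365250343500911118127100) = true := by decide +kernel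
theorem chk1021 : subM 2 594211365250343500911118127102 = true := by decide +kernel
theorem chk1023 : band (slp (prodOps 283024 P.ops (ops2 12)) R l1022 594211365250343500911118127100) (subM 1901475900342344102245054808064 (insL l1022 594211365250343500911118127100)) = true := by decide +kernel
theorem chk1034 : band (slp (prodOps 283024 P.ops (ops2 12)) R l1033 1901475900342344102245054808064) (subM 323884728358312612082407668973568 (insL l1033 1901475900342344102245054808064)) = true := by decide +kernel
theorem chk1037 : band (slp (prodOps 283024 P.ops (ops2 12)) R l1036 323884728358312612082407668973568) (subM 1297440389333592792431875730702336 (insL l1036 323884728358312612082407668973568)) = true := by decide +kernel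
theorem chk1039 : subM 1295538913433250448329630675894272 1297440389333592792431875730702336 = true := by decide +kernel
theorem chk1040 : band (fixL (fun c v => (fun c v => (app2 12 13 4) ((fun x => x) c) v) (pr2 283024 c) v) (fun x => x) R [101, 102, 103, 104, 105, 106, 107, 108, 109] pt1025c) (subM 1295538913433250448329630675894272 (insL [101, 102, 103, 104, 105, 106, 107, 108, 109] 0)) = true := by decide +kernel
theorem chk1046 : band (pieces (fun c v => (fun c v => (app2 12 13 4) ((fun x => x) c) v) (pr2 283024 c) v) (fun x => x) tab1044 R 1297440389333592792431875730702336 [99, 100, 101, 102, 103, 104, 105, 106, 107, 108, 109] pt1025c l1045) (allL l1045 fun p => subW 1297440389333592792431875730702336 p.2.1) = true := by decide +kernel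
theorem chk1047 : cover 10 [0] (l1045) 0 = true := by decide +kernel
theorem chk1049 : subM 1293003612232793989526637269483520 1295538913433250448329630675894272 = true := by decide +kernel
theorem chk1050 : band (fixL (fun c v => (fun c v => (app2 12 13 4) ((fun x => x) c) v) (pr2 283024 c) v) (fun x => x) R [102, 103, 104, 105, 106, 107, 108, 109] pt1026c) (subM 1293003612232793989526637269483520 (insL [102, 103, 104, 105, 106, 107, 108, 109] 0)) = true := by decide +kernel
theorem chk1056 : band (pieces (fun c v => (fun c v => (app2 12 13 4) ((fun x => x) c) v) (pr2 283024 c) v) (fun x => x) tab1054 R 1295538913433250448329630675894272 [101, 102, 103, 104, 105, 106, 107, 108, 109] pt1026c l1055) (allL l1055 fun p => subW 1295538913433250448329630675894272 p.2.1) = true := by decide +kernel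
theorem chk1057 : cover 9 [0] (l1055) 0 = true := by decide +kernel
theorem chk1059 : subM 1267650600228229401496703205376000 1293003612232793989526637269483520 = true := by decide +kernel
theorem chk1060 : band (fixL (fun c v => (fun c v => (app2 12 13 4) ((fun x => x) c) v) (pr2 283024 c) v) (fun x => x) R [103, 105, 106, 107, 108, 109] pt1027c) (subM 1267650600228229401496703205376000 (insL [103, 105, 106, 107, 108, 109] 0)) = true := by decide +kernel
theorem chk1066 : band (pieces (fun c v => (fun c v => (app2 12 13 4) ((fun x => x) c) v) (pr2 283024 c) v) (fun x => x) tab1064 R 1293003612232793989526637269483520 [102, 103, 104, 105, 106, 107, 108, 109] pt1027c l1065) (allL l1065 fun p => subW 1293003612232793989526637269483520 p.2.1) = true := by decide +kernel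
theorem chk1067 : cover 8 [0] (l1065) 0 = true := by decide +kernel
theorem chk1069 : subM 1257509395426403566284729579732992 1267650600228229401496703205376000 = true := by decide +kernel
theorem chk1070 : band (fixL (fun c v => (fun c v => (app2 12 13 4) ((fun x => x) c) v) (pr2 283024 c) v) (fun x => x) R [105, 106, 107, 108, 109] pt1028c) (subM 1257509395426403566284729579732992 (insL [105, 106, 107, 108, 109] 0)) = true := by decide +kernel
theorem chk1076 : band (pieces (fun c v => (fun c v => (app2 12 13 4) ((fun x => x) c) v) (pr2 283024 c) v) (fun x => x) tab1074 R 1267650600228229401496703205376000 [103, 105, 106, 107, 108, 109] pt1028c l1075) (allL l1075 fun p => subW 1267650600228229401496703205376000 p.2.1) = true := by decide +kernel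
theorem chk1077 : cover 7 [0] (l1075) 0 = true := by decide +kernel
theorem chk1079 : subM 1216944576219100225436835077160960 1257509395426403566284729579732992 = true := by decide +kernel
theorem chk1080 : band (fixL (fun c v => (fun c v => (app2 12 13 4) ((fun x => x) c) v) (pr2 283024 c) v) (fun x => x) R [106, 107, 108, 109] pt1029c) (subM 1216944576219100225436835077160960 (insL [106, 107, 108, 109] 0)) = true := by decide +kernel
theorem chk1086 : band (pieces (fun c v => (fun c v => (app2 12 13 4) ((fun x => x) c) v) (pr2 283024 c) v) (fun x => x) tab1084 R 1257509395426403566284729579732992 [105, 106, 107, 108, 109] pt1029c l1085) (allL l1085 fun p => subW 1257509395426403566284729579732992 p.2.1) = true := by decide +kernel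
theorem chk1087 : cover 6 [0] (l1085) 0 = true := by decide +kernel
theorem chk1089 : subM 1135814937804493543741046072016896 1216944576219100225436835077160960 = true := by decide +kernel
theorem chk1090 : band (fixL (fun c v => (fun c v => (app2 12 13 4) ((fun x => x) c) v) (pr2 283024 c) v) (fun x => x) R [107, 108, 109] pt1030c) (subM 1135814937804493543741046072016896 (insL [107, 108, 109] 0)) = true := by decide +kernel
theorem chk1096 : band (pieces (fun c v => (fun c v => (app2 12 13 4) ((fun x => x) c) v) (pr2 283024 c) v) (fun x => x) tab1094 R 1216944576219100225436835077160960 [106, 107, 108, 109] pt1030c l1095) (allL l1095 fun p => subW 1216944576219100225436835077160960 p.2.1) = true := by decide +kernel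
theorem chk1097 : cover 5 [0] (l1095) 0 = true := by decide +kernel
theorem chk1099 : subM 649037107316853453566312041152512 1135814937804493543741046072016896 = true := by decide +kernel
theorem chk1100 : band (fixL (fun c v => (fun c v => (app2 12 13 4) ((fun x => x) c) v) (pr2 283024 c) v) (fun x => x) R [109] pt1031c) (subM 649037107316853453566312041152512 (insL [109] 0)) = true := by decide +kernel
theorem chk1106 : band (pieces (fun c v => (fun c v => (app2 12 13 4) ((fun x => x) c) v) (pr2 283024 c) v) (fun x => x) tab1104 R 1135814937804493543741046072016896 [107, 108, 109] pt1031c l1105) (allL l1105 fun p => subW 1135814937804493543741046072016896 p.2.1) = true := by decide +kernel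
theorem chk1107 : cover 4 [0] (l1105) 0 = true := by decide +kernel
theorem chk1109 : subM 0 649037107316853453566312041152512 = true := by decide +kernel
theorem chk1110 : band (fixL (fun c v => (fun c v => (app2 12 13 4) ((fun x => x) c) v) (pr2 283024 c) v) (fun x => x) R [] pt1032c) (subM 0 (insL [] 0)) = true := by decide +kernel
theorem chk1116 : band (pieces (fun c v => (fun c v => (app2 12 13 4) ((fun x => x) c) v) (pr2 283024 c) v) (fun x => x) tab1114 R 649037107316853453566312041152512 [109] pt1032c l1115) (allL l1115 fun p => subW 649037107316853453566312041152512 p.2.1) = true := by decide +kernel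
theorem chk1117 : cover 3 [0] (l1115) 0 = true := by decide +kernel
theorem chk1120 : band (conjB (prodOps 283024 P.ops (ops2 12)) R 594211365250343500911118127100 1 l1119) (subM 1901475900342344102245054808064 (insL l1119 0)) = true := by decide +kernel
theorem chk1121 : band (fixL (fun c v => (fun c v => (app2 12 13 4) ((fun x => x) c) v) (pr2 283024 c) v) (fun x => x) R [99, 100] pt1015c) (subM 1901475900342344102245054808064 (insL [99, 100] 0)) = true := by decide +kernel
theorem chk1124 : band (slp (prodOps 283024 P.ops (ops2 12)) R l1123 594211365250343500911118127100) (subM 3894222643901120721397872246915072 (insL l1123 594211365250343500911118127100)) = true := by decide +kernel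
theorem chk1135 : band (slp (prodOps 283024 P.ops (ops2 12)) R l1134 3894222643901120721397872246915072) (subM 1327929921570282165996674436198039552 (insL l1134 3894222643901120721397872246915072)) = true := by decide +kernel
theorem chk1138 : band (slp (prodOps 283024 P.ops (ops2 12)) R l1137 1327929921570282165996674436198039552) (subM 5315613908925029784708095617039073280 (insL l1137 1327929921570282165996674436198039552)) = true := by decide +kernel
theorem chk1140 : subM 5311719686281128663986697744792158208 5315613908925029784708095617039073280 = true := by decide +kernel
theorem chk1141 : band (fixL (fun c v => (fun c v => (app2 12 13 4) ((fun x => x) c) v) (pr2 283024 c) v) (fun x => x) R [112, 113, 114, 115, 116, 117, 118, 119, 120, 121] pt1126c) (subM 5311719686281128663986697744792158208 (insL [112, 113, 114, 115, 116, 117, 118, 119, 120, 121] 0)) = true := by decide +kernel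
theorem chk1147 : band (pieces (fun c v => (fun c v => (app2 12 13 4) ((fun x => x) c) v) (pr2 283024 c) v) (fun x => x) tab1145 R 5315613908925029784708095617039073280 [110, 111, 112, 113, 114, 115, 116, 117, 118, 119, 120, 121] pt1126c l1146) (allL l1146 fun p => subW 5315613908925029784708095617039073280 p.2.1) = true := by decide +kernel
theorem chk1148 : cover 10 [0] (l1146) 0 = true := by decide +kernel
theorem chk1150 : subM 5306527389422593836358167248462938112 5311719686281128663986697744792158208 = true := by decide +kernel
theorem chk1151 : band (fixL (fun c v => (fun c v => (app2 12 13 4) ((fun x => x) c) v) (pr2 283024 c) v) (fun x => x) R [113, 114, 115, 116, 117, 118, 119, 120, 121] pt1127c) (subM 5306527389422593836358167248462938112 (insL [113, 114, 115, 116, 117, 118, 119, 120, 121] 0)) = true := by decide +kernel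
theorem chk1157 : band (pieces (fun c v => (fun c v => (app2 12 13 4) ((fun x => x) c) v) (pr2 283024 c) v) (fun x => x) tab1155 R 5311719686281128663986697744792158208 [112, 113, 114, 115, 116, 117, 118, 119, 120, 121] pt1127c l1156) (allL l1156 fun p => subW 5311719686281128663986697744792158208 p.2.1) = true := by decide +kernel
theorem chk1158 : cover 9 [0] (l1156) 0 = true := by decide +kernel
theorem chk1160 : subM 5275373608271384870586984270487617536 5306527389422593836358167248462938112 = true := by decide +kernel
theorem chk1161 : band (fixL (fun c v => (fun c v => (app2 12 13 4) ((fun x => x) c) v) (pr2 283024 c) v) (fun x => x) R [115, 116, 117, 118, 119, 120, 121] pt1128c) (subM 5275373608271384870586984270487617536 (insL [115, 116, 117, 118, 119, 120, 121] 0)) = true := by decide +kernel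
theorem chk1167 : band (pieces (fun c v => (fun c v => (app2 12 13 4) ((fun x => x) c) v) (pr2 283024 c) v) (fun x => x) tab1165 R 5306527389422593836358167248462938112 [113, 114, 115, 116, 117, 118, 119, 120, 121] pt1128c l1166) (allL l1166 fun p => subW 5306527389422593836358167248462938112 p.2.1) = true := by decide +kernel
theorem chk1168 : cover 8 [0] (l1166) 0 = true := by decide +kernel
theorem chk1170 : subM 5150758483666549007502252358586335232 5275373608271384870586984270487617536 = true := by decide +kernel
theorem chk1171 : band (fixL (fun c v => (fun c v => (app2 12 13 4) ((fun x => x) c) v) (pr2 283024 c) v) (fun x => x) R [117, 118, 119, 120, 121] pt1129c) (subM 5150758483666549007502252358586335232 (insL [117, 118, 119, 120, 121] 0)) = true := by decide +kernel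
theorem chk1177 : band (pieces (fun c v => (fun c v => (app2 12 13 4) ((fun x => x) c) v) (pr2 283024 c) v) (fun x => x) tab1175 R 5275373608271384870586984270487617536 [115, 116, 117, 118, 119, 120, 121] pt1129c l1176) (allL l1176 fun p => subW 5275373608271384870586984270487617536 p.2.1) = true := by decide +kernel
theorem chk1178 : cover 7 [0] (l1176) 0 = true := by decide +kernel
theorem chk1180 : subM 4652297985247205555163324710981206016 5150758483666549007502252358586335232 = true := by decide +kernel
theorem chk1181 : band (fixL (fun c v => (fun c v => (app2 12 13 4) ((fun x => x) c) v) (pr2 283024 c) v) (fun x => x) R [119, 120, 121] pt1130c) (subM 4652297985247205555163324710981206016 (insL [119, 120, 121] 0)) = true := by decide +kernel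
theorem chk1187 : band (pieces (fun c v => (fun c v => (app2 12 13 4) ((fun x => x) c) v) (pr2 283024 c) v) (fun x => x) tab1185 R 5150758483666549007502252358586335232 [117, 118, 119, 120, 121] pt1130c l1186) (allL l1186 fun p => subW 5150758483666549007502252358586335232 p.2.1) = true := by decide +kernel
theorem chk1188 : cover 6 [0] (l1186) 0 = true := by decide +kernel
theorem chk1190 : subM 3987683987354747618711421180841033728 4652297985247205555163324710981206016 = true := by decide +kernel
theorem chk1191 : band (fixL (fun c v => (fun c v => (app2 12 13 4) ((fun x => x) c) v) (pr2 283024 c) v) (fun x => x) R [120, 121] pt1131c) (subM 3987683987354747618711421180841033728 (insL [120, 121] 0)) = true := by decide +kernel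
theorem chk1197 : band (pieces (fun c v => (fun c v => (app2 12 13 4) ((fun x => x) c) v) (pr2 283024 c) v) (fun x => x) tab1195 R 4652297985247205555163324710981206016 [119, 120, 121] pt1131c l1196) (allL l1196 fun p => subW 4652297985247205555163324710981206016 p.2.1) = true := by decide +kernel
theorem chk1198 : cover 5 [0] (l1196) 0 = true := by decide +kernel
theorem chk1200 : subM 2658455991569831745807614120560689152 3987683987354747618711421180841033728 = true := by decide +kernel
theorem chk1201 : band (fixL (fun c v => (fun c v => (app2 12 13 4) ((fun x => x) c) v) (pr2 283024 c) v) (fun x => x) R [121] pt1132c) (subM 2658455991569831745807614120560689152 (insL [121] 0)) = true := by decide +kernel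
theorem chk1207 : band (pieces (fun c v => (fun c v => (app2 12 13 4) ((fun x => x) c) v) (pr2 283024 c) v) (fun x => x) tab1205 R 3987683987354747618711421180841033728 [120, 121] pt1132c l1206) (allL l1206 fun p => subW 3987683987354747618711421180841033728 p.2.1) = true := by decide +kernel
theorem chk1208 : cover 4 [0] (l1206) 0 = true := by decide +kernel
theorem chk1210 : subM 0 2658455991569831745807614120560689152 = true := by decide +kernel
theorem chk1211 : band (fixL (fun c v => (fun c v => (app2 12 13 4) ((fun x => x) c) v) (pr2 283024 c) v) (fun x => x) R [] pt1133c) (subM 0 (insL [] 0)) = true := by decide +kernel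
theorem chk1217 : band (pieces (fun c v => (fun c v => (app2 12 13 4) ((fun x => x) c) v) (pr2 283024 c) v) (fun x => x) tab1215 R 2658455991569831745807614120560689152 [121] pt1133c l1216) (allL l1216 fun p => subW 2658455991569831745807614120560689152 p.2.1) = true := by decide +kernel
theorem chk1218 : cover 3 [0] (l1216) 0 = true := by decide +kernel
theorem chk1221 : band (conjA (prodOps 283024 P.ops (ops2 12)) R 594211365250343500911118127100 1 l1220) (subM 3894222643901120721397872246915072 (insL l1220 0)) = true := by decide +kernel
theorem chk1223 : dcRel (prodOps 283024 P.ops (ops2 12)) R 594211365250343500911118127100 2 1 1 l1222 = true := by decide +kernel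
theorem chk1228 : band (pieces (fun c v => (fun c v => (app2 12 13 4) ((fun x => x) c) v) (pr2 283024 c) v) (fun x => x) tab1226 R 5315613908925029784708095617039073280 [110, 111, 112, 113, 114, 115, 116, 117, 118, 119, 120, 121] pt1015c l1227) (allL l1227 fun p => subW 594211365250343500911118127100 p.2.1) = true := by decide +kernel
theorem chk1229 : cover 11 (List.map Prod.fst (l1222)) (l1227) 0 = true := by decide +kernel
theorem chk1231 : allL (List.map Prod.fst (l1222)) (subW 594211365250343500911118127100) = true := by decide +kernel
theorem chk1232 : inDC (prodOps 283024 P.ops (ops2 12)) R 594211365250343500911118127100 2 (R 1) 0 1 = true := by decide +kernel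
theorem chk1244 : band (slp (ops2 12) R2 l1243 4094) (subM 174182036567655375985314877179136353243134 (insL l1243 4094)) = true := by decide +kernel
theorem chk1246 : subM 174182036567655375985314877179136353239040 174182036567655375985314877179136353243134 = true := by decide +kernel
theorem chk1247 : band (fixL (fun c v => (app2 12 13 4) ((fun x => x) c) v) (fun x => x) R2 [125, 126, 127, 128, 129, 130, 131, 132, 133, 134, 135, 136] pt1233c) (subM 174182036567655375985314877179136353239040 (insL [125, 126, 127, 128, 129, 130, 131, 132, 133, 134, 135, 136] 0)) = true := by decide +kernel
theorem chk1253 : band (pieces (fun c v => (app2 12 13 4) ((fun x => x) c) v) (fun x => x) tab1251 R2 174182036567655375985314877179136353243134 [9, 10, 7, 5, 4, 3, 8, 6, 2, 131, 136] pt1233c l1252) (allL l1252 fun p => subW 174182036567655375985314877179136353243134 p.2.1) = true := by decide +kernel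
theorem chk1254 : cover 12 [0] (l1252) 0 = true := by decide +kernel
theorem chk1256 : subM 174054430680060024061516111701349440159744 174182036567655375985314877179136353239040 = true := by decide +kernel
theorem chk1257 : band (fixL (fun c v => (app2 12 13 4) ((fun x => x) c) v) (fun x => x) R2 [127, 128, 129, 130, 131, 132, 133, 134, 135, 136] pt1234c) (subM 174054430680060024061516111701349440159744 (insL [127, 128, 129, 130, 131, 132, 133, 134, 135, 136] 0)) = true := by decide +kernel
theorem chk1263 : band (pieces (fun c v => (app2 12 13 4) ((fun x => x) c) v) (fun x => x) tab1261 R2 174182036567655375985314877179136353239040 [125, 126, 127, 128, 129, 130, 131, 132, 133, 134, 135, 136] pt1234c l1262) (allL l1262 fun p => subW 174182036567655375985314877179136353239040 p.2.1) = true := by decide +kernel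
theorem chk1264 : cover 11 [0] (l1262) 0 = true := by decide +kernel
theorem chk1266 : subM 173203724762757677902857675182770019631104 174054430680060024061516111701349440159744 = true := by decide +kernel
theorem chk1267 : band (fixL (fun c v => (app2 12 13 4) ((fun x => x) c) v) (fun x => x) R2 [128, 130, 131, 132, 133, 134, 135, 136] pt1235c) (subM 173203724762757677902857675182770019631104 (insL [128, 130, 131, 132, 133, 134, 135, 136] 0)) = true := by decide +kernel
theorem chk1273 : band (pieces (fun c v => (app2 12 13 4) ((fun x => x) c) v) (fun x => x) tab1271 R2 174054430680060024061516111701349440159744 [127, 128, 129, 130, 131, 132, 133, 134, 135, 136] pt1235c l1272) (allL l1272 fun p => subW 174054430680060024061516111701349440159744 p.2.1) = true := by decide +kernel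
theorem chk1274 : cover 10 [0] (l1272) 0 = true := by decide +kernel
theorem chk1276 : subM 172863442395836739439394300575338251419648 173203724762757677902857675182770019631104 = true := by decide +kernel
theorem chk1277 : band (fixL (fun c v => (app2 12 13 4) ((fun x => x) c) v) (fun x => x) R2 [130, 131, 132, 133, 134, 135, 136] pt1236c) (subM 172863442395836739439394300575338251419648 (insL [130, 131, 132, 133, 134, 135, 136] 0)) = true := by decide +kernel
theorem chk1283 : band (pieces (fun c v => (app2 12 13 4) ((fun x => x) c) v) (fun x => x) tab1281 R2 173203724762757677902857675182770019631104 [128, 130, 131, 132, 133, 134, 135, 136] pt1236c l1282) (allL l1282 fun p => subW 173203724762757677902857675182770019631104 p.2.1) = true := by decide +kernel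
theorem chk1284 : cover 9 [0] (l1282) 0 = true := by decide +kernel
theorem chk1286 : subM 171502312928152985585540802145611178573824 172863442395836739439394300575338251419648 = true := by decide +kernel
theorem chk1287 : band (fixL (fun c v => (app2 12 13 4) ((fun x => x) c) v) (fun x => x) R2 [131, 132, 133, 134, 135, 136] pt1237c) (subM 171502312928152985585540802145611178573824 (insL [131, 132, 133, 134, 135, 136] 0)) = true := by decide +kernel
theorem chk1293 : band (pieces (fun c v => (app2 12 13 4) ((fun x => x) c) v) (fun x => x) tab1291 R2 172863442395836739439394300575338251419648 [130, 131, 132, 133, 134, 135, 136] pt1237c l1292) (allL l1292 fun p => subW 172863442395836739439394300575338251419648 p.2.1) = true := by decide +kernel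
theorem chk1294 : cover 8 [0] (l1292) 0 = true := by decide +kernel
theorem chk1296 : subM 168780053992785477877833805286157032882176 171502312928152985585540802145611178573824 = true := by decide +kernel
theorem chk1297 : band (fixL (fun c v => (app2 12 13 4) ((fun x => x) c) v) (fun x => x) R2 [132, 133, 134, 135, 136] pt1238c) (subM 168780053992785477877833805286157032882176 (insL [132, 133, 134, 135, 136] 0)) = true := by decide +kernel
theorem chk1303 : band (pieces (fun c v => (app2 12 13 4) ((fun x => x) c) v) (fun x => x) tab1301 R2 171502312928152985585540802145611178573824 [131, 132, 133, 134, 135, 136] pt1238c l1302) (allL l1302 fun p => subW 171502312928152985585540802145611178573824 p.2.1) = true := by decide +kernel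
theorem chk1304 : cover 7 [0] (l1302) 0 = true := by decide +kernel
theorem chk1306 : subM 152446500380580431631591824129432158732288 168780053992785477877833805286157032882176 = true := by decide +kernel
theorem chk1307 : band (fixL (fun c v => (app2 12 13 4) ((fun x => x) c) v) (fun x => x) R2 [134, 135, 136] pt1239c) (subM 152446500380580431631591824129432158732288 (insL [134, 135, 136] 0)) = true := by decide +kernel
theorem chk1313 : band (pieces (fun c v => (app2 12 13 4) ((fun x => x) c) v) (fun x => x) tab1311 R2 168780053992785477877833805286157032882176 [132, 133, 134, 135, 136] pt1239c l1312) (allL l1312 fun p => subW 168780053992785477877833805286157032882176 p.2.1) = true := by decide +kernel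
theorem chk1314 : cover 6 [0] (l1312) 0 = true := by decide +kernel
theorem chk1316 : subM 130668428897640369969935849253798993199104 152446500380580431631591824129432158732288 = true := by decide +kernel
theorem chk1317 : band (fixL (fun c v => (app2 12 13 4) ((fun x => x) c) v) (fun x => x) R2 [135, 136] pt1240c) (subM 130668428897640369969935849253798993199104 (insL [135, 136] 0)) = true := by decide +kernel
theorem chk1323 : band (pieces (fun c v => (app2 12 13 4) ((fun x => x) c) v) (fun x => x) tab1321 R2 152446500380580431631591824129432158732288 [134, 135, 136] pt1240c l1322) (allL l1322 fun p => subW 152446500380580431631591824129432158732288 p.2.1) = true := by decide +kernel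
theorem chk1324 : cover 5 [0] (l1322) 0 = true := by decide +kernel
theorem chk1326 : subM 87112285931760246646623899502532662132736 130668428897640369969935849253798993199104 = true := by decide +kernel
theorem chk1327 : band (fixL (fun c v => (app2 12 13 4) ((fun x => x) c) v) (fun x => x) R2 [136] pt1241c) (subM 87112285931760246646623899502532662132736 (insL [136] 0)) = true := by decide +kernel
theorem chk1333 : band (pieces (fun c v => (app2 12 13 4) ((fun x => x) c) v) (fun x => x) tab1331 R2 130668428897640369969935849253798993199104 [135, 136] pt1241c l1332) (allL l1332 fun p => subW 130668428897640369969935849253798993199104 p.2.1) = true := by decide +kernel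
theorem chk1334 : cover 4 [0] (l1332) 0 = true := by decide +kernel
theorem chk1336 : subM 0 87112285931760246646623899502532662132736 = true := by decide +kernel
theorem chk1337 : band (fixL (fun c v => (app2 12 13 4) ((fun x => x) c) v) (fun x => x) R2 [] pt1242c) (subM 0 (insL [] 0)) = true := by decide +kernel
theorem chk1343 : band (pieces (fun c v => (app2 12 13 4) ((fun x => x) c) v) (fun x => x) tab1341 R2 87112285931760246646623899502532662132736 [136] pt1242c l1342) (allL l1342 fun p => subW 87112285931760246646623899502532662132736 p.2.1) = true := by decide +kernel
theorem chk1344 : cover 3 [0] (l1342) 0 = true := by decide +kernel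
theorem chk1347 : band (allL l1346 fun e => band (P.can (force (hd e) R1)) (band (Nat.ble 1 (tl e)) (Nat.beq (powC P.ops (force (hd e) R1) (tl e)) P.ops.one))) (subM 174224571863520493293247799005065324265472 (insL l1346 0)) = true := by decide +kernel
theorem chk1350 : band (slp P.ops R1 l1349 4094) (subM 22835614634151631055945989015593912051475419134 (insL l1349 4094)) = true := by decide +kernel
theorem chk1353 : band (slp P.ops R1 l1352 22835614634151631055945989015593912051475419134) (subM 2923002926212662109366383078936968029181216559102 (insL l1352 22835614634151631055945989015593912051475419134)) = true := by decide +kernel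
theorem chk1356 : band (slp P.ops R1 l1355 2923002926212662109366383078936968029181216559102) (subM 23384025848845302964217970736964930304364272160766 (insL l1355 2923002926212662109366383078936968029181216559102)) = true := by decide +kernel
theorem chk1359 : subM 4094 174224571863520493293247799005065324269566 = true := by decide +kernel
theorem chk1360 : subM 23384026023069874827738464030212729309429596426238 (Nat.lor 174224571863520493293247799005065324269566 23384025848845302964217970736964930304364272160766) = true := by decide +kernel
theorem chk1362 : band (slp P.ops R1 l1361 23384026023069874827738464030212729309429596426238) (subM 23945242825855288839985651805930333195037733459857406 (insL l1361 23384026023069874827738464030212729309429596426238)) = true := by decide +kernel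
theorem chk1364 : subM 23921858800006443537021433835193368264733369187696640 23945242825855288839985651805930333195037733459857406 = true := by decide +kernel
theorem chk1373 : band (slp P.ops R1 l1372 23384025848845302964217970736964930304364272160766) (subM 71835728478088540235547516897670742982128396352356352 (insL l1372 23384025848845302964217970736964930304364272160766)) = true := by decide +kernel
theorem chk1380 : band (slp P.ops R1 l1379 71835728478088540235547516897670742982128396352356352) (subM 24495983411028192220321703262105723356905783156153516032 (insL l1379 71835728478088540235547516897670742982128396352356352)) = true := by decide +kernel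
theorem chk1383 : band (slp P.ops R1 l1382 24495983411028192220321703262105723356905783156153516032) (subM 49015912064882413954055255696510670294805609111091150848 (insL l1382 24495983411028192220321703262105723356905783156153516032)) = true := by decide +kernel
theorem chk1385 : subM 48944076336404325413819708179612999551823480714738794496 49015912064882413954055255696510670294805609111091150848 = true := by decide +kernel
theorem chk1386 : band (fixL P.app (fun x => x) R1 [176, 177, 178, 179, 180, 181, 182, 183, 184] pt1375c) (subM 48944076336404325413819708179612999551823480714738794496 (insL [176, 177, 178, 179, 180, 181, 182, 183, 184] 0)) = true := by decide +kernel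
theorem chk1392 : band (pieces P.app (fun x => x) tab1390 R1 49015912064882413954055255696510670294805609111091150848 [174, 175, 176, 177, 178, 179, 180, 181, 182, 183, 184] pt1375c l1391) (allL l1391 fun p => subW 49015912064882413954055255696510670294805609111091150848 p.2.1) = true := by decide +kernel
theorem chk1393 : cover 36 [0] (l1391) 0 = true := by decide +kernel
theorem chk1395 : subM 47507361766842554609108757841659584692180912787691667456 48944076336404325413819708179612999551823480714738794496 = true := by decide +kernel
theorem chk1396 : band (fixL P.app (fun x => x) R1 [180, 181, 182, 183, 184] pt1376c) (subM 47507361766842554609108757841659584692180912787691667456 (insL [180, 181, 182, 183, 184] 0)) = true := by decide +kernel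
theorem chk1402 : band (pieces P.app (fun x => x) tab1400 R1 48944076336404325413819708179612999551823480714738794496 [176, 177, 178, 179, 180, 181, 182, 183, 184] pt1376c l1401) (allL l1401 fun p => subW 48944076336404325413819708179612999551823480714738794496 p.2.1) = true := by decide +kernel
theorem chk1403 : cover 100 [0] (l1401) 0 = true := by decide +kernel
theorem chk1405 : subM 30649910817317777167166940543006183672374782443672043520 47507361766842554609108757841659584692180912787691667456 = true := by decide +kernel
theorem chk1406 : band (fixL P.app (fun x => x) R1 [182, 184] pt1377c) (subM 30649910817317777167166940543006183672374782443672043520 (insL [182, 184] 0)) = true := by decide +kernel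
theorem chk1412 : band (pieces P.app (fun x => x) tab1410 R1 47507361766842554609108757841659584692180912787691667456 [180, 181, 182, 183, 184] pt1377c l1411) (allL l1411 fun p => subW 47507361766842554609108757841659584692180912787691667456 p.2.1) = true := by decide +kernel
theorem chk1413 : cover 24 [0] (l1411) 0 = true := by decide +kernel
theorem chk1415 : subM 0 30649910817317777167166940543006183672374782443672043520 = true := by decide +kernel
theorem chk1416 : band (fixL P.app (fun x => x) R1 [] pt1378c) (subM 0 (insL [] 0)) = true := by decide +kernel
theorem chk1422 : band (pieces P.app (fun x => x) tab1420 R1 30649910817317777167166940543006183672374782443672043520 [182, 184] pt1378c l1421) (allL l1421 fun p => subW 30649910817317777167166940543006183672374782443672043520 p.2.1) = true := by decide +kernel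
theorem chk1423 : cover 6 [0] (l1421) 0 = true := by decide +kernel
theorem chk1426 : band (conjB P.ops R1 23384025848845302964217970736964930304364272160766 137 l1425) (subM 71835728478088540235547516897670742982128396352356352 (insL l1425 0)) = true := by decide +kernel
theorem chk1427 : band (fixL P.app (fun x => x) R1 [174, 175] pt1358c) (subM 71835728478088540235547516897670742982128396352356352 (insL [174, 175] 0)) = true := by decide +kernel
theorem chk1437 : band (slp P.ops R1 l1436 23384025848845302964217970736964930304364272160766) (subM 147119571923125330402401314606429681627398955729625808896 (insL l1436 23384025848845302964217970736964930304364272160766)) = true := by decide +kernel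
theorem chk1444 : band (slp P.ops R1 l1443 147119571923125330402401314606429681627398955729625808896) (subM 200818215675066075999277794437776515421399574570939229143040 (insL l1443 147119571923125330402401314606429681627398955729625808896)) = true := by decide +kernel
theorem chk1446 : subM 200474936673912116895005524703694846164268977007570102255616 200818215675066075999277794437776515421399574570939229143040 = true := by decide +kernel
theorem chk1447 : band (fixL P.app (fun x => x) R1 [188, 189, 190, 191, 192, 193, 194, 195, 196] pt1439c) (subM 200474936673912116895005524703694846164268977007570102255616 (insL [188, 189, 190, 191, 192, 193, 194, 195, 196] 0)) = true := by decide +kernel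
theorem chk1453 : band (pieces P.app (fun x => x) tab1451 R1 200818215675066075999277794437776515421399574570939229143040 [185, 186, 187, 188, 189, 190, 191, 192, 193, 194, 195, 196] pt1439c l1452) (allL l1452 fun p => subW 200818215675066075999277794437776515421399574570939229143040 p.2.1) = true := by decide +kernel
theorem chk1454 : cover 36 [0] (l1452) 0 = true := by decide +kernel
theorem chk1456 : subM 194590153796987103678909472119437658899173018778385069899776 200474936673912116895005524703694846164268977007570102255616 = true := by decide +kernel
theorem chk1457 : band (fixL P.app (fun x => x) R1 [192, 193, 194, 195, 196] pt1440c) (subM 194590153796987103678909472119437658899173018778385069899776 (insL [192, 193, 194, 195, 196] 0)) = true := by decide +kernel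
theorem chk1463 : band (pieces P.app (fun x => x) tab1461 R1 200474936673912116895005524703694846164268977007570102255616 [188, 189, 190, 191, 192, 193, 194, 195, 196] pt1440c l1462) (allL l1462 fun p => subW 200474936673912116895005524703694846164268977007570102255616 p.2.1) = true := by decide +kernel
theorem chk1464 : cover 100 [0] (l1462) 0 = true := by decide +kernel
theorem chk1466 : subM 150650441649280338332058946156983993986456530667136828309504 194590153796987103678909472119437658899173018778385069899776 = true := by decide +kernel
theorem chk1467 : band (fixL P.app (fun x => x) R1 [195, 196] pt1441c) (subM 150650441649280338332058946156983993986456530667136828309504 (insL [195, 196] 0)) = true := by decide +kernel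
theorem chk1473 : band (pieces P.app (fun x => x) tab1471 R1 194590153796987103678909472119437658899173018778385069899776 [192, 193, 194, 195, 196] pt1441c l1472) (allL l1472 fun p => subW 194590153796987103678909472119437658899173018778385069899776 p.2.1) = true := by decide +kernel
theorem chk1474 : cover 24 [0] (l1472) 0 = true := by decide +kernel
theorem chk1476 : subM 0 150650441649280338332058946156983993986456530667136828309504 = true := by decide +kernel
theorem chk1477 : band (fixL P.app (fun x => x) R1 [] pt1442c) (subM 0 (insL [] 0)) = true := by decide +kernel
theorem chk1483 : band (pieces P.app (fun x => x) tab1481 R1 150650441649280338332058946156983993986456530667136828309504 [195, 196] pt1442c l1482) (allL l1482 fun p => subW 150650441649280338332058946156983993986456530667136828309504 p.2.1) = true := by decide +kernel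
theorem chk1484 : cover 6 [0] (l1482) 0 = true := by decide +kernel
theorem chk1487 : band (conjA P.ops R1 23384025848845302964217970736964930304364272160766 137 l1486) (subM 147119571923125330402401314606429681627398955729625808896 (insL l1486 0)) = true := by decide +kernel
theorem chk1489 : dcRel P.ops R1 23384025848845302964217970736964930304364272160766 23921858800006443537021433835193368264733369187696640 137 137 l1488 = true := by decide +kernel
theorem chk1494 : band (pieces P.app (fun x => x) tab1492 R1 200818215675066075999277794437776515421399574570939229143040 [185, 186, 187, 188, 189, 190, 191, 192, 193, 194, 195, 196] pt1358c l1493) (allL l1493 fun p => subW 23384025848845302964217970736964930304364272160766 p.2.1) = true := by decide +kernel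
theorem chk1495 : cover 462 (List.map Prod.fst (l1488)) (l1493) 0 = true := by decide +kernel
theorem chk1497 : allL (List.map Prod.fst (l1488)) (subW 23384025848845302964217970736964930304364272160766) = true := by decide +kernel
theorem chk1525 : band (slp P.ops R1 l1524 23384025848845302964217970736964930304364272160766) (subM 1406070788726616491099216830798517277206927619559943730888704 (insL l1524 23384025848845302964217970736964930304364272160766)) = true := by decide +kernel
theorem chk1531 : band (slp P.ops R1 l1530 1406070788726616491099216830798517277206927619559943730888704) (subM 102643167577043003850242828648291761236105716227875892354875392 (insL l1530 1406070788726616491099216830798517277206927619559943730888704)) = true := by decide +kernel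
theorem chk1533 : subM 101237096788316387359143611817493243958898788608315948623986688 102643167577043003850242828648291761236105716227875892354875392 = true := by decide +kernel
theorem chk1534 : band (fixL P.app (fun x => x) R1 [200, 201, 202, 203, 204, 205] pt1527c) (subM 101237096788316387359143611817493243958898788608315948623986688 (insL [200, 201, 202, 203, 204, 205] 0)) = true := by decide +kernel
theorem chk1540 : band (pieces P.app (fun x => x) tab1538 R1 102643167577043003850242828648291761236105716227875892354875392 [197, 198, 199, 200, 201, 202, 203, 204, 205] pt1527c l1539) (allL l1539 fun p => subW 102643167577043003850242828648291761236105716227875892354875392 p.2.1) = true := by decide +kernel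
theorem chk1541 : cover 36 [0] (l1539) 0 = true := by decide +kernel
theorem chk1543 : subM 77133026124431533226014180432375804921065743701574056094466048 101237096788316387359143611817493243958898788608315948623986688 = true := by decide +kernel
theorem chk1544 : band (fixL P.app (fun x => x) R1 [204, 205] pt1528c) (subM 77133026124431533226014180432375804921065743701574056094466048 (insL [204, 205] 0)) = true := by decide +kernel
theorem chk1550 : band (pieces P.app (fun x => x) tab1548 R1 101237096788316387359143611817493243958898788608315948623986688 [200, 201, 202, 203, 204, 205] pt1528c l1549) (allL l1549 fun p => subW 101237096788316387359143611817493243958898788608315948623986688 p.2.1) = true := by decide +kernel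
theorem chk1551 : cover 100 [0] (l1549) 0 = true := by decide +kernel
theorem chk1553 : subM 0 77133026124431533226014180432375804921065743701574056094466048 = true := by decide +kernel
theorem chk1554 : band (fixL P.app (fun x => x) R1 [] pt1529c) (subM 0 (insL [] 0)) = true := by decide +kernel
theorem chk1560 : band (pieces P.app (fun x => x) tab1558 R1 77133026124431533226014180432375804921065743701574056094466048 [204, 205] pt1529c l1559) (allL l1559 fun p => subW 77133026124431533226014180432375804921065743701574056094466048 p.2.1) = true := by decide +kernel
theorem chk1561 : cover 4 [0] (l1559) 0 = true := by decide +kernel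
theorem chk1564 : band (conjA P.ops R1 23384025848845302964217970736964930304364272160766 164 l1563) (subM 1406070788726616491099216830798517277206927619559943730888704 (insL l1563 0)) = true := by decide +kernel
theorem chk1566 : dcRel P.ops R1 23384025848845302964217970736964930304364272160766 23921858800006443537021433835193368264733369187696640 164 137 l1565 = true := by decide +kernel
theorem chk1571 : band (pieces P.app (fun x => x) tab1569 R1 102643167577043003850242828648291761236105716227875892354875392 [197, 198, 199, 200, 201, 202, 203, 204, 205] pt1358c l1570) (allL l1570 fun p => subW 23384025848845302964217970736964930304364272160766 p.2.1) = true := by decide +kernel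
theorem chk1572 : cover 462 (List.map Prod.fst (l1565)) (l1570) 0 = true := by decide +kernel
theorem chk1574 : allL (List.map Prod.fst (l1565)) (subW 23384025848845302964217970736964930304364272160766) = true := by decide +kernel
theorem chk1599 : band (slp P.ops R1 l1598 23384025848845302964217970736964930304364272160766) (subM 719908243828027643442799017368840845929946941214691190215016448 (insL l1598 23384025848845302964217970736964930304364272160766)) = true := by decide +kernel
theorem chk1605 : band (slp P.ops R1 l1604 719908243828027643442799017368840845929946941214691190215016448) (subM 26225228882306721296844821347007773673162352858535179072118456320 (insL l1604 719908243828027643442799017368840845929946941214691190215016448)) = true := by decide +kernel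
theorem chk1607 : subM 25505320638478693653402022329638932827232405917320487881903439872 26225228882306721296844821347007773673162352858535179072118456320 = true := by decide +kernel
theorem chk1608 : band (fixL P.app (fun x => x) R1 [209, 210, 211, 212, 213] pt1601c) (subM 25505320638478693653402022329638932827232405917320487881903439872 (insL [209, 210, 211, 212, 213] 0)) = true := by decide +kernel
theorem chk1614 : band (pieces P.app (fun x => x) tab1612 R1 26225228882306721296844821347007773673162352858535179072118456320 [206, 207, 208, 209, 210, 211, 212, 213] pt1601c l1613) (allL l1613 fun p => subW 26225228882306721296844821347007773673162352858535179072118456320 p.2.1) = true := by decide +kernel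
theorem chk1615 : cover 54 [0] (l1613) 0 = true := by decide +kernel
theorem chk1617 : subM 19746054687854472505859630190688206059792830387602958360183308288 25505320638478693653402022329638932827232405917320487881903439872 = true := by decide +kernel
theorem chk1618 : band (fixL P.app (fun x => x) R1 [212, 213] pt1602c) (subM 19746054687854472505859630190688206059792830387602958360183308288 (insL [212, 213] 0)) = true := by decide +kernel
theorem chk1624 : band (pieces P.app (fun x => x) tab1622 R1 25505320638478693653402022329638932827232405917320487881903439872 [209, 210, 211, 212, 213] pt1602c l1623) (allL l1623 fun p => subW 25505320638478693653402022329638932827232405917320487881903439872 p.2.1) = true := by decide +kernel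
theorem chk1625 : cover 36 [0] (l1623) 0 = true := by decide +kernel
theorem chk1627 : subM 0 19746054687854472505859630190688206059792830387602958360183308288 = true := by decide +kernel
theorem chk1628 : band (fixL P.app (fun x => x) R1 [] pt1603c) (subM 0 (insL [] 0)) = true := by decide +kernel
theorem chk1634 : band (pieces P.app (fun x => x) tab1632 R1 19746054687854472505859630190688206059792830387602958360183308288 [212, 213] pt1603c l1633) (allL l1633 fun p => subW 19746054687854472505859630190688206059792830387602958360183308288 p.2.1) = true := by decide +kernel
theorem chk1635 : cover 4 [0] (l1633) 0 = true := by decide +kernel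
theorem chk1638 : band (conjA P.ops R1 23384025848845302964217970736964930304364272160766 165 l1637) (subM 719908243828027643442799017368840845929946941214691190215016448 (insL l1637 0)) = true := by decide +kernel
theorem chk1640 : dcRel P.ops R1 23384025848845302964217970736964930304364272160766 23921858800006443537021433835193368264733369187696640 165 137 l1639 = true := by decide +kernel
theorem chk1642 : dcRel P.ops R1 23384025848845302964217970736964930304364272160766 23921858800006443537021433835193368264733369187696640 165 137 l1641 = true := by decide +kernel
theorem chk1647 : band (pieces P.app (fun x => x) tab1645 R1 26225228882306721296844821347007773673162352858535179072118456320 [206, 207, 208, 209, 210, 211, 212, 213] pt1358c l1646) (allL l1646 fun p => subW 23384025848845302964217970736964930304364272160766 p.2.1) = true := by decide +kernel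
theorem chk1648 : cover 462 (List.map Prod.fst (l1639 ++ (l1641))) (l1646) 0 = true := by decide +kernel
theorem chk1650 : allL (List.map Prod.fst (l1639 ++ (l1641))) (subW 23384025848845302964217970736964930304364272160766) = true := by decide +kernel
theorem chk1658 : band (slp P.ops R1 l1657 23384025848845302964217970736964930304364272160766) (subM 78984218751417890023438520762752824239171321550411833440733233152 (insL l1657 23384025848845302964217970736964930304364272160766)) = true := by decide +kernel
theorem chk1664 : band (slp P.ops R1 l1663 78984218751417890023438520762752824239171321550411833440733233152) (subM 26933618594233500497992535580098713065557420648690435203290032504832 (insL l1663 78984218751417890023438520762752824239171321550411833440733233152)) = true := by decide +kernel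
theorem chk1666 : subM 26854634375482082607969097059335960241318249327140023369849299271680 26933618594233500497992535580098713065557420648690435203290032504832 = true := by decide +kernel
theorem chk1667 : band (fixL P.app (fun x => x) R1 [216, 217, 218, 219, 220, 221, 222, 223] pt1660c) (subM 26854634375482082607969097059335960241318249327140023369849299271680 (insL [216, 217, 218, 219, 220, 221, 222, 223] 0)) = true := by decide +kernel
theorem chk1673 : band (pieces P.app (fun x => x) tab1671 R1 26933618594233500497992535580098713065557420648690435203290032504832 [214, 215, 216, 217, 218, 219, 220, 221, 222, 223] pt1660c l1672) (allL l1672 fun p => subW 26933618594233500497992535580098713065557420648690435203290032504832 p.2.1) = true := by decide +kernel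
theorem chk1674 : cover 16 [0] (l1672) 0 = true := by decide +kernel
theorem chk1676 : subM 23589953333756809820333638201142176839432501369723000920965658968064 26854634375482082607969097059335960241318249327140023369849299271680 = true := by decide +kernel
theorem chk1677 : band (fixL P.app (fun x => x) R1 [221, 222, 223] pt1661c) (subM 23589953333756809820333638201142176839432501369723000920965658968064 (insL [221, 222, 223] 0)) = true := by decide +kernel
theorem chk1683 : band (pieces P.app (fun x => x) tab1681 R1 26854634375482082607969097059335960241318249327140023369849299271680 [216, 217, 218, 219, 220, 221, 222, 223] pt1661c l1682) (allL l1682 fun p => subW 26854634375482082607969097059335960241318249327140023369849299271680 p.2.1) = true := by decide +kernel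
theorem chk1684 : cover 120 [0] (l1682) 0 = true := by decide +kernel
theorem chk1686 : subM 0 23589953333756809820333638201142176839432501369723000920965658968064 = true := by decide +kernel
theorem chk1687 : band (fixL P.app (fun x => x) R1 [] pt1662c) (subM 0 (insL [] 0)) = true := by decide +kernel
theorem chk1693 : band (pieces P.app (fun x => x) tab1691 R1 23589953333756809820333638201142176839432501369723000920965658968064 [221, 222, 223] pt1662c l1692) (allL l1692 fun p => subW 23589953333756809820333638201142176839432501369723000920965658968064 p.2.1) = true := by decide +kernel
theorem chk1694 : cover 12 [0] (l1692) 0 = true := by decide +kernel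
theorem chk1697 : band (conjA P.ops R1 23384025848845302964217970736964930304364272160766 166 l1696) (subM 78984218751417890023438520762752824239171321550411833440733233152 (insL l1696 0)) = true := by decide +kernel
theorem chk1699 : dcRel P.ops R1 23384025848845302964217970736964930304364272160766 23921858800006443537021433835193368264733369187696640 166 137 l1698 = true := by decide +kernel
theorem chk1701 : dcRel P.ops R1 23384025848845302964217970736964930304364272160766 23921858800006443537021433835193368264733369187696640 166 137 l1700 = true := by decide +kernel
theorem chk1706 : band (pieces P.app (fun x => x) tab1704 R1 26933618594233500497992535580098713065557420648690435203290032504832 [214, 215, 216, 217, 218, 219, 220, 221, 222, 223] pt1358c l1705) (allL l1705 fun p => subW 23384025848845302964217970736964930304364272160766 p.2.1) = true := by decide +kernel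
theorem chk1707 : cover 462 (List.map Prod.fst (l1698 ++ (l1700))) (l1705) 0 = true := by decide +kernel
theorem chk1709 : allL (List.map Prod.fst (l1698 ++ (l1700))) (subW 23384025848845302964217970736964930304364272160766) = true := by decide +kernel
theorem chk1739 : band (slp P.ops R1 l1738 23384025848845302964217970736964930304364272160766) (subM 188719626670054478562669105609137414715460010957784007367725271744512 (insL l1738 23384025848845302964217970736964930304364272160766)) = true := by decide +kernel
theorem chk1745 : band (slp P.ops R1 l1744 188719626670054478562669105609137414715460010957784007367725271744512) (subM 3423913226728131253922710916051493095551917341662652705100158501650432 (insL l1744 188719626670054478562669105609137414715460010957784007367725271744512)) = true := by decide +kernel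
theorem chk1747 : subM 3235193600058076775360041810442355680836457330704868697732433229905920 3423913226728131253922710916051493095551917341662652705100158501650432 = true := by decide +kernel
theorem chk1748 : band (fixL P.app (fun x => x) R1 [227, 228, 229, 230] pt1741c) (subM 3235193600058076775360041810442355680836457330704868697732433229905920 (insL [227, 228, 229, 230] 0)) = true := by decide +kernel
theorem chk1754 : band (pieces P.app (fun x => x) tab1752 R1 3423913226728131253922710916051493095551917341662652705100158501650432 [224, 225, 226, 227, 228, 229, 230] pt1741c l1753) (allL l1753 fun p => subW 3423913226728131253922710916051493095551917341662652705100158501650432 p.2.1) = true := by decide +kernel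
theorem chk1755 : cover 15 [0] (l1753) 0 = true := by decide +kernel
theorem chk1757 : subM 2588154880046461420288033448353884544669165864563894958185946583924736 3235193600058076775360041810442355680836457330704868697732433229905920 = true := by decide +kernel
theorem chk1758 : band (fixL P.app (fun x => x) R1 [229, 230] pt1742c) (subM 2588154880046461420288033448353884544669165864563894958185946583924736 (insL [229, 230] 0)) = true := by decide +kernel
theorem chk1764 : band (pieces P.app (fun x => x) tab1762 R1 3235193600058076775360041810442355680836457330704868697732433229905920 [227, 228, 229, 230] pt1742c l1763) (allL l1763 fun p => subW 3235193600058076775360041810442355680836457330704868697732433229905920 p.2.1) = true := by decide +kernel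
theorem chk1765 : cover 24 [0] (l1763) 0 = true := by decide +kernel
theorem chk1767 : subM 0 2588154880046461420288033448353884544669165864563894958185946583924736 = true := by decide +kernel
theorem chk1768 : band (fixL P.app (fun x => x) R1 [] pt1743c) (subM 0 (insL [] 0)) = true := by decide +kernel
theorem chk1774 : band (pieces P.app (fun x => x) tab1772 R1 2588154880046461420288033448353884544669165864563894958185946583924736 [229, 230] pt1743c l1773) (allL l1773 fun p => subW 2588154880046461420288033448353884544669165864563894958185946583924736 p.2.1) = true := by decide +kernel
theorem chk1775 : cover 4 [0] (l1773) 0 = true := by decide +kernel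
theorem chk1778 : band (conjA P.ops R1 23384025848845302964217970736964930304364272160766 167 l1777) (subM 188719626670054478562669105609137414715460010957784007367725271744512 (insL l1777 0)) = true := by decide +kernel
end

end CfsgH6.HN
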