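import Cfsg.Agent.H6.HeK0

set_option autoImplicit false
set_option maxRecDepth 100000
set_option linter.all false

namespace CfsgH6.He

open CfsgH5 CfsgH6 Subgroup MulAction Pointwise

noncomputable section

theorem B0_m0 : CD.Mem R (CD.gen R 0) 0 := GC.Mem.gen (GC.Mem.zero ⊤)
theorem val3 : C1.Mem R1 ⊤ 8190 := MC.mem_units (mc2 52) (can2_sound (by decide)) chk2
theorem val6 : C2.Mem R2 ⊤ 8190 := MC.mem_units (mc4 e8) (can4_sound e8) chk5
theorem valp7 : CD.Mem R ⊤ 8190 := (GC.mem_prod val3 val6).top
theorem B1_m0 : CD.Mem R (CD.gen R 8) 8 := GC.Mem.gen (valp7.sub chk8)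
theorem B1_dvd : Nat.card (CD.gen R 8) ∣ 2 := GC.card_ins (dvd_step (B0_m0.pc (m := 2) (w := 0) (valp7.get (i := 3) (by decide +kernel)) B0_m0.top chk10 chk11) GC.card_gen_zero (n := 2) (by decide +kernel)) (by decide +kernel)
theorem B2_m0 : CD.Mem R (CD.gen R 24) 24 := GC.Mem.gen (valp7.sub chk12)
theorem B2_dvd : Nat.card (CD.gen R 24) ∣ 4 := GC.card_ins (dvd_step (B1_m0.pc (m := 2) (w := 0) (valp7.get (i := 4) (by decide +kernel)) B1_m0.top chk14 chk15) B1_dvd (n := 4) (by decide +kernel)) (by decide +kernel)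
theorem B3_m0 : CD.Mem R (CD.gen R 56) 56 := GC.Mem.gen (valp7.sub chk16)
theorem B3_dvd : Nat.card (CD.gen R 56) ∣ 8 := GC.card_ins (dvd_step (B2_m0.pc (m := 2) (w := 0) (valp7.get (i := 5) (by decide +kernel)) B2_m0.top chk18 chk19) B2_dvd (n := 8) (by decide +kernel)) (by decide +kernel)
theorem B4_m0 : CD.Mem R (CD.gen R 120) 120 := GC.Mem.gen (valp7.sub chk20)
theorem B4_dvd : Nat.card (CD.gen R 120) ∣ 16 := GC.card_ins (dvd_step (B3_m0.pc (m := 2) (w := 0) (valp7.get (i := 6) (by decide +kernel)) B3_m0.top chk22 chk23) B3_dvd (n := 16) (by decide +kernel)) (by decide +kernel)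
theorem B5_m0 : CD.Mem R (CD.gen R 248) 248 := GC.Mem.gen (valp7.sub chk24)
theorem B5_dvd : Nat.card (CD.gen R 248) ∣ 32 := GC.card_ins (dvd_step (B4_m0.pc (m := 2) (w := 4) (valp7.get (i := 7) (by decide +kernel)) B4_m0.top chk26 chk27) B4_dvd (n := 32) (by decide +kernel)) (by decide +kernel)
theorem B6_m0 : CD.Mem R (CD.gen R 504) 504 := GC.Mem.gen (valp7.sub chk28)
theorem B6_dvd : Nat.card (CD.gen R 504) ∣ 64 := GC.card_ins (dvd_step (B5_m0.pc (m := 2) (w := 6) (valp7.get (i := 8) (by decide +kernel)) B5_m0.top chk30 chk31) B5_dvd (n := 64) (by decide +kernel)) (by decide +kernel)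
theorem B7_m0 : CD.Mem R (CD.gen R 1016) 1016 := GC.Mem.gen (valp7.sub chk32)
theorem B7_dvd : Nat.card (CD.gen R 1016) ∣ 128 := GC.card_ins (dvd_step (B6_m0.pc (m := 2) (w := 0) (valp7.get (i := 9) (by decide +kernel)) B6_m0.top chk34 chk35) B6_dvd (n := 128) (by decide +kernel)) (by decide +kernel)
theorem B8_m0 : CD.Mem R (CD.gen R 2040) 2040 := GC.Mem.gen (valp7.sub chk36)
theorem B8_dvd : Nat.card (CD.gen R 2040) ∣ 256 := GC.card_ins (dvd_step (B7_m0.pc (m := 2) (w := 0) (valp7.get (i := 10) (by decide +kernel)) B7_m0.top chk38 chk39) B7_dvd (n := 256) (by decide +kernel)) (by decide +kernel)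
theorem B9_m0 : CD.Mem R (CD.gen R 4088) 4088 := GC.Mem.gen (valp7.sub chk40)
theorem B9_dvd : Nat.card (CD.gen R 4088) ∣ 768 := GC.card_ins (dvd_step (B8_m0.pc (m := 3) (w := 0) (valp7.get (i := 11) (by decide +kernel)) B8_m0.top chk42 chk43) B8_dvd (n := 768) (by decide +kernel)) (by decide +kernel)
theorem B10_m0 : CD.Mem R (CD.gen R 8184) 8184 := GC.Mem.gen (valp7.sub chk44)
theorem B10_dvd : Nat.card (CD.gen R 8184) ∣ 2304 := GC.card_ins (dvd_step (B9_m0.pc (m := 3) (w := 0) (valp7.get (i := 12) (by decide +kernel)) B9_m0.top chk46 chk47) B9_dvd (n := 2304) (by decide +kernel)) (by decide +kernel)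
theorem B10_ub : Nat.card (CD.gen R 8184) ≤ 2304 := le_of_dvd' B10_dvd (by decide +kernel)
theorem pt48e : ∃ x, D1.Rep pt48c x := (act4_rep e8 (d := 3) (by decide) (by decide) (c := 0x80) (by decide +kernel)).elim fun x hx => ⟨_, x, hx, rfl⟩
noncomputable def pt48 := Classical.choose pt48e
theorem pt48r : D1.Rep pt48c pt48 := Classical.choose_spec pt48e
theorem P_m0 : CD.Mem R (CD.gen R 8186) 8186 := GC.Mem.gen (valp7.sub chk49)
theorem P_I : CD.Mem R (CD.gen R 8186) 2 := P_m0.sub chk50
theorem PK_in53 : CD.Mem R (CD.gen R 8184) 24576 := B10_m0.slp' chk52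
theorem PK_m0 : CD.Mem R (CD.gen R 24576) 24576 := GC.Mem.gen PK_in53.top
theorem pt54e : ∃ x, D1.Rep pt54c x := (act4_rep e8 (d := 3) (by decide) (by decide) (c := 0x41) (by decide +kernel)).elim fun x hx => ⟨_, x, hx, rfl⟩
noncomputable def pt54 := Classical.choose pt54e
theorem pt54r : D1.Rep pt54c pt54 := Classical.choose_spec pt54e
theorem pt55e : ∃ x, D1.Rep pt55c x := (act4_rep e8 (d := 3) (by decide) (by decide) (c := 0x4) (by decide +kernel)).elim fun x hx => ⟨_, x, hx, rfl⟩
noncomputable def pt55 := Classical.choose pt55e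
theorem pt55r : D1.Rep pt55c pt55 := Classical.choose_spec pt55e
theorem pt56e : ∃ x, D1.Rep pt56c x := (act4_rep e8 (d := 3) (by decide) (by decide) (c := 0x10) (by decide +kernel)).elim fun x hx => ⟨_, x, hx, rfl⟩
noncomputable def pt56 := Classical.choose pt56e
theorem pt56r : D1.Rep pt56c pt56 := Classical.choose_spec pt56e
theorem pt57e : ∃ x, D1.Rep pt57c x := (act4_rep e8 (d := 3) (by decide) (by decide) (c := 0x5) (by decide +kernel)).elim fun x hx => ⟨_, x, hx, rfl⟩
noncomputable def pt57 := Classical.choose pt57e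
theorem pt57r : D1.Rep pt57c pt57 := Classical.choose_spec pt57e
theorem PK_s0_60 : CD.Mem R (CD.gen R 24576) 516096 := PK_m0.slp' chk59
theorem PK_c0i : CD.Mem R (CD.gen R 24576) 491520 := PK_s0_60.sub chk61
theorem PK_c0m : CD.Mem R (CD.gen R 491520) 491520 := PK_c0i.gen
theorem fx63 : CD.gen R 491520 ≤ stabilizer _ pt54 := Act.fix_sound PK_c0i.top pt54r chk62
theorem cov70 : Cov (CD.gen R 24576) (CD.wds R [0]) pt54 3 := Act.cov_of_seen (Act.pieces_sound PK_s0_60 PK_s0_60.top pt54r chk68) chk69
theorem PK_c1i : CD.Mem R (CD.gen R 491520) 458752 := PK_c0m.sub chk71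
theorem PK_c1m : CD.Mem R (CD.gen R 458752) 458752 := PK_c1i.gen
theorem fx73 : CD.gen R 458752 ≤ stabilizer _ pt55 := Act.fix_sound PK_c1i.top pt55r chk72
theorem cov80 : Cov (CD.gen R 491520) (CD.wds R [0]) pt55 4 := Act.cov_of_seen (Act.pieces_sound PK_c0m PK_c0m.top pt55r chk78) chk79
theorem PK_c2i : CD.Mem R (CD.gen R 458752) 262144 := PK_c1m.sub chk81
theorem PK_c2m : CD.Mem R (CD.gen R 262144) 262144 := PK_c2i.gen
theorem fx83 : CD.gen R 262144 ≤ stabilizer _ pt56 := Act.fix_sound PK_c2i.top pt56r chk82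
theorem cov90 : Cov (CD.gen R 458752) (CD.wds R [0]) pt56 4 := Act.cov_of_seen (Act.pieces_sound PK_c1m PK_c1m.top pt56r chk88) chk89
theorem PK_c3i : CD.Mem R (CD.gen R 262144) 0 := PK_c2m.sub chk91
theorem PK_c3m : CD.Mem R (CD.gen R 0) 0 := PK_c3i.gen
theorem fx93 : CD.gen R 0 ≤ stabilizer _ pt57 := Act.fix_sound PK_c3i.top pt57r chk92
theorem cov100 : Cov (CD.gen R 262144) (CD.wds R [0]) pt57 3 := Act.cov_of_seen (Act.pieces_sound PK_c2m PK_c2m.top pt57r chk98) chk99
theorem PK_lb4 : 1 ≤ Nat.card (CD.gen R 0) := Nat.card_pos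
theorem PK_lo3 : 3 * Nat.card (CD.gen R 0) ≤ Nat.card (CD.gen R 262144) := cov100.low le_rfl (GC.wds_zero _) PK_c3i.gen_le fx93
theorem PK_lb3 : 3 ≤ Nat.card (CD.gen R 262144) := low_step PK_lo3 PK_lb4 (by decide +kernel)
theorem PK_lo2 : 4 * Nat.card (CD.gen R 262144) ≤ Nat.card (CD.gen R 458752) := cov90.low le_rfl (GC.wds_zero _) PK_c2i.gen_le fx83
theorem PK_lb2 : 12 ≤ Nat.card (CD.gen R 458752) := low_step PK_lo2 PK_lb3 (by decide +kernel)
theorem PK_lo1 : 4 * Nat.card (CD.gen R 458752) ≤ Nat.card (CD.gen R 491520) := cov80.low le_rfl (GC.wds_zero _) PK_c1i.gen_le fx73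
theorem PK_lb1 : 48 ≤ Nat.card (CD.gen R 491520) := low_step PK_lo1 PK_lb2 (by decide +kernel)
theorem PK_lo0 : 3 * Nat.card (CD.gen R 491520) ≤ Nat.card (CD.gen R 24576) := cov70.low le_rfl (GC.wds_zero _) PK_c0i.gen_le fx63
theorem PK_lb0 : 144 ≤ Nat.card (CD.gen R 24576) := low_step PK_lo0 PK_lb1 (by decide +kernel)
theorem fx104 : CD.gen R 24576 ≤ stabilizer _ pt48 := Act.fix_sound PK_in53.top pt48r chk103
theorem P_Kc : ∀ κ ∈ (CD.gen R 24576), (CD.el (R 1))⁻¹ * κ * CD.el (R 1) ∈ (CD.gen R 8184) := B10_m0.conjB (P_m0.get (i := 1) (by decide +kernel)).top PK_in53.top chk102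
theorem PT1_in120 : CD.Mem R (CD.gen R 8184) 1572864 := B10_m0.slp' chk119
theorem PT1_m0 : CD.Mem R (CD.gen R 1572864) 1572864 := GC.Mem.gen PT1_in120.top
theorem pt121e : ∃ x, D0.Rep pt121c x := act4_rep e8 (d := 3) (by decide) (by decide) (c := 0x1) (by decide +kernel)
noncomputable def pt121 := Classical.choose pt121e
theorem pt121r : D0.Rep pt121c pt121 := Classical.choose_spec pt121e
theorem pt122e : ∃ x, D1.Rep pt122c x := (act4_rep e8 (d := 3) (by decide) (by decide) (c := 0x4) (by decide +kernel)).elim fun x hx => ⟨_, x, hx, rfl⟩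
noncomputable def pt122 := Classical.choose pt122e
theorem pt122r : D1.Rep pt122c pt122 := Classical.choose_spec pt122e
theorem pt123e : ∃ x, D1.Rep pt123c x := (act4_rep e8 (d := 3) (by decide) (by decide) (c := 0x10) (by decide +kernel)).elim fun x hx => ⟨_, x, hx, rfl⟩
noncomputable def pt123 := Classical.choose pt123e
theorem pt123r : D1.Rep pt123c pt123 := Classical.choose_spec pt123e
theorem pt124e : ∃ x, D1.Rep pt124c x := (act4_rep e8 (d := 3) (by decide) (by decide) (c := 0x40) (by decide +kernel)).elim fun x hx => ⟨_, x, hx, rfl⟩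
noncomputable def pt124 := Classical.choose pt124e
theorem pt124r : D1.Rep pt124c pt124 := Classical.choose_spec pt124e
theorem PT1_s0_127 : CD.Mem R (CD.gen R 1572864) 133693440 := PT1_m0.slp' chk126
theorem PT1_c0i : CD.Mem R (CD.gen R 1572864) 132120576 := PT1_s0_127.sub chk128
theorem PT1_c0m : CD.Mem R (CD.gen R 132120576) 132120576 := PT1_c0i.gen
theorem fx130 : CD.gen R 132120576 ≤ stabilizer _ pt121 := Act.fix_sound PT1_c0i.top pt121r chk129
theorem cov137 : Cov (CD.gen R 1572864) (CD.wds R [0]) pt121 3 := Act.cov_of_seen (Act.pieces_sound PT1_s0_127 PT1_s0_127.top pt121r chk135) chk136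
theorem PT1_c1i : CD.Mem R (CD.gen R 132120576) 121634816 := PT1_c0m.sub chk138
theorem PT1_c1m : CD.Mem R (CD.gen R 121634816) 121634816 := PT1_c1i.gen
theorem fx140 : CD.gen R 121634816 ≤ stabilizer _ pt122 := Act.fix_sound PT1_c1i.top pt122r chk139
theorem cov147 : Cov (CD.gen R 132120576) (CD.wds R [0]) pt122 4 := Act.cov_of_seen (Act.pieces_sound PT1_c0m PT1_c0m.top pt122r chk145) chk146
theorem PT1_c2i : CD.Mem R (CD.gen R 121634816) 67108864 := PT1_c1m.sub chk148
theorem PT1_c2m : CD.Mem R (CD.gen R 67108864) 67108864 := PT1_c2i.gen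
theorem fx150 : CD.gen R 67108864 ≤ stabilizer _ pt123 := Act.fix_sound PT1_c2i.top pt123r chk149
theorem cov157 : Cov (CD.gen R 121634816) (CD.wds R [0]) pt123 16 := Act.cov_of_seen (Act.pieces_sound PT1_c1m PT1_c1m.top pt123r chk155) chk156
theorem PT1_c3i : CD.Mem R (CD.gen R 67108864) 0 := PT1_c2m.sub chk158
theorem PT1_c3m : CD.Mem R (CD.gen R 0) 0 := PT1_c3i.gen
theorem fx160 : CD.gen R 0 ≤ stabilizer _ pt124 := Act.fix_sound PT1_c3i.top pt124r chk159
theorem cov167 : Cov (CD.gen R 67108864) (CD.wds R [0]) pt124 3 := Act.cov_of_seen (Act.pieces_sound PT1_c2m PT1_c2m.top pt124r chk165) chk166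
theorem PT1_lb4 : 1 ≤ Nat.card (CD.gen R 0) := Nat.card_pos
theorem PT1_lo3 : 3 * Nat.card (CD.gen R 0) ≤ Nat.card (CD.gen R 67108864) := cov167.low le_rfl (GC.wds_zero _) PT1_c3i.gen_le fx160
theorem PT1_lb3 : 3 ≤ Nat.card (CD.gen R 67108864) := low_step PT1_lo3 PT1_lb4 (by decide +kernel)
theorem PT1_lo2 : 16 * Nat.card (CD.gen R 67108864) ≤ Nat.card (CD.gen R 121634816) := cov157.low le_rfl (GC.wds_zero _) PT1_c2i.gen_le fx150
theorem PT1_lb2 : 48 ≤ Nat.card (CD.gen R 121634816) := low_step PT1_lo2 PT1_lb3 (by decide +kernel)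
theorem PT1_lo1 : 4 * Nat.card (CD.gen R 121634816) ≤ Nat.card (CD.gen R 132120576) := cov147.low le_rfl (GC.wds_zero _) PT1_c1i.gen_le fx140
theorem PT1_lb1 : 192 ≤ Nat.card (CD.gen R 132120576) := low_step PT1_lo1 PT1_lb2 (by decide +kernel)
theorem PT1_lo0 : 3 * Nat.card (CD.gen R 132120576) ≤ Nat.card (CD.gen R 1572864) := cov137.low le_rfl (GC.wds_zero _) PT1_c0i.gen_le fx130
theorem PT1_lb0 : 576 ≤ Nat.card (CD.gen R 1572864) := low_step PT1_lo0 PT1_lb1 (by decide +kernel)
theorem P_T1c : ∀ τ ∈ (CD.gen R 1572864), CD.el (R 1) * τ * (CD.el (R 1))⁻¹ ∈ (CD.gen R 8184) := B10_m0.conjA (P_I.get (i := 1) (by decide +kernel)).top PT1_in120.top chk169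
theorem cov178 : Cov (CD.gen R 1572864) (CD.wds R (List.map Prod.fst (l170))) pt48 16 := Act.cov_of_seen (Act.pieces_sound PT1_s0_127 B10_m0.top pt48r chk176) chk177
theorem P_T1d : Dec (CD.gen R 8184) (CD.gen R 1572864) (CD.wds R (List.map Prod.fst (l170))) (CD.gen R 24576) := cov178.dec PT1_in120.gen_le (GC.wds_sub B10_m0 chk179) PK_in53.gen_le fx104 (up_low B10_ub PK_lb0 (by decide +kernel))
theorem P_T1p : ∀ x ∈ DC1 (CD.gen R 8184) (CD.el (R 1)), x * CD.el (R 1) ∈ DCs (CD.gen R 8184) (CD.els R 2) := GC.dc_piece' P_T1d P_T1c P_Kc (B10_m0.dcRel P_I.top (P_I.get (i := 1) (by decide +kernel)).top (P_m0.get (i := 1) (by decide +kernel)).top chk171)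
theorem P_T1u : Nat.card (CD.gen R 8184) ≤ 4 * Nat.card (CD.gen R 1572864) := up_low B10_ub PT1_lb0 (by decide +kernel)
theorem P_T1n : (DC1 (CD.gen R 8184) (CD.el (R 1))).ncard ≤ Nat.card (CD.gen R 8184) * 4 := ncard_DC1 PT1_in120.gen_le P_T1c P_T1u
theorem P_dc : ∀ x ∈ (CD.gen R 8186), x ∈ DCs (CD.gen R 8184) (CD.els R 2) := GC.dc_gen (MU := 2) B10_m0 (by decide +kernel) (GC.forall_els (L := [1]) (forall_cons ⟨B10_m0.inDC' P_I.top (P_m0.get (i := 1) (by decide +kernel)).top chk180, GC.forall_els (L := [1]) (forall_cons P_T1p forall_nil) (by decide +kernel)⟩ forall_nil) (by decide +kernel))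
theorem P_cs : ∀ p ∈ ([(1, 4)] : List (ℕ × ℕ)), (DC1 (CD.gen R 8184) (CD.el (R p.1))).ncard ≤ Nat.card (CD.gen R 8184) * p.2 := (forall_cons P_T1n forall_nil)
theorem P_ix : Nat.card (CD.gen R 8186) ≤ 5 * Nat.card (CD.gen R 8184) := GC.card_dc [(1, 4)] P_dc P_cs (by decide +kernel)
theorem P_ub : Nat.card (CD.gen R 8186) ≤ 11520 := up_mul P_ix B10_ub (by decide +kernel)
theorem pt181e : ∃ x, D1.Rep pt181c x := (act4_rep e8 (d := 3) (by decide) (by decide) (c := 0x4) (by decide +kernel)).elim fun x hx => ⟨_, x, hx, rfl⟩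
noncomputable def pt181 := Classical.choose pt181e
theorem pt181r : D1.Rep pt181c pt181 := Classical.choose_spec pt181e
theorem P_s0_184 : CD.Mem R (CD.gen R 8186) 34225528826 := P_m0.slp' chk183
theorem D_m0 : CD.Mem R (CD.gen R 8190) 8190 := GC.Mem.gen valp7
theorem D_m1 : CD.Mem R (CD.gen R 8190) 34225528830 := D_m0.lor' (P_s0_184.mono (D_m0.sub chk185).gen_le) chk186
theorem D_s1_189 : CD.Mem R (CD.gen R 8190) 68585267198 := D_m1.slp' chk188
theorem D_I : CD.Mem R (CD.gen R 8190) 34359738372 := D_s1_189.sub chk190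
theorem DK_in193 : CD.Mem R (CD.gen R 8186) 206158430208 := P_s0_184.slp' chk192
theorem DK_m0 : CD.Mem R (CD.gen R 206158430208) 206158430208 := GC.Mem.gen DK_in193.top
theorem pt194e : ∃ x, D1.Rep pt194c x := (act4_rep e8 (d := 3) (by decide) (by decide) (c := 0x5) (by decide +kernel)).elim fun x hx => ⟨_, x, hx, rfl⟩
noncomputable def pt194 := Classical.choose pt194e
theorem pt194r : D1.Rep pt194c pt194 := Classical.choose_spec pt194e
theorem pt195e : ∃ x, D1.Rep pt195c x := (act4_rep e8 (d := 3) (by decide) (by decide) (c := 0x10) (by decide +kernel)).elim fun x hx => ⟨_, x, hx, rfl⟩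
noncomputable def pt195 := Classical.choose pt195e
theorem pt195r : D1.Rep pt195c pt195 := Classical.choose_spec pt195e
theorem pt196e : ∃ x, D1.Rep pt196c x := (act4_rep e8 (d := 3) (by decide) (by decide) (c := 0x40) (by decide +kernel)).elim fun x hx => ⟨_, x, hx, rfl⟩
noncomputable def pt196 := Classical.choose pt196e
theorem pt196r : D1.Rep pt196c pt196 := Classical.choose_spec pt196e
theorem pt197e : ∃ x, D1.Rep pt197c x := (act4_rep e8 (d := 3) (by decide) (by decide) (c := 0x11) (by decide +kernel)).elim fun x hx => ⟨_, x, hx, rfl⟩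
noncomputable def pt197 := Classical.choose pt197e
theorem pt197r : D1.Rep pt197c pt197 := Classical.choose_spec pt197e
theorem DK_s0_200 : CD.Mem R (CD.gen R 206158430208) 4329327034368 := DK_m0.slp' chk199
theorem DK_c0i : CD.Mem R (CD.gen R 206158430208) 4123168604160 := DK_s0_200.sub chk201
theorem DK_c0m : CD.Mem R (CD.gen R 4123168604160) 4123168604160 := DK_c0i.gen
theorem fx203 : CD.gen R 4123168604160 ≤ stabilizer _ pt194 := Act.fix_sound DK_c0i.top pt194r chk202
theorem cov210 : Cov (CD.gen R 206158430208) (CD.wds R [0]) pt194 3 := Act.cov_of_seen (Act.pieces_sound DK_s0_200 DK_s0_200.top pt194r chk208) chk209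
theorem DK_c1i : CD.Mem R (CD.gen R 4123168604160) 3298534883328 := DK_c0m.sub chk211
theorem DK_c1m : CD.Mem R (CD.gen R 3298534883328) 3298534883328 := DK_c1i.gen
theorem fx213 : CD.gen R 3298534883328 ≤ stabilizer _ pt195 := Act.fix_sound DK_c1i.top pt195r chk212
theorem cov220 : Cov (CD.gen R 4123168604160) (CD.wds R [0]) pt195 16 := Act.cov_of_seen (Act.pieces_sound DK_c0m DK_c0m.top pt195r chk218) chk219
theorem DK_c2i : CD.Mem R (CD.gen R 3298534883328) 2199023255552 := DK_c1m.sub chk221
theorem DK_c2m : CD.Mem R (CD.gen R 2199023255552) 2199023255552 := DK_c2i.gen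
theorem fx223 : CD.gen R 2199023255552 ≤ stabilizer _ pt196 := Act.fix_sound DK_c2i.top pt196r chk222
theorem cov230 : Cov (CD.gen R 3298534883328) (CD.wds R [0]) pt196 4 := Act.cov_of_seen (Act.pieces_sound DK_c1m DK_c1m.top pt196r chk228) chk229
theorem DK_c3i : CD.Mem R (CD.gen R 2199023255552) 0 := DK_c2m.sub chk231
theorem DK_c3m : CD.Mem R (CD.gen R 0) 0 := DK_c3i.gen
theorem fx233 : CD.gen R 0 ≤ stabilizer _ pt197 := Act.fix_sound DK_c3i.top pt197r chk232
theorem cov240 : Cov (CD.gen R 2199023255552) (CD.wds R [0]) pt197 3 := Act.cov_of_seen (Act.pieces_sound DK_c2m DK_c2m.top pt197r chk238) chk239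
theorem DK_lb4 : 1 ≤ Nat.card (CD.gen R 0) := Nat.card_pos
theorem DK_lo3 : 3 * Nat.card (CD.gen R 0) ≤ Nat.card (CD.gen R 2199023255552) := cov240.low le_rfl (GC.wds_zero _) DK_c3i.gen_le fx233
theorem DK_lb3 : 3 ≤ Nat.card (CD.gen R 2199023255552) := low_step DK_lo3 DK_lb4 (by decide +kernel)
theorem DK_lo2 : 4 * Nat.card (CD.gen R 2199023255552) ≤ Nat.card (CD.gen R 3298534883328) := cov230.low le_rfl (GC.wds_zero _) DK_c2i.gen_le fx223
theorem DK_lb2 : 12 ≤ Nat.card (CD.gen R 3298534883328) := low_step DK_lo2 DK_lb3 (by decide +kernel)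
theorem DK_lo1 : 16 * Nat.card (CD.gen R 3298534883328) ≤ Nat.card (CD.gen R 4123168604160) := cov220.low le_rfl (GC.wds_zero _) DK_c1i.gen_le fx213
theorem DK_lb1 : 192 ≤ Nat.card (CD.gen R 4123168604160) := low_step DK_lo1 DK_lb2 (by decide +kernel)
theorem DK_lo0 : 3 * Nat.card (CD.gen R 4123168604160) ≤ Nat.card (CD.gen R 206158430208) := cov210.low le_rfl (GC.wds_zero _) DK_c0i.gen_le fx203
theorem DK_lb0 : 576 ≤ Nat.card (CD.gen R 206158430208) := low_step DK_lo0 DK_lb1 (by decide +kernel)
theorem fx244 : CD.gen R 206158430208 ≤ stabilizer _ pt181 := Act.fix_sound DK_in193.top pt181r chk243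
theorem D_Kc : ∀ κ ∈ (CD.gen R 206158430208), (CD.el (R 2))⁻¹ * κ * CD.el (R 2) ∈ (CD.gen R 8186) := P_s0_184.conjB (D_m1.get (i := 2) (by decide +kernel)).top DK_in193.top chk242
theorem DT1_in252 : CD.Mem R (CD.gen R 8186) 13194139533312 := P_s0_184.slp' chk251
theorem DT1_m0 : CD.Mem R (CD.gen R 13194139533312) 13194139533312 := GC.Mem.gen DT1_in252.top
theorem pt253e : ∃ x, D0.Rep pt253c x := act4_rep e8 (d := 3) (by decide) (by decide) (c := 0x1) (by decide +kernel)
noncomputable def pt253 := Classical.choose pt253e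
theorem pt253r : D0.Rep pt253c pt253 := Classical.choose_spec pt253e
theorem pt254e : ∃ x, D1.Rep pt254c x := (act4_rep e8 (d := 3) (by decide) (by decide) (c := 0x55) (by decide +kernel)).elim fun x hx => ⟨_, x, hx, rfl⟩
noncomputable def pt254 := Classical.choose pt254e
theorem pt254r : D1.Rep pt254c pt254 := Classical.choose_spec pt254e
theorem pt255e : ∃ x, D1.Rep pt255c x := (act4_rep e8 (d := 3) (by decide) (by decide) (c := 0x4) (by decide +kernel)).elim fun x hx => ⟨_, x, hx, rfl⟩
noncomputable def pt255 := Classical.choose pt255e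
theorem pt255r : D1.Rep pt255c pt255 := Classical.choose_spec pt255e
theorem DT1_s0_258 : CD.Mem R (CD.gen R 13194139533312) 277076930199552 := DT1_m0.slp' chk257
theorem DT1_c0i : CD.Mem R (CD.gen R 13194139533312) 263882790666240 := DT1_s0_258.sub chk259
theorem DT1_c0m : CD.Mem R (CD.gen R 263882790666240) 263882790666240 := DT1_c0i.gen
theorem fx261 : CD.gen R 263882790666240 ≤ stabilizer _ pt253 := Act.fix_sound DT1_c0i.top pt253r chk260
theorem cov268 : Cov (CD.gen R 13194139533312) (CD.wds R [0]) pt253 3 := Act.cov_of_seen (Act.pieces_sound DT1_s0_258 DT1_s0_258.top pt253r chk266) chk267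
theorem DT1_c1i : CD.Mem R (CD.gen R 263882790666240) 175921860444160 := DT1_c0m.sub chk269
theorem DT1_c1m : CD.Mem R (CD.gen R 175921860444160) 175921860444160 := DT1_c1i.gen
theorem fx271 : CD.gen R 175921860444160 ≤ stabilizer _ pt254 := Act.fix_sound DT1_c1i.top pt254r chk270
theorem cov278 : Cov (CD.gen R 263882790666240) (CD.wds R [0]) pt254 16 := Act.cov_of_seen (Act.pieces_sound DT1_c0m DT1_c0m.top pt254r chk276) chk277
theorem DT1_c2i : CD.Mem R (CD.gen R 175921860444160) 0 := DT1_c1m.sub chk279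
theorem DT1_c2m : CD.Mem R (CD.gen R 0) 0 := DT1_c2i.gen
theorem fx281 : CD.gen R 0 ≤ stabilizer _ pt255 := Act.fix_sound DT1_c2i.top pt255r chk280
theorem cov288 : Cov (CD.gen R 175921860444160) (CD.wds R [0]) pt255 12 := Act.cov_of_seen (Act.pieces_sound DT1_c1m DT1_c1m.top pt255r chk286) chk287
theorem DT1_lb3 : 1 ≤ Nat.card (CD.gen R 0) := Nat.card_pos
theorem DT1_lo2 : 12 * Nat.card (CD.gen R 0) ≤ Nat.card (CD.gen R 175921860444160) := cov288.low le_rfl (GC.wds_zero _) DT1_c2i.gen_le fx281
theorem DT1_lb2 : 12 ≤ Nat.card (CD.gen R 175921860444160) := low_step DT1_lo2 DT1_lb3 (by decide +kernel)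
theorem DT1_lo1 : 16 * Nat.card (CD.gen R 175921860444160) ≤ Nat.card (CD.gen R 263882790666240) := cov278.low le_rfl (GC.wds_zero _) DT1_c1i.gen_le fx271
theorem DT1_lb1 : 192 ≤ Nat.card (CD.gen R 263882790666240) := low_step DT1_lo1 DT1_lb2 (by decide +kernel)
theorem DT1_lo0 : 3 * Nat.card (CD.gen R 263882790666240) ≤ Nat.card (CD.gen R 13194139533312) := cov268.low le_rfl (GC.wds_zero _) DT1_c0i.gen_le fx261
theorem DT1_lb0 : 576 ≤ Nat.card (CD.gen R 13194139533312) := low_step DT1_lo0 DT1_lb1 (by decide +kernel)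
theorem D_T1c : ∀ τ ∈ (CD.gen R 13194139533312), CD.el (R 2) * τ * (CD.el (R 2))⁻¹ ∈ (CD.gen R 8186) := P_s0_184.conjA (D_I.get (i := 2) (by decide +kernel)).top DT1_in252.top chk290
theorem cov299 : Cov (CD.gen R 13194139533312) (CD.wds R (List.map Prod.fst (l291))) pt181 20 := Act.cov_of_seen (Act.pieces_sound DT1_s0_258 P_s0_184.top pt181r chk297) chk298
theorem D_T1d : Dec (CD.gen R 8186) (CD.gen R 13194139533312) (CD.wds R (List.map Prod.fst (l291))) (CD.gen R 206158430208) := cov299.dec DT1_in252.gen_le (GC.wds_sub P_s0_184 chk300) DK_in193.gen_le fx244 (up_low P_ub DK_lb0 (by decide +kernel))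
theorem D_T1p : ∀ x ∈ DC1 (CD.gen R 8186) (CD.el (R 2)), x * CD.el (R 2) ∈ DCs (CD.gen R 8186) (CD.els R 34359738372) := GC.dc_piece' D_T1d D_T1c D_Kc (P_s0_184.dcRel D_I.top (D_I.get (i := 2) (by decide +kernel)).top (D_m1.get (i := 2) (by decide +kernel)).top chk292)
theorem D_T1u : Nat.card (CD.gen R 8186) ≤ 20 * Nat.card (CD.gen R 13194139533312) := up_low P_ub DT1_lb0 (by decide +kernel)
theorem D_T1n : (DC1 (CD.gen R 8186) (CD.el (R 2))).ncard ≤ Nat.card (CD.gen R 8186) * 20 := ncard_DC1 DT1_in252.gen_le D_T1c D_T1u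
theorem DT2_in303 : CD.Mem R (CD.gen R 8186) 844424930131968 := P_s0_184.slp' chk302
theorem DT2_m0 : CD.Mem R (CD.gen R 844424930131968) 844424930131968 := GC.Mem.gen DT2_in303.top
theorem pt304e : ∃ x, D0.Rep pt304c x := act4_rep e8 (d := 3) (by decide) (by decide) (c := 0x1) (by decide +kernel)
noncomputable def pt304 := Classical.choose pt304e
theorem pt304r : D0.Rep pt304c pt304 := Classical.choose_spec pt304e
theorem pt305e : ∃ x, D1.Rep pt305c x := (act4_rep e8 (d := 3) (by decide) (by decide) (c := 0x4) (by decide +kernel)).elim fun x hx => ⟨_, x, hx, rfl⟩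
noncomputable def pt305 := Classical.choose pt305e
theorem pt305r : D1.Rep pt305c pt305 := Classical.choose_spec pt305e
theorem pt306e : ∃ x, D1.Rep pt306c x := (act4_rep e8 (d := 3) (by decide) (by decide) (c := 0x10) (by decide +kernel)).elim fun x hx => ⟨_, x, hx, rfl⟩
noncomputable def pt306 := Classical.choose pt306e
theorem pt306r : D1.Rep pt306c pt306 := Classical.choose_spec pt306e
theorem DT2_s0_309 : CD.Mem R (CD.gen R 844424930131968) 17732923532771328 := DT2_m0.slp' chk308
theorem DT2_c0i : CD.Mem R (CD.gen R 844424930131968) 16888498602639360 := DT2_s0_309.sub chk310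
theorem DT2_c0m : CD.Mem R (CD.gen R 16888498602639360) 16888498602639360 := DT2_c0i.gen
theorem fx312 : CD.gen R 16888498602639360 ≤ stabilizer _ pt304 := Act.fix_sound DT2_c0i.top pt304r chk311
theorem cov319 : Cov (CD.gen R 844424930131968) (CD.wds R [0]) pt304 3 := Act.cov_of_seen (Act.pieces_sound DT2_s0_309 DT2_s0_309.top pt304r chk317) chk318
theorem DT2_c1i : CD.Mem R (CD.gen R 16888498602639360) 13510798882111488 := DT2_c0m.sub chk320
theorem DT2_c1m : CD.Mem R (CD.gen R 13510798882111488) 13510798882111488 := DT2_c1i.gen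
theorem fx322 : CD.gen R 13510798882111488 ≤ stabilizer _ pt305 := Act.fix_sound DT2_c1i.top pt305r chk321
theorem cov329 : Cov (CD.gen R 16888498602639360) (CD.wds R [0]) pt305 15 := Act.cov_of_seen (Act.pieces_sound DT2_c0m DT2_c0m.top pt305r chk327) chk328
theorem DT2_c2i : CD.Mem R (CD.gen R 13510798882111488) 0 := DT2_c1m.sub chk330
theorem DT2_c2m : CD.Mem R (CD.gen R 0) 0 := DT2_c2i.gen
theorem fx332 : CD.gen R 0 ≤ stabilizer _ pt306 := Act.fix_sound DT2_c2i.top pt306r chk331
theorem cov339 : Cov (CD.gen R 13510798882111488) (CD.wds R [0]) pt306 4 := Act.cov_of_seen (Act.pieces_sound DT2_c1m DT2_c1m.top pt306r chk337) chk338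
theorem DT2_lb3 : 1 ≤ Nat.card (CD.gen R 0) := Nat.card_pos
theorem DT2_lo2 : 4 * Nat.card (CD.gen R 0) ≤ Nat.card (CD.gen R 13510798882111488) := cov339.low le_rfl (GC.wds_zero _) DT2_c2i.gen_le fx332
theorem DT2_lb2 : 4 ≤ Nat.card (CD.gen R 13510798882111488) := low_step DT2_lo2 DT2_lb3 (by decide +kernel)
theorem DT2_lo1 : 15 * Nat.card (CD.gen R 13510798882111488) ≤ Nat.card (CD.gen R 16888498602639360) := cov329.low le_rfl (GC.wds_zero _) DT2_c1i.gen_le fx322
theorem DT2_lb1 : 60 ≤ Nat.card (CD.gen R 16888498602639360) := low_step DT2_lo1 DT2_lb2 (by decide +kernel)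
theorem DT2_lo0 : 3 * Nat.card (CD.gen R 16888498602639360) ≤ Nat.card (CD.gen R 844424930131968) := cov319.low le_rfl (GC.wds_zero _) DT2_c0i.gen_le fx312
theorem DT2_lb0 : 180 ≤ Nat.card (CD.gen R 844424930131968) := low_step DT2_lo0 DT2_lb1 (by decide +kernel)
theorem D_T2c : ∀ τ ∈ (CD.gen R 844424930131968), CD.el (R 35) * τ * (CD.el (R 35))⁻¹ ∈ (CD.gen R 8186) := P_s0_184.conjA (D_I.get (i := 35) (by decide +kernel)).top DT2_in303.top chk341
theorem cov350 : Cov (CD.gen R 844424930131968) (CD.wds R (List.map Prod.fst (l342))) pt181 20 := Act.cov_of_seen (Act.pieces_sound DT2_s0_309 P_s0_184.top pt181r chk348) chk349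
theorem D_T2d : Dec (CD.gen R 8186) (CD.gen R 844424930131968) (CD.wds R (List.map Prod.fst (l342))) (CD.gen R 206158430208) := cov350.dec DT2_in303.gen_le (GC.wds_sub P_s0_184 chk351) DK_in193.gen_le fx244 (up_low P_ub DK_lb0 (by decide +kernel))
theorem D_T2p : ∀ x ∈ DC1 (CD.gen R 8186) (CD.el (R 35)), x * CD.el (R 2) ∈ DCs (CD.gen R 8186) (CD.els R 34359738372) := GC.dc_piece' D_T2d D_T2c D_Kc (P_s0_184.dcRel D_I.top (D_I.get (i := 35) (by decide +kernel)).top (D_m1.get (i := 2) (by decide +kernel)).top chk343)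
theorem D_T2u : Nat.card (CD.gen R 8186) ≤ 64 * Nat.card (CD.gen R 844424930131968) := up_low P_ub DT2_lb0 (by decide +kernel)
theorem D_T2n : (DC1 (CD.gen R 8186) (CD.el (R 35))).ncard ≤ Nat.card (CD.gen R 8186) * 64 := ncard_DC1 DT2_in303.gen_le D_T2c D_T2u
theorem D_dc : ∀ x ∈ (CD.gen R 8190), x ∈ DCs (CD.gen R 8186) (CD.els R 34359738372) := GC.dc_gen (MU := 4) P_s0_184 (by decide +kernel) (GC.forall_els (L := [2]) (forall_cons ⟨P_s0_184.inDC' D_I.top (D_m1.get (i := 2) (by decide +kernel)).top chk352, GC.forall_els (L := [2, 35]) (forall_cons D_T1p (forall_cons D_T2p forall_nil)) (by decide +kernel)⟩ forall_nil) (by decide +kernel))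
theorem D_cs : ∀ p ∈ ([(2, 20), (35, 64)] : List (ℕ × ℕ)), (DC1 (CD.gen R 8186) (CD.el (R p.1))).ncard ≤ Nat.card (CD.gen R 8186) * p.2 := (forall_cons D_T1n (forall_cons D_T2n forall_nil))
theorem D_ix : Nat.card (CD.gen R 8190) ≤ 85 * Nat.card (CD.gen R 8186) := GC.card_dc [(2, 20), (35, 64)] D_dc D_cs (by decide +kernel)
theorem D_ub : Nat.card (CD.gen R 8190) ≤ 979200 := up_mul D_ix P_ub (by decide +kernel)
theorem N2_m0 : C2.Mem R2 (C2.gen R2 8190) 8190 := GC.Mem.gen (D_m0.map hf2).top
theorem N2_map : (C2.gen R2 8190) = (CD.gen R 8190).map (MonoidHom.snd _ _) := D_m0.gen_map hf2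
theorem pt353e : ∃ x, B0.Rep pt353c x := act4_rep e8 (d := 3) (by decide) (by decide) (c := 0x10) (by decide +kernel)
noncomputable def pt353 := Classical.choose pt353e
theorem pt353r : B0.Rep pt353c pt353 := Classical.choose_spec pt353e
theorem pt354e : ∃ x, B0.Rep pt354c x := act4_rep e8 (d := 3) (by decide) (by decide) (c := 0x4) (by decide +kernel)
noncomputable def pt354 := Classical.choose pt354e
theorem pt354r : B0.Rep pt354c pt354 := Classical.choose_spec pt354e
theorem pt355e : ∃ x, B0.Rep pt355c x := act4_rep e8 (d := 3) (by decide) (by decide) (c := 0x1) (by decide +kernel)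
noncomputable def pt355 := Classical.choose pt355e
theorem pt355r : B0.Rep pt355c pt355 := Classical.choose_spec pt355e
theorem pt356e : ∃ x, B0.Rep pt356c x := act4_rep e8 (d := 3) (by decide) (by decide) (c := 0x40) (by decide +kernel)
noncomputable def pt356 := Classical.choose pt356e
theorem pt356r : B0.Rep pt356c pt356 := Classical.choose_spec pt356e
theorem N2_s0_359 : C2.Mem R2 (C2.gen R2 8190) 9205357638345302014 := N2_m0.slp' chk358
theorem N2_c0i : C2.Mem R2 (C2.gen R2 8190) 9205357638345293824 := N2_s0_359.sub chk360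
theorem N2_c0m : C2.Mem R2 (C2.gen R2 9205357638345293824) 9205357638345293824 := N2_c0i.gen
theorem fx362 : C2.gen R2 9205357638345293824 ≤ stabilizer _ pt353 := Act.fix_sound N2_c0i.top pt353r chk361
theorem cov369 : Cov (C2.gen R2 8190) (C2.wds R2 [0]) pt353 255 := Act.cov_of_seen (Act.pieces_sound N2_s0_359 N2_s0_359.top pt353r chk367) chk368
theorem N2_c1i : C2.Mem R2 (C2.gen R2 9205357638345293824) 9079256848778919936 := N2_c0m.sub chk370
theorem N2_c1m : C2.Mem R2 (C2.gen R2 9079256848778919936) 9079256848778919936 := N2_c1i.gen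
theorem fx372 : C2.gen R2 9079256848778919936 ≤ stabilizer _ pt354 := Act.fix_sound N2_c1i.top pt354r chk371
theorem cov379 : Cov (C2.gen R2 9205357638345293824) (C2.wds R2 [0]) pt354 60 := Act.cov_of_seen (Act.pieces_sound N2_c0m N2_c0m.top pt354r chk377) chk378
theorem N2_c2i : C2.Mem R2 (C2.gen R2 9079256848778919936) 6917529027641081856 := N2_c1m.sub chk380
theorem N2_c2m : C2.Mem R2 (C2.gen R2 6917529027641081856) 6917529027641081856 := N2_c2i.gen
theorem fx382 : C2.gen R2 6917529027641081856 ≤ stabilizer _ pt355 := Act.fix_sound N2_c2i.top pt355r chk381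
theorem cov389 : Cov (C2.gen R2 9079256848778919936) (C2.wds R2 [0]) pt355 16 := Act.cov_of_seen (Act.pieces_sound N2_c1m N2_c1m.top pt355r chk387) chk388
theorem N2_c3i : C2.Mem R2 (C2.gen R2 6917529027641081856) 0 := N2_c2m.sub chk390
theorem N2_c3m : C2.Mem R2 (C2.gen R2 0) 0 := N2_c3i.gen
theorem fx392 : C2.gen R2 0 ≤ stabilizer _ pt356 := Act.fix_sound N2_c3i.top pt356r chk391
theorem cov399 : Cov (C2.gen R2 6917529027641081856) (C2.wds R2 [0]) pt356 4 := Act.cov_of_seen (Act.pieces_sound N2_c2m N2_c2m.top pt356r chk397) chk398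
theorem N2_lb4 : 1 ≤ Nat.card (C2.gen R2 0) := Nat.card_pos
theorem N2_lo3 : 4 * Nat.card (C2.gen R2 0) ≤ Nat.card (C2.gen R2 6917529027641081856) := cov399.low le_rfl (GC.wds_zero _) N2_c3i.gen_le fx392
theorem N2_lb3 : 4 ≤ Nat.card (C2.gen R2 6917529027641081856) := low_step N2_lo3 N2_lb4 (by decide +kernel)
theorem N2_lo2 : 16 * Nat.card (C2.gen R2 6917529027641081856) ≤ Nat.card (C2.gen R2 9079256848778919936) := cov389.low le_rfl (GC.wds_zero _) N2_c2i.gen_le fx382
theorem N2_lb2 : 64 ≤ Nat.card (C2.gen R2 9079256848778919936) := low_step N2_lo2 N2_lb3 (by decide +kernel)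
theorem N2_lo1 : 60 * Nat.card (C2.gen R2 9079256848778919936) ≤ Nat.card (C2.gen R2 9205357638345293824) := cov379.low le_rfl (GC.wds_zero _) N2_c1i.gen_le fx372
theorem N2_lb1 : 3840 ≤ Nat.card (C2.gen R2 9205357638345293824) := low_step N2_lo1 N2_lb2 (by decide +kernel)
theorem N2_lo0 : 255 * Nat.card (C2.gen R2 9205357638345293824) ≤ Nat.card (C2.gen R2 8190) := cov369.low le_rfl (GC.wds_zero _) N2_c0i.gen_le fx362
theorem N2_lb0 : 979200 ≤ Nat.card (C2.gen R2 8190) := low_step N2_lo0 N2_lb1 (by decide +kernel)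
theorem N1_m0 : C1.Mem R1 (C1.gen R1 8190) 8190 := GC.Mem.gen (D_m0.map hf1).top
theorem N1_map : (C1.gen R1 8190) = (CD.gen R 8190).map (MonoidHom.fst _ _) := D_m0.gen_map hf1
theorem N1_ub : Nat.card (C1.gen R1 8190) ≤ 979200 := N1_map ▸ (card_map_le _ _).trans D_ub
theorem pt400e : ∃ x, A0.Rep pt400c x := act2_rep (n := 52) (d := 6) (by decide) (by decide) (c := 0x1080fc8177f7) (by decide +kernel)
noncomputable def pt400 := Classical.choose pt400e
theorem pt400r : A0.Rep pt400c pt400 := Classical.choose_spec pt400e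
theorem pt401e : ∃ x, A0.Rep pt401c x := act2_rep (n := 52) (d := 6) (by decide) (by decide) (c := 0x6eb940addd6d6) (by decide +kernel)
noncomputable def pt401 := Classical.choose pt401e
theorem pt401r : A0.Rep pt401c pt401 := Classical.choose_spec pt401e
theorem pt402e : ∃ x, A0.Rep pt402c x := act2_rep (n := 52) (d := 6) (by decide) (by decide) (c := 0x9479c51ef351a) (by decide +kernel)
noncomputable def pt402 := Classical.choose pt402e
theorem pt402r : A0.Rep pt402c pt402 := Classical.choose_spec pt402e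
theorem N1_s0_405 : C1.Mem R1 (C1.gen R1 8190) 4713143110832790446078 := N1_m0.slp' chk404
theorem N1_c0i : C1.Mem R1 (C1.gen R1 8190) 4713143110832790437888 := N1_s0_405.sub chk406
theorem N1_c0m : C1.Mem R1 (C1.gen R1 4713143110832790437888) 4713143110832790437888 := N1_c0i.gen
theorem fx408 : C1.gen R1 4713143110832790437888 ≤ stabilizer _ pt400 := Act.fix_sound N1_c0i.top pt400r chk407
theorem cov415 : Cov (C1.gen R1 8190) (C1.wds R1 [0]) pt400 136 := Act.cov_of_seen (Act.pieces_sound N1_s0_405 N1_s0_405.top pt400r chk413) chk414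
theorem N1_c1i : C1.Mem R1 (C1.gen R1 4713143110832790437888) 3836922767331586736128 := N1_c0m.sub chk416
theorem N1_c1m : C1.Mem R1 (C1.gen R1 3836922767331586736128) 3836922767331586736128 := N1_c1i.gen
theorem fx418 : C1.gen R1 3836922767331586736128 ≤ stabilizer _ pt401 := Act.fix_sound N1_c1i.top pt401r chk417
theorem cov425 : Cov (C1.gen R1 4713143110832790437888) (C1.wds R1 [0]) pt401 900 := Act.cov_of_seen (Act.pieces_sound N1_c0m N1_c0m.top pt401r chk423) chk424
theorem N1_c2i : C1.Mem R1 (C1.gen R1 3836922767331586736128) 0 := N1_c1m.sub chk426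
theorem N1_c2m : C1.Mem R1 (C1.gen R1 0) 0 := N1_c2i.gen
theorem fx428 : C1.gen R1 0 ≤ stabilizer _ pt402 := Act.fix_sound N1_c2i.top pt402r chk427
theorem cov435 : Cov (C1.gen R1 3836922767331586736128) (C1.wds R1 [0]) pt402 8 := Act.cov_of_seen (Act.pieces_sound N1_c1m N1_c1m.top pt402r chk433) chk434
theorem N1_lb3 : 1 ≤ Nat.card (C1.gen R1 0) := Nat.card_pos
theorem N1_lo2 : 8 * Nat.card (C1.gen R1 0) ≤ Nat.card (C1.gen R1 3836922767331586736128) := cov435.low le_rfl (GC.wds_zero _) N1_c2i.gen_le fx428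
theorem N1_lb2 : 8 ≤ Nat.card (C1.gen R1 3836922767331586736128) := low_step N1_lo2 N1_lb3 (by decide +kernel)
theorem N1_lo1 : 900 * Nat.card (C1.gen R1 3836922767331586736128) ≤ Nat.card (C1.gen R1 4713143110832790437888) := cov425.low le_rfl (GC.wds_zero _) N1_c1i.gen_le fx418
theorem N1_lb1 : 7200 ≤ Nat.card (C1.gen R1 4713143110832790437888) := low_step N1_lo1 N1_lb2 (by decide +kernel)
theorem N1_lo0 : 136 * Nat.card (C1.gen R1 4713143110832790437888) ≤ Nat.card (C1.gen R1 8190) := cov415.low le_rfl (GC.wds_zero _) N1_c0i.gen_le fx408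
theorem N1_lb0 : 979200 ≤ Nat.card (C1.gen R1 8190) := low_step N1_lo0 N1_lb1 (by decide +kernel)
theorem val438 : C1.Mem R1 ⊤ 453347182355485940514816 := MC.mem_units (mc2 52) (can2_sound (by decide)) chk437
theorem vH : C1.Mem R1 ⊤ 453347182355485940523006 := (D_m0.map hf1).top.lor' val438 (by decide +kernel)
theorem H_m0 : C1.Mem R1 (C1.gen R1 151115727451828646846462) 151115727451828646846462 := GC.Mem.gen (vH.sub (M' := 151115727451828646846462) (by decide +kernel))
theorem H_m1 : C1.Mem R1 (C1.gen R1 151115727451828646846462) 155828870562661437284350 := H_m0.lor' (N1_s0_405.mono (H_m0.sub chk439).gen_le) chk440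
theorem H_dv : Nat.card (C1.gen R1 151115727451828646846462) ∣ 2 * Nat.card (C1.gen R1 8190) := GC.card_ins (N1_s0_405.pc (m := 2) (w := 0) (vH.get (i := 77) (by decide +kernel)) N1_m0.top chk442 chk443) (by decide +kernel)
theorem H_ub : Nat.card (C1.gen R1 151115727451828646846462) ≤ 1958400 := up_mul (Nat.le_of_dvd (Nat.mul_pos (by decide) Nat.card_pos) H_dv) N1_ub (by decide +kernel)
theorem pt444e : ∃ x, A0.Rep pt444c x := act2_rep (n := 52) (d := 6) (by decide) (by decide) (c := 0x107236868f) (by decide +kernel)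
noncomputable def pt444 := Classical.choose pt444e
theorem pt444r : A0.Rep pt444c pt444 := Classical.choose_spec pt444e
theorem H_s1_447 : C1.Mem R1 (C1.gen R1 151115727451828646846462) 309036375782100415574712318 := H_m1.slp' chk446
theorem G_m0 : C1.Mem R1 (C1.gen R1 453347182355485940523006) 453347182355485940523006 := GC.Mem.gen vH
theorem G_m1 : C1.Mem R1 (C1.gen R1 453347182355485940523006) 309338607237004072868388862 := G_m0.lor' (H_s1_447.mono (G_m0.sub chk448).gen_le) chk449
theorem G_s1_452 : C1.Mem R1 (C1.gen R1 453347182355485940523006) 2475733675986419553941856254 := G_m1.slp' chk451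
theorem G_I : C1.Mem R1 (C1.gen R1 453347182355485940523006) 2166697300204319138367143936 := G_s1_452.sub chk453
theorem GK_in456 : C1.Mem R1 (C1.gen R1 151115727451828646846462) 7427640235712281649394745344 := H_s1_447.slp' chk455
theorem GK_m0 : C1.Mem R1 (C1.gen R1 7427640235712281649394745344) 7427640235712281649394745344 := GC.Mem.gen GK_in456.top
theorem pt457e : ∃ x, A0.Rep pt457c x := act2_rep (n := 52) (d := 6) (by decide) (by decide) (c := 0x9739f2466f2b3) (by decide +kernel)
noncomputable def pt457 := Classical.choose pt457e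
theorem pt457r : A0.Rep pt457c pt457 := Classical.choose_spec pt457e
theorem pt458e : ∃ x, A0.Rep pt458c x := act2_rep (n := 52) (d := 6) (by decide) (by decide) (c := 0x4433596c81ef5) (by decide +kernel)
noncomputable def pt458 := Classical.choose pt458e
theorem pt458r : A0.Rep pt458c pt458 := Classical.choose_spec pt458e
theorem pt459e : ∃ x, A0.Rep pt459c x := act2_rep (n := 52) (d := 6) (by decide) (by decide) (c := 0x1080fc8177f7) (by decide +kernel)
noncomputable def pt459 := Classical.choose pt459e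
theorem pt459r : A0.Rep pt459c pt459 := Classical.choose_spec pt459e
theorem pt460e : ∃ x, A0.Rep pt460c x := act2_rep (n := 52) (d := 6) (by decide) (by decide) (c := 0x6eb940addd6d6) (by decide +kernel)
noncomputable def pt460 := Classical.choose pt460e
theorem pt460r : A0.Rep pt460c pt460 := Classical.choose_spec pt460e
theorem GK_s0_463 : C1.Mem R1 (C1.gen R1 7427640235712281649394745344) 631349420035543940198553354240 := GK_m0.slp' chk462
theorem GK_c0i : C1.Mem R1 (C1.gen R1 7427640235712281649394745344) 623921779799831658549158608896 := GK_s0_463.sub chk464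
theorem GK_c0m : C1.Mem R1 (C1.gen R1 623921779799831658549158608896) 623921779799831658549158608896 := GK_c0i.gen
theorem fx466 : C1.gen R1 623921779799831658549158608896 ≤ stabilizer _ pt457 := Act.fix_sound GK_c0i.top pt457r chk465
theorem cov473 : Cov (C1.gen R1 7427640235712281649394745344) (C1.wds R1 [0]) pt457 36 := Act.cov_of_seen (Act.pieces_sound GK_s0_463 GK_s0_463.top pt457r chk471) chk472
theorem GK_c1i : C1.Mem R1 (C1.gen R1 623921779799831658549158608896) 574404178228416447553193639936 := GK_c0m.sub chk474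
theorem GK_c1m : C1.Mem R1 (C1.gen R1 574404178228416447553193639936) 574404178228416447553193639936 := GK_c1i.gen
theorem fx476 : C1.gen R1 574404178228416447553193639936 ≤ stabilizer _ pt458 := Act.fix_sound GK_c1i.top pt458r chk475
theorem cov483 : Cov (C1.gen R1 623921779799831658549158608896) (C1.wds R1 [0]) pt458 10 := Act.cov_of_seen (Act.pieces_sound GK_c0m GK_c0m.top pt458r chk481) chk482
theorem GK_c2i : C1.Mem R1 (C1.gen R1 574404178228416447553193639936) 316912650057057350374175801344 := GK_c1m.sub chk484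
theorem GK_c2m : C1.Mem R1 (C1.gen R1 316912650057057350374175801344) 316912650057057350374175801344 := GK_c2i.gen
theorem fx486 : C1.gen R1 316912650057057350374175801344 ≤ stabilizer _ pt459 := Act.fix_sound GK_c2i.top pt459r chk485
theorem cov493 : Cov (C1.gen R1 574404178228416447553193639936) (C1.wds R1 [0]) pt459 20 := Act.cov_of_seen (Act.pieces_sound GK_c1m GK_c1m.top pt459r chk491) chk492
theorem GK_c3i : C1.Mem R1 (C1.gen R1 316912650057057350374175801344) 0 := GK_c2m.sub chk494
theorem GK_c3m : C1.Mem R1 (C1.gen R1 0) 0 := GK_c3i.gen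
theorem fx496 : C1.gen R1 0 ≤ stabilizer _ pt460 := Act.fix_sound GK_c3i.top pt460r chk495
theorem cov503 : Cov (C1.gen R1 316912650057057350374175801344) (C1.wds R1 [0]) pt460 2 := Act.cov_of_seen (Act.pieces_sound GK_c2m GK_c2m.top pt460r chk501) chk502
theorem GK_lb4 : 1 ≤ Nat.card (C1.gen R1 0) := Nat.card_pos
theorem GK_lo3 : 2 * Nat.card (C1.gen R1 0) ≤ Nat.card (C1.gen R1 316912650057057350374175801344) := cov503.low le_rfl (GC.wds_zero _) GK_c3i.gen_le fx496
theorem GK_lb3 : 2 ≤ Nat.card (C1.gen R1 316912650057057350374175801344) := low_step GK_lo3 GK_lb4 (by decide +kernel)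
theorem GK_lo2 : 20 * Nat.card (C1.gen R1 316912650057057350374175801344) ≤ Nat.card (C1.gen R1 574404178228416447553193639936) := cov493.low le_rfl (GC.wds_zero _) GK_c2i.gen_le fx486
theorem GK_lb2 : 40 ≤ Nat.card (C1.gen R1 574404178228416447553193639936) := low_step GK_lo2 GK_lb3 (by decide +kernel)
theorem GK_lo1 : 10 * Nat.card (C1.gen R1 574404178228416447553193639936) ≤ Nat.card (C1.gen R1 623921779799831658549158608896) := cov483.low le_rfl (GC.wds_zero _) GK_c1i.gen_le fx476
theorem GK_lb1 : 400 ≤ Nat.card (C1.gen R1 623921779799831658549158608896) := low_step GK_lo1 GK_lb2 (by decide +kernel)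
theorem GK_lo0 : 36 * Nat.card (C1.gen R1 623921779799831658549158608896) ≤ Nat.card (C1.gen R1 7427640235712281649394745344) := cov473.low le_rfl (GC.wds_zero _) GK_c0i.gen_le fx466
theorem GK_lb0 : 14400 ≤ Nat.card (C1.gen R1 7427640235712281649394745344) := low_step GK_lo0 GK_lb1 (by decide +kernel)
theorem fx507 : C1.gen R1 7427640235712281649394745344 ≤ stabilizer _ pt444 := Act.fix_sound GK_in456.top pt444r chk506
theorem G_Kc : ∀ κ ∈ (C1.gen R1 7427640235712281649394745344), (C1.el (R1 78))⁻¹ * κ * C1.el (R1 78) ∈ (C1.gen R1 151115727451828646846462) := H_s1_447.conjB (G_m1.get (i := 78) (by decide +kernel)).top GK_in456.top chk505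
theorem GT1_in533 : C1.Mem R1 (C1.gen R1 151115727451828646846462) 4436777100798802905238461218816 := H_s1_447.slp' chk532
theorem GT1_m0 : C1.Mem R1 (C1.gen R1 4436777100798802905238461218816) 4436777100798802905238461218816 := GC.Mem.gen GT1_in533.top
theorem pt534e : ∃ x, A0.Rep pt534c x := act2_rep (n := 52) (d := 6) (by decide) (by decide) (c := 0x103622d4fdef5) (by decide +kernel)
noncomputable def pt534 := Classical.choose pt534e
theorem pt534r : A0.Rep pt534c pt534 := Classical.choose_spec pt534e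
theorem pt535e : ∃ x, A0.Rep pt535c x := act2_rep (n := 52) (d := 6) (by decide) (by decide) (c := 0x1080fc8177f7) (by decide +kernel)
noncomputable def pt535 := Classical.choose pt535e
theorem pt535r : A0.Rep pt535c pt535 := Classical.choose_spec pt535e
theorem pt536e : ∃ x, A0.Rep pt536c x := act2_rep (n := 52) (d := 6) (by decide) (by decide) (c := 0x6eb940addd6d6) (by decide +kernel)
noncomputable def pt536 := Classical.choose pt536e
theorem pt536r : A0.Rep pt536c pt536 := Classical.choose_spec pt536e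
theorem GT1_s0_539 : C1.Mem R1 (C1.gen R1 4436777100798802905238461218816) 161625451529099248690829658685440 := GT1_m0.slp' chk538
theorem GT1_c0i : C1.Mem R1 (C1.gen R1 4436777100798802905238461218816) 157188674428300445785591197466624 := GT1_s0_539.sub chk540
theorem GT1_c0m : C1.Mem R1 (C1.gen R1 157188674428300445785591197466624) 157188674428300445785591197466624 := GT1_c0i.gen
theorem fx542 : C1.gen R1 157188674428300445785591197466624 ≤ stabilizer _ pt534 := Act.fix_sound GT1_c0i.top pt534r chk541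
theorem cov549 : Cov (C1.gen R1 4436777100798802905238461218816) (C1.wds R1 [0]) pt534 36 := Act.cov_of_seen (Act.pieces_sound GT1_s0_539 GT1_s0_539.top pt534r chk547) chk548
theorem GT1_c1i : C1.Mem R1 (C1.gen R1 157188674428300445785591197466624) 131835662423735857755657133359104 := GT1_c0m.sub chk550
theorem GT1_c1m : C1.Mem R1 (C1.gen R1 131835662423735857755657133359104) 131835662423735857755657133359104 := GT1_c1i.gen
theorem fx552 : C1.gen R1 131835662423735857755657133359104 ≤ stabilizer _ pt535 := Act.fix_sound GT1_c1i.top pt535r chk551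
theorem cov559 : Cov (C1.gen R1 157188674428300445785591197466624) (C1.wds R1 [0]) pt535 50 := Act.cov_of_seen (Act.pieces_sound GT1_c0m GT1_c0m.top pt535r chk557) chk558
theorem GT1_c2i : C1.Mem R1 (C1.gen R1 131835662423735857755657133359104) 0 := GT1_c1m.sub chk560
theorem GT1_c2m : C1.Mem R1 (C1.gen R1 0) 0 := GT1_c2i.gen
theorem fx562 : C1.gen R1 0 ≤ stabilizer _ pt536 := Act.fix_sound GT1_c2i.top pt536r chk561
theorem cov569 : Cov (C1.gen R1 131835662423735857755657133359104) (C1.wds R1 [0]) pt536 8 := Act.cov_of_seen (Act.pieces_sound GT1_c1m GT1_c1m.top pt536r chk567) chk568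
theorem GT1_lb3 : 1 ≤ Nat.card (C1.gen R1 0) := Nat.card_pos
theorem GT1_lo2 : 8 * Nat.card (C1.gen R1 0) ≤ Nat.card (C1.gen R1 131835662423735857755657133359104) := cov569.low le_rfl (GC.wds_zero _) GT1_c2i.gen_le fx562
theorem GT1_lb2 : 8 ≤ Nat.card (C1.gen R1 131835662423735857755657133359104) := low_step GT1_lo2 GT1_lb3 (by decide +kernel)
theorem GT1_lo1 : 50 * Nat.card (C1.gen R1 131835662423735857755657133359104) ≤ Nat.card (C1.gen R1 157188674428300445785591197466624) := cov559.low le_rfl (GC.wds_zero _) GT1_c1i.gen_le fx552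
theorem GT1_lb1 : 400 ≤ Nat.card (C1.gen R1 157188674428300445785591197466624) := low_step GT1_lo1 GT1_lb2 (by decide +kernel)
theorem GT1_lo0 : 36 * Nat.card (C1.gen R1 157188674428300445785591197466624) ≤ Nat.card (C1.gen R1 4436777100798802905238461218816) := cov549.low le_rfl (GC.wds_zero _) GT1_c0i.gen_le fx542
theorem GT1_lb0 : 14400 ≤ Nat.card (C1.gen R1 4436777100798802905238461218816) := low_step GT1_lo0 GT1_lb1 (by decide +kernel)
theorem G_T1c : ∀ τ ∈ (C1.gen R1 4436777100798802905238461218816), C1.el (R1 78) * τ * (C1.el (R1 78))⁻¹ ∈ (C1.gen R1 151115727451828646846462) := H_s1_447.conjA (G_I.get (i := 78) (by decide +kernel)).top GT1_in533.top chk571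
theorem cov580 : Cov (C1.gen R1 4436777100798802905238461218816) (C1.wds R1 (List.map Prod.fst (l572))) pt444 136 := Act.cov_of_seen (Act.pieces_sound GT1_s0_539 H_s1_447.top pt444r chk578) chk579
theorem G_T1d : Dec (C1.gen R1 151115727451828646846462) (C1.gen R1 4436777100798802905238461218816) (C1.wds R1 (List.map Prod.fst (l572))) (C1.gen R1 7427640235712281649394745344) := cov580.dec GT1_in533.gen_le (GC.wds_sub H_s1_447 chk581) GK_in456.gen_le fx507 (up_low H_ub GK_lb0 (by decide +kernel))
theorem G_T1p : ∀ x ∈ DC1 (C1.gen R1 151115727451828646846462) (C1.el (R1 78)), x * C1.el (R1 78) ∈ DCs (C1.gen R1 151115727451828646846462) (C1.els R1 2166697300204319138367143936) := GC.dc_piece' G_T1d G_T1c G_Kc (H_s1_447.dcRel G_I.top (G_I.get (i := 78) (by decide +kernel)).top (G_m1.get (i := 78) (by decide +kernel)).top chk573)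
theorem G_T1u : Nat.card (C1.gen R1 151115727451828646846462) ≤ 136 * Nat.card (C1.gen R1 4436777100798802905238461218816) := up_low H_ub GT1_lb0 (by decide +kernel)
theorem G_T1n : (DC1 (C1.gen R1 151115727451828646846462) (C1.el (R1 78))).ncard ≤ Nat.card (C1.gen R1 151115727451828646846462) * 136 := ncard_DC1 GT1_in533.gen_le G_T1c G_T1u
theorem GT2_in608 : C1.Mem R1 (C1.gen R1 151115727451828646846462) 1135814937804493543741046072016896 := H_s1_447.slp' chk607
theorem GT2_m0 : C1.Mem R1 (C1.gen R1 1135814937804493543741046072016896) 1135814937804493543741046072016896 := GC.Mem.gen GT2_in608.top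
theorem pt609e : ∃ x, A0.Rep pt609c x := act2_rep (n := 52) (d := 6) (by decide) (by decide) (c := 0x1080fc8177f7) (by decide +kernel)
noncomputable def pt609 := Classical.choose pt609e
theorem pt609r : A0.Rep pt609c pt609 := Classical.choose_spec pt609e
theorem pt610e : ∃ x, A0.Rep pt610c x := act2_rep (n := 52) (d := 6) (by decide) (by decide) (c := 0x6eb940addd6d6) (by decide +kernel)
noncomputable def pt610 := Classical.choose pt610e
theorem pt610r : A0.Rep pt610c pt610 := Classical.choose_spec pt610e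
theorem pt611e : ∃ x, A0.Rep pt611c x := act2_rep (n := 52) (d := 6) (by decide) (by decide) (c := 0x9479c51ef351a) (by decide +kernel)
noncomputable def pt611 := Classical.choose pt611e
theorem pt611r : A0.Rep pt611c pt611 := Classical.choose_spec pt611e
theorem GT2_s0_614 : C1.Mem R1 (C1.gen R1 1135814937804493543741046072016896) 41376115591449407664852392623472640 := GT2_m0.slp' chk613
theorem GT2_c0i : C1.Mem R1 (C1.gen R1 1135814937804493543741046072016896) 40240300653644914121111346551455744 := GT2_s0_614.sub chk615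
theorem GT2_c0m : C1.Mem R1 (C1.gen R1 40240300653644914121111346551455744) 40240300653644914121111346551455744 := GT2_c0i.gen
theorem fx617 : C1.gen R1 40240300653644914121111346551455744 ≤ stabilizer _ pt609 := Act.fix_sound GT2_c0i.top pt609r chk616
theorem cov624 : Cov (C1.gen R1 1135814937804493543741046072016896) (C1.wds R1 [0]) pt609 10 := Act.cov_of_seen (Act.pieces_sound GT2_s0_614 GT2_s0_614.top pt609r chk622) chk623
theorem GT2_c1i : C1.Mem R1 (C1.gen R1 40240300653644914121111346551455744) 31153781151208965771182977975320576 := GT2_c0m.sub chk625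
theorem GT2_c1m : C1.Mem R1 (C1.gen R1 31153781151208965771182977975320576) 31153781151208965771182977975320576 := GT2_c1i.gen
theorem fx627 : C1.gen R1 31153781151208965771182977975320576 ≤ stabilizer _ pt610 := Act.fix_sound GT2_c1i.top pt610r chk626
theorem cov634 : Cov (C1.gen R1 40240300653644914121111346551455744) (C1.wds R1 [0]) pt610 36 := Act.cov_of_seen (Act.pieces_sound GT2_c0m GT2_c0m.top pt610r chk632) chk633
theorem GT2_c2i : C1.Mem R1 (C1.gen R1 31153781151208965771182977975320576) 0 := GT2_c1m.sub chk635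
theorem GT2_c2m : C1.Mem R1 (C1.gen R1 0) 0 := GT2_c2i.gen
theorem fx637 : C1.gen R1 0 ≤ stabilizer _ pt611 := Act.fix_sound GT2_c2i.top pt611r chk636
theorem cov644 : Cov (C1.gen R1 31153781151208965771182977975320576) (C1.wds R1 [0]) pt611 4 := Act.cov_of_seen (Act.pieces_sound GT2_c1m GT2_c1m.top pt611r chk642) chk643
theorem GT2_lb3 : 1 ≤ Nat.card (C1.gen R1 0) := Nat.card_pos
theorem GT2_lo2 : 4 * Nat.card (C1.gen R1 0) ≤ Nat.card (C1.gen R1 31153781151208965771182977975320576) := cov644.low le_rfl (GC.wds_zero _) GT2_c2i.gen_le fx637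
theorem GT2_lb2 : 4 ≤ Nat.card (C1.gen R1 31153781151208965771182977975320576) := low_step GT2_lo2 GT2_lb3 (by decide +kernel)
theorem GT2_lo1 : 36 * Nat.card (C1.gen R1 31153781151208965771182977975320576) ≤ Nat.card (C1.gen R1 40240300653644914121111346551455744) := cov634.low le_rfl (GC.wds_zero _) GT2_c1i.gen_le fx627
theorem GT2_lb1 : 144 ≤ Nat.card (C1.gen R1 40240300653644914121111346551455744) := low_step GT2_lo1 GT2_lb2 (by decide +kernel)
theorem GT2_lo0 : 10 * Nat.card (C1.gen R1 40240300653644914121111346551455744) ≤ Nat.card (C1.gen R1 1135814937804493543741046072016896) := cov624.low le_rfl (GC.wds_zero _) GT2_c0i.gen_le fx617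
theorem GT2_lb0 : 1440 ≤ Nat.card (C1.gen R1 1135814937804493543741046072016896) := low_step GT2_lo0 GT2_lb1 (by decide +kernel)
theorem G_T2c : ∀ τ ∈ (C1.gen R1 1135814937804493543741046072016896), C1.el (R1 88) * τ * (C1.el (R1 88))⁻¹ ∈ (C1.gen R1 151115727451828646846462) := H_s1_447.conjA (G_I.get (i := 88) (by decide +kernel)).top GT2_in608.top chk646
theorem cov655 : Cov (C1.gen R1 1135814937804493543741046072016896) (C1.wds R1 (List.map Prod.fst (l647))) pt444 136 := Act.cov_of_seen (Act.pieces_sound GT2_s0_614 H_s1_447.top pt444r chk653) chk654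
theorem G_T2d : Dec (C1.gen R1 151115727451828646846462) (C1.gen R1 1135814937804493543741046072016896) (C1.wds R1 (List.map Prod.fst (l647))) (C1.gen R1 7427640235712281649394745344) := cov655.dec GT2_in608.gen_le (GC.wds_sub H_s1_447 chk656) GK_in456.gen_le fx507 (up_low H_ub GK_lb0 (by decide +kernel))
theorem G_T2p : ∀ x ∈ DC1 (C1.gen R1 151115727451828646846462) (C1.el (R1 88)), x * C1.el (R1 78) ∈ DCs (C1.gen R1 151115727451828646846462) (C1.els R1 2166697300204319138367143936) := GC.dc_piece' G_T2d G_T2c G_Kc (H_s1_447.dcRel G_I.top (G_I.get (i := 88) (by decide +kernel)).top (G_m1.get (i := 78) (by decide +kernel)).top chk648)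
theorem G_T2u : Nat.card (C1.gen R1 151115727451828646846462) ≤ 1360 * Nat.card (C1.gen R1 1135814937804493543741046072016896) := up_low H_ub GT2_lb0 (by decide +kernel)
theorem G_T2n : (DC1 (C1.gen R1 151115727451828646846462) (C1.el (R1 88))).ncard ≤ Nat.card (C1.gen R1 151115727451828646846462) * 1360 := ncard_DC1 GT2_in608.gen_le G_T2c G_T2u
theorem GT3_in659 : C1.Mem R1 (C1.gen R1 151115727451828646846462) 124615124604835863084731911901282304 := H_s1_447.slp' chk658
theorem GT3_m0 : C1.Mem R1 (C1.gen R1 124615124604835863084731911901282304) 124615124604835863084731911901282304 := GC.Mem.gen GT3_in659.top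
theorem pt660e : ∃ x, A0.Rep pt660c x := act2_rep (n := 52) (d := 6) (by decide) (by decide) (c := 0x1080fc8177f7) (by decide +kernel)
noncomputable def pt660 := Classical.choose pt660e
theorem pt660r : A0.Rep pt660c pt660 := Classical.choose_spec pt660e
theorem pt661e : ∃ x, A0.Rep pt661c x := act2_rep (n := 52) (d := 6) (by decide) (by decide) (c := 0x6eb940addd6d6) (by decide +kernel)
noncomputable def pt661 := Classical.choose pt661e
theorem pt661r : A0.Rep pt661c pt661 := Classical.choose_spec pt661e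
theorem pt662e : ∃ x, A0.Rep pt662c x := act2_rep (n := 52) (d := 6) (by decide) (by decide) (c := 0x9479c51ef351a) (by decide +kernel)
noncomputable def pt662 := Classical.choose pt662e
theorem pt662r : A0.Rep pt662c pt662 := Classical.choose_spec pt662e
theorem GT3_s0_665 : C1.Mem R1 (C1.gen R1 124615124604835863084731911901282304) 10592285591411048362202212511608995840 := GT3_m0.slp' chk664
theorem GT3_c0i : C1.Mem R1 (C1.gen R1 124615124604835863084731911901282304) 10467670466806212499117480599707713536 := GT3_s0_665.sub chk666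
theorem GT3_c0m : C1.Mem R1 (C1.gen R1 10467670466806212499117480599707713536) 10467670466806212499117480599707713536 := GT3_c0i.gen
theorem fx668 : C1.gen R1 10467670466806212499117480599707713536 ≤ stabilizer _ pt660 := Act.fix_sound GT3_c0i.top pt660r chk667
theorem cov675 : Cov (C1.gen R1 124615124604835863084731911901282304) (C1.wds R1 [0]) pt660 36 := Act.cov_of_seen (Act.pieces_sound GT3_s0_665 GT3_s0_665.top pt660r chk673) chk674
theorem GT3_c1i : C1.Mem R1 (C1.gen R1 10467670466806212499117480599707713536) 2658455991569831745807614120560689152 := GT3_c0m.sub chk676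
theorem GT3_c1m : C1.Mem R1 (C1.gen R1 2658455991569831745807614120560689152) 2658455991569831745807614120560689152 := GT3_c1i.gen
theorem fx678 : C1.gen R1 2658455991569831745807614120560689152 ≤ stabilizer _ pt661 := Act.fix_sound GT3_c1i.top pt661r chk677
theorem cov685 : Cov (C1.gen R1 10467670466806212499117480599707713536) (C1.wds R1 [0]) pt661 200 := Act.cov_of_seen (Act.pieces_sound GT3_c0m GT3_c0m.top pt661r chk683) chk684
theorem GT3_c2i : C1.Mem R1 (C1.gen R1 2658455991569831745807614120560689152) 0 := GT3_c1m.sub chk686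
theorem GT3_c2m : C1.Mem R1 (C1.gen R1 0) 0 := GT3_c2i.gen
theorem fx688 : C1.gen R1 0 ≤ stabilizer _ pt662 := Act.fix_sound GT3_c2i.top pt662r chk687
theorem cov695 : Cov (C1.gen R1 2658455991569831745807614120560689152) (C1.wds R1 [0]) pt662 2 := Act.cov_of_seen (Act.pieces_sound GT3_c1m GT3_c1m.top pt662r chk693) chk694
theorem GT3_lb3 : 1 ≤ Nat.card (C1.gen R1 0) := Nat.card_pos
theorem GT3_lo2 : 2 * Nat.card (C1.gen R1 0) ≤ Nat.card (C1.gen R1 2658455991569831745807614120560689152) := cov695.low le_rfl (GC.wds_zero _) GT3_c2i.gen_le fx688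
theorem GT3_lb2 : 2 ≤ Nat.card (C1.gen R1 2658455991569831745807614120560689152) := low_step GT3_lo2 GT3_lb3 (by decide +kernel)
theorem GT3_lo1 : 200 * Nat.card (C1.gen R1 2658455991569831745807614120560689152) ≤ Nat.card (C1.gen R1 10467670466806212499117480599707713536) := cov685.low le_rfl (GC.wds_zero _) GT3_c1i.gen_le fx678
theorem GT3_lb1 : 400 ≤ Nat.card (C1.gen R1 10467670466806212499117480599707713536) := low_step GT3_lo1 GT3_lb2 (by decide +kernel)
theorem GT3_lo0 : 36 * Nat.card (C1.gen R1 10467670466806212499117480599707713536) ≤ Nat.card (C1.gen R1 124615124604835863084731911901282304) := cov675.low le_rfl (GC.wds_zero _) GT3_c0i.gen_le fx668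
theorem GT3_lb0 : 14400 ≤ Nat.card (C1.gen R1 124615124604835863084731911901282304) := low_step GT3_lo0 GT3_lb1 (by decide +kernel)
theorem G_T3c : ∀ τ ∈ (C1.gen R1 124615124604835863084731911901282304), C1.el (R1 89) * τ * (C1.el (R1 89))⁻¹ ∈ (C1.gen R1 151115727451828646846462) := H_s1_447.conjA (G_I.get (i := 89) (by decide +kernel)).top GT3_in659.top chk697
theorem cov706 : Cov (C1.gen R1 124615124604835863084731911901282304) (C1.wds R1 (List.map Prod.fst (l698))) pt444 136 := Act.cov_of_seen (Act.pieces_sound GT3_s0_665 H_s1_447.top pt444r chk704) chk705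
theorem G_T3d : Dec (C1.gen R1 151115727451828646846462) (C1.gen R1 124615124604835863084731911901282304) (C1.wds R1 (List.map Prod.fst (l698))) (C1.gen R1 7427640235712281649394745344) := cov706.dec GT3_in659.gen_le (GC.wds_sub H_s1_447 chk707) GK_in456.gen_le fx507 (up_low H_ub GK_lb0 (by decide +kernel))
theorem G_T3p : ∀ x ∈ DC1 (C1.gen R1 151115727451828646846462) (C1.el (R1 89)), x * C1.el (R1 78) ∈ DCs (C1.gen R1 151115727451828646846462) (C1.els R1 2166697300204319138367143936) := GC.dc_piece' G_T3d G_T3c G_Kc (H_s1_447.dcRel G_I.top (G_I.get (i := 89) (by decide +kernel)).top (G_m1.get (i := 78) (by decide +kernel)).top chk699)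
theorem G_T3u : Nat.card (C1.gen R1 151115727451828646846462) ≤ 136 * Nat.card (C1.gen R1 124615124604835863084731911901282304) := up_low H_ub GT3_lb0 (by decide +kernel)
theorem G_T3n : (DC1 (C1.gen R1 151115727451828646846462) (C1.el (R1 89))).ncard ≤ Nat.card (C1.gen R1 151115727451828646846462) * 136 := ncard_DC1 GT3_in659.gen_le G_T3c G_T3u
theorem GT4_in740 : C1.Mem R1 (C1.gen R1 151115727451828646846462) 74436767763955288882613195375699296256 := H_s1_447.slp' chk739
theorem GT4_m0 : C1.Mem R1 (C1.gen R1 74436767763955288882613195375699296256) 74436767763955288882613195375699296256 := GC.Mem.gen GT4_in740.top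
theorem pt741e : ∃ x, A0.Rep pt741c x := act2_rep (n := 52) (d := 6) (by decide) (by decide) (c := 0x4003f3bbf1e) (by decide +kernel)
noncomputable def pt741 := Classical.choose pt741e
theorem pt741r : A0.Rep pt741c pt741 := Classical.choose_spec pt741e
theorem pt742e : ∃ x, A0.Rep pt742c x := act2_rep (n := 52) (d := 6) (by decide) (by decide) (c := 0x1080fc8177f7) (by decide +kernel)
noncomputable def pt742 := Classical.choose pt742e
theorem pt742r : A0.Rep pt742c pt742 := Classical.choose_spec pt742e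
theorem pt743e : ∃ x, A0.Rep pt743c x := act2_rep (n := 52) (d := 6) (by decide) (by decide) (c := 0x6eb940addd6d6) (by decide +kernel)
noncomputable def pt743 := Classical.choose pt743e
theorem pt743r : A0.Rep pt743c pt743 := Classical.choose_spec pt743e
theorem pt744e : ∃ x, A0.Rep pt744c x := act2_rep (n := 52) (d := 6) (by decide) (by decide) (c := 0x9479c51ef351a) (by decide +kernel)
noncomputable def pt744 := Classical.choose pt744e
theorem pt744r : A0.Rep pt744c pt744 := Classical.choose_spec pt744e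
theorem GT4_s0_747 : C1.Mem R1 (C1.gen R1 74436767763955288882613195375699296256) 2711625111401228380723766402971902935040 := GT4_m0.slp' chk746
theorem GT4_c0i : C1.Mem R1 (C1.gen R1 74436767763955288882613195375699296256) 2637188343637273091841153207596203638784 := GT4_s0_747.sub chk748
theorem GT4_c0m : C1.Mem R1 (C1.gen R1 2637188343637273091841153207596203638784) 2637188343637273091841153207596203638784 := GT4_c0i.gen
theorem fx750 : C1.gen R1 2637188343637273091841153207596203638784 ≤ stabilizer _ pt741 := Act.fix_sound GT4_c0i.top pt741r chk749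
theorem cov757 : Cov (C1.gen R1 74436767763955288882613195375699296256) (C1.wds R1 [0]) pt741 24 := Act.cov_of_seen (Act.pieces_sound GT4_s0_747 GT4_s0_747.top pt741r chk755) chk756
theorem GT4_c1i : C1.Mem R1 (C1.gen R1 2637188343637273091841153207596203638784) 2041694201525630780780247644590609268736 := GT4_c0m.sub chk758
theorem GT4_c1m : C1.Mem R1 (C1.gen R1 2041694201525630780780247644590609268736) 2041694201525630780780247644590609268736 := GT4_c1i.gen
theorem fx760 : C1.gen R1 2041694201525630780780247644590609268736 ≤ stabilizer _ pt742 := Act.fix_sound GT4_c1i.top pt742r chk759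
theorem cov767 : Cov (C1.gen R1 2637188343637273091841153207596203638784) (C1.wds R1 [0]) pt742 48 := Act.cov_of_seen (Act.pieces_sound GT4_c0m GT4_c0m.top pt742r chk765) chk766
theorem GT4_c2i : C1.Mem R1 (C1.gen R1 2041694201525630780780247644590609268736) 1361129467683753853853498429727072845824 := GT4_c1m.sub chk768
theorem GT4_c2m : C1.Mem R1 (C1.gen R1 1361129467683753853853498429727072845824) 1361129467683753853853498429727072845824 := GT4_c2i.gen
theorem fx770 : C1.gen R1 1361129467683753853853498429727072845824 ≤ stabilizer _ pt743 := Act.fix_sound GT4_c2i.top pt743r chk769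
theorem cov777 : Cov (C1.gen R1 2041694201525630780780247644590609268736) (C1.wds R1 [0]) pt743 2 := Act.cov_of_seen (Act.pieces_sound GT4_c1m GT4_c1m.top pt743r chk775) chk776
theorem GT4_c3i : C1.Mem R1 (C1.gen R1 1361129467683753853853498429727072845824) 0 := GT4_c2m.sub chk778
theorem GT4_c3m : C1.Mem R1 (C1.gen R1 0) 0 := GT4_c3i.gen
theorem fx780 : C1.gen R1 0 ≤ stabilizer _ pt744 := Act.fix_sound GT4_c3i.top pt744r chk779
theorem cov787 : Cov (C1.gen R1 1361129467683753853853498429727072845824) (C1.wds R1 [0]) pt744 2 := Act.cov_of_seen (Act.pieces_sound GT4_c2m GT4_c2m.top pt744r chk785) chk786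
theorem GT4_lb4 : 1 ≤ Nat.card (C1.gen R1 0) := Nat.card_pos
theorem GT4_lo3 : 2 * Nat.card (C1.gen R1 0) ≤ Nat.card (C1.gen R1 1361129467683753853853498429727072845824) := cov787.low le_rfl (GC.wds_zero _) GT4_c3i.gen_le fx780
theorem GT4_lb3 : 2 ≤ Nat.card (C1.gen R1 1361129467683753853853498429727072845824) := low_step GT4_lo3 GT4_lb4 (by decide +kernel)
theorem GT4_lo2 : 2 * Nat.card (C1.gen R1 1361129467683753853853498429727072845824) ≤ Nat.card (C1.gen R1 2041694201525630780780247644590609268736) := cov777.low le_rfl (GC.wds_zero _) GT4_c2i.gen_le fx770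
theorem GT4_lb2 : 4 ≤ Nat.card (C1.gen R1 2041694201525630780780247644590609268736) := low_step GT4_lo2 GT4_lb3 (by decide +kernel)
theorem GT4_lo1 : 48 * Nat.card (C1.gen R1 2041694201525630780780247644590609268736) ≤ Nat.card (C1.gen R1 2637188343637273091841153207596203638784) := cov767.low le_rfl (GC.wds_zero _) GT4_c1i.gen_le fx760
theorem GT4_lb1 : 192 ≤ Nat.card (C1.gen R1 2637188343637273091841153207596203638784) := low_step GT4_lo1 GT4_lb2 (by decide +kernel)
theorem GT4_lo0 : 24 * Nat.card (C1.gen R1 2637188343637273091841153207596203638784) ≤ Nat.card (C1.gen R1 74436767763955288882613195375699296256) := cov757.low le_rfl (GC.wds_zero _) GT4_c0i.gen_le fx750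
theorem GT4_lb0 : 4608 ≤ Nat.card (C1.gen R1 74436767763955288882613195375699296256) := low_step GT4_lo0 GT4_lb1 (by decide +kernel)
theorem G_T4c : ∀ τ ∈ (C1.gen R1 74436767763955288882613195375699296256), C1.el (R1 90) * τ * (C1.el (R1 90))⁻¹ ∈ (C1.gen R1 151115727451828646846462) := H_s1_447.conjA (G_I.get (i := 90) (by decide +kernel)).top GT4_in740.top chk789
theorem cov798 : Cov (C1.gen R1 74436767763955288882613195375699296256) (C1.wds R1 (List.map Prod.fst (l790))) pt444 136 := Act.cov_of_seen (Act.pieces_sound GT4_s0_747 H_s1_447.top pt444r chk796) chk797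
theorem G_T4d : Dec (C1.gen R1 151115727451828646846462) (C1.gen R1 74436767763955288882613195375699296256) (C1.wds R1 (List.map Prod.fst (l790))) (C1.gen R1 7427640235712281649394745344) := cov798.dec GT4_in740.gen_le (GC.wds_sub H_s1_447 chk799) GK_in456.gen_le fx507 (up_low H_ub GK_lb0 (by decide +kernel))
theorem G_T4p : ∀ x ∈ DC1 (C1.gen R1 151115727451828646846462) (C1.el (R1 90)), x * C1.el (R1 78) ∈ DCs (C1.gen R1 151115727451828646846462) (C1.els R1 2166697300204319138367143936) := GC.dc_piece' G_T4d G_T4c G_Kc (H_s1_447.dcRel G_I.top (G_I.get (i := 90) (by decide +kernel)).top (G_m1.get (i := 78) (by decide +kernel)).top chk791)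
theorem G_T4u : Nat.card (C1.gen R1 151115727451828646846462) ≤ 425 * Nat.card (C1.gen R1 74436767763955288882613195375699296256) := up_low H_ub GT4_lb0 (by decide +kernel)
theorem G_T4n : (DC1 (C1.gen R1 151115727451828646846462) (C1.el (R1 90))).ncard ≤ Nat.card (C1.gen R1 151115727451828646846462) * 425 := ncard_DC1 GT4_in740.gen_le G_T4c G_T4u
theorem G_dc : ∀ x ∈ (C1.gen R1 453347182355485940523006), x ∈ DCs (C1.gen R1 151115727451828646846462) (C1.els R1 2166697300204319138367143936) := GC.dc_gen (MU := 302231454903657293676544) H_s1_447 (by decide +kernel) (GC.forall_els (L := [78]) (forall_cons ⟨H_s1_447.inDC' G_I.top (G_m1.get (i := 78) (by decide +kernel)).top chk800, GC.forall_els (L := [78, 88, 89, 90]) (forall_cons G_T1p (forall_cons G_T2p (forall_cons G_T3p (forall_cons G_T4p forall_nil)))) (by decide +kernel)⟩ forall_nil) (by decide +kernel))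
theorem G_cs : ∀ p ∈ ([(78, 136), (88, 1360), (89, 136), (90, 425)] : List (ℕ × ℕ)), (DC1 (C1.gen R1 151115727451828646846462) (C1.el (R1 p.1))).ncard ≤ Nat.card (C1.gen R1 151115727451828646846462) * p.2 := (forall_cons G_T1n (forall_cons G_T2n (forall_cons G_T3n (forall_cons G_T4n forall_nil))))
theorem G_ix : Nat.card (C1.gen R1 453347182355485940523006) ≤ 2058 * Nat.card (C1.gen R1 151115727451828646846462) := GC.card_dc [(78, 136), (88, 1360), (89, 136), (90, 425)] G_dc G_cs (by decide +kernel)
theorem G_ub : Nat.card (C1.gen R1 453347182355485940523006) ≤ 4030387200 := up_mul G_ix H_ub (by decide +kernel)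
theorem G_max : ∀ L, (C1.gen R1 151115727451828646846462) ≤ L → L ≤ (C1.gen R1 453347182355485940523006) → L = (C1.gen R1 151115727451828646846462) ∨ L = (C1.gen R1 453347182355485940523006) := maximal_of_DCs G_dc (H_s1_447.maxChk G_I.top chk802 chk803)
theorem pt804e : ∃ x, A0.Rep pt804c x := act2_rep (n := 52) (d := 6) (by decide) (by decide) (c := 0x1) (by decide +kernel)
noncomputable def pt804 := Classical.choose pt804e
theorem pt804r : A0.Rep pt804c pt804 := Classical.choose_spec pt804e
theorem G_s2_807 : C1.Mem R1 (C1.gen R1 453347182355485940523006) 694176028518716941198960185580361093226494 := G_s1_452.slp' chk806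
noncomputable def pt808 := C1.wd R1 83896652938 • pt804
theorem pt808r : A0.Rep pt808c pt808 := Act.appW_ok G_s2_807 chk809 pt804r
theorem pt808g : C1.wd R1 83896652938 ∈ (C1.gen R1 453347182355485940523006) := G_s2_807.wd_mem chk809
noncomputable def pt810 := C1.wd R1 148321161294 • pt804
theorem pt810r : A0.Rep pt810c pt810 := Act.appW_ok G_s2_807 chk811 pt804r
theorem pt810g : C1.wd R1 148321161294 ∈ (C1.gen R1 453347182355485940523006) := G_s2_807.wd_mem chk811
noncomputable def pt812 := C1.wd R1 83840030858 • pt804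
theorem pt812r : A0.Rep pt812c pt812 := Act.appW_ok G_s2_807 chk813 pt804r
theorem pt812g : C1.wd R1 83840030858 ∈ (C1.gen R1 453347182355485940523006) := G_s2_807.wd_mem chk813
theorem H_s2_816 : C1.Mem R1 (C1.gen R1 151115727451828646846462) 177709063300790903468149130767267046325493758 := H_s1_447.slp' chk815
theorem H_c0i : C1.Mem R1 (C1.gen R1 151115727451828646846462) 177709063300790903159112754985166630750781440 := H_s2_816.sub chk817
theorem H_c0m : C1.Mem R1 (C1.gen R1 177709063300790903159112754985166630750781440) 177709063300790903159112754985166630750781440 := H_c0i.gen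
theorem fx819 : C1.gen R1 177709063300790903159112754985166630750781440 ≤ stabilizer _ pt808 := Act.fix_sound H_c0i.top pt808r chk818
theorem cov826 : Cov (C1.gen R1 151115727451828646846462) (C1.wds R1 [0]) pt808 136 := Act.cov_of_seen (Act.pieces_sound H_s2_816 H_s2_816.top pt808r chk824) chk825
theorem H_c1i : C1.Mem R1 (C1.gen R1 177709063300790903159112754985166630750781440) 168649385563887837507863869436903233888976896 := H_c0m.sub chk827
theorem H_c1m : C1.Mem R1 (C1.gen R1 168649385563887837507863869436903233888976896) 168649385563887837507863869436903233888976896 := H_c1i.gen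
theorem fx829 : C1.gen R1 168649385563887837507863869436903233888976896 ≤ stabilizer _ pt810 := Act.fix_sound H_c1i.top pt810r chk828
theorem cov836 : Cov (C1.gen R1 177709063300790903159112754985166630750781440) (C1.wds R1 [0]) pt810 100 := Act.cov_of_seen (Act.pieces_sound H_c0m H_c0m.top pt810r chk834) chk835
theorem H_c2i : C1.Mem R1 (C1.gen R1 168649385563887837507863869436903233888976896) 0 := H_c1m.sub chk837
theorem H_c2m : C1.Mem R1 (C1.gen R1 0) 0 := H_c2i.gen
theorem fx839 : C1.gen R1 0 ≤ stabilizer _ pt812 := Act.fix_sound H_c2i.top pt812r chk838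
theorem cov846 : Cov (C1.gen R1 168649385563887837507863869436903233888976896) (C1.wds R1 [0]) pt812 144 := Act.cov_of_seen (Act.pieces_sound H_c1m H_c1m.top pt812r chk844) chk845
theorem H_lb3 : 1 ≤ Nat.card (C1.gen R1 0) := Nat.card_pos
theorem H_lo2 : 144 * Nat.card (C1.gen R1 0) ≤ Nat.card (C1.gen R1 168649385563887837507863869436903233888976896) := cov846.low le_rfl (GC.wds_zero _) H_c2i.gen_le fx839
theorem H_lb2 : 144 ≤ Nat.card (C1.gen R1 168649385563887837507863869436903233888976896) := low_step H_lo2 H_lb3 (by decide +kernel)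
theorem H_lo1 : 100 * Nat.card (C1.gen R1 168649385563887837507863869436903233888976896) ≤ Nat.card (C1.gen R1 177709063300790903159112754985166630750781440) := cov836.low le_rfl (GC.wds_zero _) H_c1i.gen_le fx829
theorem H_lb1 : 14400 ≤ Nat.card (C1.gen R1 177709063300790903159112754985166630750781440) := low_step H_lo1 H_lb2 (by decide +kernel)
theorem H_lo0 : 136 * Nat.card (C1.gen R1 177709063300790903159112754985166630750781440) ≤ Nat.card (C1.gen R1 151115727451828646846462) := cov826.low le_rfl (GC.wds_zero _) H_c0i.gen_le fx819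
theorem H_lb0 : 1958400 ≤ Nat.card (C1.gen R1 151115727451828646846462) := low_step H_lo0 H_lb1 (by decide +kernel)
theorem H_st0 : (C1.gen R1 151115727451828646846462) ⊓ stabilizer _ pt808 = (C1.gen R1 177709063300790903159112754985166630750781440) ∧ (orbit (C1.gen R1 151115727451828646846462) pt808).ncard = 136 := cov826.stab le_rfl (GC.wds_zero _) H_c0i.gen_le fx819 (up_low H_ub H_lb1 (by decide +kernel))
theorem H_ub1 : Nat.card (C1.gen R1 177709063300790903159112754985166630750781440) ≤ 14400 := up_step H_lo0 H_ub (by decide +kernel)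
theorem H_st1 : (C1.gen R1 177709063300790903159112754985166630750781440) ⊓ stabilizer _ pt810 = (C1.gen R1 168649385563887837507863869436903233888976896) ∧ (orbit (C1.gen R1 177709063300790903159112754985166630750781440) pt810).ncard = 100 := cov836.stab le_rfl (GC.wds_zero _) H_c1i.gen_le fx829 (up_low H_ub1 H_lb2 (by decide +kernel))
theorem H_ub2 : Nat.card (C1.gen R1 168649385563887837507863869436903233888976896) ≤ 144 := up_step H_lo1 H_ub1 (by decide +kernel)
theorem H_st2 : (C1.gen R1 168649385563887837507863869436903233888976896) ⊓ stabilizer _ pt812 = (C1.gen R1 0) ∧ (orbit (C1.gen R1 168649385563887837507863869436903233888976896) pt812).ncard = 144 := cov846.stab le_rfl (GC.wds_zero _) H_c2i.gen_le fx839 (up_low H_ub2 H_lb3 (by decide +kernel))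
theorem H_ub3 : Nat.card (C1.gen R1 0) ≤ 1 := up_step H_lo2 H_ub2 (by decide +kernel)
theorem cov855 : Cov (C1.gen R1 453347182355485940523006) (C1.wds R1 [0]) pt804 2058 := Act.cov_of_seen (Act.pieces_sound G_s2_807 G_s2_807.top pt804r chk853) chk854
theorem fx857 : C1.gen R1 151115727451828646846462 ≤ stabilizer _ pt804 := Act.fix_sound (vH.sub (M' := 151115727451828646846462) (by decide +kernel)) pt804r chk856
theorem G_cov : Cov (C1.gen R1 453347182355485940523006) (C1.wds R1 [0]) pt804 2058 := cov855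
theorem G_lo : 2058 * Nat.card (C1.gen R1 151115727451828646846462) ≤ Nat.card (C1.gen R1 453347182355485940523006) := cov855.low le_rfl (GC.wds_zero _) (G_s2_807.sub chk858).gen_le fx857
theorem G_lb : 4030387200 ≤ Nat.card (C1.gen R1 453347182355485940523006) := low_step G_lo H_lb0 (by decide +kernel)
theorem core (N : Subgroup _) (h : N ≤ (C1.gen R1 151115727451828646846462)) (hN : NormBy (C1.gen R1 453347182355485940523006) N) : N ≤ (C1.gen R1 0) := (le_next H_st2 (le_next H_st1 (le_next H_st0 h (hN.fix (h.trans fx857) pt808g)) (hN.fix (h.trans fx857) pt810g)) (hN.fix (h.trans fx857) pt812g))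
theorem G_m4 : C1.Mem R1 (C1.gen R1 453347182355485940523006) 178403239329309620100311715170746991844007934 := G_s2_807.lor' (H_s2_816.mono (G_s2_807.sub chk859).gen_le) chk860
theorem G_s4_863 : C1.Mem R1 (C1.gen R1 453347182355485940523006) 356809200917554605232597461351933883891851262 := G_m4.slp' chk862
theorem G_s5_866 : C1.Mem R1 (C1.gen R1 453347182355485940523006) 1427244970447024516026311938439055236178911230 := G_s4_863.slp' chk865
theorem ncl (N : Subgroup _) (hN : NormBy (C1.gen R1 453347182355485940523006) N) (hz : C1.el (R1 147) ∈ N) : C1.gen R1 453347182355485940523006 ≤ N := by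
  have h0 := (GC.Mem.single (G_s5_866.get (i := 147) (by decide +kernel)).top hz).lor' (G_s5_866.nconj (GC.Mem.single (G_s5_866.get (i := 147) (by decide +kernel)).top hz) hN (G_s5_866.sub chk867).top chk869) (M'' := 1248841731117714895926000223268308244334903296) (by decide +kernel)
  have h1 := G_s5_866.ncop h0 hN chk871
  exact h1.gen_le
theorem dich (N : Subgroup _) (h : N ≤ (C1.gen R1 453347182355485940523006)) (hN : NormBy (C1.gen R1 453347182355485940523006) N) : N ≤ (C1.gen R1 0) ∨ N = (C1.gen R1 453347182355485940523006) :=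
  normal_dichotomy (G_s5_866.sub chk873).gen_le G_max core (p := 7) (k := 3) (n := 2058) (by norm_num)
    (eq_mul_of G_ub G_lb H_ub H_lb0 (by decide +kernel)) (by norm_num)
    (not_dvd_of G_ub G_lb (by decide +kernel)) (G_s5_866.get (i := 147) (by decide +kernel)).el_mem ((G_s5_866.get (i := 147) (by decide +kernel)).prime_dvd (by norm_num) chk872).1.1
    (fun N _ hN hz => ncl N hN hz) N h hN
theorem simple : IsSimpleGroup (C1.gen R1 453347182355485940523006) := simple_of_dichotomy (ne_bot_of G_lb (by decide +kernel)) fun N h hN => GC.gen_zero (C := C1) (R := R1) ▸ dich N h hN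
theorem cardG : Nat.card (C1.gen R1 453347182355485940523006) = 4030387200 := le_antisymm G_ub G_lb
theorem cardH : Nat.card (C1.gen R1 151115727451828646846462) = 1958400 := le_antisymm H_ub H_lb0
theorem cardN : Nat.card (C1.gen R1 8190) = 979200 := le_antisymm N1_ub N1_lb0
theorem H_le : (C1.gen R1 151115727451828646846462) ≤ (C1.gen R1 453347182355485940523006) := (G_s5_866.sub chk874).gen_le
theorem N_le : (C1.gen R1 8190) ≤ (C1.gen R1 151115727451828646846462) := (H_s2_816.sub chk875).gen_le
theorem iso : Nonempty ((C1.gen R1 8190) ≃* (C2.gen R2 8190)) := by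
  rw [N1_map, N2_map]
  exact equiv_of_prod _ (D_ub.trans (N1_map ▸ N1_lb0)) (D_ub.trans (N2_map ▸ N2_lb0))
theorem N2_lb : 979200 ≤ Nat.card (C2.gen R2 8190) := N2_lb0
theorem N2_v : C2.Mem R2 ⊤ 8190 := (D_m0.map hf2).top
end

end CfsgH6.He
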