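import Cfsg.Agent.H6.HeD0

set_option autoImplicit false
set_option maxRecDepth 100000
set_option linter.all false

namespace CfsgH6.He

open CfsgH5 CfsgH6 Subgroup MulAction Pointwise

noncomputable section

theorem chk2 : band (allL l1 fun e => band (can2 52 (force (hd e) R1)) (band (Nat.ble 1 (tl e)) (Nat.beq (powC (ops2 52) (force (hd e) R1) (tl e)) (ops2 52).one))) (subM 8190 (insL l1 0)) = true := by decide +kernel
theorem chk5 : band (allL l4 fun e => band (can4 e8 (force (hd e) R2)) (band (Nat.ble 1 (tl e)) (Nat.beq (powC (ops2 8) (force (hd e) R2) (tl e)) (ops2 8).one))) (subM 8190 (insL l4 0)) = true := by decide +kernel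
theorem chk8 : subM 8 8190 = true := by decide +kernel
theorem chk10 : band (conjB (prodOps 2809 (ops2 52) (ops2 8)) R 0 3 l9) (subM 0 (insL l9 0)) = true := by decide +kernel
theorem chk11 : band (Nat.ble 1 2) (band (subW 0 0) (Nat.beq (powC (prodOps 2809 (ops2 52) (ops2 8)) (R 3) 2) (evalW (prodOps 2809 (ops2 52) (ops2 8)) R 0))) = true := by decide +kernel
theorem chk12 : subM 24 8190 = true := by decide +kernel
theorem chk14 : band (conjB (prodOps 2809 (ops2 52) (ops2 8)) R 8 4 l13) (subM 8 (insL l13 0)) = true := by decide +kernel
theorem chk15 : band (Nat.ble 1 2) (band (subW 8 0) (Nat.beq (powC (prodOps 2809 (ops2 52) (ops2 8)) (R 4) 2) (evalW (prodOps 2809 (ops2 52) (ops2 8)) R 0))) = true := by decide +kernel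
theorem chk16 : subM 56 8190 = true := by decide +kernel
theorem chk18 : band (conjB (prodOps 2809 (ops2 52) (ops2 8)) R 24 5 l17) (subM 24 (insL l17 0)) = true := by decide +kernel
theorem chk19 : band (Nat.ble 1 2) (band (subW 24 0) (Nat.beq (powC (prodOps 2809 (ops2 52) (ops2 8)) (R 5) 2) (evalW (prodOps 2809 (ops2 52) (ops2 8)) R 0))) = true := by decide +kernel
theorem chk20 : subM 120 8190 = true := by decide +kernel
theorem chk22 : band (conjB (prodOps 2809 (ops2 52) (ops2 8)) R 56 6 l21) (subM 56 (insL l21 0)) = true := by decide +kernel
theorem chk23 : band (Nat.ble 1 2) (band (subW 56 0) (Nat.beq (powC (prodOps 2809 (ops2 52) (ops2 8)) (R 6) 2) (evalW (prodOps 2809 (ops2 52) (ops2 8)) R 0))) = true := by decide +kernel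
theorem chk24 : subM 248 8190 = true := by decide +kernel
theorem chk26 : band (conjB (prodOps 2809 (ops2 52) (ops2 8)) R 120 7 l25) (subM 120 (insL l25 0)) = true := by decide +kernel
theorem chk27 : band (Nat.ble 1 2) (band (subW 120 4) (Nat.beq (powC (prodOps 2809 (ops2 52) (ops2 8)) (R 7) 2) (evalW (prodOps 2809 (ops2 52) (ops2 8)) R 4))) = true := by decide +kernel
theorem chk28 : subM 504 8190 = true := by decide +kernel
theorem chk30 : band (conjB (prodOps 2809 (ops2 52) (ops2 8)) R 248 8 l29) (subM 248 (insL l29 0)) = true := by decide +kernel
theorem chk31 : band (Nat.ble 1 2) (band (subW 248 6) (Nat.beq (powC (prodOps 2809 (ops2 52) (ops2 8)) (R 8) 2) (evalW (prodOps 2809 (ops2 52) (ops2 8)) R 6))) = true := by decide +kernel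
theorem chk32 : subM 1016 8190 = true := by decide +kernel
theorem chk34 : band (conjB (prodOps 2809 (ops2 52) (ops2 8)) R 504 9 l33) (subM 504 (insL l33 0)) = true := by decide +kernel
theorem chk35 : band (Nat.ble 1 2) (band (subW 504 0) (Nat.beq (powC (prodOps 2809 (ops2 52) (ops2 8)) (R 9) 2) (evalW (prodOps 2809 (ops2 52) (ops2 8)) R 0))) = true := by decide +kernel
theorem chk36 : subM 2040 8190 = true := by decide +kernel
theorem chk38 : band (conjB (prodOps 2809 (ops2 52) (ops2 8)) R 1016 10 l37) (subM 1016 (insL l37 0)) = true := by decide +kernel
theorem chk39 : band (Nat.ble 1 2) (band (subW 1016 0) (Nat.beq (powC (prodOps 2809 (ops2 52) (ops2 8)) (R 10) 2) (evalW (prodOps 2809 (ops2 52) (ops2 8)) R 0))) = true := by decide +kernel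
theorem chk40 : subM 4088 8190 = true := by decide +kernel
theorem chk42 : band (conjB (prodOps 2809 (ops2 52) (ops2 8)) R 2040 11 l41) (subM 2040 (insL l41 0)) = true := by decide +kernel
theorem chk43 : band (Nat.ble 1 3) (band (subW 2040 0) (Nat.beq (powC (prodOps 2809 (ops2 52) (ops2 8)) (R 11) 3) (evalW (prodOps 2809 (ops2 52) (ops2 8)) R 0))) = true := by decide +kernel
theorem chk44 : subM 8184 8190 = true := by decide +kernel
theorem chk46 : band (conjB (prodOps 2809 (ops2 52) (ops2 8)) R 4088 12 l45) (subM 4088 (insL l45 0)) = true := by decide +kernel
theorem chk47 : band (Nat.ble 1 3) (band (subW 4088 0) (Nat.beq (powC (prodOps 2809 (ops2 52) (ops2 8)) (R 12) 3) (evalW (prodOps 2809 (ops2 52) (ops2 8)) R 0))) = true := by decide +kernel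
theorem chk49 : subM 8186 8190 = true := by decide +kernel
theorem chk50 : subM 2 8186 = true := by decide +kernel
theorem chk52 : band (slp (prodOps 2809 (ops2 52) (ops2 8)) R l51 8184) (subM 24576 (insL l51 8184)) = true := by decide +kernel
theorem chk59 : band (slp (prodOps 2809 (ops2 52) (ops2 8)) R l58 24576) (subM 516096 (insL l58 24576)) = true := by decide +kernel
theorem chk61 : subM 491520 516096 = true := by decide +kernel
theorem chk62 : band (fixL (fun c v => (app2 8 9 3) (pr2 2809 c) v) (keyL (app2 8 9 3) (fun x => x) om 2) R [15, 16, 17, 18] pt54c) (subM 491520 (insL [15, 16, 17, 18] 0)) = true := by decide +kernel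
theorem chk68 : band (pieces (fun c v => (app2 8 9 3) (pr2 2809 c) v) (keyL (app2 8 9 3) (fun x => x) om 2) tab66 R 516096 [13, 14, 15, 16, 17, 18] pt54c l67) (allL l67 fun p => subW 516096 p.2.1) = true := by decide +kernel
theorem chk69 : cover 3 [0] (l67) 0 = true := by decide +kernel
theorem chk71 : subM 458752 491520 = true := by decide +kernel
theorem chk72 : band (fixL (fun c v => (app2 8 9 3) (pr2 2809 c) v) (keyL (app2 8 9 3) (fun x => x) om 2) R [16, 17, 18] pt55c) (subM 458752 (insL [16, 17, 18] 0)) = true := by decide +kernel
theorem chk78 : band (pieces (fun c v => (app2 8 9 3) (pr2 2809 c) v) (keyL (app2 8 9 3) (fun x => x) om 2) tab76 R 491520 [15, 16, 17, 18] pt55c l77) (allL l77 fun p => subW 491520 p.2.1) = true := by decide +kernel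
theorem chk79 : cover 4 [0] (l77) 0 = true := by decide +kernel
theorem chk81 : subM 262144 458752 = true := by decide +kernel
theorem chk82 : band (fixL (fun c v => (app2 8 9 3) (pr2 2809 c) v) (keyL (app2 8 9 3) (fun x => x) om 2) R [18] pt56c) (subM 262144 (insL [18] 0)) = true := by decide +kernel
theorem chk88 : band (pieces (fun c v => (app2 8 9 3) (pr2 2809 c) v) (keyL (app2 8 9 3) (fun x => x) om 2) tab86 R 458752 [16, 17, 18] pt56c l87) (allL l87 fun p => subW 458752 p.2.1) = true := by decide +kernel
theorem chk89 : cover 4 [0] (l87) 0 = true := by decide +kernel
theorem chk91 : subM 0 262144 = true := by decide +kernel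
theorem chk92 : band (fixL (fun c v => (app2 8 9 3) (pr2 2809 c) v) (keyL (app2 8 9 3) (fun x => x) om 2) R [] pt57c) (subM 0 (insL [] 0)) = true := by decide +kernel
theorem chk98 : band (pieces (fun c v => (app2 8 9 3) (pr2 2809 c) v) (keyL (app2 8 9 3) (fun x => x) om 2) tab96 R 262144 [18] pt57c l97) (allL l97 fun p => subW 262144 p.2.1) = true := by decide +kernel
theorem chk99 : cover 3 [0] (l97) 0 = true := by decide +kernel
theorem chk102 : band (conjB (prodOps 2809 (ops2 52) (ops2 8)) R 8184 1 l101) (subM 24576 (insL l101 0)) = true := by decide +kernel
theorem chk103 : band (fixL (fun c v => (app2 8 9 3) (pr2 2809 c) v) (keyL (app2 8 9 3) (fun x => x) om 2) R [13, 14] pt48c) (subM 24576 (insL [13, 14] 0)) = true := by decide +kernel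
theorem chk119 : band (slp (prodOps 2809 (ops2 52) (ops2 8)) R l118 8184) (subM 1572864 (insL l118 8184)) = true := by decide +kernel
theorem chk126 : band (slp (prodOps 2809 (ops2 52) (ops2 8)) R l125 1572864) (subM 133693440 (insL l125 1572864)) = true := by decide +kernel
theorem chk128 : subM 132120576 133693440 = true := by decide +kernel
theorem chk129 : band (fixL (fun c v => (app2 8 9 3) (pr2 2809 c) v) (fun x => x) R [21, 22, 23, 24, 25, 26] pt121c) (subM 132120576 (insL [21, 22, 23, 24, 25, 26] 0)) = true := by decide +kernel
theorem chk135 : band (pieces (fun c v => (app2 8 9 3) (pr2 2809 c) v) (fun x => x) tab133 R 133693440 [19, 20, 21, 22, 23, 24, 25, 26] pt121c l134) (allL l134 fun p => subW 133693440 p.2.1) = true := by decide +kernel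
theorem chk136 : cover 3 [0] (l134) 0 = true := by decide +kernel
theorem chk138 : subM 121634816 132120576 = true := by decide +kernel
theorem chk139 : band (fixL (fun c v => (app2 8 9 3) (pr2 2809 c) v) (keyL (app2 8 9 3) (fun x => x) om 2) R [22, 24, 25, 26] pt122c) (subM 121634816 (insL [22, 24, 25, 26] 0)) = true := by decide +kernel
theorem chk145 : band (pieces (fun c v => (app2 8 9 3) (pr2 2809 c) v) (keyL (app2 8 9 3) (fun x => x) om 2) tab143 R 132120576 [21, 22, 23, 24, 25, 26] pt122c l144) (allL l144 fun p => subW 132120576 p.2.1) = true := by decide +kernel
theorem chk146 : cover 4 [0] (l144) 0 = true := by decide +kernel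
theorem chk148 : subM 67108864 121634816 = true := by decide +kernel
theorem chk149 : band (fixL (fun c v => (app2 8 9 3) (pr2 2809 c) v) (keyL (app2 8 9 3) (fun x => x) om 2) R [26] pt123c) (subM 67108864 (insL [26] 0)) = true := by decide +kernel
theorem chk155 : band (pieces (fun c v => (app2 8 9 3) (pr2 2809 c) v) (keyL (app2 8 9 3) (fun x => x) om 2) tab153 R 121634816 [22, 24, 25, 26] pt123c l154) (allL l154 fun p => subW 121634816 p.2.1) = true := by decide +kernel
theorem chk156 : cover 16 [0] (l154) 0 = true := by decide +kernel
theorem chk158 : subM 0 67108864 = true := by decide +kernel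
theorem chk159 : band (fixL (fun c v => (app2 8 9 3) (pr2 2809 c) v) (keyL (app2 8 9 3) (fun x => x) om 2) R [] pt124c) (subM 0 (insL [] 0)) = true := by decide +kernel
theorem chk165 : band (pieces (fun c v => (app2 8 9 3) (pr2 2809 c) v) (keyL (app2 8 9 3) (fun x => x) om 2) tab163 R 67108864 [26] pt124c l164) (allL l164 fun p => subW 67108864 p.2.1) = true := by decide +kernel
theorem chk166 : cover 3 [0] (l164) 0 = true := by decide +kernel
theorem chk169 : band (conjA (prodOps 2809 (ops2 52) (ops2 8)) R 8184 1 l168) (subM 1572864 (insL l168 0)) = true := by decide +kernel
theorem chk171 : dcRel (prodOps 2809 (ops2 52) (ops2 8)) R 8184 2 1 1 l170 = true := by decide +kernel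
theorem chk176 : band (pieces (fun c v => (app2 8 9 3) (pr2 2809 c) v) (keyL (app2 8 9 3) (fun x => x) om 2) tab174 R 133693440 [19, 20, 21, 22, 23, 24, 25, 26] pt48c l175) (allL l175 fun p => subW 8184 p.2.1) = true := by decide +kernel
theorem chk177 : cover 16 (List.map Prod.fst (l170)) (l175) 0 = true := by decide +kernel
theorem chk179 : allL (List.map Prod.fst (l170)) (subW 8184) = true := by decide +kernel
theorem chk180 : inDC (prodOps 2809 (ops2 52) (ops2 8)) R 8184 2 (R 1) 0 1 = true := by decide +kernel
theorem chk183 : band (slp (prodOps 2809 (ops2 52) (ops2 8)) R l182 8186) (subM 34225528826 (insL l182 8186)) = true := by decide +kernel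
theorem chk185 : subM 8186 8190 = true := by decide +kernel
theorem chk186 : subM 34225528830 (Nat.lor 8190 34225528826) = true := by decide +kernel
theorem chk188 : band (slp (prodOps 2809 (ops2 52) (ops2 8)) R l187 34225528830) (subM 68585267198 (insL l187 34225528830)) = true := by decide +kernel
theorem chk190 : subM 34359738372 68585267198 = true := by decide +kernel
theorem chk192 : band (slp (prodOps 2809 (ops2 52) (ops2 8)) R l191 34225528826) (subM 206158430208 (insL l191 34225528826)) = true := by decide +kernel
theorem chk199 : band (slp (prodOps 2809 (ops2 52) (ops2 8)) R l198 206158430208) (subM 4329327034368 (insL l198 206158430208)) = true := by decide +kernel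
theorem chk201 : subM 4123168604160 4329327034368 = true := by decide +kernel
theorem chk202 : band (fixL (fun c v => (app2 8 9 3) (pr2 2809 c) v) (keyL (app2 8 9 3) (fun x => x) om 2) R [38, 39, 40, 41] pt194c) (subM 4123168604160 (insL [38, 39, 40, 41] 0)) = true := by decide +kernel
theorem chk208 : band (pieces (fun c v => (app2 8 9 3) (pr2 2809 c) v) (keyL (app2 8 9 3) (fun x => x) om 2) tab206 R 4329327034368 [36, 37, 38, 39, 40, 41] pt194c l207) (allL l207 fun p => subW 4329327034368 p.2.1) = true := by decide +kernel
theorem chk209 : cover 3 [0] (l207) 0 = true := by decide +kernel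
theorem chk211 : subM 3298534883328 4123168604160 = true := by decide +kernel
theorem chk212 : band (fixL (fun c v => (app2 8 9 3) (pr2 2809 c) v) (keyL (app2 8 9 3) (fun x => x) om 2) R [40, 41] pt195c) (subM 3298534883328 (insL [40, 41] 0)) = true := by decide +kernel
theorem chk218 : band (pieces (fun c v => (app2 8 9 3) (pr2 2809 c) v) (keyL (app2 8 9 3) (fun x => x) om 2) tab216 R 4123168604160 [38, 39, 40, 41] pt195c l217) (allL l217 fun p => subW 4123168604160 p.2.1) = true := by decide +kernel
theorem chk219 : cover 16 [0] (l217) 0 = true := by decide +kernel
theorem chk221 : subM 2199023255552 3298534883328 = true := by decide +kernel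
theorem chk222 : band (fixL (fun c v => (app2 8 9 3) (pr2 2809 c) v) (keyL (app2 8 9 3) (fun x => x) om 2) R [41] pt196c) (subM 2199023255552 (insL [41] 0)) = true := by decide +kernel
theorem chk228 : band (pieces (fun c v => (app2 8 9 3) (pr2 2809 c) v) (keyL (app2 8 9 3) (fun x => x) om 2) tab226 R 3298534883328 [40, 41] pt196c l227) (allL l227 fun p => subW 3298534883328 p.2.1) = true := by decide +kernel
theorem chk229 : cover 4 [0] (l227) 0 = true := by decide +kernel
theorem chk231 : subM 0 2199023255552 = true := by decide +kernel
theorem chk232 : band (fixL (fun c v => (app2 8 9 3) (pr2 2809 c) v) (keyL (app2 8 9 3) (fun x => x) om 2) R [] pt197c) (subM 0 (insL [] 0)) = true := by decide +kernel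
theorem chk238 : band (pieces (fun c v => (app2 8 9 3) (pr2 2809 c) v) (keyL (app2 8 9 3) (fun x => x) om 2) tab236 R 2199023255552 [41] pt197c l237) (allL l237 fun p => subW 2199023255552 p.2.1) = true := by decide +kernel
theorem chk239 : cover 3 [0] (l237) 0 = true := by decide +kernel
theorem chk242 : band (conjB (prodOps 2809 (ops2 52) (ops2 8)) R 34225528826 2 l241) (subM 206158430208 (insL l241 0)) = true := by decide +kernel
theorem chk243 : band (fixL (fun c v => (app2 8 9 3) (pr2 2809 c) v) (keyL (app2 8 9 3) (fun x => x) om 2) R [36, 37] pt181c) (subM 206158430208 (insL [36, 37] 0)) = true := by decide +kernel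
theorem chk251 : band (slp (prodOps 2809 (ops2 52) (ops2 8)) R l250 34225528826) (subM 13194139533312 (insL l250 34225528826)) = true := by decide +kernel
theorem chk257 : band (slp (prodOps 2809 (ops2 52) (ops2 8)) R l256 13194139533312) (subM 277076930199552 (insL l256 13194139533312)) = true := by decide +kernel
theorem chk259 : subM 263882790666240 277076930199552 = true := by decide +kernel
theorem chk260 : band (fixL (fun c v => (app2 8 9 3) (pr2 2809 c) v) (fun x => x) R [44, 45, 46, 47] pt253c) (subM 263882790666240 (insL [44, 45, 46, 47] 0)) = true := by decide +kernel
theorem chk266 : band (pieces (fun c v => (app2 8 9 3) (pr2 2809 c) v) (fun x => x) tab264 R 277076930199552 [42, 43, 44, 45, 46, 47] pt253c l265) (allL l265 fun p => subW 277076930199552 p.2.1) = true := by decide +kernel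
theorem chk267 : cover 3 [0] (l265) 0 = true := by decide +kernel
theorem chk269 : subM 175921860444160 263882790666240 = true := by decide +kernel
theorem chk270 : band (fixL (fun c v => (app2 8 9 3) (pr2 2809 c) v) (keyL (app2 8 9 3) (fun x => x) om 2) R [45, 47] pt254c) (subM 175921860444160 (insL [45, 47] 0)) = true := by decide +kernel
theorem chk276 : band (pieces (fun c v => (app2 8 9 3) (pr2 2809 c) v) (keyL (app2 8 9 3) (fun x => x) om 2) tab274 R 263882790666240 [44, 45, 46, 47] pt254c l275) (allL l275 fun p => subW 263882790666240 p.2.1) = true := by decide +kernel
theorem chk277 : cover 16 [0] (l275) 0 = true := by decide +kernel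
theorem chk279 : subM 0 175921860444160 = true := by decide +kernel
theorem chk280 : band (fixL (fun c v => (app2 8 9 3) (pr2 2809 c) v) (keyL (app2 8 9 3) (fun x => x) om 2) R [] pt255c) (subM 0 (insL [] 0)) = true := by decide +kernel
theorem chk286 : band (pieces (fun c v => (app2 8 9 3) (pr2 2809 c) v) (keyL (app2 8 9 3) (fun x => x) om 2) tab284 R 175921860444160 [45, 47] pt255c l285) (allL l285 fun p => subW 175921860444160 p.2.1) = true := by decide +kernel
theorem chk287 : cover 12 [0] (l285) 0 = true := by decide +kernel
theorem chk290 : band (conjA (prodOps 2809 (ops2 52) (ops2 8)) R 34225528826 2 l289) (subM 13194139533312 (insL l289 0)) = true := by decide +kernel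
theorem chk292 : dcRel (prodOps 2809 (ops2 52) (ops2 8)) R 34225528826 34359738372 2 2 l291 = true := by decide +kernel
theorem chk297 : band (pieces (fun c v => (app2 8 9 3) (pr2 2809 c) v) (keyL (app2 8 9 3) (fun x => x) om 2) tab295 R 277076930199552 [42, 43, 44, 45, 46, 47] pt181c l296) (allL l296 fun p => subW 34225528826 p.2.1) = true := by decide +kernel
theorem chk298 : cover 20 (List.map Prod.fst (l291)) (l296) 0 = true := by decide +kernel
theorem chk300 : allL (List.map Prod.fst (l291)) (subW 34225528826) = true := by decide +kernel
theorem chk302 : band (slp (prodOps 2809 (ops2 52) (ops2 8)) R l301 34225528826) (subM 844424930131968 (insL l301 34225528826)) = true := by decide +kernel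
theorem chk308 : band (slp (prodOps 2809 (ops2 52) (ops2 8)) R l307 844424930131968) (subM 17732923532771328 (insL l307 844424930131968)) = true := by decide +kernel
theorem chk310 : subM 16888498602639360 17732923532771328 = true := by decide +kernel
theorem chk311 : band (fixL (fun c v => (app2 8 9 3) (pr2 2809 c) v) (fun x => x) R [50, 51, 52, 53] pt304c) (subM 16888498602639360 (insL [50, 51, 52, 53] 0)) = true := by decide +kernel
theorem chk317 : band (pieces (fun c v => (app2 8 9 3) (pr2 2809 c) v) (fun x => x) tab315 R 17732923532771328 [48, 49, 50, 51, 52, 53] pt304c l316) (allL l316 fun p => subW 17732923532771328 p.2.1) = true := by decide +kernel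
theorem chk318 : cover 3 [0] (l316) 0 = true := by decide +kernel
theorem chk320 : subM 13510798882111488 16888498602639360 = true := by decide +kernel
theorem chk321 : band (fixL (fun c v => (app2 8 9 3) (pr2 2809 c) v) (keyL (app2 8 9 3) (fun x => x) om 2) R [52, 53] pt305c) (subM 13510798882111488 (insL [52, 53] 0)) = true := by decide +kernel
theorem chk327 : band (pieces (fun c v => (app2 8 9 3) (pr2 2809 c) v) (keyL (app2 8 9 3) (fun x => x) om 2) tab325 R 16888498602639360 [50, 51, 52, 53] pt305c l326) (allL l326 fun p => subW 16888498602639360 p.2.1) = true := by decide +kernel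
theorem chk328 : cover 15 [0] (l326) 0 = true := by decide +kernel
theorem chk330 : subM 0 13510798882111488 = true := by decide +kernel
theorem chk331 : band (fixL (fun c v => (app2 8 9 3) (pr2 2809 c) v) (keyL (app2 8 9 3) (fun x => x) om 2) R [] pt306c) (subM 0 (insL [] 0)) = true := by decide +kernel
theorem chk337 : band (pieces (fun c v => (app2 8 9 3) (pr2 2809 c) v) (keyL (app2 8 9 3) (fun x => x) om 2) tab335 R 13510798882111488 [52, 53] pt306c l336) (allL l336 fun p => subW 13510798882111488 p.2.1) = true := by decide +kernel
theorem chk338 : cover 4 [0] (l336) 0 = true := by decide +kernel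
theorem chk341 : band (conjA (prodOps 2809 (ops2 52) (ops2 8)) R 34225528826 35 l340) (subM 844424930131968 (insL l340 0)) = true := by decide +kernel
theorem chk343 : dcRel (prodOps 2809 (ops2 52) (ops2 8)) R 34225528826 34359738372 35 2 l342 = true := by decide +kernel
theorem chk348 : band (pieces (fun c v => (app2 8 9 3) (pr2 2809 c) v) (keyL (app2 8 9 3) (fun x => x) om 2) tab346 R 17732923532771328 [48, 49, 50, 51, 52, 53] pt181c l347) (allL l347 fun p => subW 34225528826 p.2.1) = true := by decide +kernel
theorem chk349 : cover 20 (List.map Prod.fst (l342)) (l347) 0 = true := by decide +kernel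
theorem chk351 : allL (List.map Prod.fst (l342)) (subW 34225528826) = true := by decide +kernel
theorem chk352 : inDC (prodOps 2809 (ops2 52) (ops2 8)) R 34225528826 34359738372 (R 2) 0 2 = true := by decide +kernel
theorem chk358 : band (slp (ops2 8) R2 l357 8190) (subM 9205357638345302014 (insL l357 8190)) = true := by decide +kernel
theorem chk360 : subM 9205357638345293824 9205357638345302014 = true := by decide +kernel
theorem chk361 : band (fixL (app2 8 9 3) (fun x => x) R2 [54, 55, 56, 57, 58, 59, 60, 61, 62] pt353c) (subM 9205357638345293824 (insL [54, 55, 56, 57, 58, 59, 60, 61, 62] 0)) = true := by decide +kernel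
theorem chk367 : band (pieces (app2 8 9 3) (fun x => x) tab365 R2 9205357638345302014 [3, 4, 5, 11, 12, 1, 2, 54, 55, 56, 57, 58, 59, 60, 61, 62] pt353c l366) (allL l366 fun p => subW 9205357638345302014 p.2.1) = true := by decide +kernel
theorem chk368 : cover 255 [0] (l366) 0 = true := by decide +kernel
theorem chk370 : subM 9079256848778919936 9205357638345293824 = true := by decide +kernel
theorem chk371 : band (fixL (app2 8 9 3) (fun x => x) R2 [57, 58, 59, 60, 61, 62] pt354c) (subM 9079256848778919936 (insL [57, 58, 59, 60, 61, 62] 0)) = true := by decide +kernel
theorem chk377 : band (pieces (app2 8 9 3) (fun x => x) tab375 R2 9205357638345293824 [54, 55, 56, 57, 58, 59, 60, 61, 62] pt354c l376) (allL l376 fun p => subW 9205357638345293824 p.2.1) = true := by decide +kernel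
theorem chk378 : cover 60 [0] (l376) 0 = true := by decide +kernel
theorem chk380 : subM 6917529027641081856 9079256848778919936 = true := by decide +kernel
theorem chk381 : band (fixL (app2 8 9 3) (fun x => x) R2 [61, 62] pt355c) (subM 6917529027641081856 (insL [61, 62] 0)) = true := by decide +kernel
theorem chk387 : band (pieces (app2 8 9 3) (fun x => x) tab385 R2 9079256848778919936 [57, 58, 59, 60, 61, 62] pt355c l386) (allL l386 fun p => subW 9079256848778919936 p.2.1) = true := by decide +kernel
theorem chk388 : cover 16 [0] (l386) 0 = true := by decide +kernel
theorem chk390 : subM 0 6917529027641081856 = true := by decide +kernel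
theorem chk391 : band (fixL (app2 8 9 3) (fun x => x) R2 [] pt356c) (subM 0 (insL [] 0)) = true := by decide +kernel
theorem chk397 : band (pieces (app2 8 9 3) (fun x => x) tab395 R2 6917529027641081856 [61, 62] pt356c l396) (allL l396 fun p => subW 6917529027641081856 p.2.1) = true := by decide +kernel
theorem chk398 : cover 4 [0] (l396) 0 = true := by decide +kernel
theorem chk404 : band (slp (ops2 52) R1 l403 8190) (subM 4713143110832790446078 (insL l403 8190)) = true := by decide +kernel
theorem chk406 : subM 4713143110832790437888 4713143110832790446078 = true := by decide +kernel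
theorem chk407 : band (fixL (app2 52 53 6) (fun x => x) R1 [63, 64, 65, 66, 67, 68, 69, 70, 71] pt400c) (subM 4713143110832790437888 (insL [63, 64, 65, 66, 67, 68, 69, 70, 71] 0)) = true := by decide +kernel
theorem chk413 : band (pieces (app2 52 53 6) (fun x => x) tab411 R1 4713143110832790446078 [3, 4, 5, 11, 12, 1, 2, 63, 64, 65, 66, 67, 68, 69, 70, 71] pt400c l412) (allL l412 fun p => subW 4713143110832790446078 p.2.1) = true := by decide +kernel
theorem chk414 : cover 136 [0] (l412) 0 = true := by decide +kernel
theorem chk416 : subM 3836922767331586736128 4713143110832790437888 = true := by decide +kernel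
theorem chk417 : band (fixL (app2 52 53 6) (fun x => x) R1 [68, 70, 71] pt401c) (subM 3836922767331586736128 (insL [68, 70, 71] 0)) = true := by decide +kernel
theorem chk423 : band (pieces (app2 52 53 6) (fun x => x) tab421 R1 4713143110832790437888 [63, 64, 65, 66, 67, 68, 69, 70, 71] pt401c l422) (allL l422 fun p => subW 4713143110832790437888 p.2.1) = true := by decide +kernel
theorem chk424 : cover 900 [0] (l422) 0 = true := by decide +kernel
theorem chk426 : subM 0 3836922767331586736128 = true := by decide +kernel
theorem chk427 : band (fixL (app2 52 53 6) (fun x => x) R1 [] pt402c) (subM 0 (insL [] 0)) = true := by decide +kernel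
theorem chk433 : band (pieces (app2 52 53 6) (fun x => x) tab431 R1 3836922767331586736128 [68, 70, 71] pt402c l432) (allL l432 fun p => subW 3836922767331586736128 p.2.1) = true := by decide +kernel
theorem chk434 : cover 8 [0] (l432) 0 = true := by decide +kernel
theorem chk437 : band (allL l436 fun e => band (can2 52 (force (hd e) R1)) (band (Nat.ble 1 (tl e)) (Nat.beq (powC (ops2 52) (force (hd e) R1) (tl e)) (ops2 52).one))) (subM 453347182355485940514816 (insL l436 0)) = true := by decide +kernel
theorem chk439 : subM 8190 151115727451828646846462 = true := by decide +kernel
theorem chk440 : subM 155828870562661437284350 (Nat.lor 151115727451828646846462 4713143110832790446078) = true := by decide +kernel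
theorem chk442 : band (conjB (ops2 52) R1 4713143110832790446078 77 l441) (subM 8190 (insL l441 0)) = true := by decide +kernel
theorem chk443 : band (Nat.ble 1 2) (band (subW 4713143110832790446078 0) (Nat.beq (powC (ops2 52) (R1 77) 2) (evalW (ops2 52) R1 0))) = true := by decide +kernel
theorem chk446 : band (slp (ops2 52) R1 l445 155828870562661437284350) (subM 309036375782100415574712318 (insL l445 155828870562661437284350)) = true := by decide +kernel
theorem chk448 : subM 151115727451828646846462 453347182355485940523006 = true := by decide +kernel
theorem chk449 : subM 309338607237004072868388862 (Nat.lor 453347182355485940523006 309036375782100415574712318) = true := by decide +kernel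
theorem chk451 : band (slp (ops2 52) R1 l450 309338607237004072868388862) (subM 2475733675986419553941856254 (insL l450 309338607237004072868388862)) = true := by decide +kernel
theorem chk453 : subM 2166697300204319138367143936 2475733675986419553941856254 = true := by decide +kernel
theorem chk455 : band (slp (ops2 52) R1 l454 309036375782100415574712318) (subM 7427640235712281649394745344 (insL l454 309036375782100415574712318)) = true := by decide +kernel
theorem chk462 : band (slp (ops2 52) R1 l461 7427640235712281649394745344) (subM 631349420035543940198553354240 (insL l461 7427640235712281649394745344)) = true := by decide +kernel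
theorem chk464 : subM 623921779799831658549158608896 631349420035543940198553354240 = true := by decide +kernel
theorem chk465 : band (fixL (app2 52 53 6) (fun x => x) R1 [93, 94, 95, 96, 97, 98] pt457c) (subM 623921779799831658549158608896 (insL [93, 94, 95, 96, 97, 98] 0)) = true := by decide +kernel
theorem chk471 : band (pieces (app2 52 53 6) (fun x => x) tab469 R1 631349420035543940198553354240 [91, 92, 93, 94, 95, 96, 97, 98] pt457c l470) (allL l470 fun p => subW 631349420035543940198553354240 p.2.1) = true := by decide +kernel
theorem chk472 : cover 36 [0] (l470) 0 = true := by decide +kernel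
theorem chk474 : subM 574404178228416447553193639936 623921779799831658549158608896 = true := by decide +kernel
theorem chk475 : band (fixL (app2 52 53 6) (fun x => x) R1 [94, 96, 97, 98] pt458c) (subM 574404178228416447553193639936 (insL [94, 96, 97, 98] 0)) = true := by decide +kernel
theorem chk481 : band (pieces (app2 52 53 6) (fun x => x) tab479 R1 623921779799831658549158608896 [93, 94, 95, 96, 97, 98] pt458c l480) (allL l480 fun p => subW 623921779799831658549158608896 p.2.1) = true := by decide +kernel
theorem chk482 : cover 10 [0] (l480) 0 = true := by decide +kernel
theorem chk484 : subM 316912650057057350374175801344 574404178228416447553193639936 = true := by decide +kernel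
theorem chk485 : band (fixL (app2 52 53 6) (fun x => x) R1 [98] pt459c) (subM 316912650057057350374175801344 (insL [98] 0)) = true := by decide +kernel
theorem chk491 : band (pieces (app2 52 53 6) (fun x => x) tab489 R1 574404178228416447553193639936 [94, 96, 97, 98] pt459c l490) (allL l490 fun p => subW 574404178228416447553193639936 p.2.1) = true := by decide +kernel
theorem chk492 : cover 20 [0] (l490) 0 = true := by decide +kernel
theorem chk494 : subM 0 316912650057057350374175801344 = true := by decide +kernel
theorem chk495 : band (fixL (app2 52 53 6) (fun x => x) R1 [] pt460c) (subM 0 (insL [] 0)) = true := by decide +kernel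
theorem chk501 : band (pieces (app2 52 53 6) (fun x => x) tab499 R1 316912650057057350374175801344 [98] pt460c l500) (allL l500 fun p => subW 316912650057057350374175801344 p.2.1) = true := by decide +kernel
theorem chk502 : cover 2 [0] (l500) 0 = true := by decide +kernel
theorem chk505 : band (conjB (ops2 52) R1 309036375782100415574712318 78 l504) (subM 7427640235712281649394745344 (insL l504 0)) = true := by decide +kernel
theorem chk506 : band (fixL (app2 52 53 6) (fun x => x) R1 [91, 92] pt444c) (subM 7427640235712281649394745344 (insL [91, 92] 0)) = true := by decide +kernel
theorem chk532 : band (slp (ops2 52) R1 l531 309036375782100415574712318) (subM 4436777100798802905238461218816 (insL l531 309036375782100415574712318)) = true := by decide +kernel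
theorem chk538 : band (slp (ops2 52) R1 l537 4436777100798802905238461218816) (subM 161625451529099248690829658685440 (insL l537 4436777100798802905238461218816)) = true := by decide +kernel
theorem chk540 : subM 157188674428300445785591197466624 161625451529099248690829658685440 = true := by decide +kernel
theorem chk541 : band (fixL (app2 52 53 6) (fun x => x) R1 [102, 103, 104, 105, 106] pt534c) (subM 157188674428300445785591197466624 (insL [102, 103, 104, 105, 106] 0)) = true := by decide +kernel
theorem chk547 : band (pieces (app2 52 53 6) (fun x => x) tab545 R1 161625451529099248690829658685440 [99, 100, 101, 102, 103, 104, 105, 106] pt534c l546) (allL l546 fun p => subW 161625451529099248690829658685440 p.2.1) = true := by decide +kernel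
theorem chk548 : cover 36 [0] (l546) 0 = true := by decide +kernel
theorem chk550 : subM 131835662423735857755657133359104 157188674428300445785591197466624 = true := by decide +kernel
theorem chk551 : band (fixL (app2 52 53 6) (fun x => x) R1 [103, 105, 106] pt535c) (subM 131835662423735857755657133359104 (insL [103, 105, 106] 0)) = true := by decide +kernel
theorem chk557 : band (pieces (app2 52 53 6) (fun x => x) tab555 R1 157188674428300445785591197466624 [102, 103, 104, 105, 106] pt535c l556) (allL l556 fun p => subW 157188674428300445785591197466624 p.2.1) = true := by decide +kernel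
theorem chk558 : cover 50 [0] (l556) 0 = true := by decide +kernel
theorem chk560 : subM 0 131835662423735857755657133359104 = true := by decide +kernel
theorem chk561 : band (fixL (app2 52 53 6) (fun x => x) R1 [] pt536c) (subM 0 (insL [] 0)) = true := by decide +kernel
theorem chk567 : band (pieces (app2 52 53 6) (fun x => x) tab565 R1 131835662423735857755657133359104 [103, 105, 106] pt536c l566) (allL l566 fun p => subW 131835662423735857755657133359104 p.2.1) = true := by decide +kernel
theorem chk568 : cover 8 [0] (l566) 0 = true := by decide +kernel
theorem chk571 : band (conjA (ops2 52) R1 309036375782100415574712318 78 l570) (subM 4436777100798802905238461218816 (insL l570 0)) = true := by decide +kernel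
theorem chk573 : dcRel (ops2 52) R1 309036375782100415574712318 2166697300204319138367143936 78 78 l572 = true := by decide +kernel
theorem chk578 : band (pieces (app2 52 53 6) (fun x => x) tab576 R1 161625451529099248690829658685440 [99, 100, 101, 102, 103, 104, 105, 106] pt444c l577) (allL l577 fun p => subW 309036375782100415574712318 p.2.1) = true := by decide +kernel
theorem chk579 : cover 136 (List.map Prod.fst (l572)) (l577) 0 = true := by decide +kernel
theorem chk581 : allL (List.map Prod.fst (l572)) (subW 309036375782100415574712318) = true := by decide +kernel
theorem chk607 : band (slp (ops2 52) R1 l606 309036375782100415574712318) (subM 1135814937804493543741046072016896 (insL l606 309036375782100415574712318)) = true := by decide +kernel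
theorem chk613 : band (slp (ops2 52) R1 l612 1135814937804493543741046072016896) (subM 41376115591449407664852392623472640 (insL l612 1135814937804493543741046072016896)) = true := by decide +kernel
theorem chk615 : subM 40240300653644914121111346551455744 41376115591449407664852392623472640 = true := by decide +kernel
theorem chk616 : band (fixL (app2 52 53 6) (fun x => x) R1 [110, 111, 112, 113, 114] pt609c) (subM 40240300653644914121111346551455744 (insL [110, 111, 112, 113, 114] 0)) = true := by decide +kernel
theorem chk622 : band (pieces (app2 52 53 6) (fun x => x) tab620 R1 41376115591449407664852392623472640 [107, 108, 109, 110, 111, 112, 113, 114] pt609c l621) (allL l621 fun p => subW 41376115591449407664852392623472640 p.2.1) = true := by decide +kernel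
theorem chk623 : cover 10 [0] (l621) 0 = true := by decide +kernel
theorem chk625 : subM 31153781151208965771182977975320576 40240300653644914121111346551455744 = true := by decide +kernel
theorem chk626 : band (fixL (app2 52 53 6) (fun x => x) R1 [113, 114] pt610c) (subM 31153781151208965771182977975320576 (insL [113, 114] 0)) = true := by decide +kernel
theorem chk632 : band (pieces (app2 52 53 6) (fun x => x) tab630 R1 40240300653644914121111346551455744 [110, 111, 112, 113, 114] pt610c l631) (allL l631 fun p => subW 40240300653644914121111346551455744 p.2.1) = true := by decide +kernel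
theorem chk633 : cover 36 [0] (l631) 0 = true := by decide +kernel
theorem chk635 : subM 0 31153781151208965771182977975320576 = true := by decide +kernel
theorem chk636 : band (fixL (app2 52 53 6) (fun x => x) R1 [] pt611c) (subM 0 (insL [] 0)) = true := by decide +kernel
theorem chk642 : band (pieces (app2 52 53 6) (fun x => x) tab640 R1 31153781151208965771182977975320576 [113, 114] pt611c l641) (allL l641 fun p => subW 31153781151208965771182977975320576 p.2.1) = true := by decide +kernel
theorem chk643 : cover 4 [0] (l641) 0 = true := by decide +kernel
theorem chk646 : band (conjA (ops2 52) R1 309036375782100415574712318 88 l645) (subM 1135814937804493543741046072016896 (insL l645 0)) = true := by decide +kernel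
theorem chk648 : dcRel (ops2 52) R1 309036375782100415574712318 2166697300204319138367143936 88 78 l647 = true := by decide +kernel
theorem chk653 : band (pieces (app2 52 53 6) (fun x => x) tab651 R1 41376115591449407664852392623472640 [107, 108, 109, 110, 111, 112, 113, 114] pt444c l652) (allL l652 fun p => subW 309036375782100415574712318 p.2.1) = true := by decide +kernel
theorem chk654 : cover 136 (List.map Prod.fst (l647)) (l652) 0 = true := by decide +kernel
theorem chk656 : allL (List.map Prod.fst (l647)) (subW 309036375782100415574712318) = true := by decide +kernel
theorem chk658 : band (slp (ops2 52) R1 l657 309036375782100415574712318) (subM 124615124604835863084731911901282304 (insL l657 309036375782100415574712318)) = true := by decide +kernel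
theorem chk664 : band (slp (ops2 52) R1 l663 124615124604835863084731911901282304) (subM 10592285591411048362202212511608995840 (insL l663 124615124604835863084731911901282304)) = true := by decide +kernel
theorem chk666 : subM 10467670466806212499117480599707713536 10592285591411048362202212511608995840 = true := by decide +kernel
theorem chk667 : band (fixL (app2 52 53 6) (fun x => x) R1 [117, 118, 119, 120, 121, 122] pt660c) (subM 10467670466806212499117480599707713536 (insL [117, 118, 119, 120, 121, 122] 0)) = true := by decide +kernel
theorem chk673 : band (pieces (app2 52 53 6) (fun x => x) tab671 R1 10592285591411048362202212511608995840 [115, 116, 117, 118, 119, 120, 121, 122] pt660c l672) (allL l672 fun p => subW 10592285591411048362202212511608995840 p.2.1) = true := by decide +kernel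
theorem chk674 : cover 36 [0] (l672) 0 = true := by decide +kernel
theorem chk676 : subM 2658455991569831745807614120560689152 10467670466806212499117480599707713536 = true := by decide +kernel
theorem chk677 : band (fixL (app2 52 53 6) (fun x => x) R1 [121] pt661c) (subM 2658455991569831745807614120560689152 (insL [121] 0)) = true := by decide +kernel
theorem chk683 : band (pieces (app2 52 53 6) (fun x => x) tab681 R1 10467670466806212499117480599707713536 [117, 118, 119, 120, 121, 122] pt661c l682) (allL l682 fun p => subW 10467670466806212499117480599707713536 p.2.1) = true := by decide +kernel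
theorem chk684 : cover 200 [0] (l682) 0 = true := by decide +kernel
theorem chk686 : subM 0 2658455991569831745807614120560689152 = true := by decide +kernel
theorem chk687 : band (fixL (app2 52 53 6) (fun x => x) R1 [] pt662c) (subM 0 (insL [] 0)) = true := by decide +kernel
theorem chk693 : band (pieces (app2 52 53 6) (fun x => x) tab691 R1 2658455991569831745807614120560689152 [121] pt662c l692) (allL l692 fun p => subW 2658455991569831745807614120560689152 p.2.1) = true := by decide +kernel
theorem chk694 : cover 2 [0] (l692) 0 = true := by decide +kernel
theorem chk697 : band (conjA (ops2 52) R1 309036375782100415574712318 89 l696) (subM 124615124604835863084731911901282304 (insL l696 0)) = true := by decide +kernel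
theorem chk699 : dcRel (ops2 52) R1 309036375782100415574712318 2166697300204319138367143936 89 78 l698 = true := by decide +kernel
theorem chk704 : band (pieces (app2 52 53 6) (fun x => x) tab702 R1 10592285591411048362202212511608995840 [115, 116, 117, 118, 119, 120, 121, 122] pt444c l703) (allL l703 fun p => subW 309036375782100415574712318 p.2.1) = true := by decide +kernel
theorem chk705 : cover 136 (List.map Prod.fst (l698)) (l703) 0 = true := by decide +kernel
theorem chk707 : allL (List.map Prod.fst (l698)) (subW 309036375782100415574712318) = true := by decide +kernel
theorem chk739 : band (slp (ops2 52) R1 l738 309036375782100415574712318) (subM 74436767763955288882613195375699296256 (insL l738 309036375782100415574712318)) = true := by decide +kernel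
theorem chk746 : band (slp (ops2 52) R1 l745 74436767763955288882613195375699296256) (subM 2711625111401228380723766402971902935040 (insL l745 74436767763955288882613195375699296256)) = true := by decide +kernel
theorem chk748 : subM 2637188343637273091841153207596203638784 2711625111401228380723766402971902935040 = true := by decide +kernel
theorem chk749 : band (fixL (app2 52 53 6) (fun x => x) R1 [126, 127, 128, 129, 130] pt741c) (subM 2637188343637273091841153207596203638784 (insL [126, 127, 128, 129, 130] 0)) = true := by decide +kernel
theorem chk755 : band (pieces (app2 52 53 6) (fun x => x) tab753 R1 2711625111401228380723766402971902935040 [123, 124, 125, 126, 127, 128, 129, 130] pt741c l754) (allL l754 fun p => subW 2711625111401228380723766402971902935040 p.2.1) = true := by decide +kernel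
theorem chk756 : cover 24 [0] (l754) 0 = true := by decide +kernel
theorem chk758 : subM 2041694201525630780780247644590609268736 2637188343637273091841153207596203638784 = true := by decide +kernel
theorem chk759 : band (fixL (app2 52 53 6) (fun x => x) R1 [129, 130] pt742c) (subM 2041694201525630780780247644590609268736 (insL [129, 130] 0)) = true := by decide +kernel
theorem chk765 : band (pieces (app2 52 53 6) (fun x => x) tab763 R1 2637188343637273091841153207596203638784 [126, 127, 128, 129, 130] pt742c l764) (allL l764 fun p => subW 2637188343637273091841153207596203638784 p.2.1) = true := by decide +kernel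
theorem chk766 : cover 48 [0] (l764) 0 = true := by decide +kernel
theorem chk768 : subM 1361129467683753853853498429727072845824 2041694201525630780780247644590609268736 = true := by decide +kernel
theorem chk769 : band (fixL (app2 52 53 6) (fun x => x) R1 [130] pt743c) (subM 1361129467683753853853498429727072845824 (insL [130] 0)) = true := by decide +kernel
theorem chk775 : band (pieces (app2 52 53 6) (fun x => x) tab773 R1 2041694201525630780780247644590609268736 [129, 130] pt743c l774) (allL l774 fun p => subW 2041694201525630780780247644590609268736 p.2.1) = true := by decide +kernel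
theorem chk776 : cover 2 [0] (l774) 0 = true := by decide +kernel
theorem chk778 : subM 0 1361129467683753853853498429727072845824 = true := by decide +kernel
theorem chk779 : band (fixL (app2 52 53 6) (fun x => x) R1 [] pt744c) (subM 0 (insL [] 0)) = true := by decide +kernel
theorem chk785 : band (pieces (app2 52 53 6) (fun x => x) tab783 R1 1361129467683753853853498429727072845824 [130] pt744c l784) (allL l784 fun p => subW 1361129467683753853853498429727072845824 p.2.1) = true := by decide +kernel
theorem chk786 : cover 2 [0] (l784) 0 = true := by decide +kernel
theorem chk789 : band (conjA (ops2 52) R1 309036375782100415574712318 90 l788) (subM 74436767763955288882613195375699296256 (insL l788 0)) = true := by decide +kernel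
theorem chk791 : dcRel (ops2 52) R1 309036375782100415574712318 2166697300204319138367143936 90 78 l790 = true := by decide +kernel
theorem chk796 : band (pieces (app2 52 53 6) (fun x => x) tab794 R1 2711625111401228380723766402971902935040 [123, 124, 125, 126, 127, 128, 129, 130] pt444c l795) (allL l795 fun p => subW 309036375782100415574712318 p.2.1) = true := by decide +kernel
theorem chk797 : cover 136 (List.map Prod.fst (l790)) (l795) 0 = true := by decide +kernel
theorem chk799 : allL (List.map Prod.fst (l790)) (subW 309036375782100415574712318) = true := by decide +kernel
theorem chk800 : inDC (ops2 52) R1 309036375782100415574712318 2166697300204319138367143936 (R1 78) 0 78 = true := by decide +kernel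
theorem chk802 : band (maxChk (ops2 52) R1 309036375782100415574712318 453347182355485940523006 l801) (subM 2166697300204319138367143936 (insL (l801.map Prod.fst) 0)) = true := by decide +kernel
theorem chk803 : allL l801 (fun p => Nat.blt p.1 1024) = true := by decide +kernel
theorem chk806 : band (slp (ops2 52) R1 l805 2475733675986419553941856254) (subM 694176028518716941198960185580361093226494 (insL l805 2475733675986419553941856254)) = true := by decide +kernel
theorem chk809 : subW 694176028518716941198960185580361093226494 83896652938 = true := by decide +kernel
theorem chk811 : subW 694176028518716941198960185580361093226494 148321161294 = true := by decide +kernel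
theorem chk813 : subW 694176028518716941198960185580361093226494 83840030858 = true := by decide +kernel
theorem chk815 : band (slp (ops2 52) R1 l814 309036375782100415574712318) (subM 177709063300790903468149130767267046325493758 (insL l814 309036375782100415574712318)) = true := by decide +kernel
theorem chk817 : subM 177709063300790903159112754985166630750781440 177709063300790903468149130767267046325493758 = true := by decide +kernel
theorem chk818 : band (fixL (app2 52 53 6) (fun x => x) R1 [139, 140, 141, 142, 143, 144, 145, 146] pt808c) (subM 177709063300790903159112754985166630750781440 (insL [139, 140, 141, 142, 143, 144, 145, 146] 0)) = true := by decide +kernel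
theorem chk824 : band (pieces (app2 52 53 6) (fun x => x) tab822 R1 177709063300790903468149130767267046325493758 [3, 4, 5, 11, 12, 1, 2, 77, 139, 140, 141, 142, 143, 144, 145, 146] pt808c l823) (allL l823 fun p => subW 177709063300790903468149130767267046325493758 p.2.1) = true := by decide +kernel
theorem chk825 : cover 136 [0] (l823) 0 = true := by decide +kernel
theorem chk827 : subM 168649385563887837507863869436903233888976896 177709063300790903159112754985166630750781440 = true := by decide +kernel
theorem chk828 : band (fixL (app2 52 53 6) (fun x => x) R1 [140, 143, 144, 145, 146] pt810c) (subM 168649385563887837507863869436903233888976896 (insL [140, 143, 144, 145, 146] 0)) = true := by decide +kernel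
theorem chk834 : band (pieces (app2 52 53 6) (fun x => x) tab832 R1 177709063300790903159112754985166630750781440 [139, 140, 141, 142, 143, 144, 145, 146] pt810c l833) (allL l833 fun p => subW 177709063300790903159112754985166630750781440 p.2.1) = true := by decide +kernel
theorem chk835 : cover 100 [0] (l833) 0 = true := by decide +kernel
theorem chk837 : subM 0 168649385563887837507863869436903233888976896 = true := by decide +kernel
theorem chk838 : band (fixL (app2 52 53 6) (fun x => x) R1 [] pt812c) (subM 0 (insL [] 0)) = true := by decide +kernel
theorem chk844 : band (pieces (app2 52 53 6) (fun x => x) tab842 R1 168649385563887837507863869436903233888976896 [140, 143, 144, 145, 146] pt812c l843) (allL l843 fun p => subW 168649385563887837507863869436903233888976896 p.2.1) = true := by decide +kernel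
theorem chk845 : cover 144 [0] (l843) 0 = true := by decide +kernel
theorem chk853 : band (pieces (app2 52 53 6) (fun x => x) tab851 R1 694176028518716941198960185580361093226494 [84, 85, 86, 87, 78, 131, 132, 133, 134, 135, 136, 137, 138] pt804c l852) (allL l852 fun p => subW 694176028518716941198960185580361093226494 p.2.1) = true := by decide +kernel
theorem chk854 : cover 2058 [0] (l852) 0 = true := by decide +kernel
theorem chk856 : band (fixL (app2 52 53 6) (fun x => x) R1 [3, 4, 5, 6, 7, 8, 9, 10, 11, 12, 1, 2, 77] pt804c) (subM 151115727451828646846462 (insL [3, 4, 5, 6, 7, 8, 9, 10, 11, 12, 1, 2, 77] 0)) = true := by decide +kernel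
theorem chk858 : subM 151115727451828646846462 694176028518716941198960185580361093226494 = true := by decide +kernel
theorem chk859 : subM 151115727451828646846462 694176028518716941198960185580361093226494 = true := by decide +kernel
theorem chk860 : subM 178403239329309620100311715170746991844007934 (Nat.lor 694176028518716941198960185580361093226494 177709063300790903468149130767267046325493758) = true := by decide +kernel
theorem chk862 : band (slp (ops2 52) R1 l861 178403239329309620100311715170746991844007934) (subM 356809200917554605232597461351933883891851262 (insL l861 178403239329309620100311715170746991844007934)) = true := by decide +kernel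
theorem chk865 : band (slp (ops2 52) R1 l864 356809200917554605232597461351933883891851262) (subM 1427244970447024516026311938439055236178911230 (insL l864 356809200917554605232597461351933883891851262)) = true := by decide +kernel
theorem chk867 : subM 1070435769529469910793714477087121352287059968 1427244970447024516026311938439055236178911230 = true := by decide +kernel
theorem chk869 : band (nconj (ops2 52) R1 1427244970447024516026311938439055236178911230 (ins 0 147) l868) (subM 1070435769529469910793714477087121352287059968 (insL l868 (ins 0 147))) = true := by decide +kernel
theorem chk871 : band (ncop (ops2 52) R1 1427244970447024516026311938439055236178911230 1248841731117714895926000223268308244334903296 l870) (subM 453347182355485940523006 (insL (l870.map Prod.fst) 1248841731117714895926000223268308244334903296)) = true := by decide +kernel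
theorem chk872 : band (Nat.beq (powC (ops2 52) (R1 147) 7) (ops2 52).one) (bnot (Nat.beq (R1 147) (ops2 52).one)) = true := by decide +kernel
theorem chk873 : subM 151115727451828646846462 1427244970447024516026311938439055236178911230 = true := by decide +kernel
theorem chk874 : subM 151115727451828646846462 1427244970447024516026311938439055236178911230 = true := by decide +kernel
theorem chk875 : subM 8190 177709063300790903468149130767267046325493758 = true := by decide +kernel
end

end CfsgH6.He
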