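import Cfsg.Agent.H6.J1D0

set_option autoImplicit false
set_option maxRecDepth 100000
set_option linter.all false

namespace CfsgH6.J1

open CfsgH5 CfsgH6 Subgroup MulAction Pointwise

noncomputable section

theorem chk2 : band (allL l1 fun e => band (P.can (force (hd e) R)) (band (Nat.ble 1 (tl e)) (Nat.beq (powC P.ops (force (hd e) R) (tl e)) P.ops.one))) (subM 6 (insL l1 0)) = true := by decide +kernel
theorem chk5 : band (slp P.ops R l4 6) (subM 4094 (insL l4 6)) = true := by decide +kernel
theorem chk8 : band (slp P.ops R l7 4094) (subM 28674 (insL l7 4094)) = true := by decide +kernel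
theorem chk10 : subM 4096 28674 = true := by decide +kernel
theorem chk12 : band (conjB P.ops R 0 12 l11) (subM 0 (insL l11 0)) = true := by decide +kernel
theorem chk13 : band (Nat.ble 1 19) (band (subW 0 0) (Nat.beq (powC P.ops (R 12) 19) (evalW P.ops R 0))) = true := by decide +kernel
theorem chk14 : subM 12288 28674 = true := by decide +kernel
theorem chk16 : band (conjB P.ops R 4096 13 l15) (subM 4096 (insL l15 0)) = true := by decide +kernel
theorem chk17 : band (Nat.ble 1 2) (band (subW 4096 0) (Nat.beq (powC P.ops (R 13) 2) (evalW P.ops R 0))) = true := by decide +kernel
theorem chk18 : subM 28672 28674 = true := by decide +kernel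
theorem chk20 : band (conjB P.ops R 12288 14 l19) (subM 12288 (insL l19 0)) = true := by decide +kernel
theorem chk21 : band (Nat.ble 1 3) (band (subW 12288 13) (Nat.beq (powC P.ops (R 14) 3) (evalW P.ops R 13))) = true := by decide +kernel
theorem chk24 : band (slp P.ops R l23 28674) (subM 17179865090 (insL l23 28674)) = true := by decide +kernel
theorem chk26 : subM 17179836418 17179865090 = true := by decide +kernel
theorem chk28 : band (slp P.ops R l27 28672) (subM 17179869184 (insL l27 28672)) = true := by decide +kernel
theorem chk31 : subM 0 17179869184 = true := by decide +kernel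
theorem chk32 : band (fixL P.app (fun x => x) R [] pt30c) (subM 0 (insL [] 0)) = true := by decide +kernel
theorem chk38 : band (pieces P.app (fun x => x) tab36 R 17179869184 [34] pt30c l37) (allL l37 fun p => subW 17179869184 p.2.1) = true := by decide +kernel
theorem chk39 : cover 3 [0] (l37) 0 = true := by decide +kernel
theorem chk42 : band (conjB P.ops R 28672 1 l41) (subM 17179869184 (insL l41 0)) = true := by decide +kernel
theorem chk43 : band (fixL P.app (keyL P.app (fun x => x) mone 1) R [34] pt22c) (subM 17179869184 (insL [34] 0)) = true := by decide +kernel
theorem chk46 : band (slp P.ops R l45 28672) (subM 34359738368 (insL l45 28672)) = true := by decide +kernel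
theorem chk49 : subM 0 34359738368 = true := by decide +kernel
theorem chk50 : band (fixL P.app (fun x => x) R [] pt48c) (subM 0 (insL [] 0)) = true := by decide +kernel
theorem chk56 : band (pieces P.app (fun x => x) tab54 R 34359738368 [35] pt48c l55) (allL l55 fun p => subW 34359738368 p.2.1) = true := by decide +kernel
theorem chk57 : cover 3 [0] (l55) 0 = true := by decide +kernel
theorem chk60 : band (conjA P.ops R 28672 1 l59) (subM 34359738368 (insL l59 0)) = true := by decide +kernel
theorem chk62 : dcRel P.ops R 28672 17179836418 1 1 l61 = true := by decide +kernel
theorem chk67 : band (pieces P.app (keyL P.app (fun x => x) mone 1) tab65 R 34359738368 [35] pt22c l66) (allL l66 fun p => subW 28672 p.2.1) = true := by decide +kernel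
theorem chk68 : cover 38 (List.map Prod.fst (l61)) (l66) 0 = true := by decide +kernel
theorem chk70 : allL (List.map Prod.fst (l61)) (subW 28672) = true := by decide +kernel
theorem chk72 : band (slp P.ops R l71 28672) (subM 0 (insL l71 28672)) = true := by decide +kernel
theorem chk75 : band (conjA P.ops R 28672 15 l74) (subM 0 (insL l74 0)) = true := by decide +kernel
theorem chk77 : dcRel P.ops R 28672 17179836418 15 1 l76 = true := by decide +kernel
theorem chk82 : band (pieces P.app (keyL P.app (fun x => x) mone 1) tab80 R 0 [] pt22c l81) (allL l81 fun p => subW 28672 p.2.1) = true := by decide +kernel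
theorem chk83 : cover 38 (List.map Prod.fst (l76)) (l81) 0 = true := by decide +kernel
theorem chk85 : allL (List.map Prod.fst (l76)) (subW 28672) = true := by decide +kernel
theorem chk87 : band (slp P.ops R l86 28672) (subM 0 (insL l86 28672)) = true := by decide +kernel
theorem chk90 : band (conjA P.ops R 28672 16 l89) (subM 0 (insL l89 0)) = true := by decide +kernel
theorem chk92 : dcRel P.ops R 28672 17179836418 16 1 l91 = true := by decide +kernel
theorem chk97 : band (pieces P.app (keyL P.app (fun x => x) mone 1) tab95 R 0 [] pt22c l96) (allL l96 fun p => subW 28672 p.2.1) = true := by decide +kernel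
theorem chk98 : cover 38 (List.map Prod.fst (l91)) (l96) 0 = true := by decide +kernel
theorem chk100 : allL (List.map Prod.fst (l91)) (subW 28672) = true := by decide +kernel
theorem chk102 : band (slp P.ops R l101 28672) (subM 0 (insL l101 28672)) = true := by decide +kernel
theorem chk105 : band (conjA P.ops R 28672 17 l104) (subM 0 (insL l104 0)) = true := by decide +kernel
theorem chk107 : dcRel P.ops R 28672 17179836418 17 1 l106 = true := by decide +kernel
theorem chk112 : band (pieces P.app (keyL P.app (fun x => x) mone 1) tab110 R 0 [] pt22c l111) (allL l111 fun p => subW 28672 p.2.1) = true := by decide +kernel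
theorem chk113 : cover 38 (List.map Prod.fst (l106)) (l111) 0 = true := by decide +kernel
theorem chk115 : allL (List.map Prod.fst (l106)) (subW 28672) = true := by decide +kernel
theorem chk117 : band (slp P.ops R l116 28672) (subM 0 (insL l116 28672)) = true := by decide +kernel
theorem chk120 : band (conjA P.ops R 28672 18 l119) (subM 0 (insL l119 0)) = true := by decide +kernel
theorem chk122 : dcRel P.ops R 28672 17179836418 18 1 l121 = true := by decide +kernel
theorem chk127 : band (pieces P.app (keyL P.app (fun x => x) mone 1) tab125 R 0 [] pt22c l126) (allL l126 fun p => subW 28672 p.2.1) = true := by decide +kernel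
theorem chk128 : cover 38 (List.map Prod.fst (l121)) (l126) 0 = true := by decide +kernel
theorem chk130 : allL (List.map Prod.fst (l121)) (subW 28672) = true := by decide +kernel
theorem chk132 : band (slp P.ops R l131 28672) (subM 0 (insL l131 28672)) = true := by decide +kernel
theorem chk135 : band (conjA P.ops R 28672 19 l134) (subM 0 (insL l134 0)) = true := by decide +kernel
theorem chk137 : dcRel P.ops R 28672 17179836418 19 1 l136 = true := by decide +kernel
theorem chk142 : band (pieces P.app (keyL P.app (fun x => x) mone 1) tab140 R 0 [] pt22c l141) (allL l141 fun p => subW 28672 p.2.1) = true := by decide +kernel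
theorem chk143 : cover 38 (List.map Prod.fst (l136)) (l141) 0 = true := by decide +kernel
theorem chk145 : allL (List.map Prod.fst (l136)) (subW 28672) = true := by decide +kernel
theorem chk147 : band (slp P.ops R l146 28672) (subM 68719476736 (insL l146 28672)) = true := by decide +kernel
theorem chk150 : subM 0 68719476736 = true := by decide +kernel
theorem chk151 : band (fixL P.app (fun x => x) R [] pt149c) (subM 0 (insL [] 0)) = true := by decide +kernel
theorem chk157 : band (pieces P.app (fun x => x) tab155 R 68719476736 [36] pt149c l156) (allL l156 fun p => subW 68719476736 p.2.1) = true := by decide +kernel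
theorem chk158 : cover 2 [0] (l156) 0 = true := by decide +kernel
theorem chk161 : band (conjA P.ops R 28672 20 l160) (subM 68719476736 (insL l160 0)) = true := by decide +kernel
theorem chk163 : dcRel P.ops R 28672 17179836418 20 1 l162 = true := by decide +kernel
theorem chk168 : band (pieces P.app (keyL P.app (fun x => x) mone 1) tab166 R 68719476736 [36] pt22c l167) (allL l167 fun p => subW 28672 p.2.1) = true := by decide +kernel
theorem chk169 : cover 38 (List.map Prod.fst (l162)) (l167) 0 = true := by decide +kernel
theorem chk171 : allL (List.map Prod.fst (l162)) (subW 28672) = true := by decide +kernel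
theorem chk173 : band (slp P.ops R l172 28672) (subM 137438953472 (insL l172 28672)) = true := by decide +kernel
theorem chk176 : subM 0 137438953472 = true := by decide +kernel
theorem chk177 : band (fixL P.app (fun x => x) R [] pt175c) (subM 0 (insL [] 0)) = true := by decide +kernel
theorem chk183 : band (pieces P.app (fun x => x) tab181 R 137438953472 [37] pt175c l182) (allL l182 fun p => subW 137438953472 p.2.1) = true := by decide +kernel
theorem chk184 : cover 3 [0] (l182) 0 = true := by decide +kernel
theorem chk187 : band (conjA P.ops R 28672 21 l186) (subM 137438953472 (insL l186 0)) = true := by decide +kernel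
theorem chk189 : dcRel P.ops R 28672 17179836418 21 1 l188 = true := by decide +kernel
theorem chk194 : band (pieces P.app (keyL P.app (fun x => x) mone 1) tab192 R 137438953472 [37] pt22c l193) (allL l193 fun p => subW 28672 p.2.1) = true := by decide +kernel
theorem chk195 : cover 38 (List.map Prod.fst (l188)) (l193) 0 = true := by decide +kernel
theorem chk197 : allL (List.map Prod.fst (l188)) (subW 28672) = true := by decide +kernel
theorem chk199 : band (slp P.ops R l198 28672) (subM 274877906944 (insL l198 28672)) = true := by decide +kernel
theorem chk202 : subM 0 274877906944 = true := by decide +kernel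
theorem chk203 : band (fixL P.app (fun x => x) R [] pt201c) (subM 0 (insL [] 0)) = true := by decide +kernel
theorem chk209 : band (pieces P.app (fun x => x) tab207 R 274877906944 [38] pt201c l208) (allL l208 fun p => subW 274877906944 p.2.1) = true := by decide +kernel
theorem chk210 : cover 2 [0] (l208) 0 = true := by decide +kernel
theorem chk213 : band (conjA P.ops R 28672 22 l212) (subM 274877906944 (insL l212 0)) = true := by decide +kernel
theorem chk215 : dcRel P.ops R 28672 17179836418 22 1 l214 = true := by decide +kernel
theorem chk220 : band (pieces P.app (keyL P.app (fun x => x) mone 1) tab218 R 274877906944 [38] pt22c l219) (allL l219 fun p => subW 28672 p.2.1) = true := by decide +kernel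
theorem chk221 : cover 38 (List.map Prod.fst (l214)) (l219) 0 = true := by decide +kernel
theorem chk223 : allL (List.map Prod.fst (l214)) (subW 28672) = true := by decide +kernel
theorem chk225 : band (slp P.ops R l224 28672) (subM 549755813888 (insL l224 28672)) = true := by decide +kernel
theorem chk228 : subM 0 549755813888 = true := by decide +kernel
theorem chk229 : band (fixL P.app (fun x => x) R [] pt227c) (subM 0 (insL [] 0)) = true := by decide +kernel
theorem chk235 : band (pieces P.app (fun x => x) tab233 R 549755813888 [39] pt227c l234) (allL l234 fun p => subW 549755813888 p.2.1) = true := by decide +kernel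
theorem chk236 : cover 2 [0] (l234) 0 = true := by decide +kernel
theorem chk239 : band (conjA P.ops R 28672 23 l238) (subM 549755813888 (insL l238 0)) = true := by decide +kernel
theorem chk241 : dcRel P.ops R 28672 17179836418 23 1 l240 = true := by decide +kernel
theorem chk246 : band (pieces P.app (keyL P.app (fun x => x) mone 1) tab244 R 549755813888 [39] pt22c l245) (allL l245 fun p => subW 28672 p.2.1) = true := by decide +kernel
theorem chk247 : cover 38 (List.map Prod.fst (l240)) (l245) 0 = true := by decide +kernel
theorem chk249 : allL (List.map Prod.fst (l240)) (subW 28672) = true := by decide +kernel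
theorem chk251 : band (slp P.ops R l250 28672) (subM 0 (insL l250 28672)) = true := by decide +kernel
theorem chk254 : band (conjA P.ops R 28672 24 l253) (subM 0 (insL l253 0)) = true := by decide +kernel
theorem chk256 : dcRel P.ops R 28672 17179836418 24 1 l255 = true := by decide +kernel
theorem chk261 : band (pieces P.app (keyL P.app (fun x => x) mone 1) tab259 R 0 [] pt22c l260) (allL l260 fun p => subW 28672 p.2.1) = true := by decide +kernel
theorem chk262 : cover 38 (List.map Prod.fst (l255)) (l260) 0 = true := by decide +kernel
theorem chk264 : allL (List.map Prod.fst (l255)) (subW 28672) = true := by decide +kernel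
theorem chk266 : band (slp P.ops R l265 28672) (subM 1099511627776 (insL l265 28672)) = true := by decide +kernel
theorem chk269 : subM 0 1099511627776 = true := by decide +kernel
theorem chk270 : band (fixL P.app (fun x => x) R [] pt268c) (subM 0 (insL [] 0)) = true := by decide +kernel
theorem chk276 : band (pieces P.app (fun x => x) tab274 R 1099511627776 [40] pt268c l275) (allL l275 fun p => subW 1099511627776 p.2.1) = true := by decide +kernel
theorem chk277 : cover 3 [0] (l275) 0 = true := by decide +kernel
theorem chk280 : band (conjA P.ops R 28672 25 l279) (subM 1099511627776 (insL l279 0)) = true := by decide +kernel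
theorem chk282 : dcRel P.ops R 28672 17179836418 25 1 l281 = true := by decide +kernel
theorem chk287 : band (pieces P.app (keyL P.app (fun x => x) mone 1) tab285 R 1099511627776 [40] pt22c l286) (allL l286 fun p => subW 28672 p.2.1) = true := by decide +kernel
theorem chk288 : cover 38 (List.map Prod.fst (l281)) (l286) 0 = true := by decide +kernel
theorem chk290 : allL (List.map Prod.fst (l281)) (subW 28672) = true := by decide +kernel
theorem chk300 : band (slp P.ops R l299 28672) (subM 2199023255552 (insL l299 28672)) = true := by decide +kernel
theorem chk303 : subM 0 2199023255552 = true := by decide +kernel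
theorem chk304 : band (fixL P.app (fun x => x) R [] pt302c) (subM 0 (insL [] 0)) = true := by decide +kernel
theorem chk310 : band (pieces P.app (fun x => x) tab308 R 2199023255552 [41] pt302c l309) (allL l309 fun p => subW 2199023255552 p.2.1) = true := by decide +kernel
theorem chk311 : cover 6 [0] (l309) 0 = true := by decide +kernel
theorem chk314 : band (conjA P.ops R 28672 26 l313) (subM 2199023255552 (insL l313 0)) = true := by decide +kernel
theorem chk316 : dcRel P.ops R 28672 17179836418 26 1 l315 = true := by decide +kernel
theorem chk321 : band (pieces P.app (keyL P.app (fun x => x) mone 1) tab319 R 2199023255552 [41] pt22c l320) (allL l320 fun p => subW 28672 p.2.1) = true := by decide +kernel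
theorem chk322 : cover 38 (List.map Prod.fst (l315)) (l320) 0 = true := by decide +kernel
theorem chk324 : allL (List.map Prod.fst (l315)) (subW 28672) = true := by decide +kernel
theorem chk326 : band (slp P.ops R l325 28672) (subM 4398046511104 (insL l325 28672)) = true := by decide +kernel
theorem chk329 : subM 0 4398046511104 = true := by decide +kernel
theorem chk330 : band (fixL P.app (fun x => x) R [] pt328c) (subM 0 (insL [] 0)) = true := by decide +kernel
theorem chk336 : band (pieces P.app (fun x => x) tab334 R 4398046511104 [42] pt328c l335) (allL l335 fun p => subW 4398046511104 p.2.1) = true := by decide +kernel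
theorem chk337 : cover 2 [0] (l335) 0 = true := by decide +kernel
theorem chk340 : band (conjA P.ops R 28672 27 l339) (subM 4398046511104 (insL l339 0)) = true := by decide +kernel
theorem chk342 : dcRel P.ops R 28672 17179836418 27 1 l341 = true := by decide +kernel
theorem chk347 : band (pieces P.app (keyL P.app (fun x => x) mone 1) tab345 R 4398046511104 [42] pt22c l346) (allL l346 fun p => subW 28672 p.2.1) = true := by decide +kernel
theorem chk348 : cover 38 (List.map Prod.fst (l341)) (l346) 0 = true := by decide +kernel
theorem chk350 : allL (List.map Prod.fst (l341)) (subW 28672) = true := by decide +kernel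
theorem chk352 : band (slp P.ops R l351 28672) (subM 0 (insL l351 28672)) = true := by decide +kernel
theorem chk355 : band (conjA P.ops R 28672 28 l354) (subM 0 (insL l354 0)) = true := by decide +kernel
theorem chk357 : dcRel P.ops R 28672 17179836418 28 1 l356 = true := by decide +kernel
theorem chk362 : band (pieces P.app (keyL P.app (fun x => x) mone 1) tab360 R 0 [] pt22c l361) (allL l361 fun p => subW 28672 p.2.1) = true := by decide +kernel
theorem chk363 : cover 38 (List.map Prod.fst (l356)) (l361) 0 = true := by decide +kernel
theorem chk365 : allL (List.map Prod.fst (l356)) (subW 28672) = true := by decide +kernel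
theorem chk367 : band (slp P.ops R l366 28672) (subM 0 (insL l366 28672)) = true := by decide +kernel
theorem chk370 : band (conjA P.ops R 28672 29 l369) (subM 0 (insL l369 0)) = true := by decide +kernel
theorem chk372 : dcRel P.ops R 28672 17179836418 29 1 l371 = true := by decide +kernel
theorem chk377 : band (pieces P.app (keyL P.app (fun x => x) mone 1) tab375 R 0 [] pt22c l376) (allL l376 fun p => subW 28672 p.2.1) = true := by decide +kernel
theorem chk378 : cover 38 (List.map Prod.fst (l371)) (l376) 0 = true := by decide +kernel
theorem chk380 : allL (List.map Prod.fst (l371)) (subW 28672) = true := by decide +kernel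
theorem chk382 : band (slp P.ops R l381 28672) (subM 0 (insL l381 28672)) = true := by decide +kernel
theorem chk385 : band (conjA P.ops R 28672 30 l384) (subM 0 (insL l384 0)) = true := by decide +kernel
theorem chk387 : dcRel P.ops R 28672 17179836418 30 1 l386 = true := by decide +kernel
theorem chk392 : band (pieces P.app (keyL P.app (fun x => x) mone 1) tab390 R 0 [] pt22c l391) (allL l391 fun p => subW 28672 p.2.1) = true := by decide +kernel
theorem chk393 : cover 38 (List.map Prod.fst (l386)) (l391) 0 = true := by decide +kernel
theorem chk395 : allL (List.map Prod.fst (l386)) (subW 28672) = true := by decide +kernel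
theorem chk397 : band (slp P.ops R l396 28672) (subM 8796093022208 (insL l396 28672)) = true := by decide +kernel
theorem chk400 : subM 0 8796093022208 = true := by decide +kernel
theorem chk401 : band (fixL P.app (fun x => x) R [] pt399c) (subM 0 (insL [] 0)) = true := by decide +kernel
theorem chk407 : band (pieces P.app (fun x => x) tab405 R 8796093022208 [43] pt399c l406) (allL l406 fun p => subW 8796093022208 p.2.1) = true := by decide +kernel
theorem chk408 : cover 2 [0] (l406) 0 = true := by decide +kernel
theorem chk411 : band (conjA P.ops R 28672 31 l410) (subM 8796093022208 (insL l410 0)) = true := by decide +kernel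
theorem chk413 : dcRel P.ops R 28672 17179836418 31 1 l412 = true := by decide +kernel
theorem chk418 : band (pieces P.app (keyL P.app (fun x => x) mone 1) tab416 R 8796093022208 [43] pt22c l417) (allL l417 fun p => subW 28672 p.2.1) = true := by decide +kernel
theorem chk419 : cover 38 (List.map Prod.fst (l412)) (l417) 0 = true := by decide +kernel
theorem chk421 : allL (List.map Prod.fst (l412)) (subW 28672) = true := by decide +kernel
theorem chk423 : band (slp P.ops R l422 28672) (subM 17592186044416 (insL l422 28672)) = true := by decide +kernel
theorem chk426 : subM 0 17592186044416 = true := by decide +kernel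
theorem chk427 : band (fixL P.app (fun x => x) R [] pt425c) (subM 0 (insL [] 0)) = true := by decide +kernel
theorem chk433 : band (pieces P.app (fun x => x) tab431 R 17592186044416 [44] pt425c l432) (allL l432 fun p => subW 17592186044416 p.2.1) = true := by decide +kernel
theorem chk434 : cover 2 [0] (l432) 0 = true := by decide +kernel
theorem chk437 : band (conjA P.ops R 28672 32 l436) (subM 17592186044416 (insL l436 0)) = true := by decide +kernel
theorem chk439 : dcRel P.ops R 28672 17179836418 32 1 l438 = true := by decide +kernel
theorem chk444 : band (pieces P.app (keyL P.app (fun x => x) mone 1) tab442 R 17592186044416 [44] pt22c l443) (allL l443 fun p => subW 28672 p.2.1) = true := by decide +kernel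
theorem chk445 : cover 38 (List.map Prod.fst (l438)) (l443) 0 = true := by decide +kernel
theorem chk447 : allL (List.map Prod.fst (l438)) (subW 28672) = true := by decide +kernel
theorem chk449 : band (slp P.ops R l448 28672) (subM 35184372088832 (insL l448 28672)) = true := by decide +kernel
theorem chk452 : subM 0 35184372088832 = true := by decide +kernel
theorem chk453 : band (fixL P.app (fun x => x) R [] pt451c) (subM 0 (insL [] 0)) = true := by decide +kernel
theorem chk459 : band (pieces P.app (fun x => x) tab457 R 35184372088832 [45] pt451c l458) (allL l458 fun p => subW 35184372088832 p.2.1) = true := by decide +kernel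
theorem chk460 : cover 3 [0] (l458) 0 = true := by decide +kernel
theorem chk463 : band (conjA P.ops R 28672 33 l462) (subM 35184372088832 (insL l462 0)) = true := by decide +kernel
theorem chk465 : dcRel P.ops R 28672 17179836418 33 1 l464 = true := by decide +kernel
theorem chk470 : band (pieces P.app (keyL P.app (fun x => x) mone 1) tab468 R 35184372088832 [45] pt22c l469) (allL l469 fun p => subW 28672 p.2.1) = true := by decide +kernel
theorem chk471 : cover 38 (List.map Prod.fst (l464)) (l469) 0 = true := by decide +kernel
theorem chk473 : allL (List.map Prod.fst (l464)) (subW 28672) = true := by decide +kernel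
theorem chk474 : inDC P.ops R 28672 17179836418 (R 1) 0 1 = true := by decide +kernel
theorem chk476 : band (maxChk P.ops R 28672 28674 l475) (subM 17179836418 (insL (l475.map Prod.fst) 0)) = true := by decide +kernel
theorem chk477 : allL l475 (fun p => Nat.blt p.1 1024) = true := by decide +kernel
theorem chk480 : subW 17179865090 1025 = true := by decide +kernel
theorem chk481 : subM 0 28672 = true := by decide +kernel
theorem chk482 : band (fixL P.app (keyL P.app (fun x => x) mone 1) R [] pt479c) (subM 0 (insL [] 0)) = true := by decide +kernel
theorem chk488 : band (pieces P.app (keyL P.app (fun x => x) mone 1) tab486 R 28672 [12, 13, 14] pt479c l487) (allL l487 fun p => subW 28672 p.2.1) = true := by decide +kernel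
theorem chk489 : cover 114 [0] (l487) 0 = true := by decide +kernel
theorem chk495 : band (pieces P.app (keyL P.app (fun x => x) mone 1) tab493 R 17179865090 [12, 13, 14, 1] pt478c l494) (allL l494 fun p => subW 17179865090 p.2.1) = true := by decide +kernel
theorem chk496 : cover 1540 [0] (l494) 0 = true := by decide +kernel
theorem chk498 : band (fixL P.app (keyL P.app (fun x => x) mone 1) R [12, 13, 14] pt478c) (subM 28672 (insL [12, 13, 14] 0)) = true := by decide +kernel
theorem chk500 : subM 28672 17179865090 = true := by decide +kernel
theorem chk502 : band (slp P.ops R l501 17179865090) (subM 17179865102 (insL l501 17179865090)) = true := by decide +kernel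
theorem chk505 : band (slp P.ops R l504 17179865102) (subM 70385924042766 (insL l504 17179865102)) = true := by decide +kernel
theorem chk508 : band (allL l507 fun e => band (P.can (force (hd e) R)) (band (Nat.ble 1 (tl e)) (Nat.beq (powC P.ops (force (hd e) R) (tl e)) P.ops.one))) (subM 422212465065984 (insL l507 0)) = true := by decide +kernel
theorem chk511 : band (nconj P.ops R 70385924042766 (ins 0 46) l510) (subM 422212465065984 (insL l510 (ins 0 46))) = true := by decide +kernel
theorem chk513 : band (ncop P.ops R 70385924042766 492581209243648 l512) (subM 28674 (insL (l512.map Prod.fst) 492581209243648)) = true := by decide +kernel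
theorem chk514 : band (Nat.beq (powC P.ops (R 46) 11) P.ops.one) (bnot (Nat.beq (R 46) P.ops.one)) = true := by decide +kernel
theorem chk515 : subM 28672 70385924042766 = true := by decide +kernel
theorem chk516 : subM 6 70385924042766 = true := by decide +kernel
end

end CfsgH6.J1
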