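import Cfsg.Agent.H6.J3K0

set_option autoImplicit false
set_option maxRecDepth 100000
set_option linter.all false

namespace CfsgH6.J3

open CfsgH5 CfsgH6 Subgroup MulAction Pointwise

noncomputable section

theorem val3 : C.Mem R ⊤ 70231036788734 := MC.mem_units (mc4 e18) (can4_sound e18) chk2
theorem S0_m0 : C.Mem R (C.gen R 70231036788734) 70231036788734 := GC.Mem.gen val3
theorem P0_m0 : C.Mem R (C.gen R 0) 0 := GC.Mem.gen (GC.Mem.zero ⊤)
theorem S1_m0 : C.Mem R (C.gen R 4294978580) 4294978580 := GC.Mem.gen (val3.sub chk4)
theorem S1_s0_7 : C.Mem R (C.gen R 4294978580) 135107993116093460 := S1_m0.slp' chk6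
theorem S0_m1 : C.Mem R (C.gen R 70231036788734) 135178219857903614 := S0_m0.lor' (S1_s0_7.mono (S0_m0.sub chk8).gen_le) chk9
theorem inS012 : C.Mem R (C.gen R 70231036788734) 8937930026385408 := S0_m1.slp' chk11
theorem P1_m0 : C.Mem R (C.gen R 70368744177664) 70368744177664 := GC.Mem.gen (inS012.top.sub chk13)
theorem P1_dvd : Nat.card (C.gen R 70368744177664) ∣ 3 := GC.card_ins (dvd_step (P0_m0.pc (m := 3) (w := 0) (inS012.top.get (i := 46) (by decide +kernel)) P0_m0.top chk15 chk16) GC.card_gen_zero (n := 3) (by decide +kernel)) (by decide +kernel)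
theorem P2_m0 : C.Mem R (C.gen R 211106232532992) 211106232532992 := GC.Mem.gen (inS012.top.sub chk17)
theorem P2_dvd : Nat.card (C.gen R 211106232532992) ∣ 9 := GC.card_ins (dvd_step (P1_m0.pc (m := 3) (w := 0) (inS012.top.get (i := 47) (by decide +kernel)) P1_m0.top chk19 chk20) P1_dvd (n := 9) (by decide +kernel)) (by decide +kernel)
theorem P3_m0 : C.Mem R (C.gen R 492581209243648) 492581209243648 := GC.Mem.gen (inS012.top.sub chk21)
theorem P3_dvd : Nat.card (C.gen R 492581209243648) ∣ 27 := GC.card_ins (dvd_step (P2_m0.pc (m := 3) (w := 0) (inS012.top.get (i := 48) (by decide +kernel)) P2_m0.top chk23 chk24) P2_dvd (n := 27) (by decide +kernel)) (by decide +kernel)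
theorem P4_m0 : C.Mem R (C.gen R 1055531162664960) 1055531162664960 := GC.Mem.gen (inS012.top.sub chk25)
theorem P4_dvd : Nat.card (C.gen R 1055531162664960) ∣ 81 := GC.card_ins (dvd_step (P3_m0.pc (m := 3) (w := 0) (inS012.top.get (i := 49) (by decide +kernel)) P3_m0.top chk27 chk28) P3_dvd (n := 81) (by decide +kernel)) (by decide +kernel)
theorem P5_m0 : C.Mem R (C.gen R 2181431069507584) 2181431069507584 := GC.Mem.gen (inS012.top.sub chk29)
theorem P5_dvd : Nat.card (C.gen R 2181431069507584) ∣ 162 := GC.card_ins (dvd_step (P4_m0.pc (m := 2) (w := 0) (inS012.top.get (i := 50) (by decide +kernel)) P4_m0.top chk31 chk32) P4_dvd (n := 162) (by decide +kernel)) (by decide +kernel)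
theorem P6_m0 : C.Mem R (C.gen R 4433230883192832) 4433230883192832 := GC.Mem.gen (inS012.top.sub chk33)
theorem P6_dvd : Nat.card (C.gen R 4433230883192832) ∣ 324 := GC.card_ins (dvd_step (P5_m0.pc (m := 2) (w := 50) (inS012.top.get (i := 51) (by decide +kernel)) P5_m0.top chk35 chk36) P5_dvd (n := 324) (by decide +kernel)) (by decide +kernel)
theorem P7_m0 : C.Mem R (C.gen R 8936830510563328) 8936830510563328 := GC.Mem.gen (inS012.top.sub chk37)
theorem P7_dvd : Nat.card (C.gen R 8936830510563328) ∣ 648 := GC.card_ins (dvd_step (P6_m0.pc (m := 2) (w := 51) (inS012.top.get (i := 52) (by decide +kernel)) P6_m0.top chk39 chk40) P6_dvd (n := 648) (by decide +kernel)) (by decide +kernel)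
theorem P7_ub : Nat.card (C.gen R 8936830510563328) ≤ 648 := le_of_dvd' P7_dvd (by decide +kernel)
theorem pt41e : ∃ x, A1.Rep pt41c x := (act4_rep e18 (by decide) (by decide) (c := 0x1044) (by decide +kernel)).elim fun x hx => ⟨_, x, hx, rfl⟩
noncomputable def pt41 := Classical.choose pt41e
theorem pt41r : A1.Rep pt41c pt41 := Classical.choose_spec pt41e
theorem H_m0 : C.Mem R (C.gen R 8937930022191104) 8937930022191104 := GC.Mem.gen (inS012.top.sub chk42)
theorem H_I : C.Mem R (C.gen R 8937930022191104) 1099511627776 := H_m0.sub chk43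
theorem HK_in62 : C.Mem R (C.gen R 8936830510563328) 432345564227567616 := P7_m0.slp' chk61
theorem HK_m0 : C.Mem R (C.gen R 432345564227567616) 432345564227567616 := GC.Mem.gen HK_in62.top
theorem pt63e : ∃ x, A1.Rep pt63c x := (act4_rep e18 (by decide) (by decide) (c := 0x15) (by decide +kernel)).elim fun x hx => ⟨_, x, hx, rfl⟩
noncomputable def pt63 := Classical.choose pt63e
theorem pt63r : A1.Rep pt63c pt63 := Classical.choose_spec pt63e
theorem pt64e : ∃ x, A0.Rep pt64c x := act4_rep e18 (by decide) (by decide) (c := 0x1) (by decide +kernel)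
noncomputable def pt64 := Classical.choose pt64e
theorem pt64r : A0.Rep pt64c pt64 := Classical.choose_spec pt64e
theorem HK_s0_67 : C.Mem R (C.gen R 432345564227567616) 1008806316530991104 := HK_m0.slp' chk66
theorem HK_c0i : C.Mem R (C.gen R 432345564227567616) 576460752303423488 := HK_s0_67.sub chk68
theorem HK_c0m : C.Mem R (C.gen R 576460752303423488) 576460752303423488 := HK_c0i.gen
theorem fx70 : C.gen R 576460752303423488 ≤ stabilizer _ pt63 := Act.fix_sound HK_c0i.top pt63r chk69
theorem cov77 : Cov (C.gen R 432345564227567616) (C.wds R [0]) pt63 3 := Act.cov_of_seen (Act.pieces_sound HK_s0_67 HK_s0_67.top pt63r chk75) chk76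
theorem HK_c1i : C.Mem R (C.gen R 576460752303423488) 0 := HK_c0m.sub chk78
theorem HK_c1m : C.Mem R (C.gen R 0) 0 := HK_c1i.gen
theorem fx80 : C.gen R 0 ≤ stabilizer _ pt64 := Act.fix_sound HK_c1i.top pt64r chk79
theorem cov87 : Cov (C.gen R 576460752303423488) (C.wds R [0]) pt64 3 := Act.cov_of_seen (Act.pieces_sound HK_c0m HK_c0m.top pt64r chk85) chk86
theorem HK_lb2 : 1 ≤ Nat.card (C.gen R 0) := Nat.card_pos
theorem HK_lo1 : 3 * Nat.card (C.gen R 0) ≤ Nat.card (C.gen R 576460752303423488) := cov87.low le_rfl (GC.wds_zero _) HK_c1i.gen_le fx80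
theorem HK_lb1 : 3 ≤ Nat.card (C.gen R 576460752303423488) := low_step HK_lo1 HK_lb2 (by decide +kernel)
theorem HK_lo0 : 3 * Nat.card (C.gen R 576460752303423488) ≤ Nat.card (C.gen R 432345564227567616) := cov77.low le_rfl (GC.wds_zero _) HK_c0i.gen_le fx70
theorem HK_lb0 : 9 ≤ Nat.card (C.gen R 432345564227567616) := low_step HK_lo0 HK_lb1 (by decide +kernel)
theorem fx91 : C.gen R 432345564227567616 ≤ stabilizer _ pt41 := Act.fix_sound HK_in62.top pt41r chk90
theorem H_Kc : ∀ κ ∈ (C.gen R 432345564227567616), (C.el (R 40))⁻¹ * κ * C.el (R 40) ∈ (C.gen R 8936830510563328) := P7_m0.conjB (H_m0.get (i := 40) (by decide +kernel)).top HK_in62.top chk89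
theorem HT1_in133 : C.Mem R (C.gen R 8936830510563328) 8070450532247928832 := P7_m0.slp' chk132
theorem HT1_m0 : C.Mem R (C.gen R 8070450532247928832) 8070450532247928832 := GC.Mem.gen HT1_in133.top
theorem pt134e : ∃ x, A0.Rep pt134c x := act4_rep e18 (by decide) (by decide) (c := 0x1) (by decide +kernel)
noncomputable def pt134 := Classical.choose pt134e
theorem pt134r : A0.Rep pt134c pt134 := Classical.choose_spec pt134e
theorem pt135e : ∃ x, A1.Rep pt135c x := (act4_rep e18 (by decide) (by decide) (c := 0x15) (by decide +kernel)).elim fun x hx => ⟨_, x, hx, rfl⟩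
noncomputable def pt135 := Classical.choose pt135e
theorem pt135r : A1.Rep pt135c pt135 := Classical.choose_spec pt135e
theorem pt136e : ∃ x, A1.Rep pt136c x := (act4_rep e18 (by decide) (by decide) (c := 0x4) (by decide +kernel)).elim fun x hx => ⟨_, x, hx, rfl⟩
noncomputable def pt136 := Classical.choose pt136e
theorem pt136r : A1.Rep pt136c pt136 := Classical.choose_spec pt136e
theorem HT1_s0_139 : C.Mem R (C.gen R 8070450532247928832) 72634054790231359488 := HT1_m0.slp' chk138
theorem HT1_c0i : C.Mem R (C.gen R 8070450532247928832) 64563604257983430656 := HT1_s0_139.sub chk140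
theorem HT1_c0m : C.Mem R (C.gen R 64563604257983430656) 64563604257983430656 := HT1_c0i.gen
theorem fx142 : C.gen R 64563604257983430656 ≤ stabilizer _ pt134 := Act.fix_sound HT1_c0i.top pt134r chk141
theorem cov149 : Cov (C.gen R 8070450532247928832) (C.wds R [0]) pt134 3 := Act.cov_of_seen (Act.pieces_sound HT1_s0_139 HT1_s0_139.top pt134r chk147) chk148
theorem HT1_c1i : C.Mem R (C.gen R 64563604257983430656) 18446744073709551616 := HT1_c0m.sub chk150
theorem HT1_c1m : C.Mem R (C.gen R 18446744073709551616) 18446744073709551616 := HT1_c1i.gen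
theorem fx152 : C.gen R 18446744073709551616 ≤ stabilizer _ pt135 := Act.fix_sound HT1_c1i.top pt135r chk151
theorem cov159 : Cov (C.gen R 64563604257983430656) (C.wds R [0]) pt135 12 := Act.cov_of_seen (Act.pieces_sound HT1_c0m HT1_c0m.top pt135r chk157) chk158
theorem HT1_c2i : C.Mem R (C.gen R 18446744073709551616) 0 := HT1_c1m.sub chk160
theorem HT1_c2m : C.Mem R (C.gen R 0) 0 := HT1_c2i.gen
theorem fx162 : C.gen R 0 ≤ stabilizer _ pt136 := Act.fix_sound HT1_c2i.top pt136r chk161
theorem cov169 : Cov (C.gen R 18446744073709551616) (C.wds R [0]) pt136 2 := Act.cov_of_seen (Act.pieces_sound HT1_c1m HT1_c1m.top pt136r chk167) chk168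
theorem HT1_lb3 : 1 ≤ Nat.card (C.gen R 0) := Nat.card_pos
theorem HT1_lo2 : 2 * Nat.card (C.gen R 0) ≤ Nat.card (C.gen R 18446744073709551616) := cov169.low le_rfl (GC.wds_zero _) HT1_c2i.gen_le fx162
theorem HT1_lb2 : 2 ≤ Nat.card (C.gen R 18446744073709551616) := low_step HT1_lo2 HT1_lb3 (by decide +kernel)
theorem HT1_lo1 : 12 * Nat.card (C.gen R 18446744073709551616) ≤ Nat.card (C.gen R 64563604257983430656) := cov159.low le_rfl (GC.wds_zero _) HT1_c1i.gen_le fx152
theorem HT1_lb1 : 24 ≤ Nat.card (C.gen R 64563604257983430656) := low_step HT1_lo1 HT1_lb2 (by decide +kernel)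
theorem HT1_lo0 : 3 * Nat.card (C.gen R 64563604257983430656) ≤ Nat.card (C.gen R 8070450532247928832) := cov149.low le_rfl (GC.wds_zero _) HT1_c0i.gen_le fx142
theorem HT1_lb0 : 72 ≤ Nat.card (C.gen R 8070450532247928832) := low_step HT1_lo0 HT1_lb1 (by decide +kernel)
theorem H_T1c : ∀ τ ∈ (C.gen R 8070450532247928832), C.el (R 40) * τ * (C.el (R 40))⁻¹ ∈ (C.gen R 8936830510563328) := P7_m0.conjA (H_I.get (i := 40) (by decide +kernel)).top HT1_in133.top chk171
theorem cov180 : Cov (C.gen R 8070450532247928832) (C.wds R (List.map Prod.fst (l172))) pt41 72 := Act.cov_of_seen (Act.pieces_sound HT1_s0_139 P7_m0.top pt41r chk178) chk179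
theorem H_T1d : Dec (C.gen R 8936830510563328) (C.gen R 8070450532247928832) (C.wds R (List.map Prod.fst (l172))) (C.gen R 432345564227567616) := cov180.dec HT1_in133.gen_le (GC.wds_sub P7_m0 chk181) HK_in62.gen_le fx91 (up_low P7_ub HK_lb0 (by decide +kernel))
theorem H_T1p : ∀ x ∈ DC1 (C.gen R 8936830510563328) (C.el (R 40)), x * C.el (R 40) ∈ DCs (C.gen R 8936830510563328) (C.els R 1099511627776) := GC.dc_piece' H_T1d H_T1c H_Kc (P7_m0.dcRel H_I.top (H_I.get (i := 40) (by decide +kernel)).top (H_m0.get (i := 40) (by decide +kernel)).top chk173)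
theorem H_T1u : Nat.card (C.gen R 8936830510563328) ≤ 9 * Nat.card (C.gen R 8070450532247928832) := up_low P7_ub HT1_lb0 (by decide +kernel)
theorem H_T1n : (DC1 (C.gen R 8936830510563328) (C.el (R 40))).ncard ≤ Nat.card (C.gen R 8936830510563328) * 9 := ncard_DC1 HT1_in133.gen_le H_T1c H_T1u
theorem H_dc : ∀ x ∈ (C.gen R 8937930022191104), x ∈ DCs (C.gen R 8936830510563328) (C.els R 1099511627776) := GC.dc_gen (MU := 1099511627776) P7_m0 (by decide +kernel) (GC.forall_els (L := [40]) (forall_cons ⟨P7_m0.inDC' H_I.top (H_m0.get (i := 40) (by decide +kernel)).top chk182, GC.forall_els (L := [40]) (forall_cons H_T1p forall_nil) (by decide +kernel)⟩ forall_nil) (by decide +kernel))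
theorem H_cs : ∀ p ∈ ([(40, 9)] : List (ℕ × ℕ)), (DC1 (C.gen R 8936830510563328) (C.el (R p.1))).ncard ≤ Nat.card (C.gen R 8936830510563328) * p.2 := (forall_cons H_T1n forall_nil)
theorem H_ix : Nat.card (C.gen R 8937930022191104) ≤ 10 * Nat.card (C.gen R 8936830510563328) := GC.card_dc [(40, 9)] H_dc H_cs (by decide +kernel)
theorem H_ub : Nat.card (C.gen R 8937930022191104) ≤ 6480 := up_mul H_ix P7_ub (by decide +kernel)
theorem pt183e : ∃ x, A1.Rep pt183c x := (act4_rep e18 (by decide) (by decide) (c := 0x40) (by decide +kernel)).elim fun x hx => ⟨_, x, hx, rfl⟩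
noncomputable def pt183 := Classical.choose pt183e
theorem pt183r : A1.Rep pt183c pt183 := Classical.choose_spec pt183e
theorem H_s0_186 : C.Mem R (C.gen R 8937930022191104) 1106813582352595288064 := H_m0.slp' chk185
theorem G_m0 : C.Mem R (C.gen R 8937930026385408) 8937930026385408 := GC.Mem.gen inS012.top
theorem G_m1 : C.Mem R (C.gen R 8937930026385408) 1106813582352599482368 := G_m0.lor' (H_s0_186.mono (G_m0.sub chk187).gen_le) chk188
theorem G_s1_191 : C.Mem R (C.gen R 8937930026385408) 79228162440486299228732129280 := G_m1.slp' chk190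
theorem G_I : C.Mem R (C.gen R 8937930026385408) 79228161333672716876136841216 := G_s1_191.sub chk192
theorem GK_in237 : C.Mem R (C.gen R 8937930022191104) 1188422437713965063903159255040 := H_s0_186.slp' chk236
theorem GK_m0 : C.Mem R (C.gen R 1188422437713965063903159255040) 1188422437713965063903159255040 := GC.Mem.gen GK_in237.top
theorem pt238e : ∃ x, A1.Rep pt238c x := (act4_rep e18 (by decide) (by decide) (c := 0x14) (by decide +kernel)).elim fun x hx => ⟨_, x, hx, rfl⟩
noncomputable def pt238 := Classical.choose pt238e
theorem pt238r : A1.Rep pt238c pt238 := Classical.choose_spec pt238e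
theorem pt239e : ∃ x, A1.Rep pt239c x := (act4_rep e18 (by decide) (by decide) (c := 0x15) (by decide +kernel)).elim fun x hx => ⟨_, x, hx, rfl⟩
noncomputable def pt239 := Classical.choose pt239e
theorem pt239r : A1.Rep pt239c pt239 := Classical.choose_spec pt239e
theorem pt240e : ∃ x, A0.Rep pt240c x := act4_rep e18 (by decide) (by decide) (c := 0x1) (by decide +kernel)
noncomputable def pt240 := Classical.choose pt240e
theorem pt240r : A0.Rep pt240c pt240 := Classical.choose_spec pt240e
theorem pt241e : ∃ x, A0.Rep pt241c x := act4_rep e18 (by decide) (by decide) (c := 0x40) (by decide +kernel)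
noncomputable def pt241 := Classical.choose pt241e
theorem pt241r : A0.Rep pt241c pt241 := Classical.choose_spec pt241e
theorem GK_s0_244 : C.Mem R (C.gen R 1188422437713965063903159255040) 10061976639311570874380081692672 := GK_m0.slp' chk243
theorem GK_c0i : C.Mem R (C.gen R 1188422437713965063903159255040) 8873554201597605810476922437632 := GK_s0_244.sub chk245
theorem GK_c0m : C.Mem R (C.gen R 8873554201597605810476922437632) 8873554201597605810476922437632 := GK_c0i.gen
theorem fx247 : C.gen R 8873554201597605810476922437632 ≤ stabilizer _ pt238 := Act.fix_sound GK_c0i.top pt238r chk246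
theorem cov254 : Cov (C.gen R 1188422437713965063903159255040) (C.wds R [0]) pt238 3 := Act.cov_of_seen (Act.pieces_sound GK_s0_244 GK_s0_244.top pt238r chk252) chk253
theorem GK_c1i : C.Mem R (C.gen R 8873554201597605810476922437632) 7605903601369376408980219232256 := GK_c0m.sub chk255
theorem GK_c1m : C.Mem R (C.gen R 7605903601369376408980219232256) 7605903601369376408980219232256 := GK_c1i.gen
theorem fx257 : C.gen R 7605903601369376408980219232256 ≤ stabilizer _ pt239 := Act.fix_sound GK_c1i.top pt239r chk256
theorem cov264 : Cov (C.gen R 8873554201597605810476922437632) (C.wds R [0]) pt239 3 := Act.cov_of_seen (Act.pieces_sound GK_c0m GK_c0m.top pt239r chk262) chk263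
theorem GK_c2i : C.Mem R (C.gen R 7605903601369376408980219232256) 5070602400912917605986812821504 := GK_c1m.sub chk265
theorem GK_c2m : C.Mem R (C.gen R 5070602400912917605986812821504) 5070602400912917605986812821504 := GK_c2i.gen
theorem fx267 : C.gen R 5070602400912917605986812821504 ≤ stabilizer _ pt240 := Act.fix_sound GK_c2i.top pt240r chk266
theorem cov274 : Cov (C.gen R 7605903601369376408980219232256) (C.wds R [0]) pt240 3 := Act.cov_of_seen (Act.pieces_sound GK_c1m GK_c1m.top pt240r chk272) chk273
theorem GK_c3i : C.Mem R (C.gen R 5070602400912917605986812821504) 0 := GK_c2m.sub chk275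
theorem GK_c3m : C.Mem R (C.gen R 0) 0 := GK_c3i.gen
theorem fx277 : C.gen R 0 ≤ stabilizer _ pt241 := Act.fix_sound GK_c3i.top pt241r chk276
theorem cov284 : Cov (C.gen R 5070602400912917605986812821504) (C.wds R [0]) pt241 3 := Act.cov_of_seen (Act.pieces_sound GK_c2m GK_c2m.top pt241r chk282) chk283
theorem GK_lb4 : 1 ≤ Nat.card (C.gen R 0) := Nat.card_pos
theorem GK_lo3 : 3 * Nat.card (C.gen R 0) ≤ Nat.card (C.gen R 5070602400912917605986812821504) := cov284.low le_rfl (GC.wds_zero _) GK_c3i.gen_le fx277
theorem GK_lb3 : 3 ≤ Nat.card (C.gen R 5070602400912917605986812821504) := low_step GK_lo3 GK_lb4 (by decide +kernel)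
theorem GK_lo2 : 3 * Nat.card (C.gen R 5070602400912917605986812821504) ≤ Nat.card (C.gen R 7605903601369376408980219232256) := cov274.low le_rfl (GC.wds_zero _) GK_c2i.gen_le fx267
theorem GK_lb2 : 9 ≤ Nat.card (C.gen R 7605903601369376408980219232256) := low_step GK_lo2 GK_lb3 (by decide +kernel)
theorem GK_lo1 : 3 * Nat.card (C.gen R 7605903601369376408980219232256) ≤ Nat.card (C.gen R 8873554201597605810476922437632) := cov264.low le_rfl (GC.wds_zero _) GK_c1i.gen_le fx257
theorem GK_lb1 : 27 ≤ Nat.card (C.gen R 8873554201597605810476922437632) := low_step GK_lo1 GK_lb2 (by decide +kernel)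
theorem GK_lo0 : 3 * Nat.card (C.gen R 8873554201597605810476922437632) ≤ Nat.card (C.gen R 1188422437713965063903159255040) := cov254.low le_rfl (GC.wds_zero _) GK_c0i.gen_le fx247
theorem GK_lb0 : 81 ≤ Nat.card (C.gen R 1188422437713965063903159255040) := low_step GK_lo0 GK_lb1 (by decide +kernel)
theorem fx288 : C.gen R 1188422437713965063903159255040 ≤ stabilizer _ pt183 := Act.fix_sound GK_in237.top pt183r chk287
theorem G_Kc : ∀ κ ∈ (C.gen R 1188422437713965063903159255040), (C.el (R 22))⁻¹ * κ * C.el (R 22) ∈ (C.gen R 8937930022191104) := H_s0_186.conjB (G_m1.get (i := 22) (by decide +kernel)).top GK_in237.top chk286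
theorem GT1_in336 : C.Mem R (C.gen R 8937930022191104) 152118072027387528179604384645120 := H_s0_186.slp' chk335
theorem GT1_m0 : C.Mem R (C.gen R 152118072027387528179604384645120) 152118072027387528179604384645120 := GC.Mem.gen GT1_in336.top
theorem pt337e : ∃ x, A0.Rep pt337c x := act4_rep e18 (by decide) (by decide) (c := 0x4) (by decide +kernel)
noncomputable def pt337 := Classical.choose pt337e
theorem pt337r : A0.Rep pt337c pt337 := Classical.choose_spec pt337e
theorem pt338e : ∃ x, A1.Rep pt338c x := (act4_rep e18 (by decide) (by decide) (c := 0x15) (by decide +kernel)).elim fun x hx => ⟨_, x, hx, rfl⟩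
noncomputable def pt338 := Classical.choose pt338e
theorem pt338r : A1.Rep pt338c pt338 := Classical.choose_spec pt338e
theorem pt339e : ∃ x, A0.Rep pt339c x := act4_rep e18 (by decide) (by decide) (c := 0x40) (by decide +kernel)
noncomputable def pt339 := Classical.choose pt339e
theorem pt339r : A0.Rep pt339c pt339 := Classical.choose_spec pt339e
theorem GT1_s0_342 : C.Mem R (C.gen R 152118072027387528179604384645120) 1287933009831881071920650456662016 := GT1_m0.slp' chk341
theorem GT1_c0i : C.Mem R (C.gen R 152118072027387528179604384645120) 1135814937804493543741046072016896 := GT1_s0_342.sub chk343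
theorem GT1_c0m : C.Mem R (C.gen R 1135814937804493543741046072016896) 1135814937804493543741046072016896 := GT1_c0i.gen
theorem fx345 : C.gen R 1135814937804493543741046072016896 ≤ stabilizer _ pt337 := Act.fix_sound GT1_c0i.top pt337r chk344
theorem cov352 : Cov (C.gen R 152118072027387528179604384645120) (C.wds R [0]) pt337 3 := Act.cov_of_seen (Act.pieces_sound GT1_s0_342 GT1_s0_342.top pt337r chk350) chk351
theorem GT1_c1i : C.Mem R (C.gen R 1135814937804493543741046072016896) 649037107316853453566312041152512 := GT1_c0m.sub chk353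
theorem GT1_c1m : C.Mem R (C.gen R 649037107316853453566312041152512) 649037107316853453566312041152512 := GT1_c1i.gen
theorem fx355 : C.gen R 649037107316853453566312041152512 ≤ stabilizer _ pt338 := Act.fix_sound GT1_c1i.top pt338r chk354
theorem cov362 : Cov (C.gen R 1135814937804493543741046072016896) (C.wds R [0]) pt338 9 := Act.cov_of_seen (Act.pieces_sound GT1_c0m GT1_c0m.top pt338r chk360) chk361
theorem GT1_c2i : C.Mem R (C.gen R 649037107316853453566312041152512) 0 := GT1_c1m.sub chk363
theorem GT1_c2m : C.Mem R (C.gen R 0) 0 := GT1_c2i.gen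
theorem fx365 : C.gen R 0 ≤ stabilizer _ pt339 := Act.fix_sound GT1_c2i.top pt339r chk364
theorem cov372 : Cov (C.gen R 649037107316853453566312041152512) (C.wds R [0]) pt339 3 := Act.cov_of_seen (Act.pieces_sound GT1_c1m GT1_c1m.top pt339r chk370) chk371
theorem GT1_lb3 : 1 ≤ Nat.card (C.gen R 0) := Nat.card_pos
theorem GT1_lo2 : 3 * Nat.card (C.gen R 0) ≤ Nat.card (C.gen R 649037107316853453566312041152512) := cov372.low le_rfl (GC.wds_zero _) GT1_c2i.gen_le fx365
theorem GT1_lb2 : 3 ≤ Nat.card (C.gen R 649037107316853453566312041152512) := low_step GT1_lo2 GT1_lb3 (by decide +kernel)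
theorem GT1_lo1 : 9 * Nat.card (C.gen R 649037107316853453566312041152512) ≤ Nat.card (C.gen R 1135814937804493543741046072016896) := cov362.low le_rfl (GC.wds_zero _) GT1_c1i.gen_le fx355
theorem GT1_lb1 : 27 ≤ Nat.card (C.gen R 1135814937804493543741046072016896) := low_step GT1_lo1 GT1_lb2 (by decide +kernel)
theorem GT1_lo0 : 3 * Nat.card (C.gen R 1135814937804493543741046072016896) ≤ Nat.card (C.gen R 152118072027387528179604384645120) := cov352.low le_rfl (GC.wds_zero _) GT1_c0i.gen_le fx345
theorem GT1_lb0 : 81 ≤ Nat.card (C.gen R 152118072027387528179604384645120) := low_step GT1_lo0 GT1_lb1 (by decide +kernel)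
theorem G_T1c : ∀ τ ∈ (C.gen R 152118072027387528179604384645120), C.el (R 22) * τ * (C.el (R 22))⁻¹ ∈ (C.gen R 8937930022191104) := H_s0_186.conjA (G_I.get (i := 22) (by decide +kernel)).top GT1_in336.top chk374
theorem cov383 : Cov (C.gen R 152118072027387528179604384645120) (C.wds R (List.map Prod.fst (l375))) pt183 80 := Act.cov_of_seen (Act.pieces_sound GT1_s0_342 H_s0_186.top pt183r chk381) chk382
theorem G_T1d : Dec (C.gen R 8937930022191104) (C.gen R 152118072027387528179604384645120) (C.wds R (List.map Prod.fst (l375))) (C.gen R 1188422437713965063903159255040) := cov383.dec GT1_in336.gen_le (GC.wds_sub H_s0_186 chk384) GK_in237.gen_le fx288 (up_low H_ub GK_lb0 (by decide +kernel))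
theorem G_T1p : ∀ x ∈ DC1 (C.gen R 8937930022191104) (C.el (R 22)), x * C.el (R 22) ∈ DCs (C.gen R 8937930022191104) (C.els R 79228161333672716876136841216) := GC.dc_piece' G_T1d G_T1c G_Kc (H_s0_186.dcRel G_I.top (G_I.get (i := 22) (by decide +kernel)).top (G_m1.get (i := 22) (by decide +kernel)).top chk376)
theorem G_T1u : Nat.card (C.gen R 8937930022191104) ≤ 80 * Nat.card (C.gen R 152118072027387528179604384645120) := up_low H_ub GT1_lb0 (by decide +kernel)
theorem G_T1n : (DC1 (C.gen R 8937930022191104) (C.el (R 22))).ncard ≤ Nat.card (C.gen R 8937930022191104) * 80 := ncard_DC1 GT1_in336.gen_le G_T1c G_T1u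
theorem GT2_in399 : C.Mem R (C.gen R 8937930022191104) 3894222643901120721397872246915072 := H_s0_186.slp' chk398
theorem GT2_m0 : C.Mem R (C.gen R 3894222643901120721397872246915072) 3894222643901120721397872246915072 := GC.Mem.gen GT2_in399.top
theorem pt400e : ∃ x, A0.Rep pt400c x := act4_rep e18 (by decide) (by decide) (c := 0x1) (by decide +kernel)
noncomputable def pt400 := Classical.choose pt400e
theorem pt400r : A0.Rep pt400c pt400 := Classical.choose_spec pt400e
theorem pt401e : ∃ x, A1.Rep pt401c x := (act4_rep e18 (by decide) (by decide) (c := 0x4) (by decide +kernel)).elim fun x hx => ⟨_, x, hx, rfl⟩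
noncomputable def pt401 := Classical.choose pt401e
theorem pt401r : A1.Rep pt401c pt401 := Classical.choose_spec pt401e
theorem pt402e : ∃ x, A1.Rep pt402c x := (act4_rep e18 (by decide) (by decide) (c := 0x15) (by decide +kernel)).elim fun x hx => ⟨_, x, hx, rfl⟩
noncomputable def pt402 := Classical.choose pt402e
theorem pt402r : A1.Rep pt402c pt402 := Classical.choose_spec pt402e
theorem GT2_s0_405 : C.Mem R (C.gen R 3894222643901120721397872246915072) 40240300653644914121111346551455744 := GT2_m0.slp' chk404
theorem GT2_c0i : C.Mem R (C.gen R 3894222643901120721397872246915072) 36346078009743793399713474304540672 := GT2_s0_405.sub chk406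
theorem GT2_c0m : C.Mem R (C.gen R 36346078009743793399713474304540672) 36346078009743793399713474304540672 := GT2_c0i.gen
theorem fx408 : C.gen R 36346078009743793399713474304540672 ≤ stabilizer _ pt400 := Act.fix_sound GT2_c0i.top pt400r chk407
theorem cov415 : Cov (C.gen R 3894222643901120721397872246915072) (C.wds R [0]) pt400 3 := Act.cov_of_seen (Act.pieces_sound GT2_s0_405 GT2_s0_405.top pt400r chk413) chk414
theorem GT2_c1i : C.Mem R (C.gen R 36346078009743793399713474304540672) 20769187434139310514121985316880384 := GT2_c0m.sub chk416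
theorem GT2_c1m : C.Mem R (C.gen R 20769187434139310514121985316880384) 20769187434139310514121985316880384 := GT2_c1i.gen
theorem fx418 : C.gen R 20769187434139310514121985316880384 ≤ stabilizer _ pt401 := Act.fix_sound GT2_c1i.top pt401r chk417
theorem cov425 : Cov (C.gen R 36346078009743793399713474304540672) (C.wds R [0]) pt401 4 := Act.cov_of_seen (Act.pieces_sound GT2_c0m GT2_c0m.top pt401r chk423) chk424
theorem GT2_c2i : C.Mem R (C.gen R 20769187434139310514121985316880384) 0 := GT2_c1m.sub chk426
theorem GT2_c2m : C.Mem R (C.gen R 0) 0 := GT2_c2i.gen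
theorem fx428 : C.gen R 0 ≤ stabilizer _ pt402 := Act.fix_sound GT2_c2i.top pt402r chk427
theorem cov435 : Cov (C.gen R 20769187434139310514121985316880384) (C.wds R [0]) pt402 3 := Act.cov_of_seen (Act.pieces_sound GT2_c1m GT2_c1m.top pt402r chk433) chk434
theorem GT2_lb3 : 1 ≤ Nat.card (C.gen R 0) := Nat.card_pos
theorem GT2_lo2 : 3 * Nat.card (C.gen R 0) ≤ Nat.card (C.gen R 20769187434139310514121985316880384) := cov435.low le_rfl (GC.wds_zero _) GT2_c2i.gen_le fx428
theorem GT2_lb2 : 3 ≤ Nat.card (C.gen R 20769187434139310514121985316880384) := low_step GT2_lo2 GT2_lb3 (by decide +kernel)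
theorem GT2_lo1 : 4 * Nat.card (C.gen R 20769187434139310514121985316880384) ≤ Nat.card (C.gen R 36346078009743793399713474304540672) := cov425.low le_rfl (GC.wds_zero _) GT2_c1i.gen_le fx418
theorem GT2_lb1 : 12 ≤ Nat.card (C.gen R 36346078009743793399713474304540672) := low_step GT2_lo1 GT2_lb2 (by decide +kernel)
theorem GT2_lo0 : 3 * Nat.card (C.gen R 36346078009743793399713474304540672) ≤ Nat.card (C.gen R 3894222643901120721397872246915072) := cov415.low le_rfl (GC.wds_zero _) GT2_c0i.gen_le fx408
theorem GT2_lb0 : 36 ≤ Nat.card (C.gen R 3894222643901120721397872246915072) := low_step GT2_lo0 GT2_lb1 (by decide +kernel)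
theorem G_T2c : ∀ τ ∈ (C.gen R 3894222643901120721397872246915072), C.el (R 70) * τ * (C.el (R 70))⁻¹ ∈ (C.gen R 8937930022191104) := H_s0_186.conjA (G_I.get (i := 70) (by decide +kernel)).top GT2_in399.top chk437
theorem cov446 : Cov (C.gen R 3894222643901120721397872246915072) (C.wds R (List.map Prod.fst (l438))) pt183 80 := Act.cov_of_seen (Act.pieces_sound GT2_s0_405 H_s0_186.top pt183r chk444) chk445
theorem G_T2d : Dec (C.gen R 8937930022191104) (C.gen R 3894222643901120721397872246915072) (C.wds R (List.map Prod.fst (l438))) (C.gen R 1188422437713965063903159255040) := cov446.dec GT2_in399.gen_le (GC.wds_sub H_s0_186 chk447) GK_in237.gen_le fx288 (up_low H_ub GK_lb0 (by decide +kernel))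
theorem G_T2p : ∀ x ∈ DC1 (C.gen R 8937930022191104) (C.el (R 70)), x * C.el (R 22) ∈ DCs (C.gen R 8937930022191104) (C.els R 79228161333672716876136841216) := GC.dc_piece' G_T2d G_T2c G_Kc (H_s0_186.dcRel G_I.top (G_I.get (i := 70) (by decide +kernel)).top (G_m1.get (i := 22) (by decide +kernel)).top chk439)
theorem G_T2u : Nat.card (C.gen R 8937930022191104) ≤ 180 * Nat.card (C.gen R 3894222643901120721397872246915072) := up_low H_ub GT2_lb0 (by decide +kernel)
theorem G_T2n : (DC1 (C.gen R 8937930022191104) (C.el (R 70))).ncard ≤ Nat.card (C.gen R 8937930022191104) * 180 := ncard_DC1 GT2_in399.gen_le G_T2c G_T2u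
theorem GT3_in466 : C.Mem R (C.gen R 8937930022191104) 124615124604835863084731911901282304 := H_s0_186.slp' chk465
theorem GT3_m0 : C.Mem R (C.gen R 124615124604835863084731911901282304) 124615124604835863084731911901282304 := GC.Mem.gen GT3_in466.top
theorem pt467e : ∃ x, A1.Rep pt467c x := (act4_rep e18 (by decide) (by decide) (c := 0x15) (by decide +kernel)).elim fun x hx => ⟨_, x, hx, rfl⟩
noncomputable def pt467 := Classical.choose pt467e
theorem pt467r : A1.Rep pt467c pt467 := Classical.choose_spec pt467e
theorem pt468e : ∃ x, A0.Rep pt468c x := act4_rep e18 (by decide) (by decide) (c := 0x1) (by decide +kernel)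
noncomputable def pt468 := Classical.choose pt468e
theorem pt468r : A0.Rep pt468c pt468 := Classical.choose_spec pt468e
theorem GT3_s0_471 : C.Mem R (C.gen R 124615124604835863084731911901282304) 290768624077950347197707794436325376 := GT3_m0.slp' chk470
theorem GT3_c0i : C.Mem R (C.gen R 124615124604835863084731911901282304) 166153499473114484112975882535043072 := GT3_s0_471.sub chk472
theorem GT3_c0m : C.Mem R (C.gen R 166153499473114484112975882535043072) 166153499473114484112975882535043072 := GT3_c0i.gen
theorem fx474 : C.gen R 166153499473114484112975882535043072 ≤ stabilizer _ pt467 := Act.fix_sound GT3_c0i.top pt467r chk473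
theorem cov481 : Cov (C.gen R 124615124604835863084731911901282304) (C.wds R [0]) pt467 3 := Act.cov_of_seen (Act.pieces_sound GT3_s0_471 GT3_s0_471.top pt467r chk479) chk480
theorem GT3_c1i : C.Mem R (C.gen R 166153499473114484112975882535043072) 0 := GT3_c0m.sub chk482
theorem GT3_c1m : C.Mem R (C.gen R 0) 0 := GT3_c1i.gen
theorem fx484 : C.gen R 0 ≤ stabilizer _ pt468 := Act.fix_sound GT3_c1i.top pt468r chk483
theorem cov491 : Cov (C.gen R 166153499473114484112975882535043072) (C.wds R [0]) pt468 3 := Act.cov_of_seen (Act.pieces_sound GT3_c0m GT3_c0m.top pt468r chk489) chk490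
theorem GT3_lb2 : 1 ≤ Nat.card (C.gen R 0) := Nat.card_pos
theorem GT3_lo1 : 3 * Nat.card (C.gen R 0) ≤ Nat.card (C.gen R 166153499473114484112975882535043072) := cov491.low le_rfl (GC.wds_zero _) GT3_c1i.gen_le fx484
theorem GT3_lb1 : 3 ≤ Nat.card (C.gen R 166153499473114484112975882535043072) := low_step GT3_lo1 GT3_lb2 (by decide +kernel)
theorem GT3_lo0 : 3 * Nat.card (C.gen R 166153499473114484112975882535043072) ≤ Nat.card (C.gen R 124615124604835863084731911901282304) := cov481.low le_rfl (GC.wds_zero _) GT3_c0i.gen_le fx474
theorem GT3_lb0 : 9 ≤ Nat.card (C.gen R 124615124604835863084731911901282304) := low_step GT3_lo0 GT3_lb1 (by decide +kernel)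
theorem G_T3c : ∀ τ ∈ (C.gen R 124615124604835863084731911901282304), C.el (R 71) * τ * (C.el (R 71))⁻¹ ∈ (C.gen R 8937930022191104) := H_s0_186.conjA (G_I.get (i := 71) (by decide +kernel)).top GT3_in466.top chk493
theorem cov502 : Cov (C.gen R 124615124604835863084731911901282304) (C.wds R (List.map Prod.fst (l494))) pt183 80 := Act.cov_of_seen (Act.pieces_sound GT3_s0_471 H_s0_186.top pt183r chk500) chk501
theorem G_T3d : Dec (C.gen R 8937930022191104) (C.gen R 124615124604835863084731911901282304) (C.wds R (List.map Prod.fst (l494))) (C.gen R 1188422437713965063903159255040) := cov502.dec GT3_in466.gen_le (GC.wds_sub H_s0_186 chk503) GK_in237.gen_le fx288 (up_low H_ub GK_lb0 (by decide +kernel))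
theorem G_T3p : ∀ x ∈ DC1 (C.gen R 8937930022191104) (C.el (R 71)), x * C.el (R 22) ∈ DCs (C.gen R 8937930022191104) (C.els R 79228161333672716876136841216) := GC.dc_piece' G_T3d G_T3c G_Kc (H_s0_186.dcRel G_I.top (G_I.get (i := 71) (by decide +kernel)).top (G_m1.get (i := 22) (by decide +kernel)).top chk495)
theorem G_T3u : Nat.card (C.gen R 8937930022191104) ≤ 720 * Nat.card (C.gen R 124615124604835863084731911901282304) := up_low H_ub GT3_lb0 (by decide +kernel)
theorem G_T3n : (DC1 (C.gen R 8937930022191104) (C.el (R 71))).ncard ≤ Nat.card (C.gen R 8937930022191104) * 720 := ncard_DC1 GT3_in466.gen_le G_T3c G_T3u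
theorem GT4_in518 : C.Mem R (C.gen R 8937930022191104) 996920996838686904677855295210258432 := H_s0_186.slp' chk517
theorem GT4_m0 : C.Mem R (C.gen R 996920996838686904677855295210258432) 996920996838686904677855295210258432 := GC.Mem.gen GT4_in518.top
theorem pt519e : ∃ x, A1.Rep pt519c x := (act4_rep e18 (by decide) (by decide) (c := 0x15) (by decide +kernel)).elim fun x hx => ⟨_, x, hx, rfl⟩
noncomputable def pt519 := Classical.choose pt519e
theorem pt519r : A1.Rep pt519c pt519 := Classical.choose_spec pt519e
theorem pt520e : ∃ x, A0.Rep pt520c x := act4_rep e18 (by decide) (by decide) (c := 0x1) (by decide +kernel)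
noncomputable def pt520 := Classical.choose pt520e
theorem pt520r : A0.Rep pt520c pt520 := Classical.choose_spec pt520e
theorem GT4_s0_523 : C.Mem R (C.gen R 996920996838686904677855295210258432) 2326148992623602777581662355490603008 := GT4_m0.slp' chk522
theorem GT4_c0i : C.Mem R (C.gen R 996920996838686904677855295210258432) 1329227995784915872903807060280344576 := GT4_s0_523.sub chk524
theorem GT4_c0m : C.Mem R (C.gen R 1329227995784915872903807060280344576) 1329227995784915872903807060280344576 := GT4_c0i.gen
theorem fx526 : C.gen R 1329227995784915872903807060280344576 ≤ stabilizer _ pt519 := Act.fix_sound GT4_c0i.top pt519r chk525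
theorem cov533 : Cov (C.gen R 996920996838686904677855295210258432) (C.wds R [0]) pt519 3 := Act.cov_of_seen (Act.pieces_sound GT4_s0_523 GT4_s0_523.top pt519r chk531) chk532
theorem GT4_c1i : C.Mem R (C.gen R 1329227995784915872903807060280344576) 0 := GT4_c0m.sub chk534
theorem GT4_c1m : C.Mem R (C.gen R 0) 0 := GT4_c1i.gen
theorem fx536 : C.gen R 0 ≤ stabilizer _ pt520 := Act.fix_sound GT4_c1i.top pt520r chk535
theorem cov543 : Cov (C.gen R 1329227995784915872903807060280344576) (C.wds R [0]) pt520 3 := Act.cov_of_seen (Act.pieces_sound GT4_c0m GT4_c0m.top pt520r chk541) chk542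
theorem GT4_lb2 : 1 ≤ Nat.card (C.gen R 0) := Nat.card_pos
theorem GT4_lo1 : 3 * Nat.card (C.gen R 0) ≤ Nat.card (C.gen R 1329227995784915872903807060280344576) := cov543.low le_rfl (GC.wds_zero _) GT4_c1i.gen_le fx536
theorem GT4_lb1 : 3 ≤ Nat.card (C.gen R 1329227995784915872903807060280344576) := low_step GT4_lo1 GT4_lb2 (by decide +kernel)
theorem GT4_lo0 : 3 * Nat.card (C.gen R 1329227995784915872903807060280344576) ≤ Nat.card (C.gen R 996920996838686904677855295210258432) := cov533.low le_rfl (GC.wds_zero _) GT4_c0i.gen_le fx526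
theorem GT4_lb0 : 9 ≤ Nat.card (C.gen R 996920996838686904677855295210258432) := low_step GT4_lo0 GT4_lb1 (by decide +kernel)
theorem G_T4c : ∀ τ ∈ (C.gen R 996920996838686904677855295210258432), C.el (R 72) * τ * (C.el (R 72))⁻¹ ∈ (C.gen R 8937930022191104) := H_s0_186.conjA (G_I.get (i := 72) (by decide +kernel)).top GT4_in518.top chk545
theorem cov554 : Cov (C.gen R 996920996838686904677855295210258432) (C.wds R (List.map Prod.fst (l546))) pt183 80 := Act.cov_of_seen (Act.pieces_sound GT4_s0_523 H_s0_186.top pt183r chk552) chk553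
theorem G_T4d : Dec (C.gen R 8937930022191104) (C.gen R 996920996838686904677855295210258432) (C.wds R (List.map Prod.fst (l546))) (C.gen R 1188422437713965063903159255040) := cov554.dec GT4_in518.gen_le (GC.wds_sub H_s0_186 chk555) GK_in237.gen_le fx288 (up_low H_ub GK_lb0 (by decide +kernel))
theorem G_T4p : ∀ x ∈ DC1 (C.gen R 8937930022191104) (C.el (R 72)), x * C.el (R 22) ∈ DCs (C.gen R 8937930022191104) (C.els R 79228161333672716876136841216) := GC.dc_piece' G_T4d G_T4c G_Kc (H_s0_186.dcRel G_I.top (G_I.get (i := 72) (by decide +kernel)).top (G_m1.get (i := 22) (by decide +kernel)).top chk547)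
theorem G_T4u : Nat.card (C.gen R 8937930022191104) ≤ 720 * Nat.card (C.gen R 996920996838686904677855295210258432) := up_low H_ub GT4_lb0 (by decide +kernel)
theorem G_T4n : (DC1 (C.gen R 8937930022191104) (C.el (R 72))).ncard ≤ Nat.card (C.gen R 8937930022191104) * 720 := ncard_DC1 GT4_in518.gen_le G_T4c G_T4u
theorem GT5_in570 : C.Mem R (C.gen R 8937930022191104) 7975367974709495237422842361682067456 := H_s0_186.slp' chk569
theorem GT5_m0 : C.Mem R (C.gen R 7975367974709495237422842361682067456) 7975367974709495237422842361682067456 := GC.Mem.gen GT5_in570.top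
theorem pt571e : ∃ x, A0.Rep pt571c x := act4_rep e18 (by decide) (by decide) (c := 0x1) (by decide +kernel)
noncomputable def pt571 := Classical.choose pt571e
theorem pt571r : A0.Rep pt571c pt571 := Classical.choose_spec pt571e
theorem pt572e : ∃ x, A1.Rep pt572c x := (act4_rep e18 (by decide) (by decide) (c := 0x15) (by decide +kernel)).elim fun x hx => ⟨_, x, hx, rfl⟩
noncomputable def pt572 := Classical.choose pt572e
theorem pt572r : A1.Rep pt572c pt572 := Classical.choose_spec pt572e
theorem GT5_s0_575 : C.Mem R (C.gen R 7975367974709495237422842361682067456) 18609191940988822220653298843924824064 := GT5_m0.slp' chk574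
theorem GT5_c0i : C.Mem R (C.gen R 7975367974709495237422842361682067456) 10633823966279326983230456482242756608 := GT5_s0_575.sub chk576
theorem GT5_c0m : C.Mem R (C.gen R 10633823966279326983230456482242756608) 10633823966279326983230456482242756608 := GT5_c0i.gen
theorem fx578 : C.gen R 10633823966279326983230456482242756608 ≤ stabilizer _ pt571 := Act.fix_sound GT5_c0i.top pt571r chk577
theorem cov585 : Cov (C.gen R 7975367974709495237422842361682067456) (C.wds R [0]) pt571 3 := Act.cov_of_seen (Act.pieces_sound GT5_s0_575 GT5_s0_575.top pt571r chk583) chk584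
theorem GT5_c1i : C.Mem R (C.gen R 10633823966279326983230456482242756608) 0 := GT5_c0m.sub chk586
theorem GT5_c1m : C.Mem R (C.gen R 0) 0 := GT5_c1i.gen
theorem fx588 : C.gen R 0 ≤ stabilizer _ pt572 := Act.fix_sound GT5_c1i.top pt572r chk587
theorem cov595 : Cov (C.gen R 10633823966279326983230456482242756608) (C.wds R [0]) pt572 3 := Act.cov_of_seen (Act.pieces_sound GT5_c0m GT5_c0m.top pt572r chk593) chk594
theorem GT5_lb2 : 1 ≤ Nat.card (C.gen R 0) := Nat.card_pos
theorem GT5_lo1 : 3 * Nat.card (C.gen R 0) ≤ Nat.card (C.gen R 10633823966279326983230456482242756608) := cov595.low le_rfl (GC.wds_zero _) GT5_c1i.gen_le fx588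
theorem GT5_lb1 : 3 ≤ Nat.card (C.gen R 10633823966279326983230456482242756608) := low_step GT5_lo1 GT5_lb2 (by decide +kernel)
theorem GT5_lo0 : 3 * Nat.card (C.gen R 10633823966279326983230456482242756608) ≤ Nat.card (C.gen R 7975367974709495237422842361682067456) := cov585.low le_rfl (GC.wds_zero _) GT5_c0i.gen_le fx578
theorem GT5_lb0 : 9 ≤ Nat.card (C.gen R 7975367974709495237422842361682067456) := low_step GT5_lo0 GT5_lb1 (by decide +kernel)
theorem G_T5c : ∀ τ ∈ (C.gen R 7975367974709495237422842361682067456), C.el (R 73) * τ * (C.el (R 73))⁻¹ ∈ (C.gen R 8937930022191104) := H_s0_186.conjA (G_I.get (i := 73) (by decide +kernel)).top GT5_in570.top chk597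
theorem cov606 : Cov (C.gen R 7975367974709495237422842361682067456) (C.wds R (List.map Prod.fst (l598))) pt183 80 := Act.cov_of_seen (Act.pieces_sound GT5_s0_575 H_s0_186.top pt183r chk604) chk605
theorem G_T5d : Dec (C.gen R 8937930022191104) (C.gen R 7975367974709495237422842361682067456) (C.wds R (List.map Prod.fst (l598))) (C.gen R 1188422437713965063903159255040) := cov606.dec GT5_in570.gen_le (GC.wds_sub H_s0_186 chk607) GK_in237.gen_le fx288 (up_low H_ub GK_lb0 (by decide +kernel))
theorem G_T5p : ∀ x ∈ DC1 (C.gen R 8937930022191104) (C.el (R 73)), x * C.el (R 22) ∈ DCs (C.gen R 8937930022191104) (C.els R 79228161333672716876136841216) := GC.dc_piece' G_T5d G_T5c G_Kc (H_s0_186.dcRel G_I.top (G_I.get (i := 73) (by decide +kernel)).top (G_m1.get (i := 22) (by decide +kernel)).top chk599)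
theorem G_T5u : Nat.card (C.gen R 8937930022191104) ≤ 720 * Nat.card (C.gen R 7975367974709495237422842361682067456) := up_low H_ub GT5_lb0 (by decide +kernel)
theorem G_T5n : (DC1 (C.gen R 8937930022191104) (C.el (R 73))).ncard ≤ Nat.card (C.gen R 8937930022191104) * 720 := ncard_DC1 GT5_in570.gen_le G_T5c G_T5u
theorem GT6_in626 : C.Mem R (C.gen R 8937930022191104) 63802943797675961899382738893456539648 := H_s0_186.slp' chk625
theorem GT6_m0 : C.Mem R (C.gen R 63802943797675961899382738893456539648) 63802943797675961899382738893456539648 := GC.Mem.gen GT6_in626.top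
theorem pt627e : ∃ x, A1.Rep pt627c x := (act4_rep e18 (by decide) (by decide) (c := 0x15) (by decide +kernel)).elim fun x hx => ⟨_, x, hx, rfl⟩
noncomputable def pt627 := Classical.choose pt627e
theorem pt627r : A1.Rep pt627c pt627 := Classical.choose_spec pt627e
theorem pt628e : ∃ x, A0.Rep pt628c x := act4_rep e18 (by decide) (by decide) (c := 0x1) (by decide +kernel)
noncomputable def pt628 := Classical.choose pt628e
theorem pt628r : A0.Rep pt628c pt628 := Classical.choose_spec pt628e
theorem GT6_s0_631 : C.Mem R (C.gen R 63802943797675961899382738893456539648) 148873535527910577765226390751398592512 := GT6_m0.slp' chk630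
theorem GT6_c0i : C.Mem R (C.gen R 63802943797675961899382738893456539648) 85070591730234615865843651857942052864 := GT6_s0_631.sub chk632
theorem GT6_c0m : C.Mem R (C.gen R 85070591730234615865843651857942052864) 85070591730234615865843651857942052864 := GT6_c0i.gen
theorem fx634 : C.gen R 85070591730234615865843651857942052864 ≤ stabilizer _ pt627 := Act.fix_sound GT6_c0i.top pt627r chk633
theorem cov641 : Cov (C.gen R 63802943797675961899382738893456539648) (C.wds R [0]) pt627 3 := Act.cov_of_seen (Act.pieces_sound GT6_s0_631 GT6_s0_631.top pt627r chk639) chk640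
theorem GT6_c1i : C.Mem R (C.gen R 85070591730234615865843651857942052864) 0 := GT6_c0m.sub chk642
theorem GT6_c1m : C.Mem R (C.gen R 0) 0 := GT6_c1i.gen
theorem fx644 : C.gen R 0 ≤ stabilizer _ pt628 := Act.fix_sound GT6_c1i.top pt628r chk643
theorem cov651 : Cov (C.gen R 85070591730234615865843651857942052864) (C.wds R [0]) pt628 3 := Act.cov_of_seen (Act.pieces_sound GT6_c0m GT6_c0m.top pt628r chk649) chk650
theorem GT6_lb2 : 1 ≤ Nat.card (C.gen R 0) := Nat.card_pos
theorem GT6_lo1 : 3 * Nat.card (C.gen R 0) ≤ Nat.card (C.gen R 85070591730234615865843651857942052864) := cov651.low le_rfl (GC.wds_zero _) GT6_c1i.gen_le fx644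
theorem GT6_lb1 : 3 ≤ Nat.card (C.gen R 85070591730234615865843651857942052864) := low_step GT6_lo1 GT6_lb2 (by decide +kernel)
theorem GT6_lo0 : 3 * Nat.card (C.gen R 85070591730234615865843651857942052864) ≤ Nat.card (C.gen R 63802943797675961899382738893456539648) := cov641.low le_rfl (GC.wds_zero _) GT6_c0i.gen_le fx634
theorem GT6_lb0 : 9 ≤ Nat.card (C.gen R 63802943797675961899382738893456539648) := low_step GT6_lo0 GT6_lb1 (by decide +kernel)
theorem G_T6c : ∀ τ ∈ (C.gen R 63802943797675961899382738893456539648), C.el (R 74) * τ * (C.el (R 74))⁻¹ ∈ (C.gen R 8937930022191104) := H_s0_186.conjA (G_I.get (i := 74) (by decide +kernel)).top GT6_in626.top chk653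
theorem cov662 : Cov (C.gen R 63802943797675961899382738893456539648) (C.wds R (List.map Prod.fst (l654))) pt183 80 := Act.cov_of_seen (Act.pieces_sound GT6_s0_631 H_s0_186.top pt183r chk660) chk661
theorem G_T6d : Dec (C.gen R 8937930022191104) (C.gen R 63802943797675961899382738893456539648) (C.wds R (List.map Prod.fst (l654))) (C.gen R 1188422437713965063903159255040) := cov662.dec GT6_in626.gen_le (GC.wds_sub H_s0_186 chk663) GK_in237.gen_le fx288 (up_low H_ub GK_lb0 (by decide +kernel))
theorem G_T6p : ∀ x ∈ DC1 (C.gen R 8937930022191104) (C.el (R 74)), x * C.el (R 22) ∈ DCs (C.gen R 8937930022191104) (C.els R 79228161333672716876136841216) := GC.dc_piece' G_T6d G_T6c G_Kc (H_s0_186.dcRel G_I.top (G_I.get (i := 74) (by decide +kernel)).top (G_m1.get (i := 22) (by decide +kernel)).top chk655)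
theorem G_T6u : Nat.card (C.gen R 8937930022191104) ≤ 720 * Nat.card (C.gen R 63802943797675961899382738893456539648) := up_low H_ub GT6_lb0 (by decide +kernel)
theorem G_T6n : (DC1 (C.gen R 8937930022191104) (C.el (R 74))).ncard ≤ Nat.card (C.gen R 8937930022191104) * 720 := ncard_DC1 GT6_in626.gen_le G_T6c G_T6u
theorem GT7_in678 : C.Mem R (C.gen R 8937930022191104) 510423550381407695195061911147652317184 := H_s0_186.slp' chk677
theorem GT7_m0 : C.Mem R (C.gen R 510423550381407695195061911147652317184) 510423550381407695195061911147652317184 := GC.Mem.gen GT7_in678.top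
theorem pt679e : ∃ x, A1.Rep pt679c x := (act4_rep e18 (by decide) (by decide) (c := 0x15) (by decide +kernel)).elim fun x hx => ⟨_, x, hx, rfl⟩
noncomputable def pt679 := Classical.choose pt679e
theorem pt679r : A1.Rep pt679c pt679 := Classical.choose_spec pt679e
theorem pt680e : ∃ x, A0.Rep pt680c x := act4_rep e18 (by decide) (by decide) (c := 0x1) (by decide +kernel)
noncomputable def pt680 := Classical.choose pt680e
theorem pt680r : A0.Rep pt680c pt680 := Classical.choose_spec pt680e
theorem GT7_s0_683 : C.Mem R (C.gen R 510423550381407695195061911147652317184) 1190988284223284622121811126011188740096 := GT7_m0.slp' chk682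
theorem GT7_c0i : C.Mem R (C.gen R 510423550381407695195061911147652317184) 680564733841876926926749214863536422912 := GT7_s0_683.sub chk684
theorem GT7_c0m : C.Mem R (C.gen R 680564733841876926926749214863536422912) 680564733841876926926749214863536422912 := GT7_c0i.gen
theorem fx686 : C.gen R 680564733841876926926749214863536422912 ≤ stabilizer _ pt679 := Act.fix_sound GT7_c0i.top pt679r chk685
theorem cov693 : Cov (C.gen R 510423550381407695195061911147652317184) (C.wds R [0]) pt679 3 := Act.cov_of_seen (Act.pieces_sound GT7_s0_683 GT7_s0_683.top pt679r chk691) chk692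
theorem GT7_c1i : C.Mem R (C.gen R 680564733841876926926749214863536422912) 0 := GT7_c0m.sub chk694
theorem GT7_c1m : C.Mem R (C.gen R 0) 0 := GT7_c1i.gen
theorem fx696 : C.gen R 0 ≤ stabilizer _ pt680 := Act.fix_sound GT7_c1i.top pt680r chk695
theorem cov703 : Cov (C.gen R 680564733841876926926749214863536422912) (C.wds R [0]) pt680 3 := Act.cov_of_seen (Act.pieces_sound GT7_c0m GT7_c0m.top pt680r chk701) chk702
theorem GT7_lb2 : 1 ≤ Nat.card (C.gen R 0) := Nat.card_pos
theorem GT7_lo1 : 3 * Nat.card (C.gen R 0) ≤ Nat.card (C.gen R 680564733841876926926749214863536422912) := cov703.low le_rfl (GC.wds_zero _) GT7_c1i.gen_le fx696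
theorem GT7_lb1 : 3 ≤ Nat.card (C.gen R 680564733841876926926749214863536422912) := low_step GT7_lo1 GT7_lb2 (by decide +kernel)
theorem GT7_lo0 : 3 * Nat.card (C.gen R 680564733841876926926749214863536422912) ≤ Nat.card (C.gen R 510423550381407695195061911147652317184) := cov693.low le_rfl (GC.wds_zero _) GT7_c0i.gen_le fx686
theorem GT7_lb0 : 9 ≤ Nat.card (C.gen R 510423550381407695195061911147652317184) := low_step GT7_lo0 GT7_lb1 (by decide +kernel)
theorem G_T7c : ∀ τ ∈ (C.gen R 510423550381407695195061911147652317184), C.el (R 75) * τ * (C.el (R 75))⁻¹ ∈ (C.gen R 8937930022191104) := H_s0_186.conjA (G_I.get (i := 75) (by decide +kernel)).top GT7_in678.top chk705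
theorem cov714 : Cov (C.gen R 510423550381407695195061911147652317184) (C.wds R (List.map Prod.fst (l706))) pt183 80 := Act.cov_of_seen (Act.pieces_sound GT7_s0_683 H_s0_186.top pt183r chk712) chk713
theorem G_T7d : Dec (C.gen R 8937930022191104) (C.gen R 510423550381407695195061911147652317184) (C.wds R (List.map Prod.fst (l706))) (C.gen R 1188422437713965063903159255040) := cov714.dec GT7_in678.gen_le (GC.wds_sub H_s0_186 chk715) GK_in237.gen_le fx288 (up_low H_ub GK_lb0 (by decide +kernel))
theorem G_T7p : ∀ x ∈ DC1 (C.gen R 8937930022191104) (C.el (R 75)), x * C.el (R 22) ∈ DCs (C.gen R 8937930022191104) (C.els R 79228161333672716876136841216) := GC.dc_piece' G_T7d G_T7c G_Kc (H_s0_186.dcRel G_I.top (G_I.get (i := 75) (by decide +kernel)).top (G_m1.get (i := 22) (by decide +kernel)).top chk707)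
theorem G_T7u : Nat.card (C.gen R 8937930022191104) ≤ 720 * Nat.card (C.gen R 510423550381407695195061911147652317184) := up_low H_ub GT7_lb0 (by decide +kernel)
theorem G_T7n : (DC1 (C.gen R 8937930022191104) (C.el (R 75))).ncard ≤ Nat.card (C.gen R 8937930022191104) * 720 := ncard_DC1 GT7_in678.gen_le G_T7c G_T7u
theorem GT8_in730 : C.Mem R (C.gen R 8937930022191104) 4083388403051261561560495289181218537472 := H_s0_186.slp' chk729
theorem GT8_m0 : C.Mem R (C.gen R 4083388403051261561560495289181218537472) 4083388403051261561560495289181218537472 := GC.Mem.gen GT8_in730.top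
theorem pt731e : ∃ x, A1.Rep pt731c x := (act4_rep e18 (by decide) (by decide) (c := 0x15) (by decide +kernel)).elim fun x hx => ⟨_, x, hx, rfl⟩
noncomputable def pt731 := Classical.choose pt731e
theorem pt731r : A1.Rep pt731c pt731 := Classical.choose_spec pt731e
theorem pt732e : ∃ x, A0.Rep pt732c x := act4_rep e18 (by decide) (by decide) (c := 0x1) (by decide +kernel)
noncomputable def pt732 := Classical.choose pt732e
theorem pt732r : A0.Rep pt732c pt732 := Classical.choose_spec pt732e
theorem GT8_s0_735 : C.Mem R (C.gen R 4083388403051261561560495289181218537472) 9527906273786276976974489008089509920768 := GT8_m0.slp' chk734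
theorem GT8_c0i : C.Mem R (C.gen R 4083388403051261561560495289181218537472) 5444517870735015415413993718908291383296 := GT8_s0_735.sub chk736
theorem GT8_c0m : C.Mem R (C.gen R 5444517870735015415413993718908291383296) 5444517870735015415413993718908291383296 := GT8_c0i.gen
theorem fx738 : C.gen R 5444517870735015415413993718908291383296 ≤ stabilizer _ pt731 := Act.fix_sound GT8_c0i.top pt731r chk737
theorem cov745 : Cov (C.gen R 4083388403051261561560495289181218537472) (C.wds R [0]) pt731 3 := Act.cov_of_seen (Act.pieces_sound GT8_s0_735 GT8_s0_735.top pt731r chk743) chk744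
theorem GT8_c1i : C.Mem R (C.gen R 5444517870735015415413993718908291383296) 0 := GT8_c0m.sub chk746
theorem GT8_c1m : C.Mem R (C.gen R 0) 0 := GT8_c1i.gen
theorem fx748 : C.gen R 0 ≤ stabilizer _ pt732 := Act.fix_sound GT8_c1i.top pt732r chk747
theorem cov755 : Cov (C.gen R 5444517870735015415413993718908291383296) (C.wds R [0]) pt732 3 := Act.cov_of_seen (Act.pieces_sound GT8_c0m GT8_c0m.top pt732r chk753) chk754
theorem GT8_lb2 : 1 ≤ Nat.card (C.gen R 0) := Nat.card_pos
theorem GT8_lo1 : 3 * Nat.card (C.gen R 0) ≤ Nat.card (C.gen R 5444517870735015415413993718908291383296) := cov755.low le_rfl (GC.wds_zero _) GT8_c1i.gen_le fx748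
theorem GT8_lb1 : 3 ≤ Nat.card (C.gen R 5444517870735015415413993718908291383296) := low_step GT8_lo1 GT8_lb2 (by decide +kernel)
theorem GT8_lo0 : 3 * Nat.card (C.gen R 5444517870735015415413993718908291383296) ≤ Nat.card (C.gen R 4083388403051261561560495289181218537472) := cov745.low le_rfl (GC.wds_zero _) GT8_c0i.gen_le fx738
theorem GT8_lb0 : 9 ≤ Nat.card (C.gen R 4083388403051261561560495289181218537472) := low_step GT8_lo0 GT8_lb1 (by decide +kernel)
theorem G_T8c : ∀ τ ∈ (C.gen R 4083388403051261561560495289181218537472), C.el (R 76) * τ * (C.el (R 76))⁻¹ ∈ (C.gen R 8937930022191104) := H_s0_186.conjA (G_I.get (i := 76) (by decide +kernel)).top GT8_in730.top chk757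
theorem cov766 : Cov (C.gen R 4083388403051261561560495289181218537472) (C.wds R (List.map Prod.fst (l758))) pt183 80 := Act.cov_of_seen (Act.pieces_sound GT8_s0_735 H_s0_186.top pt183r chk764) chk765
theorem G_T8d : Dec (C.gen R 8937930022191104) (C.gen R 4083388403051261561560495289181218537472) (C.wds R (List.map Prod.fst (l758))) (C.gen R 1188422437713965063903159255040) := cov766.dec GT8_in730.gen_le (GC.wds_sub H_s0_186 chk767) GK_in237.gen_le fx288 (up_low H_ub GK_lb0 (by decide +kernel))
theorem G_T8p : ∀ x ∈ DC1 (C.gen R 8937930022191104) (C.el (R 76)), x * C.el (R 22) ∈ DCs (C.gen R 8937930022191104) (C.els R 79228161333672716876136841216) := GC.dc_piece' G_T8d G_T8c G_Kc (H_s0_186.dcRel G_I.top (G_I.get (i := 76) (by decide +kernel)).top (G_m1.get (i := 22) (by decide +kernel)).top chk759)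
theorem G_T8u : Nat.card (C.gen R 8937930022191104) ≤ 720 * Nat.card (C.gen R 4083388403051261561560495289181218537472) := up_low H_ub GT8_lb0 (by decide +kernel)
theorem G_T8n : (DC1 (C.gen R 8937930022191104) (C.el (R 76))).ncard ≤ Nat.card (C.gen R 8937930022191104) * 720 := ncard_DC1 GT8_in730.gen_le G_T8c G_T8u
theorem GT9_in782 : C.Mem R (C.gen R 8937930022191104) 32667107224410092492483962313449748299776 := H_s0_186.slp' chk781
theorem GT9_m0 : C.Mem R (C.gen R 32667107224410092492483962313449748299776) 32667107224410092492483962313449748299776 := GC.Mem.gen GT9_in782.top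
theorem pt783e : ∃ x, A1.Rep pt783c x := (act4_rep e18 (by decide) (by decide) (c := 0x15) (by decide +kernel)).elim fun x hx => ⟨_, x, hx, rfl⟩
noncomputable def pt783 := Classical.choose pt783e
theorem pt783r : A1.Rep pt783c pt783 := Classical.choose_spec pt783e
theorem pt784e : ∃ x, A0.Rep pt784c x := act4_rep e18 (by decide) (by decide) (c := 0x1) (by decide +kernel)
noncomputable def pt784 := Classical.choose pt784e
theorem pt784r : A0.Rep pt784c pt784 := Classical.choose_spec pt784e
theorem GT9_s0_787 : C.Mem R (C.gen R 32667107224410092492483962313449748299776) 76223250190290215815795912064716079366144 := GT9_m0.slp' chk786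
theorem GT9_c0i : C.Mem R (C.gen R 32667107224410092492483962313449748299776) 43556142965880123323311949751266331066368 := GT9_s0_787.sub chk788
theorem GT9_c0m : C.Mem R (C.gen R 43556142965880123323311949751266331066368) 43556142965880123323311949751266331066368 := GT9_c0i.gen
theorem fx790 : C.gen R 43556142965880123323311949751266331066368 ≤ stabilizer _ pt783 := Act.fix_sound GT9_c0i.top pt783r chk789
theorem cov797 : Cov (C.gen R 32667107224410092492483962313449748299776) (C.wds R [0]) pt783 3 := Act.cov_of_seen (Act.pieces_sound GT9_s0_787 GT9_s0_787.top pt783r chk795) chk796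
theorem GT9_c1i : C.Mem R (C.gen R 43556142965880123323311949751266331066368) 0 := GT9_c0m.sub chk798
theorem GT9_c1m : C.Mem R (C.gen R 0) 0 := GT9_c1i.gen
theorem fx800 : C.gen R 0 ≤ stabilizer _ pt784 := Act.fix_sound GT9_c1i.top pt784r chk799
theorem cov807 : Cov (C.gen R 43556142965880123323311949751266331066368) (C.wds R [0]) pt784 3 := Act.cov_of_seen (Act.pieces_sound GT9_c0m GT9_c0m.top pt784r chk805) chk806
theorem GT9_lb2 : 1 ≤ Nat.card (C.gen R 0) := Nat.card_pos
theorem GT9_lo1 : 3 * Nat.card (C.gen R 0) ≤ Nat.card (C.gen R 43556142965880123323311949751266331066368) := cov807.low le_rfl (GC.wds_zero _) GT9_c1i.gen_le fx800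
theorem GT9_lb1 : 3 ≤ Nat.card (C.gen R 43556142965880123323311949751266331066368) := low_step GT9_lo1 GT9_lb2 (by decide +kernel)
theorem GT9_lo0 : 3 * Nat.card (C.gen R 43556142965880123323311949751266331066368) ≤ Nat.card (C.gen R 32667107224410092492483962313449748299776) := cov797.low le_rfl (GC.wds_zero _) GT9_c0i.gen_le fx790
theorem GT9_lb0 : 9 ≤ Nat.card (C.gen R 32667107224410092492483962313449748299776) := low_step GT9_lo0 GT9_lb1 (by decide +kernel)
theorem G_T9c : ∀ τ ∈ (C.gen R 32667107224410092492483962313449748299776), C.el (R 77) * τ * (C.el (R 77))⁻¹ ∈ (C.gen R 8937930022191104) := H_s0_186.conjA (G_I.get (i := 77) (by decide +kernel)).top GT9_in782.top chk809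
theorem cov818 : Cov (C.gen R 32667107224410092492483962313449748299776) (C.wds R (List.map Prod.fst (l810))) pt183 80 := Act.cov_of_seen (Act.pieces_sound GT9_s0_787 H_s0_186.top pt183r chk816) chk817
theorem G_T9d : Dec (C.gen R 8937930022191104) (C.gen R 32667107224410092492483962313449748299776) (C.wds R (List.map Prod.fst (l810))) (C.gen R 1188422437713965063903159255040) := cov818.dec GT9_in782.gen_le (GC.wds_sub H_s0_186 chk819) GK_in237.gen_le fx288 (up_low H_ub GK_lb0 (by decide +kernel))
theorem G_T9p : ∀ x ∈ DC1 (C.gen R 8937930022191104) (C.el (R 77)), x * C.el (R 22) ∈ DCs (C.gen R 8937930022191104) (C.els R 79228161333672716876136841216) := GC.dc_piece' G_T9d G_T9c G_Kc (H_s0_186.dcRel G_I.top (G_I.get (i := 77) (by decide +kernel)).top (G_m1.get (i := 22) (by decide +kernel)).top chk811)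
theorem G_T9u : Nat.card (C.gen R 8937930022191104) ≤ 720 * Nat.card (C.gen R 32667107224410092492483962313449748299776) := up_low H_ub GT9_lb0 (by decide +kernel)
theorem G_T9n : (DC1 (C.gen R 8937930022191104) (C.el (R 77))).ncard ≤ Nat.card (C.gen R 8937930022191104) * 720 := ncard_DC1 GT9_in782.gen_le G_T9c G_T9u
theorem GT10_in822 : C.Mem R (C.gen R 8937930022191104) 87112285931760246646623899502532662132736 := H_s0_186.slp' chk821
theorem GT10_m0 : C.Mem R (C.gen R 87112285931760246646623899502532662132736) 87112285931760246646623899502532662132736 := GC.Mem.gen GT10_in822.top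
theorem pt823e : ∃ x, A0.Rep pt823c x := act4_rep e18 (by decide) (by decide) (c := 0x1) (by decide +kernel)
noncomputable def pt823 := Classical.choose pt823e
theorem pt823r : A0.Rep pt823c pt823 := Classical.choose_spec pt823e
theorem GT10_c0i : C.Mem R (C.gen R 87112285931760246646623899502532662132736) 0 := GT10_m0.sub chk824
theorem GT10_c0m : C.Mem R (C.gen R 0) 0 := GT10_c0i.gen
theorem fx826 : C.gen R 0 ≤ stabilizer _ pt823 := Act.fix_sound GT10_c0i.top pt823r chk825
theorem cov833 : Cov (C.gen R 87112285931760246646623899502532662132736) (C.wds R [0]) pt823 3 := Act.cov_of_seen (Act.pieces_sound GT10_m0 GT10_m0.top pt823r chk831) chk832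
theorem GT10_lb1 : 1 ≤ Nat.card (C.gen R 0) := Nat.card_pos
theorem GT10_lo0 : 3 * Nat.card (C.gen R 0) ≤ Nat.card (C.gen R 87112285931760246646623899502532662132736) := cov833.low le_rfl (GC.wds_zero _) GT10_c0i.gen_le fx826
theorem GT10_lb0 : 3 ≤ Nat.card (C.gen R 87112285931760246646623899502532662132736) := low_step GT10_lo0 GT10_lb1 (by decide +kernel)
theorem G_T10c : ∀ τ ∈ (C.gen R 87112285931760246646623899502532662132736), C.el (R 78) * τ * (C.el (R 78))⁻¹ ∈ (C.gen R 8937930022191104) := H_s0_186.conjA (G_I.get (i := 78) (by decide +kernel)).top GT10_in822.top chk835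
theorem cov848 : Cov (C.gen R 87112285931760246646623899502532662132736) (C.wds R (List.map Prod.fst (l836))) pt183 80 := Act.cov_of_seen (Act.pieces_sound GT10_m0 H_s0_186.top pt183r chk846) chk847
theorem G_T10d : Dec (C.gen R 8937930022191104) (C.gen R 87112285931760246646623899502532662132736) (C.wds R (List.map Prod.fst (l836))) (C.gen R 1188422437713965063903159255040) := cov848.dec GT10_in822.gen_le (GC.wds_sub H_s0_186 chk849) GK_in237.gen_le fx288 (up_low H_ub GK_lb0 (by decide +kernel))
theorem G_T10p : ∀ x ∈ DC1 (C.gen R 8937930022191104) (C.el (R 78)), x * C.el (R 22) ∈ DCs (C.gen R 8937930022191104) (C.els R 79228161333672716876136841216) := GC.dc_piece' G_T10d G_T10c G_Kc (H_s0_186.dcRel G_I.top (G_I.get (i := 78) (by decide +kernel)).top (G_m1.get (i := 22) (by decide +kernel)).top chk839)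
theorem G_T10u : Nat.card (C.gen R 8937930022191104) ≤ 2160 * Nat.card (C.gen R 87112285931760246646623899502532662132736) := up_low H_ub GT10_lb0 (by decide +kernel)
theorem G_T10n : (DC1 (C.gen R 8937930022191104) (C.el (R 78))).ncard ≤ Nat.card (C.gen R 8937930022191104) * 2160 := ncard_DC1 GT10_in822.gen_le G_T10c G_T10u
theorem GT11_in866 : C.Mem R (C.gen R 8937930022191104) 522673715590561479879743397015195972796416 := H_s0_186.slp' chk865
theorem GT11_m0 : C.Mem R (C.gen R 522673715590561479879743397015195972796416) 522673715590561479879743397015195972796416 := GC.Mem.gen GT11_in866.top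
theorem pt867e : ∃ x, A0.Rep pt867c x := act4_rep e18 (by decide) (by decide) (c := 0x1) (by decide +kernel)
noncomputable def pt867 := Classical.choose pt867e
theorem pt867r : A0.Rep pt867c pt867 := Classical.choose_spec pt867e
theorem pt868e : ∃ x, A1.Rep pt868c x := (act4_rep e18 (by decide) (by decide) (c := 0x4) (by decide +kernel)).elim fun x hx => ⟨_, x, hx, rfl⟩
noncomputable def pt868 := Classical.choose pt868e
theorem pt868r : A1.Rep pt868c pt868 := Classical.choose_spec pt868e
theorem GT11_s0_871 : C.Mem R (C.gen R 522673715590561479879743397015195972796416) 2613368577952807399398716985075979863982080 := GT11_m0.slp' chk870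
theorem GT11_c0i : C.Mem R (C.gen R 522673715590561479879743397015195972796416) 2090694862362245919518973588060783891185664 := GT11_s0_871.sub chk872
theorem GT11_c0m : C.Mem R (C.gen R 2090694862362245919518973588060783891185664) 2090694862362245919518973588060783891185664 := GT11_c0i.gen
theorem fx874 : C.gen R 2090694862362245919518973588060783891185664 ≤ stabilizer _ pt867 := Act.fix_sound GT11_c0i.top pt867r chk873
theorem cov881 : Cov (C.gen R 522673715590561479879743397015195972796416) (C.wds R [0]) pt867 3 := Act.cov_of_seen (Act.pieces_sound GT11_s0_871 GT11_s0_871.top pt867r chk879) chk880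
theorem GT11_c1i : C.Mem R (C.gen R 2090694862362245919518973588060783891185664) 0 := GT11_c0m.sub chk882
theorem GT11_c1m : C.Mem R (C.gen R 0) 0 := GT11_c1i.gen
theorem fx884 : C.gen R 0 ≤ stabilizer _ pt868 := Act.fix_sound GT11_c1i.top pt868r chk883
theorem cov891 : Cov (C.gen R 2090694862362245919518973588060783891185664) (C.wds R [0]) pt868 16 := Act.cov_of_seen (Act.pieces_sound GT11_c0m GT11_c0m.top pt868r chk889) chk890
theorem GT11_lb2 : 1 ≤ Nat.card (C.gen R 0) := Nat.card_pos
theorem GT11_lo1 : 16 * Nat.card (C.gen R 0) ≤ Nat.card (C.gen R 2090694862362245919518973588060783891185664) := cov891.low le_rfl (GC.wds_zero _) GT11_c1i.gen_le fx884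
theorem GT11_lb1 : 16 ≤ Nat.card (C.gen R 2090694862362245919518973588060783891185664) := low_step GT11_lo1 GT11_lb2 (by decide +kernel)
theorem GT11_lo0 : 3 * Nat.card (C.gen R 2090694862362245919518973588060783891185664) ≤ Nat.card (C.gen R 522673715590561479879743397015195972796416) := cov881.low le_rfl (GC.wds_zero _) GT11_c0i.gen_le fx874
theorem GT11_lb0 : 48 ≤ Nat.card (C.gen R 522673715590561479879743397015195972796416) := low_step GT11_lo0 GT11_lb1 (by decide +kernel)
theorem G_T11c : ∀ τ ∈ (C.gen R 522673715590561479879743397015195972796416), C.el (R 79) * τ * (C.el (R 79))⁻¹ ∈ (C.gen R 8937930022191104) := H_s0_186.conjA (G_I.get (i := 79) (by decide +kernel)).top GT11_in866.top chk893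
theorem cov902 : Cov (C.gen R 522673715590561479879743397015195972796416) (C.wds R (List.map Prod.fst (l894))) pt183 80 := Act.cov_of_seen (Act.pieces_sound GT11_s0_871 H_s0_186.top pt183r chk900) chk901
theorem G_T11d : Dec (C.gen R 8937930022191104) (C.gen R 522673715590561479879743397015195972796416) (C.wds R (List.map Prod.fst (l894))) (C.gen R 1188422437713965063903159255040) := cov902.dec GT11_in866.gen_le (GC.wds_sub H_s0_186 chk903) GK_in237.gen_le fx288 (up_low H_ub GK_lb0 (by decide +kernel))
theorem G_T11p : ∀ x ∈ DC1 (C.gen R 8937930022191104) (C.el (R 79)), x * C.el (R 22) ∈ DCs (C.gen R 8937930022191104) (C.els R 79228161333672716876136841216) := GC.dc_piece' G_T11d G_T11c G_Kc (H_s0_186.dcRel G_I.top (G_I.get (i := 79) (by decide +kernel)).top (G_m1.get (i := 22) (by decide +kernel)).top chk895)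
theorem G_T11u : Nat.card (C.gen R 8937930022191104) ≤ 135 * Nat.card (C.gen R 522673715590561479879743397015195972796416) := up_low H_ub GT11_lb0 (by decide +kernel)
theorem G_T11n : (DC1 (C.gen R 8937930022191104) (C.el (R 79))).ncard ≤ Nat.card (C.gen R 8937930022191104) * 135 := ncard_DC1 GT11_in866.gen_le G_T11c G_T11u
theorem GT12_in910 : C.Mem R (C.gen R 8937930022191104) 2787593149816327892691964784081045188247552 := H_s0_186.slp' chk909
theorem GT12_m0 : C.Mem R (C.gen R 2787593149816327892691964784081045188247552) 2787593149816327892691964784081045188247552 := GC.Mem.gen GT12_in910.top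
theorem pt911e : ∃ x, A1.Rep pt911c x := (act4_rep e18 (by decide) (by decide) (c := 0x4) (by decide +kernel)).elim fun x hx => ⟨_, x, hx, rfl⟩
noncomputable def pt911 := Classical.choose pt911e
theorem pt911r : A1.Rep pt911c pt911 := Classical.choose_spec pt911e
theorem pt912e : ∃ x, A0.Rep pt912c x := act4_rep e18 (by decide) (by decide) (c := 0x1) (by decide +kernel)
noncomputable def pt912 := Classical.choose pt912e
theorem pt912r : A0.Rep pt912c pt912 := Classical.choose_spec pt912e
theorem GT12_s0_915 : C.Mem R (C.gen R 2787593149816327892691964784081045188247552) 8362779449448983678075894352243135564742656 := GT12_m0.slp' chk914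
theorem GT12_c0i : C.Mem R (C.gen R 2787593149816327892691964784081045188247552) 5575186299632655785383929568162090376495104 := GT12_s0_915.sub chk916
theorem GT12_c0m : C.Mem R (C.gen R 5575186299632655785383929568162090376495104) 5575186299632655785383929568162090376495104 := GT12_c0i.gen
theorem fx918 : C.gen R 5575186299632655785383929568162090376495104 ≤ stabilizer _ pt911 := Act.fix_sound GT12_c0i.top pt911r chk917
theorem cov925 : Cov (C.gen R 2787593149816327892691964784081045188247552) (C.wds R [0]) pt911 2 := Act.cov_of_seen (Act.pieces_sound GT12_s0_915 GT12_s0_915.top pt911r chk923) chk924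
theorem GT12_c1i : C.Mem R (C.gen R 5575186299632655785383929568162090376495104) 0 := GT12_c0m.sub chk926
theorem GT12_c1m : C.Mem R (C.gen R 0) 0 := GT12_c1i.gen
theorem fx928 : C.gen R 0 ≤ stabilizer _ pt912 := Act.fix_sound GT12_c1i.top pt912r chk927
theorem cov935 : Cov (C.gen R 5575186299632655785383929568162090376495104) (C.wds R [0]) pt912 3 := Act.cov_of_seen (Act.pieces_sound GT12_c0m GT12_c0m.top pt912r chk933) chk934
theorem GT12_lb2 : 1 ≤ Nat.card (C.gen R 0) := Nat.card_pos
theorem GT12_lo1 : 3 * Nat.card (C.gen R 0) ≤ Nat.card (C.gen R 5575186299632655785383929568162090376495104) := cov935.low le_rfl (GC.wds_zero _) GT12_c1i.gen_le fx928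
theorem GT12_lb1 : 3 ≤ Nat.card (C.gen R 5575186299632655785383929568162090376495104) := low_step GT12_lo1 GT12_lb2 (by decide +kernel)
theorem GT12_lo0 : 2 * Nat.card (C.gen R 5575186299632655785383929568162090376495104) ≤ Nat.card (C.gen R 2787593149816327892691964784081045188247552) := cov925.low le_rfl (GC.wds_zero _) GT12_c0i.gen_le fx918
theorem GT12_lb0 : 6 ≤ Nat.card (C.gen R 2787593149816327892691964784081045188247552) := low_step GT12_lo0 GT12_lb1 (by decide +kernel)
theorem G_T12c : ∀ τ ∈ (C.gen R 2787593149816327892691964784081045188247552), C.el (R 80) * τ * (C.el (R 80))⁻¹ ∈ (C.gen R 8937930022191104) := H_s0_186.conjA (G_I.get (i := 80) (by decide +kernel)).top GT12_in910.top chk937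
theorem cov946 : Cov (C.gen R 2787593149816327892691964784081045188247552) (C.wds R (List.map Prod.fst (l938))) pt183 80 := Act.cov_of_seen (Act.pieces_sound GT12_s0_915 H_s0_186.top pt183r chk944) chk945
theorem G_T12d : Dec (C.gen R 8937930022191104) (C.gen R 2787593149816327892691964784081045188247552) (C.wds R (List.map Prod.fst (l938))) (C.gen R 1188422437713965063903159255040) := cov946.dec GT12_in910.gen_le (GC.wds_sub H_s0_186 chk947) GK_in237.gen_le fx288 (up_low H_ub GK_lb0 (by decide +kernel))
theorem G_T12p : ∀ x ∈ DC1 (C.gen R 8937930022191104) (C.el (R 80)), x * C.el (R 22) ∈ DCs (C.gen R 8937930022191104) (C.els R 79228161333672716876136841216) := GC.dc_piece' G_T12d G_T12c G_Kc (H_s0_186.dcRel G_I.top (G_I.get (i := 80) (by decide +kernel)).top (G_m1.get (i := 22) (by decide +kernel)).top chk939)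
theorem G_T12u : Nat.card (C.gen R 8937930022191104) ≤ 1080 * Nat.card (C.gen R 2787593149816327892691964784081045188247552) := up_low H_ub GT12_lb0 (by decide +kernel)
theorem G_T12n : (DC1 (C.gen R 8937930022191104) (C.el (R 80))).ncard ≤ Nat.card (C.gen R 8937930022191104) * 1080 := ncard_DC1 GT12_in910.gen_le G_T12c G_T12u
theorem GT13_in954 : C.Mem R (C.gen R 8937930022191104) 11150372599265311570767859136324180752990208 := H_s0_186.slp' chk953
theorem GT13_m0 : C.Mem R (C.gen R 11150372599265311570767859136324180752990208) 11150372599265311570767859136324180752990208 := GC.Mem.gen GT13_in954.top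
theorem pt955e : ∃ x, A1.Rep pt955c x := (act4_rep e18 (by decide) (by decide) (c := 0x4) (by decide +kernel)).elim fun x hx => ⟨_, x, hx, rfl⟩
noncomputable def pt955 := Classical.choose pt955e
theorem pt955r : A1.Rep pt955c pt955 := Classical.choose_spec pt955e
theorem pt956e : ∃ x, A0.Rep pt956c x := act4_rep e18 (by decide) (by decide) (c := 0x1) (by decide +kernel)
noncomputable def pt956 := Classical.choose pt956e
theorem pt956r : A0.Rep pt956c pt956 := Classical.choose_spec pt956e
theorem GT13_s0_959 : C.Mem R (C.gen R 11150372599265311570767859136324180752990208) 33451117797795934712303577408972542258970624 := GT13_m0.slp' chk958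
theorem GT13_c0i : C.Mem R (C.gen R 11150372599265311570767859136324180752990208) 22300745198530623141535718272648361505980416 := GT13_s0_959.sub chk960
theorem GT13_c0m : C.Mem R (C.gen R 22300745198530623141535718272648361505980416) 22300745198530623141535718272648361505980416 := GT13_c0i.gen
theorem fx962 : C.gen R 22300745198530623141535718272648361505980416 ≤ stabilizer _ pt955 := Act.fix_sound GT13_c0i.top pt955r chk961
theorem cov969 : Cov (C.gen R 11150372599265311570767859136324180752990208) (C.wds R [0]) pt955 2 := Act.cov_of_seen (Act.pieces_sound GT13_s0_959 GT13_s0_959.top pt955r chk967) chk968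
theorem GT13_c1i : C.Mem R (C.gen R 22300745198530623141535718272648361505980416) 0 := GT13_c0m.sub chk970
theorem GT13_c1m : C.Mem R (C.gen R 0) 0 := GT13_c1i.gen
theorem fx972 : C.gen R 0 ≤ stabilizer _ pt956 := Act.fix_sound GT13_c1i.top pt956r chk971
theorem cov979 : Cov (C.gen R 22300745198530623141535718272648361505980416) (C.wds R [0]) pt956 3 := Act.cov_of_seen (Act.pieces_sound GT13_c0m GT13_c0m.top pt956r chk977) chk978
theorem GT13_lb2 : 1 ≤ Nat.card (C.gen R 0) := Nat.card_pos
theorem GT13_lo1 : 3 * Nat.card (C.gen R 0) ≤ Nat.card (C.gen R 22300745198530623141535718272648361505980416) := cov979.low le_rfl (GC.wds_zero _) GT13_c1i.gen_le fx972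
theorem GT13_lb1 : 3 ≤ Nat.card (C.gen R 22300745198530623141535718272648361505980416) := low_step GT13_lo1 GT13_lb2 (by decide +kernel)
theorem GT13_lo0 : 2 * Nat.card (C.gen R 22300745198530623141535718272648361505980416) ≤ Nat.card (C.gen R 11150372599265311570767859136324180752990208) := cov969.low le_rfl (GC.wds_zero _) GT13_c0i.gen_le fx962
theorem GT13_lb0 : 6 ≤ Nat.card (C.gen R 11150372599265311570767859136324180752990208) := low_step GT13_lo0 GT13_lb1 (by decide +kernel)
theorem G_T13c : ∀ τ ∈ (C.gen R 11150372599265311570767859136324180752990208), C.el (R 81) * τ * (C.el (R 81))⁻¹ ∈ (C.gen R 8937930022191104) := H_s0_186.conjA (G_I.get (i := 81) (by decide +kernel)).top GT13_in954.top chk981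
theorem cov990 : Cov (C.gen R 11150372599265311570767859136324180752990208) (C.wds R (List.map Prod.fst (l982))) pt183 80 := Act.cov_of_seen (Act.pieces_sound GT13_s0_959 H_s0_186.top pt183r chk988) chk989
theorem G_T13d : Dec (C.gen R 8937930022191104) (C.gen R 11150372599265311570767859136324180752990208) (C.wds R (List.map Prod.fst (l982))) (C.gen R 1188422437713965063903159255040) := cov990.dec GT13_in954.gen_le (GC.wds_sub H_s0_186 chk991) GK_in237.gen_le fx288 (up_low H_ub GK_lb0 (by decide +kernel))
theorem G_T13p : ∀ x ∈ DC1 (C.gen R 8937930022191104) (C.el (R 81)), x * C.el (R 22) ∈ DCs (C.gen R 8937930022191104) (C.els R 79228161333672716876136841216) := GC.dc_piece' G_T13d G_T13c G_Kc (H_s0_186.dcRel G_I.top (G_I.get (i := 81) (by decide +kernel)).top (G_m1.get (i := 22) (by decide +kernel)).top chk983)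
theorem G_T13u : Nat.card (C.gen R 8937930022191104) ≤ 1080 * Nat.card (C.gen R 11150372599265311570767859136324180752990208) := up_low H_ub GT13_lb0 (by decide +kernel)
theorem G_T13n : (DC1 (C.gen R 8937930022191104) (C.el (R 81))).ncard ≤ Nat.card (C.gen R 8937930022191104) * 1080 := ncard_DC1 GT13_in954.gen_le G_T13c G_T13u
theorem GT14_in1006 : C.Mem R (C.gen R 8937930022191104) 133804471191183738849214309635890169035882496 := H_s0_186.slp' chk1005
theorem GT14_m0 : C.Mem R (C.gen R 133804471191183738849214309635890169035882496) 133804471191183738849214309635890169035882496 := GC.Mem.gen GT14_in1006.top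
theorem pt1007e : ∃ x, A1.Rep pt1007c x := (act4_rep e18 (by decide) (by decide) (c := 0x4) (by decide +kernel)).elim fun x hx => ⟨_, x, hx, rfl⟩
noncomputable def pt1007 := Classical.choose pt1007e
theorem pt1007r : A1.Rep pt1007c pt1007 := Classical.choose_spec pt1007e
theorem pt1008e : ∃ x, A0.Rep pt1008c x := act4_rep e18 (by decide) (by decide) (c := 0x1) (by decide +kernel)
noncomputable def pt1008 := Classical.choose pt1008e
theorem pt1008r : A0.Rep pt1008c pt1008 := Classical.choose_spec pt1008e
theorem GT14_s0_1011 : C.Mem R (C.gen R 133804471191183738849214309635890169035882496) 312210432779428723981500055817077061083725824 := GT14_m0.slp' chk1010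
theorem GT14_c0i : C.Mem R (C.gen R 133804471191183738849214309635890169035882496) 178405961588244985132285746181186892047843328 := GT14_s0_1011.sub chk1012
theorem GT14_c0m : C.Mem R (C.gen R 178405961588244985132285746181186892047843328) 178405961588244985132285746181186892047843328 := GT14_c0i.gen
theorem fx1014 : C.gen R 178405961588244985132285746181186892047843328 ≤ stabilizer _ pt1007 := Act.fix_sound GT14_c0i.top pt1007r chk1013
theorem cov1021 : Cov (C.gen R 133804471191183738849214309635890169035882496) (C.wds R [0]) pt1007 2 := Act.cov_of_seen (Act.pieces_sound GT14_s0_1011 GT14_s0_1011.top pt1007r chk1019) chk1020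
theorem GT14_c1i : C.Mem R (C.gen R 178405961588244985132285746181186892047843328) 0 := GT14_c0m.sub chk1022
theorem GT14_c1m : C.Mem R (C.gen R 0) 0 := GT14_c1i.gen
theorem fx1024 : C.gen R 0 ≤ stabilizer _ pt1008 := Act.fix_sound GT14_c1i.top pt1008r chk1023
theorem cov1031 : Cov (C.gen R 178405961588244985132285746181186892047843328) (C.wds R [0]) pt1008 3 := Act.cov_of_seen (Act.pieces_sound GT14_c0m GT14_c0m.top pt1008r chk1029) chk1030
theorem GT14_lb2 : 1 ≤ Nat.card (C.gen R 0) := Nat.card_pos
theorem GT14_lo1 : 3 * Nat.card (C.gen R 0) ≤ Nat.card (C.gen R 178405961588244985132285746181186892047843328) := cov1031.low le_rfl (GC.wds_zero _) GT14_c1i.gen_le fx1024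
theorem GT14_lb1 : 3 ≤ Nat.card (C.gen R 178405961588244985132285746181186892047843328) := low_step GT14_lo1 GT14_lb2 (by decide +kernel)
theorem GT14_lo0 : 2 * Nat.card (C.gen R 178405961588244985132285746181186892047843328) ≤ Nat.card (C.gen R 133804471191183738849214309635890169035882496) := cov1021.low le_rfl (GC.wds_zero _) GT14_c0i.gen_le fx1014
theorem GT14_lb0 : 6 ≤ Nat.card (C.gen R 133804471191183738849214309635890169035882496) := low_step GT14_lo0 GT14_lb1 (by decide +kernel)
theorem G_T14c : ∀ τ ∈ (C.gen R 133804471191183738849214309635890169035882496), C.el (R 82) * τ * (C.el (R 82))⁻¹ ∈ (C.gen R 8937930022191104) := H_s0_186.conjA (G_I.get (i := 82) (by decide +kernel)).top GT14_in1006.top chk1033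
theorem cov1042 : Cov (C.gen R 133804471191183738849214309635890169035882496) (C.wds R (List.map Prod.fst (l1034))) pt183 80 := Act.cov_of_seen (Act.pieces_sound GT14_s0_1011 H_s0_186.top pt183r chk1040) chk1041
theorem G_T14d : Dec (C.gen R 8937930022191104) (C.gen R 133804471191183738849214309635890169035882496) (C.wds R (List.map Prod.fst (l1034))) (C.gen R 1188422437713965063903159255040) := cov1042.dec GT14_in1006.gen_le (GC.wds_sub H_s0_186 chk1043) GK_in237.gen_le fx288 (up_low H_ub GK_lb0 (by decide +kernel))
theorem G_T14p : ∀ x ∈ DC1 (C.gen R 8937930022191104) (C.el (R 82)), x * C.el (R 22) ∈ DCs (C.gen R 8937930022191104) (C.els R 79228161333672716876136841216) := GC.dc_piece' G_T14d G_T14c G_Kc (H_s0_186.dcRel G_I.top (G_I.get (i := 82) (by decide +kernel)).top (G_m1.get (i := 22) (by decide +kernel)).top chk1035)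
theorem G_T14u : Nat.card (C.gen R 8937930022191104) ≤ 1080 * Nat.card (C.gen R 133804471191183738849214309635890169035882496) := up_low H_ub GT14_lb0 (by decide +kernel)
theorem G_T14n : (DC1 (C.gen R 8937930022191104) (C.el (R 82))).ncard ≤ Nat.card (C.gen R 8937930022191104) * 1080 := ncard_DC1 GT14_in1006.gen_le G_T14c G_T14u
theorem GT15_in1046 : C.Mem R (C.gen R 8937930022191104) 356811923176489970264571492362373784095686656 := H_s0_186.slp' chk1045
theorem GT15_m0 : C.Mem R (C.gen R 356811923176489970264571492362373784095686656) 356811923176489970264571492362373784095686656 := GC.Mem.gen GT15_in1046.top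
theorem pt1047e : ∃ x, A0.Rep pt1047c x := act4_rep e18 (by decide) (by decide) (c := 0x1) (by decide +kernel)
noncomputable def pt1047 := Classical.choose pt1047e
theorem pt1047r : A0.Rep pt1047c pt1047 := Classical.choose_spec pt1047e
theorem GT15_c0i : C.Mem R (C.gen R 356811923176489970264571492362373784095686656) 0 := GT15_m0.sub chk1048
theorem GT15_c0m : C.Mem R (C.gen R 0) 0 := GT15_c0i.gen
theorem fx1050 : C.gen R 0 ≤ stabilizer _ pt1047 := Act.fix_sound GT15_c0i.top pt1047r chk1049
theorem cov1057 : Cov (C.gen R 356811923176489970264571492362373784095686656) (C.wds R [0]) pt1047 3 := Act.cov_of_seen (Act.pieces_sound GT15_m0 GT15_m0.top pt1047r chk1055) chk1056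
theorem GT15_lb1 : 1 ≤ Nat.card (C.gen R 0) := Nat.card_pos
theorem GT15_lo0 : 3 * Nat.card (C.gen R 0) ≤ Nat.card (C.gen R 356811923176489970264571492362373784095686656) := cov1057.low le_rfl (GC.wds_zero _) GT15_c0i.gen_le fx1050
theorem GT15_lb0 : 3 ≤ Nat.card (C.gen R 356811923176489970264571492362373784095686656) := low_step GT15_lo0 GT15_lb1 (by decide +kernel)
theorem G_T15c : ∀ τ ∈ (C.gen R 356811923176489970264571492362373784095686656), C.el (R 83) * τ * (C.el (R 83))⁻¹ ∈ (C.gen R 8937930022191104) := H_s0_186.conjA (G_I.get (i := 83) (by decide +kernel)).top GT15_in1046.top chk1059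
theorem cov1072 : Cov (C.gen R 356811923176489970264571492362373784095686656) (C.wds R (List.map Prod.fst (l1060))) pt183 80 := Act.cov_of_seen (Act.pieces_sound GT15_m0 H_s0_186.top pt183r chk1070) chk1071
theorem G_T15d : Dec (C.gen R 8937930022191104) (C.gen R 356811923176489970264571492362373784095686656) (C.wds R (List.map Prod.fst (l1060))) (C.gen R 1188422437713965063903159255040) := cov1072.dec GT15_in1046.gen_le (GC.wds_sub H_s0_186 chk1073) GK_in237.gen_le fx288 (up_low H_ub GK_lb0 (by decide +kernel))
theorem G_T15p : ∀ x ∈ DC1 (C.gen R 8937930022191104) (C.el (R 83)), x * C.el (R 22) ∈ DCs (C.gen R 8937930022191104) (C.els R 79228161333672716876136841216) := GC.dc_piece' G_T15d G_T15c G_Kc (H_s0_186.dcRel G_I.top (G_I.get (i := 83) (by decide +kernel)).top (G_m1.get (i := 22) (by decide +kernel)).top chk1063)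
theorem G_T15u : Nat.card (C.gen R 8937930022191104) ≤ 2160 * Nat.card (C.gen R 356811923176489970264571492362373784095686656) := up_low H_ub GT15_lb0 (by decide +kernel)
theorem G_T15n : (DC1 (C.gen R 8937930022191104) (C.el (R 83))).ncard ≤ Nat.card (C.gen R 8937930022191104) * 2160 := ncard_DC1 GT15_in1046.gen_le G_T15c G_T15u
theorem GT16_in1080 : C.Mem R (C.gen R 8937930022191104) 713623846352979940529142984724747568191373312 := H_s0_186.slp' chk1079
theorem GT16_m0 : C.Mem R (C.gen R 713623846352979940529142984724747568191373312) 713623846352979940529142984724747568191373312 := GC.Mem.gen GT16_in1080.top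
theorem pt1081e : ∃ x, A1.Rep pt1081c x := (act4_rep e18 (by decide) (by decide) (c := 0x4) (by decide +kernel)).elim fun x hx => ⟨_, x, hx, rfl⟩
noncomputable def pt1081 := Classical.choose pt1081e
theorem pt1081r : A1.Rep pt1081c pt1081 := Classical.choose_spec pt1081e
theorem pt1082e : ∃ x, A0.Rep pt1082c x := act4_rep e18 (by decide) (by decide) (c := 0x1) (by decide +kernel)
noncomputable def pt1082 := Classical.choose pt1082e
theorem pt1082r : A0.Rep pt1082c pt1082 := Classical.choose_spec pt1082e
theorem GT16_s0_1085 : C.Mem R (C.gen R 713623846352979940529142984724747568191373312) 2140871539058939821587428954174242704574119936 := GT16_m0.slp' chk1084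
theorem GT16_c0i : C.Mem R (C.gen R 713623846352979940529142984724747568191373312) 1427247692705959881058285969449495136382746624 := GT16_s0_1085.sub chk1086
theorem GT16_c0m : C.Mem R (C.gen R 1427247692705959881058285969449495136382746624) 1427247692705959881058285969449495136382746624 := GT16_c0i.gen
theorem fx1088 : C.gen R 1427247692705959881058285969449495136382746624 ≤ stabilizer _ pt1081 := Act.fix_sound GT16_c0i.top pt1081r chk1087
theorem cov1095 : Cov (C.gen R 713623846352979940529142984724747568191373312) (C.wds R [0]) pt1081 2 := Act.cov_of_seen (Act.pieces_sound GT16_s0_1085 GT16_s0_1085.top pt1081r chk1093) chk1094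
theorem GT16_c1i : C.Mem R (C.gen R 1427247692705959881058285969449495136382746624) 0 := GT16_c0m.sub chk1096
theorem GT16_c1m : C.Mem R (C.gen R 0) 0 := GT16_c1i.gen
theorem fx1098 : C.gen R 0 ≤ stabilizer _ pt1082 := Act.fix_sound GT16_c1i.top pt1082r chk1097
theorem cov1105 : Cov (C.gen R 1427247692705959881058285969449495136382746624) (C.wds R [0]) pt1082 3 := Act.cov_of_seen (Act.pieces_sound GT16_c0m GT16_c0m.top pt1082r chk1103) chk1104
theorem GT16_lb2 : 1 ≤ Nat.card (C.gen R 0) := Nat.card_pos
theorem GT16_lo1 : 3 * Nat.card (C.gen R 0) ≤ Nat.card (C.gen R 1427247692705959881058285969449495136382746624) := cov1105.low le_rfl (GC.wds_zero _) GT16_c1i.gen_le fx1098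
theorem GT16_lb1 : 3 ≤ Nat.card (C.gen R 1427247692705959881058285969449495136382746624) := low_step GT16_lo1 GT16_lb2 (by decide +kernel)
theorem GT16_lo0 : 2 * Nat.card (C.gen R 1427247692705959881058285969449495136382746624) ≤ Nat.card (C.gen R 713623846352979940529142984724747568191373312) := cov1095.low le_rfl (GC.wds_zero _) GT16_c0i.gen_le fx1088
theorem GT16_lb0 : 6 ≤ Nat.card (C.gen R 713623846352979940529142984724747568191373312) := low_step GT16_lo0 GT16_lb1 (by decide +kernel)
theorem G_T16c : ∀ τ ∈ (C.gen R 713623846352979940529142984724747568191373312), C.el (R 84) * τ * (C.el (R 84))⁻¹ ∈ (C.gen R 8937930022191104) := H_s0_186.conjA (G_I.get (i := 84) (by decide +kernel)).top GT16_in1080.top chk1107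
theorem cov1116 : Cov (C.gen R 713623846352979940529142984724747568191373312) (C.wds R (List.map Prod.fst (l1108))) pt183 80 := Act.cov_of_seen (Act.pieces_sound GT16_s0_1085 H_s0_186.top pt183r chk1114) chk1115
theorem G_T16d : Dec (C.gen R 8937930022191104) (C.gen R 713623846352979940529142984724747568191373312) (C.wds R (List.map Prod.fst (l1108))) (C.gen R 1188422437713965063903159255040) := cov1116.dec GT16_in1080.gen_le (GC.wds_sub H_s0_186 chk1117) GK_in237.gen_le fx288 (up_low H_ub GK_lb0 (by decide +kernel))
theorem G_T16p : ∀ x ∈ DC1 (C.gen R 8937930022191104) (C.el (R 84)), x * C.el (R 22) ∈ DCs (C.gen R 8937930022191104) (C.els R 79228161333672716876136841216) := GC.dc_piece' G_T16d G_T16c G_Kc (H_s0_186.dcRel G_I.top (G_I.get (i := 84) (by decide +kernel)).top (G_m1.get (i := 22) (by decide +kernel)).top chk1109)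
theorem G_T16u : Nat.card (C.gen R 8937930022191104) ≤ 1080 * Nat.card (C.gen R 713623846352979940529142984724747568191373312) := up_low H_ub GT16_lb0 (by decide +kernel)
theorem G_T16n : (DC1 (C.gen R 8937930022191104) (C.el (R 84))).ncard ≤ Nat.card (C.gen R 8937930022191104) * 1080 := ncard_DC1 GT16_in1080.gen_le G_T16c G_T16u
theorem GT17_in1124 : C.Mem R (C.gen R 8937930022191104) 2854495385411919762116571938898990272765493248 := H_s0_186.slp' chk1123
theorem GT17_m0 : C.Mem R (C.gen R 2854495385411919762116571938898990272765493248) 2854495385411919762116571938898990272765493248 := GC.Mem.gen GT17_in1124.top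
theorem pt1125e : ∃ x, A1.Rep pt1125c x := (act4_rep e18 (by decide) (by decide) (c := 0x4) (by decide +kernel)).elim fun x hx => ⟨_, x, hx, rfl⟩
noncomputable def pt1125 := Classical.choose pt1125e
theorem pt1125r : A1.Rep pt1125c pt1125 := Classical.choose_spec pt1125e
theorem pt1126e : ∃ x, A0.Rep pt1126c x := act4_rep e18 (by decide) (by decide) (c := 0x1) (by decide +kernel)
noncomputable def pt1126 := Classical.choose pt1126e
theorem pt1126r : A0.Rep pt1126c pt1126 := Classical.choose_spec pt1126e
theorem GT17_s0_1129 : C.Mem R (C.gen R 2854495385411919762116571938898990272765493248) 8563486156235759286349715816696970818296479744 := GT17_m0.slp' chk1128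
theorem GT17_c0i : C.Mem R (C.gen R 2854495385411919762116571938898990272765493248) 5708990770823839524233143877797980545530986496 := GT17_s0_1129.sub chk1130
theorem GT17_c0m : C.Mem R (C.gen R 5708990770823839524233143877797980545530986496) 5708990770823839524233143877797980545530986496 := GT17_c0i.gen
theorem fx1132 : C.gen R 5708990770823839524233143877797980545530986496 ≤ stabilizer _ pt1125 := Act.fix_sound GT17_c0i.top pt1125r chk1131
theorem cov1139 : Cov (C.gen R 2854495385411919762116571938898990272765493248) (C.wds R [0]) pt1125 2 := Act.cov_of_seen (Act.pieces_sound GT17_s0_1129 GT17_s0_1129.top pt1125r chk1137) chk1138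
theorem GT17_c1i : C.Mem R (C.gen R 5708990770823839524233143877797980545530986496) 0 := GT17_c0m.sub chk1140
theorem GT17_c1m : C.Mem R (C.gen R 0) 0 := GT17_c1i.gen
theorem fx1142 : C.gen R 0 ≤ stabilizer _ pt1126 := Act.fix_sound GT17_c1i.top pt1126r chk1141
theorem cov1149 : Cov (C.gen R 5708990770823839524233143877797980545530986496) (C.wds R [0]) pt1126 3 := Act.cov_of_seen (Act.pieces_sound GT17_c0m GT17_c0m.top pt1126r chk1147) chk1148
theorem GT17_lb2 : 1 ≤ Nat.card (C.gen R 0) := Nat.card_pos
theorem GT17_lo1 : 3 * Nat.card (C.gen R 0) ≤ Nat.card (C.gen R 5708990770823839524233143877797980545530986496) := cov1149.low le_rfl (GC.wds_zero _) GT17_c1i.gen_le fx1142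
theorem GT17_lb1 : 3 ≤ Nat.card (C.gen R 5708990770823839524233143877797980545530986496) := low_step GT17_lo1 GT17_lb2 (by decide +kernel)
theorem GT17_lo0 : 2 * Nat.card (C.gen R 5708990770823839524233143877797980545530986496) ≤ Nat.card (C.gen R 2854495385411919762116571938898990272765493248) := cov1139.low le_rfl (GC.wds_zero _) GT17_c0i.gen_le fx1132
theorem GT17_lb0 : 6 ≤ Nat.card (C.gen R 2854495385411919762116571938898990272765493248) := low_step GT17_lo0 GT17_lb1 (by decide +kernel)
theorem G_T17c : ∀ τ ∈ (C.gen R 2854495385411919762116571938898990272765493248), C.el (R 85) * τ * (C.el (R 85))⁻¹ ∈ (C.gen R 8937930022191104) := H_s0_186.conjA (G_I.get (i := 85) (by decide +kernel)).top GT17_in1124.top chk1151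
theorem cov1160 : Cov (C.gen R 2854495385411919762116571938898990272765493248) (C.wds R (List.map Prod.fst (l1152))) pt183 80 := Act.cov_of_seen (Act.pieces_sound GT17_s0_1129 H_s0_186.top pt183r chk1158) chk1159
theorem G_T17d : Dec (C.gen R 8937930022191104) (C.gen R 2854495385411919762116571938898990272765493248) (C.wds R (List.map Prod.fst (l1152))) (C.gen R 1188422437713965063903159255040) := cov1160.dec GT17_in1124.gen_le (GC.wds_sub H_s0_186 chk1161) GK_in237.gen_le fx288 (up_low H_ub GK_lb0 (by decide +kernel))
theorem G_T17p : ∀ x ∈ DC1 (C.gen R 8937930022191104) (C.el (R 85)), x * C.el (R 22) ∈ DCs (C.gen R 8937930022191104) (C.els R 79228161333672716876136841216) := GC.dc_piece' G_T17d G_T17c G_Kc (H_s0_186.dcRel G_I.top (G_I.get (i := 85) (by decide +kernel)).top (G_m1.get (i := 22) (by decide +kernel)).top chk1153)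
theorem G_T17u : Nat.card (C.gen R 8937930022191104) ≤ 1080 * Nat.card (C.gen R 2854495385411919762116571938898990272765493248) := up_low H_ub GT17_lb0 (by decide +kernel)
theorem G_T17n : (DC1 (C.gen R 8937930022191104) (C.el (R 85))).ncard ≤ Nat.card (C.gen R 8937930022191104) * 1080 := ncard_DC1 GT17_in1124.gen_le G_T17c G_T17u
theorem GT18_in1176 : C.Mem R (C.gen R 8937930022191104) 34253944624943037145398863266787883273185918976 := H_s0_186.slp' chk1175
theorem GT18_m0 : C.Mem R (C.gen R 34253944624943037145398863266787883273185918976) 34253944624943037145398863266787883273185918976 := GC.Mem.gen GT18_in1176.top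
theorem pt1177e : ∃ x, A0.Rep pt1177c x := act4_rep e18 (by decide) (by decide) (c := 0x1) (by decide +kernel)
noncomputable def pt1177 := Classical.choose pt1177e
theorem pt1177r : A0.Rep pt1177c pt1177 := Classical.choose_spec pt1177e
theorem pt1178e : ∃ x, A1.Rep pt1178c x := (act4_rep e18 (by decide) (by decide) (c := 0x4) (by decide +kernel)).elim fun x hx => ⟨_, x, hx, rfl⟩
noncomputable def pt1178 := Classical.choose pt1178e
theorem pt1178r : A1.Rep pt1178c pt1178 := Classical.choose_spec pt1178e
theorem GT18_s0_1181 : C.Mem R (C.gen R 34253944624943037145398863266787883273185918976) 171269723124715185726994316333939416365929594880 := GT18_m0.slp' chk1180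
theorem GT18_c0i : C.Mem R (C.gen R 34253944624943037145398863266787883273185918976) 137015778499772148581595453067151533092743675904 := GT18_s0_1181.sub chk1182
theorem GT18_c0m : C.Mem R (C.gen R 137015778499772148581595453067151533092743675904) 137015778499772148581595453067151533092743675904 := GT18_c0i.gen
theorem fx1184 : C.gen R 137015778499772148581595453067151533092743675904 ≤ stabilizer _ pt1177 := Act.fix_sound GT18_c0i.top pt1177r chk1183
theorem cov1191 : Cov (C.gen R 34253944624943037145398863266787883273185918976) (C.wds R [0]) pt1177 3 := Act.cov_of_seen (Act.pieces_sound GT18_s0_1181 GT18_s0_1181.top pt1177r chk1189) chk1190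
theorem GT18_c1i : C.Mem R (C.gen R 137015778499772148581595453067151533092743675904) 0 := GT18_c0m.sub chk1192
theorem GT18_c1m : C.Mem R (C.gen R 0) 0 := GT18_c1i.gen
theorem fx1194 : C.gen R 0 ≤ stabilizer _ pt1178 := Act.fix_sound GT18_c1i.top pt1178r chk1193
theorem cov1201 : Cov (C.gen R 137015778499772148581595453067151533092743675904) (C.wds R [0]) pt1178 4 := Act.cov_of_seen (Act.pieces_sound GT18_c0m GT18_c0m.top pt1178r chk1199) chk1200
theorem GT18_lb2 : 1 ≤ Nat.card (C.gen R 0) := Nat.card_pos
theorem GT18_lo1 : 4 * Nat.card (C.gen R 0) ≤ Nat.card (C.gen R 137015778499772148581595453067151533092743675904) := cov1201.low le_rfl (GC.wds_zero _) GT18_c1i.gen_le fx1194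
theorem GT18_lb1 : 4 ≤ Nat.card (C.gen R 137015778499772148581595453067151533092743675904) := low_step GT18_lo1 GT18_lb2 (by decide +kernel)
theorem GT18_lo0 : 3 * Nat.card (C.gen R 137015778499772148581595453067151533092743675904) ≤ Nat.card (C.gen R 34253944624943037145398863266787883273185918976) := cov1191.low le_rfl (GC.wds_zero _) GT18_c0i.gen_le fx1184
theorem GT18_lb0 : 12 ≤ Nat.card (C.gen R 34253944624943037145398863266787883273185918976) := low_step GT18_lo0 GT18_lb1 (by decide +kernel)
theorem G_T18c : ∀ τ ∈ (C.gen R 34253944624943037145398863266787883273185918976), C.el (R 86) * τ * (C.el (R 86))⁻¹ ∈ (C.gen R 8937930022191104) := H_s0_186.conjA (G_I.get (i := 86) (by decide +kernel)).top GT18_in1176.top chk1203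
theorem cov1212 : Cov (C.gen R 34253944624943037145398863266787883273185918976) (C.wds R (List.map Prod.fst (l1204))) pt183 80 := Act.cov_of_seen (Act.pieces_sound GT18_s0_1181 H_s0_186.top pt183r chk1210) chk1211
theorem G_T18d : Dec (C.gen R 8937930022191104) (C.gen R 34253944624943037145398863266787883273185918976) (C.wds R (List.map Prod.fst (l1204))) (C.gen R 1188422437713965063903159255040) := cov1212.dec GT18_in1176.gen_le (GC.wds_sub H_s0_186 chk1213) GK_in237.gen_le fx288 (up_low H_ub GK_lb0 (by decide +kernel))
theorem G_T18p : ∀ x ∈ DC1 (C.gen R 8937930022191104) (C.el (R 86)), x * C.el (R 22) ∈ DCs (C.gen R 8937930022191104) (C.els R 79228161333672716876136841216) := GC.dc_piece' G_T18d G_T18c G_Kc (H_s0_186.dcRel G_I.top (G_I.get (i := 86) (by decide +kernel)).top (G_m1.get (i := 22) (by decide +kernel)).top chk1205)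
theorem G_T18u : Nat.card (C.gen R 8937930022191104) ≤ 540 * Nat.card (C.gen R 34253944624943037145398863266787883273185918976) := up_low H_ub GT18_lb0 (by decide +kernel)
theorem G_T18n : (DC1 (C.gen R 8937930022191104) (C.el (R 86))).ncard ≤ Nat.card (C.gen R 8937930022191104) * 540 := ncard_DC1 GT18_in1176.gen_le G_T18c G_T18u
theorem GT19_in1216 : C.Mem R (C.gen R 8937930022191104) 182687704666362864775460604089535377456991567872 := H_s0_186.slp' chk1215
theorem GT19_m0 : C.Mem R (C.gen R 182687704666362864775460604089535377456991567872) 182687704666362864775460604089535377456991567872 := GC.Mem.gen GT19_in1216.top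
theorem pt1217e : ∃ x, A1.Rep pt1217c x := (act4_rep e18 (by decide) (by decide) (c := 0x4) (by decide +kernel)).elim fun x hx => ⟨_, x, hx, rfl⟩
noncomputable def pt1217 := Classical.choose pt1217e
theorem pt1217r : A1.Rep pt1217c pt1217 := Classical.choose_spec pt1217e
theorem pt1218e : ∃ x, A0.Rep pt1218c x := act4_rep e18 (by decide) (by decide) (c := 0x1) (by decide +kernel)
noncomputable def pt1218 := Classical.choose pt1218e
theorem pt1218r : A0.Rep pt1218c pt1218 := Classical.choose_spec pt1218e
theorem GT19_s0_1221 : C.Mem R (C.gen R 182687704666362864775460604089535377456991567872) 548063113999088594326381812268606132370974703616 := GT19_m0.slp' chk1220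
theorem GT19_c0i : C.Mem R (C.gen R 182687704666362864775460604089535377456991567872) 365375409332725729550921208179070754913983135744 := GT19_s0_1221.sub chk1222
theorem GT19_c0m : C.Mem R (C.gen R 365375409332725729550921208179070754913983135744) 365375409332725729550921208179070754913983135744 := GT19_c0i.gen
theorem fx1224 : C.gen R 365375409332725729550921208179070754913983135744 ≤ stabilizer _ pt1217 := Act.fix_sound GT19_c0i.top pt1217r chk1223
theorem cov1231 : Cov (C.gen R 182687704666362864775460604089535377456991567872) (C.wds R [0]) pt1217 2 := Act.cov_of_seen (Act.pieces_sound GT19_s0_1221 GT19_s0_1221.top pt1217r chk1229) chk1230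
theorem GT19_c1i : C.Mem R (C.gen R 365375409332725729550921208179070754913983135744) 0 := GT19_c0m.sub chk1232
theorem GT19_c1m : C.Mem R (C.gen R 0) 0 := GT19_c1i.gen
theorem fx1234 : C.gen R 0 ≤ stabilizer _ pt1218 := Act.fix_sound GT19_c1i.top pt1218r chk1233
theorem cov1241 : Cov (C.gen R 365375409332725729550921208179070754913983135744) (C.wds R [0]) pt1218 3 := Act.cov_of_seen (Act.pieces_sound GT19_c0m GT19_c0m.top pt1218r chk1239) chk1240
theorem GT19_lb2 : 1 ≤ Nat.card (C.gen R 0) := Nat.card_pos
theorem GT19_lo1 : 3 * Nat.card (C.gen R 0) ≤ Nat.card (C.gen R 365375409332725729550921208179070754913983135744) := cov1241.low le_rfl (GC.wds_zero _) GT19_c1i.gen_le fx1234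
theorem GT19_lb1 : 3 ≤ Nat.card (C.gen R 365375409332725729550921208179070754913983135744) := low_step GT19_lo1 GT19_lb2 (by decide +kernel)
theorem GT19_lo0 : 2 * Nat.card (C.gen R 365375409332725729550921208179070754913983135744) ≤ Nat.card (C.gen R 182687704666362864775460604089535377456991567872) := cov1231.low le_rfl (GC.wds_zero _) GT19_c0i.gen_le fx1224
theorem GT19_lb0 : 6 ≤ Nat.card (C.gen R 182687704666362864775460604089535377456991567872) := low_step GT19_lo0 GT19_lb1 (by decide +kernel)
theorem G_T19c : ∀ τ ∈ (C.gen R 182687704666362864775460604089535377456991567872), C.el (R 87) * τ * (C.el (R 87))⁻¹ ∈ (C.gen R 8937930022191104) := H_s0_186.conjA (G_I.get (i := 87) (by decide +kernel)).top GT19_in1216.top chk1243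
theorem cov1252 : Cov (C.gen R 182687704666362864775460604089535377456991567872) (C.wds R (List.map Prod.fst (l1244))) pt183 80 := Act.cov_of_seen (Act.pieces_sound GT19_s0_1221 H_s0_186.top pt183r chk1250) chk1251
theorem G_T19d : Dec (C.gen R 8937930022191104) (C.gen R 182687704666362864775460604089535377456991567872) (C.wds R (List.map Prod.fst (l1244))) (C.gen R 1188422437713965063903159255040) := cov1252.dec GT19_in1216.gen_le (GC.wds_sub H_s0_186 chk1253) GK_in237.gen_le fx288 (up_low H_ub GK_lb0 (by decide +kernel))
theorem G_T19p : ∀ x ∈ DC1 (C.gen R 8937930022191104) (C.el (R 87)), x * C.el (R 22) ∈ DCs (C.gen R 8937930022191104) (C.els R 79228161333672716876136841216) := GC.dc_piece' G_T19d G_T19c G_Kc (H_s0_186.dcRel G_I.top (G_I.get (i := 87) (by decide +kernel)).top (G_m1.get (i := 22) (by decide +kernel)).top chk1245)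
theorem G_T19u : Nat.card (C.gen R 8937930022191104) ≤ 1080 * Nat.card (C.gen R 182687704666362864775460604089535377456991567872) := up_low H_ub GT19_lb0 (by decide +kernel)
theorem G_T19n : (DC1 (C.gen R 8937930022191104) (C.el (R 87))).ncard ≤ Nat.card (C.gen R 8937930022191104) * 1080 := ncard_DC1 GT19_in1216.gen_le G_T19c G_T19u
theorem GT20_in1264 : C.Mem R (C.gen R 8937930022191104) 730750818665451459101842416358141509827966271488 := H_s0_186.slp' chk1263
theorem GT20_m0 : C.Mem R (C.gen R 730750818665451459101842416358141509827966271488) 730750818665451459101842416358141509827966271488 := GC.Mem.gen GT20_in1264.top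
theorem pt1265e : ∃ x, A1.Rep pt1265c x := (act4_rep e18 (by decide) (by decide) (c := 0x4) (by decide +kernel)).elim fun x hx => ⟨_, x, hx, rfl⟩
noncomputable def pt1265 := Classical.choose pt1265e
theorem pt1265r : A1.Rep pt1265c pt1265 := Classical.choose_spec pt1265e
theorem pt1266e : ∃ x, A0.Rep pt1266c x := act4_rep e18 (by decide) (by decide) (c := 0x1) (by decide +kernel)
noncomputable def pt1266 := Classical.choose pt1266e
theorem pt1266r : A0.Rep pt1266c pt1266 := Classical.choose_spec pt1266e
theorem GT20_s0_1269 : C.Mem R (C.gen R 730750818665451459101842416358141509827966271488) 2192252455996354377305527249074424529483898814464 := GT20_m0.slp' chk1268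
theorem GT20_c0i : C.Mem R (C.gen R 730750818665451459101842416358141509827966271488) 1461501637330902918203684832716283019655932542976 := GT20_s0_1269.sub chk1270
theorem GT20_c0m : C.Mem R (C.gen R 1461501637330902918203684832716283019655932542976) 1461501637330902918203684832716283019655932542976 := GT20_c0i.gen
theorem fx1272 : C.gen R 1461501637330902918203684832716283019655932542976 ≤ stabilizer _ pt1265 := Act.fix_sound GT20_c0i.top pt1265r chk1271
theorem cov1279 : Cov (C.gen R 730750818665451459101842416358141509827966271488) (C.wds R [0]) pt1265 2 := Act.cov_of_seen (Act.pieces_sound GT20_s0_1269 GT20_s0_1269.top pt1265r chk1277) chk1278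
theorem GT20_c1i : C.Mem R (C.gen R 1461501637330902918203684832716283019655932542976) 0 := GT20_c0m.sub chk1280
theorem GT20_c1m : C.Mem R (C.gen R 0) 0 := GT20_c1i.gen
theorem fx1282 : C.gen R 0 ≤ stabilizer _ pt1266 := Act.fix_sound GT20_c1i.top pt1266r chk1281
theorem cov1289 : Cov (C.gen R 1461501637330902918203684832716283019655932542976) (C.wds R [0]) pt1266 3 := Act.cov_of_seen (Act.pieces_sound GT20_c0m GT20_c0m.top pt1266r chk1287) chk1288
theorem GT20_lb2 : 1 ≤ Nat.card (C.gen R 0) := Nat.card_pos
theorem GT20_lo1 : 3 * Nat.card (C.gen R 0) ≤ Nat.card (C.gen R 1461501637330902918203684832716283019655932542976) := cov1289.low le_rfl (GC.wds_zero _) GT20_c1i.gen_le fx1282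
theorem GT20_lb1 : 3 ≤ Nat.card (C.gen R 1461501637330902918203684832716283019655932542976) := low_step GT20_lo1 GT20_lb2 (by decide +kernel)
theorem GT20_lo0 : 2 * Nat.card (C.gen R 1461501637330902918203684832716283019655932542976) ≤ Nat.card (C.gen R 730750818665451459101842416358141509827966271488) := cov1279.low le_rfl (GC.wds_zero _) GT20_c0i.gen_le fx1272
theorem GT20_lb0 : 6 ≤ Nat.card (C.gen R 730750818665451459101842416358141509827966271488) := low_step GT20_lo0 GT20_lb1 (by decide +kernel)
theorem G_T20c : ∀ τ ∈ (C.gen R 730750818665451459101842416358141509827966271488), C.el (R 88) * τ * (C.el (R 88))⁻¹ ∈ (C.gen R 8937930022191104) := H_s0_186.conjA (G_I.get (i := 88) (by decide +kernel)).top GT20_in1264.top chk1291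
theorem cov1300 : Cov (C.gen R 730750818665451459101842416358141509827966271488) (C.wds R (List.map Prod.fst (l1292))) pt183 80 := Act.cov_of_seen (Act.pieces_sound GT20_s0_1269 H_s0_186.top pt183r chk1298) chk1299
theorem G_T20d : Dec (C.gen R 8937930022191104) (C.gen R 730750818665451459101842416358141509827966271488) (C.wds R (List.map Prod.fst (l1292))) (C.gen R 1188422437713965063903159255040) := cov1300.dec GT20_in1264.gen_le (GC.wds_sub H_s0_186 chk1301) GK_in237.gen_le fx288 (up_low H_ub GK_lb0 (by decide +kernel))
theorem G_T20p : ∀ x ∈ DC1 (C.gen R 8937930022191104) (C.el (R 88)), x * C.el (R 22) ∈ DCs (C.gen R 8937930022191104) (C.els R 79228161333672716876136841216) := GC.dc_piece' G_T20d G_T20c G_Kc (H_s0_186.dcRel G_I.top (G_I.get (i := 88) (by decide +kernel)).top (G_m1.get (i := 22) (by decide +kernel)).top chk1293)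
theorem G_T20u : Nat.card (C.gen R 8937930022191104) ≤ 1080 * Nat.card (C.gen R 730750818665451459101842416358141509827966271488) := up_low H_ub GT20_lb0 (by decide +kernel)
theorem G_T20n : (DC1 (C.gen R 8937930022191104) (C.el (R 88))).ncard ≤ Nat.card (C.gen R 8937930022191104) * 1080 := ncard_DC1 GT20_in1264.gen_le G_T20c G_T20u
theorem GT21_in1308 : C.Mem R (C.gen R 8937930022191104) 2923003274661805836407369665432566039311865085952 := H_s0_186.slp' chk1307
theorem GT21_m0 : C.Mem R (C.gen R 2923003274661805836407369665432566039311865085952) 2923003274661805836407369665432566039311865085952 := GC.Mem.gen GT21_in1308.top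
theorem pt1309e : ∃ x, A1.Rep pt1309c x := (act4_rep e18 (by decide) (by decide) (c := 0x4) (by decide +kernel)).elim fun x hx => ⟨_, x, hx, rfl⟩
noncomputable def pt1309 := Classical.choose pt1309e
theorem pt1309r : A1.Rep pt1309c pt1309 := Classical.choose_spec pt1309e
theorem pt1310e : ∃ x, A0.Rep pt1310c x := act4_rep e18 (by decide) (by decide) (c := 0x1) (by decide +kernel)
noncomputable def pt1310 := Classical.choose pt1310e
theorem pt1310r : A0.Rep pt1310c pt1310 := Classical.choose_spec pt1310e
theorem GT21_s0_1313 : C.Mem R (C.gen R 2923003274661805836407369665432566039311865085952) 8769009823985417509222108996297698117935595257856 := GT21_m0.slp' chk1312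
theorem GT21_c0i : C.Mem R (C.gen R 2923003274661805836407369665432566039311865085952) 5846006549323611672814739330865132078623730171904 := GT21_s0_1313.sub chk1314
theorem GT21_c0m : C.Mem R (C.gen R 5846006549323611672814739330865132078623730171904) 5846006549323611672814739330865132078623730171904 := GT21_c0i.gen
theorem fx1316 : C.gen R 5846006549323611672814739330865132078623730171904 ≤ stabilizer _ pt1309 := Act.fix_sound GT21_c0i.top pt1309r chk1315
theorem cov1323 : Cov (C.gen R 2923003274661805836407369665432566039311865085952) (C.wds R [0]) pt1309 2 := Act.cov_of_seen (Act.pieces_sound GT21_s0_1313 GT21_s0_1313.top pt1309r chk1321) chk1322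
theorem GT21_c1i : C.Mem R (C.gen R 5846006549323611672814739330865132078623730171904) 0 := GT21_c0m.sub chk1324
theorem GT21_c1m : C.Mem R (C.gen R 0) 0 := GT21_c1i.gen
theorem fx1326 : C.gen R 0 ≤ stabilizer _ pt1310 := Act.fix_sound GT21_c1i.top pt1310r chk1325
theorem cov1333 : Cov (C.gen R 5846006549323611672814739330865132078623730171904) (C.wds R [0]) pt1310 3 := Act.cov_of_seen (Act.pieces_sound GT21_c0m GT21_c0m.top pt1310r chk1331) chk1332
theorem GT21_lb2 : 1 ≤ Nat.card (C.gen R 0) := Nat.card_pos
theorem GT21_lo1 : 3 * Nat.card (C.gen R 0) ≤ Nat.card (C.gen R 5846006549323611672814739330865132078623730171904) := cov1333.low le_rfl (GC.wds_zero _) GT21_c1i.gen_le fx1326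
theorem GT21_lb1 : 3 ≤ Nat.card (C.gen R 5846006549323611672814739330865132078623730171904) := low_step GT21_lo1 GT21_lb2 (by decide +kernel)
theorem GT21_lo0 : 2 * Nat.card (C.gen R 5846006549323611672814739330865132078623730171904) ≤ Nat.card (C.gen R 2923003274661805836407369665432566039311865085952) := cov1323.low le_rfl (GC.wds_zero _) GT21_c0i.gen_le fx1316
theorem GT21_lb0 : 6 ≤ Nat.card (C.gen R 2923003274661805836407369665432566039311865085952) := low_step GT21_lo0 GT21_lb1 (by decide +kernel)
theorem G_T21c : ∀ τ ∈ (C.gen R 2923003274661805836407369665432566039311865085952), C.el (R 89) * τ * (C.el (R 89))⁻¹ ∈ (C.gen R 8937930022191104) := H_s0_186.conjA (G_I.get (i := 89) (by decide +kernel)).top GT21_in1308.top chk1335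
theorem cov1344 : Cov (C.gen R 2923003274661805836407369665432566039311865085952) (C.wds R (List.map Prod.fst (l1336))) pt183 80 := Act.cov_of_seen (Act.pieces_sound GT21_s0_1313 H_s0_186.top pt183r chk1342) chk1343
theorem G_T21d : Dec (C.gen R 8937930022191104) (C.gen R 2923003274661805836407369665432566039311865085952) (C.wds R (List.map Prod.fst (l1336))) (C.gen R 1188422437713965063903159255040) := cov1344.dec GT21_in1308.gen_le (GC.wds_sub H_s0_186 chk1345) GK_in237.gen_le fx288 (up_low H_ub GK_lb0 (by decide +kernel))
theorem G_T21p : ∀ x ∈ DC1 (C.gen R 8937930022191104) (C.el (R 89)), x * C.el (R 22) ∈ DCs (C.gen R 8937930022191104) (C.els R 79228161333672716876136841216) := GC.dc_piece' G_T21d G_T21c G_Kc (H_s0_186.dcRel G_I.top (G_I.get (i := 89) (by decide +kernel)).top (G_m1.get (i := 22) (by decide +kernel)).top chk1337)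
theorem G_T21u : Nat.card (C.gen R 8937930022191104) ≤ 1080 * Nat.card (C.gen R 2923003274661805836407369665432566039311865085952) := up_low H_ub GT21_lb0 (by decide +kernel)
theorem G_T21n : (DC1 (C.gen R 8937930022191104) (C.el (R 89))).ncard ≤ Nat.card (C.gen R 8937930022191104) * 1080 := ncard_DC1 GT21_in1308.gen_le G_T21c G_T21u
theorem GT22_in1364 : C.Mem R (C.gen R 8937930022191104) 35076039295941670036888435985190792471742381031424 := H_s0_186.slp' chk1363
theorem GT22_m0 : C.Mem R (C.gen R 35076039295941670036888435985190792471742381031424) 35076039295941670036888435985190792471742381031424 := GC.Mem.gen GT22_in1364.top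
theorem pt1365e : ∃ x, A0.Rep pt1365c x := act4_rep e18 (by decide) (by decide) (c := 0x1) (by decide +kernel)
noncomputable def pt1365 := Classical.choose pt1365e
theorem pt1365r : A0.Rep pt1365c pt1365 := Classical.choose_spec pt1365e
theorem pt1366e : ∃ x, A1.Rep pt1366c x := (act4_rep e18 (by decide) (by decide) (c := 0x4) (by decide +kernel)).elim fun x hx => ⟨_, x, hx, rfl⟩
noncomputable def pt1366 := Classical.choose pt1366e
theorem pt1366r : A1.Rep pt1366c pt1366 := Classical.choose_spec pt1366e
theorem GT22_s0_1369 : C.Mem R (C.gen R 35076039295941670036888435985190792471742381031424) 81844091690530563419406350632111849100732222406656 := GT22_m0.slp' chk1368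
theorem GT22_c0i : C.Mem R (C.gen R 35076039295941670036888435985190792471742381031424) 46768052394588893382517914646921056628989841375232 := GT22_s0_1369.sub chk1370
theorem GT22_c0m : C.Mem R (C.gen R 46768052394588893382517914646921056628989841375232) 46768052394588893382517914646921056628989841375232 := GT22_c0i.gen
theorem fx1372 : C.gen R 46768052394588893382517914646921056628989841375232 ≤ stabilizer _ pt1365 := Act.fix_sound GT22_c0i.top pt1365r chk1371
theorem cov1379 : Cov (C.gen R 35076039295941670036888435985190792471742381031424) (C.wds R [0]) pt1365 3 := Act.cov_of_seen (Act.pieces_sound GT22_s0_1369 GT22_s0_1369.top pt1365r chk1377) chk1378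
theorem GT22_c1i : C.Mem R (C.gen R 46768052394588893382517914646921056628989841375232) 0 := GT22_c0m.sub chk1380
theorem GT22_c1m : C.Mem R (C.gen R 0) 0 := GT22_c1i.gen
theorem fx1382 : C.gen R 0 ≤ stabilizer _ pt1366 := Act.fix_sound GT22_c1i.top pt1366r chk1381
theorem cov1389 : Cov (C.gen R 46768052394588893382517914646921056628989841375232) (C.wds R [0]) pt1366 2 := Act.cov_of_seen (Act.pieces_sound GT22_c0m GT22_c0m.top pt1366r chk1387) chk1388
theorem GT22_lb2 : 1 ≤ Nat.card (C.gen R 0) := Nat.card_pos
theorem GT22_lo1 : 2 * Nat.card (C.gen R 0) ≤ Nat.card (C.gen R 46768052394588893382517914646921056628989841375232) := cov1389.low le_rfl (GC.wds_zero _) GT22_c1i.gen_le fx1382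
theorem GT22_lb1 : 2 ≤ Nat.card (C.gen R 46768052394588893382517914646921056628989841375232) := low_step GT22_lo1 GT22_lb2 (by decide +kernel)
theorem GT22_lo0 : 3 * Nat.card (C.gen R 46768052394588893382517914646921056628989841375232) ≤ Nat.card (C.gen R 35076039295941670036888435985190792471742381031424) := cov1379.low le_rfl (GC.wds_zero _) GT22_c0i.gen_le fx1372
theorem GT22_lb0 : 6 ≤ Nat.card (C.gen R 35076039295941670036888435985190792471742381031424) := low_step GT22_lo0 GT22_lb1 (by decide +kernel)
theorem G_T22c : ∀ τ ∈ (C.gen R 35076039295941670036888435985190792471742381031424), C.el (R 90) * τ * (C.el (R 90))⁻¹ ∈ (C.gen R 8937930022191104) := H_s0_186.conjA (G_I.get (i := 90) (by decide +kernel)).top GT22_in1364.top chk1391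
theorem cov1400 : Cov (C.gen R 35076039295941670036888435985190792471742381031424) (C.wds R (List.map Prod.fst (l1392))) pt183 80 := Act.cov_of_seen (Act.pieces_sound GT22_s0_1369 H_s0_186.top pt183r chk1398) chk1399
theorem G_T22d : Dec (C.gen R 8937930022191104) (C.gen R 35076039295941670036888435985190792471742381031424) (C.wds R (List.map Prod.fst (l1392))) (C.gen R 1188422437713965063903159255040) := cov1400.dec GT22_in1364.gen_le (GC.wds_sub H_s0_186 chk1401) GK_in237.gen_le fx288 (up_low H_ub GK_lb0 (by decide +kernel))
theorem G_T22p : ∀ x ∈ DC1 (C.gen R 8937930022191104) (C.el (R 90)), x * C.el (R 22) ∈ DCs (C.gen R 8937930022191104) (C.els R 79228161333672716876136841216) := GC.dc_piece' G_T22d G_T22c G_Kc (H_s0_186.dcRel G_I.top (G_I.get (i := 90) (by decide +kernel)).top (G_m1.get (i := 22) (by decide +kernel)).top chk1393)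
theorem G_T22u : Nat.card (C.gen R 8937930022191104) ≤ 1080 * Nat.card (C.gen R 35076039295941670036888435985190792471742381031424) := up_low H_ub GT22_lb0 (by decide +kernel)
theorem G_T22n : (DC1 (C.gen R 8937930022191104) (C.el (R 90))).ncard ≤ Nat.card (C.gen R 8937930022191104) * 1080 := ncard_DC1 GT22_in1364.gen_le G_T22c G_T22u
theorem GT23_in1416 : C.Mem R (C.gen R 8937930022191104) 280608314367533360295107487881526339773939048251392 := H_s0_186.slp' chk1415
theorem GT23_m0 : C.Mem R (C.gen R 280608314367533360295107487881526339773939048251392) 280608314367533360295107487881526339773939048251392 := GC.Mem.gen GT23_in1416.top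
theorem pt1417e : ∃ x, A0.Rep pt1417c x := act4_rep e18 (by decide) (by decide) (c := 0x1) (by decide +kernel)
noncomputable def pt1417 := Classical.choose pt1417e
theorem pt1417r : A0.Rep pt1417c pt1417 := Classical.choose_spec pt1417e
theorem pt1418e : ∃ x, A1.Rep pt1418c x := (act4_rep e18 (by decide) (by decide) (c := 0x4) (by decide +kernel)).elim fun x hx => ⟨_, x, hx, rfl⟩
noncomputable def pt1418 := Classical.choose pt1418e
theorem pt1418r : A1.Rep pt1418c pt1418 := Classical.choose_spec pt1418e
theorem GT23_s0_1421 : C.Mem R (C.gen R 280608314367533360295107487881526339773939048251392) 654752733524244507355250805056894792805857779253248 := GT23_m0.slp' chk1420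
theorem GT23_c0i : C.Mem R (C.gen R 280608314367533360295107487881526339773939048251392) 374144419156711147060143317175368453031918731001856 := GT23_s0_1421.sub chk1422
theorem GT23_c0m : C.Mem R (C.gen R 374144419156711147060143317175368453031918731001856) 374144419156711147060143317175368453031918731001856 := GT23_c0i.gen
theorem fx1424 : C.gen R 374144419156711147060143317175368453031918731001856 ≤ stabilizer _ pt1417 := Act.fix_sound GT23_c0i.top pt1417r chk1423
theorem cov1431 : Cov (C.gen R 280608314367533360295107487881526339773939048251392) (C.wds R [0]) pt1417 3 := Act.cov_of_seen (Act.pieces_sound GT23_s0_1421 GT23_s0_1421.top pt1417r chk1429) chk1430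
theorem GT23_c1i : C.Mem R (C.gen R 374144419156711147060143317175368453031918731001856) 0 := GT23_c0m.sub chk1432
theorem GT23_c1m : C.Mem R (C.gen R 0) 0 := GT23_c1i.gen
theorem fx1434 : C.gen R 0 ≤ stabilizer _ pt1418 := Act.fix_sound GT23_c1i.top pt1418r chk1433
theorem cov1441 : Cov (C.gen R 374144419156711147060143317175368453031918731001856) (C.wds R [0]) pt1418 2 := Act.cov_of_seen (Act.pieces_sound GT23_c0m GT23_c0m.top pt1418r chk1439) chk1440
theorem GT23_lb2 : 1 ≤ Nat.card (C.gen R 0) := Nat.card_pos
theorem GT23_lo1 : 2 * Nat.card (C.gen R 0) ≤ Nat.card (C.gen R 374144419156711147060143317175368453031918731001856) := cov1441.low le_rfl (GC.wds_zero _) GT23_c1i.gen_le fx1434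
theorem GT23_lb1 : 2 ≤ Nat.card (C.gen R 374144419156711147060143317175368453031918731001856) := low_step GT23_lo1 GT23_lb2 (by decide +kernel)
theorem GT23_lo0 : 3 * Nat.card (C.gen R 374144419156711147060143317175368453031918731001856) ≤ Nat.card (C.gen R 280608314367533360295107487881526339773939048251392) := cov1431.low le_rfl (GC.wds_zero _) GT23_c0i.gen_le fx1424
theorem GT23_lb0 : 6 ≤ Nat.card (C.gen R 280608314367533360295107487881526339773939048251392) := low_step GT23_lo0 GT23_lb1 (by decide +kernel)
theorem G_T23c : ∀ τ ∈ (C.gen R 280608314367533360295107487881526339773939048251392), C.el (R 91) * τ * (C.el (R 91))⁻¹ ∈ (C.gen R 8937930022191104) := H_s0_186.conjA (G_I.get (i := 91) (by decide +kernel)).top GT23_in1416.top chk1443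
theorem cov1452 : Cov (C.gen R 280608314367533360295107487881526339773939048251392) (C.wds R (List.map Prod.fst (l1444))) pt183 80 := Act.cov_of_seen (Act.pieces_sound GT23_s0_1421 H_s0_186.top pt183r chk1450) chk1451
theorem G_T23d : Dec (C.gen R 8937930022191104) (C.gen R 280608314367533360295107487881526339773939048251392) (C.wds R (List.map Prod.fst (l1444))) (C.gen R 1188422437713965063903159255040) := cov1452.dec GT23_in1416.gen_le (GC.wds_sub H_s0_186 chk1453) GK_in237.gen_le fx288 (up_low H_ub GK_lb0 (by decide +kernel))
theorem G_T23p : ∀ x ∈ DC1 (C.gen R 8937930022191104) (C.el (R 91)), x * C.el (R 22) ∈ DCs (C.gen R 8937930022191104) (C.els R 79228161333672716876136841216) := GC.dc_piece' G_T23d G_T23c G_Kc (H_s0_186.dcRel G_I.top (G_I.get (i := 91) (by decide +kernel)).top (G_m1.get (i := 22) (by decide +kernel)).top chk1445)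
theorem G_T23u : Nat.card (C.gen R 8937930022191104) ≤ 1080 * Nat.card (C.gen R 280608314367533360295107487881526339773939048251392) := up_low H_ub GT23_lb0 (by decide +kernel)
theorem G_T23n : (DC1 (C.gen R 8937930022191104) (C.el (R 91))).ncard ≤ Nat.card (C.gen R 8937930022191104) * 1080 := ncard_DC1 GT23_in1416.gen_le G_T23c G_T23u
theorem GT24_in1489 : C.Mem R (C.gen R 8937930022191104) 5238021868193956058842006440455158342446862234025984 := H_s0_186.slp' chk1488
theorem GT24_m0 : C.Mem R (C.gen R 5238021868193956058842006440455158342446862234025984) 5238021868193956058842006440455158342446862234025984 := GC.Mem.gen GT24_in1489.top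
theorem pt1490e : ∃ x, A0.Rep pt1490c x := act4_rep e18 (by decide) (by decide) (c := 0x1) (by decide +kernel)
noncomputable def pt1490 := Classical.choose pt1490e
theorem pt1490r : A0.Rep pt1490c pt1490 := Classical.choose_spec pt1490e
theorem pt1491e : ∃ x, A1.Rep pt1491c x := (act4_rep e18 (by decide) (by decide) (c := 0x4) (by decide +kernel)).elim fun x hx => ⟨_, x, hx, rfl⟩
noncomputable def pt1491 := Classical.choose pt1491e
theorem pt1491r : A1.Rep pt1491c pt1491 := Classical.choose_spec pt1491e
theorem GT24_s0_1494 : C.Mem R (C.gen R 5238021868193956058842006440455158342446862234025984) 23196953987716091117728885664872844087978961322115072 := GT24_m0.slp' chk1493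
theorem GT24_c0i : C.Mem R (C.gen R 5238021868193956058842006440455158342446862234025984) 17958932119522135058886879224417685745532099088089088 := GT24_s0_1494.sub chk1495
theorem GT24_c0m : C.Mem R (C.gen R 17958932119522135058886879224417685745532099088089088) 17958932119522135058886879224417685745532099088089088 := GT24_c0i.gen
theorem fx1497 : C.gen R 17958932119522135058886879224417685745532099088089088 ≤ stabilizer _ pt1490 := Act.fix_sound GT24_c0i.top pt1490r chk1496
theorem cov1504 : Cov (C.gen R 5238021868193956058842006440455158342446862234025984) (C.wds R [0]) pt1490 3 := Act.cov_of_seen (Act.pieces_sound GT24_s0_1494 GT24_s0_1494.top pt1490r chk1502) chk1503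
theorem GT24_c1i : C.Mem R (C.gen R 17958932119522135058886879224417685745532099088089088) 0 := GT24_c0m.sub chk1505
theorem GT24_c1m : C.Mem R (C.gen R 0) 0 := GT24_c1i.gen
theorem fx1507 : C.gen R 0 ≤ stabilizer _ pt1491 := Act.fix_sound GT24_c1i.top pt1491r chk1506
theorem cov1514 : Cov (C.gen R 17958932119522135058886879224417685745532099088089088) (C.wds R [0]) pt1491 4 := Act.cov_of_seen (Act.pieces_sound GT24_c0m GT24_c0m.top pt1491r chk1512) chk1513
theorem GT24_lb2 : 1 ≤ Nat.card (C.gen R 0) := Nat.card_pos
theorem GT24_lo1 : 4 * Nat.card (C.gen R 0) ≤ Nat.card (C.gen R 17958932119522135058886879224417685745532099088089088) := cov1514.low le_rfl (GC.wds_zero _) GT24_c1i.gen_le fx1507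
theorem GT24_lb1 : 4 ≤ Nat.card (C.gen R 17958932119522135058886879224417685745532099088089088) := low_step GT24_lo1 GT24_lb2 (by decide +kernel)
theorem GT24_lo0 : 3 * Nat.card (C.gen R 17958932119522135058886879224417685745532099088089088) ≤ Nat.card (C.gen R 5238021868193956058842006440455158342446862234025984) := cov1504.low le_rfl (GC.wds_zero _) GT24_c0i.gen_le fx1497
theorem GT24_lb0 : 12 ≤ Nat.card (C.gen R 5238021868193956058842006440455158342446862234025984) := low_step GT24_lo0 GT24_lb1 (by decide +kernel)
theorem G_T24c : ∀ τ ∈ (C.gen R 5238021868193956058842006440455158342446862234025984), C.el (R 92) * τ * (C.el (R 92))⁻¹ ∈ (C.gen R 8937930022191104) := H_s0_186.conjA (G_I.get (i := 92) (by decide +kernel)).top GT24_in1489.top chk1516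
theorem cov1525 : Cov (C.gen R 5238021868193956058842006440455158342446862234025984) (C.wds R (List.map Prod.fst (l1517))) pt183 80 := Act.cov_of_seen (Act.pieces_sound GT24_s0_1494 H_s0_186.top pt183r chk1523) chk1524
theorem G_T24d : Dec (C.gen R 8937930022191104) (C.gen R 5238021868193956058842006440455158342446862234025984) (C.wds R (List.map Prod.fst (l1517))) (C.gen R 1188422437713965063903159255040) := cov1525.dec GT24_in1489.gen_le (GC.wds_sub H_s0_186 chk1526) GK_in237.gen_le fx288 (up_low H_ub GK_lb0 (by decide +kernel))
theorem G_T24p : ∀ x ∈ DC1 (C.gen R 8937930022191104) (C.el (R 92)), x * C.el (R 22) ∈ DCs (C.gen R 8937930022191104) (C.els R 79228161333672716876136841216) := GC.dc_piece' G_T24d G_T24c G_Kc (H_s0_186.dcRel G_I.top (G_I.get (i := 92) (by decide +kernel)).top (G_m1.get (i := 22) (by decide +kernel)).top chk1518)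
theorem G_T24u : Nat.card (C.gen R 8937930022191104) ≤ 540 * Nat.card (C.gen R 5238021868193956058842006440455158342446862234025984) := up_low H_ub GT24_lb0 (by decide +kernel)
theorem G_T24n : (DC1 (C.gen R 8937930022191104) (C.el (R 92))).ncard ≤ Nat.card (C.gen R 8937930022191104) * 540 := ncard_DC1 GT24_in1489.gen_le G_T24c G_T24u
theorem GT25_in1553 : C.Mem R (C.gen R 8937930022191104) 71835728478088540235547516897670742982128396352356352 := H_s0_186.slp' chk1552
theorem GT25_m0 : C.Mem R (C.gen R 71835728478088540235547516897670742982128396352356352) 71835728478088540235547516897670742982128396352356352 := GC.Mem.gen GT25_in1553.top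
theorem pt1554e : ∃ x, A0.Rep pt1554c x := act4_rep e18 (by decide) (by decide) (c := 0x1) (by decide +kernel)
noncomputable def pt1554 := Classical.choose pt1554e
theorem pt1554r : A0.Rep pt1554c pt1554 := Classical.choose_spec pt1554e
theorem pt1555e : ∃ x, A1.Rep pt1555c x := (act4_rep e18 (by decide) (by decide) (c := 0x4) (by decide +kernel)).elim fun x hx => ⟨_, x, hx, rfl⟩
noncomputable def pt1555 := Classical.choose pt1555e
theorem pt1555r : A1.Rep pt1555c pt1555 := Classical.choose_spec pt1555e
theorem GT25_s0_1558 : C.Mem R (C.gen R 71835728478088540235547516897670742982128396352356352) 359178642390442701177737584488353714910641981761781760 := GT25_m0.slp' chk1557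
theorem GT25_c0i : C.Mem R (C.gen R 71835728478088540235547516897670742982128396352356352) 287342913912354160942190067590682971928513585409425408 := GT25_s0_1558.sub chk1559
theorem GT25_c0m : C.Mem R (C.gen R 287342913912354160942190067590682971928513585409425408) 287342913912354160942190067590682971928513585409425408 := GT25_c0i.gen
theorem fx1561 : C.gen R 287342913912354160942190067590682971928513585409425408 ≤ stabilizer _ pt1554 := Act.fix_sound GT25_c0i.top pt1554r chk1560
theorem cov1568 : Cov (C.gen R 71835728478088540235547516897670742982128396352356352) (C.wds R [0]) pt1554 3 := Act.cov_of_seen (Act.pieces_sound GT25_s0_1558 GT25_s0_1558.top pt1554r chk1566) chk1567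
theorem GT25_c1i : C.Mem R (C.gen R 287342913912354160942190067590682971928513585409425408) 0 := GT25_c0m.sub chk1569
theorem GT25_c1m : C.Mem R (C.gen R 0) 0 := GT25_c1i.gen
theorem fx1571 : C.gen R 0 ≤ stabilizer _ pt1555 := Act.fix_sound GT25_c1i.top pt1555r chk1570
theorem cov1578 : Cov (C.gen R 287342913912354160942190067590682971928513585409425408) (C.wds R [0]) pt1555 4 := Act.cov_of_seen (Act.pieces_sound GT25_c0m GT25_c0m.top pt1555r chk1576) chk1577
theorem GT25_lb2 : 1 ≤ Nat.card (C.gen R 0) := Nat.card_pos
theorem GT25_lo1 : 4 * Nat.card (C.gen R 0) ≤ Nat.card (C.gen R 287342913912354160942190067590682971928513585409425408) := cov1578.low le_rfl (GC.wds_zero _) GT25_c1i.gen_le fx1571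
theorem GT25_lb1 : 4 ≤ Nat.card (C.gen R 287342913912354160942190067590682971928513585409425408) := low_step GT25_lo1 GT25_lb2 (by decide +kernel)
theorem GT25_lo0 : 3 * Nat.card (C.gen R 287342913912354160942190067590682971928513585409425408) ≤ Nat.card (C.gen R 71835728478088540235547516897670742982128396352356352) := cov1568.low le_rfl (GC.wds_zero _) GT25_c0i.gen_le fx1561
theorem GT25_lb0 : 12 ≤ Nat.card (C.gen R 71835728478088540235547516897670742982128396352356352) := low_step GT25_lo0 GT25_lb1 (by decide +kernel)
theorem G_T25c : ∀ τ ∈ (C.gen R 71835728478088540235547516897670742982128396352356352), C.el (R 93) * τ * (C.el (R 93))⁻¹ ∈ (C.gen R 8937930022191104) := H_s0_186.conjA (G_I.get (i := 93) (by decide +kernel)).top GT25_in1553.top chk1580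
theorem cov1589 : Cov (C.gen R 71835728478088540235547516897670742982128396352356352) (C.wds R (List.map Prod.fst (l1581))) pt183 80 := Act.cov_of_seen (Act.pieces_sound GT25_s0_1558 H_s0_186.top pt183r chk1587) chk1588
theorem G_T25d : Dec (C.gen R 8937930022191104) (C.gen R 71835728478088540235547516897670742982128396352356352) (C.wds R (List.map Prod.fst (l1581))) (C.gen R 1188422437713965063903159255040) := cov1589.dec GT25_in1553.gen_le (GC.wds_sub H_s0_186 chk1590) GK_in237.gen_le fx288 (up_low H_ub GK_lb0 (by decide +kernel))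
theorem G_T25p : ∀ x ∈ DC1 (C.gen R 8937930022191104) (C.el (R 93)), x * C.el (R 22) ∈ DCs (C.gen R 8937930022191104) (C.els R 79228161333672716876136841216) := GC.dc_piece' G_T25d G_T25c G_Kc (H_s0_186.dcRel G_I.top (G_I.get (i := 93) (by decide +kernel)).top (G_m1.get (i := 22) (by decide +kernel)).top chk1582)
theorem G_T25u : Nat.card (C.gen R 8937930022191104) ≤ 540 * Nat.card (C.gen R 71835728478088540235547516897670742982128396352356352) := up_low H_ub GT25_lb0 (by decide +kernel)
theorem G_T25n : (DC1 (C.gen R 8937930022191104) (C.el (R 93))).ncard ≤ Nat.card (C.gen R 8937930022191104) * 540 := ncard_DC1 GT25_in1553.gen_le G_T25c G_T25u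
theorem GT26_in1607 : C.Mem R (C.gen R 8937930022191104) 1149371655649416643768760270362731887714054341637701632 := H_s0_186.slp' chk1606
theorem GT26_m0 : C.Mem R (C.gen R 1149371655649416643768760270362731887714054341637701632) 1149371655649416643768760270362731887714054341637701632 := GC.Mem.gen GT26_in1607.top
theorem pt1608e : ∃ x, A1.Rep pt1608c x := (act4_rep e18 (by decide) (by decide) (c := 0x15) (by decide +kernel)).elim fun x hx => ⟨_, x, hx, rfl⟩
noncomputable def pt1608 := Classical.choose pt1608e
theorem pt1608r : A1.Rep pt1608c pt1608 := Classical.choose_spec pt1608e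
theorem pt1609e : ∃ x, A1.Rep pt1609c x := (act4_rep e18 (by decide) (by decide) (c := 0x4) (by decide +kernel)).elim fun x hx => ⟨_, x, hx, rfl⟩
noncomputable def pt1609 := Classical.choose pt1609e
theorem pt1609r : A1.Rep pt1609c pt1609 := Classical.choose_spec pt1609e
theorem pt1610e : ∃ x, A0.Rep pt1610c x := act4_rep e18 (by decide) (by decide) (c := 0x1) (by decide +kernel)
noncomputable def pt1610 := Classical.choose pt1610e
theorem pt1610r : A0.Rep pt1610c pt1610 := Classical.choose_spec pt1610e
theorem GT26_s0_1613 : C.Mem R (C.gen R 1149371655649416643768760270362731887714054341637701632) 5746858278247083218843801351813659438570271708188508160 := GT26_m0.slp' chk1612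
theorem GT26_c0i : C.Mem R (C.gen R 1149371655649416643768760270362731887714054341637701632) 4597486622597666575075041081450927550856217366550806528 := GT26_s0_1613.sub chk1614
theorem GT26_c0m : C.Mem R (C.gen R 4597486622597666575075041081450927550856217366550806528) 4597486622597666575075041081450927550856217366550806528 := GT26_c0i.gen
theorem fx1616 : C.gen R 4597486622597666575075041081450927550856217366550806528 ≤ stabilizer _ pt1608 := Act.fix_sound GT26_c0i.top pt1608r chk1615
theorem cov1623 : Cov (C.gen R 1149371655649416643768760270362731887714054341637701632) (C.wds R [0]) pt1608 2 := Act.cov_of_seen (Act.pieces_sound GT26_s0_1613 GT26_s0_1613.top pt1608r chk1621) chk1622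
theorem GT26_c1i : C.Mem R (C.gen R 4597486622597666575075041081450927550856217366550806528) 3064991081731777716716694054300618367237478244367204352 := GT26_c0m.sub chk1624
theorem GT26_c1m : C.Mem R (C.gen R 3064991081731777716716694054300618367237478244367204352) 3064991081731777716716694054300618367237478244367204352 := GT26_c1i.gen
theorem fx1626 : C.gen R 3064991081731777716716694054300618367237478244367204352 ≤ stabilizer _ pt1609 := Act.fix_sound GT26_c1i.top pt1609r chk1625
theorem cov1633 : Cov (C.gen R 4597486622597666575075041081450927550856217366550806528) (C.wds R [0]) pt1609 2 := Act.cov_of_seen (Act.pieces_sound GT26_c0m GT26_c0m.top pt1609r chk1631) chk1632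
theorem GT26_c2i : C.Mem R (C.gen R 3064991081731777716716694054300618367237478244367204352) 0 := GT26_c1m.sub chk1634
theorem GT26_c2m : C.Mem R (C.gen R 0) 0 := GT26_c2i.gen
theorem fx1636 : C.gen R 0 ≤ stabilizer _ pt1610 := Act.fix_sound GT26_c2i.top pt1610r chk1635
theorem cov1643 : Cov (C.gen R 3064991081731777716716694054300618367237478244367204352) (C.wds R [0]) pt1610 3 := Act.cov_of_seen (Act.pieces_sound GT26_c1m GT26_c1m.top pt1610r chk1641) chk1642
theorem GT26_lb3 : 1 ≤ Nat.card (C.gen R 0) := Nat.card_pos
theorem GT26_lo2 : 3 * Nat.card (C.gen R 0) ≤ Nat.card (C.gen R 3064991081731777716716694054300618367237478244367204352) := cov1643.low le_rfl (GC.wds_zero _) GT26_c2i.gen_le fx1636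
theorem GT26_lb2 : 3 ≤ Nat.card (C.gen R 3064991081731777716716694054300618367237478244367204352) := low_step GT26_lo2 GT26_lb3 (by decide +kernel)
theorem GT26_lo1 : 2 * Nat.card (C.gen R 3064991081731777716716694054300618367237478244367204352) ≤ Nat.card (C.gen R 4597486622597666575075041081450927550856217366550806528) := cov1633.low le_rfl (GC.wds_zero _) GT26_c1i.gen_le fx1626
theorem GT26_lb1 : 6 ≤ Nat.card (C.gen R 4597486622597666575075041081450927550856217366550806528) := low_step GT26_lo1 GT26_lb2 (by decide +kernel)
theorem GT26_lo0 : 2 * Nat.card (C.gen R 4597486622597666575075041081450927550856217366550806528) ≤ Nat.card (C.gen R 1149371655649416643768760270362731887714054341637701632) := cov1623.low le_rfl (GC.wds_zero _) GT26_c0i.gen_le fx1616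
theorem GT26_lb0 : 12 ≤ Nat.card (C.gen R 1149371655649416643768760270362731887714054341637701632) := low_step GT26_lo0 GT26_lb1 (by decide +kernel)
theorem G_T26c : ∀ τ ∈ (C.gen R 1149371655649416643768760270362731887714054341637701632), C.el (R 94) * τ * (C.el (R 94))⁻¹ ∈ (C.gen R 8937930022191104) := H_s0_186.conjA (G_I.get (i := 94) (by decide +kernel)).top GT26_in1607.top chk1645
theorem cov1654 : Cov (C.gen R 1149371655649416643768760270362731887714054341637701632) (C.wds R (List.map Prod.fst (l1646))) pt183 80 := Act.cov_of_seen (Act.pieces_sound GT26_s0_1613 H_s0_186.top pt183r chk1652) chk1653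
theorem G_T26d : Dec (C.gen R 8937930022191104) (C.gen R 1149371655649416643768760270362731887714054341637701632) (C.wds R (List.map Prod.fst (l1646))) (C.gen R 1188422437713965063903159255040) := cov1654.dec GT26_in1607.gen_le (GC.wds_sub H_s0_186 chk1655) GK_in237.gen_le fx288 (up_low H_ub GK_lb0 (by decide +kernel))
theorem G_T26p : ∀ x ∈ DC1 (C.gen R 8937930022191104) (C.el (R 94)), x * C.el (R 22) ∈ DCs (C.gen R 8937930022191104) (C.els R 79228161333672716876136841216) := GC.dc_piece' G_T26d G_T26c G_Kc (H_s0_186.dcRel G_I.top (G_I.get (i := 94) (by decide +kernel)).top (G_m1.get (i := 22) (by decide +kernel)).top chk1647)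
theorem G_T26u : Nat.card (C.gen R 8937930022191104) ≤ 540 * Nat.card (C.gen R 1149371655649416643768760270362731887714054341637701632) := up_low H_ub GT26_lb0 (by decide +kernel)
theorem G_T26n : (DC1 (C.gen R 8937930022191104) (C.el (R 94))).ncard ≤ Nat.card (C.gen R 8937930022191104) * 540 := ncard_DC1 GT26_in1607.gen_le G_T26c G_T26u
theorem GT27_in1687 : C.Mem R (C.gen R 8937930022191104) 42909875144244888034033716760208657141324695421140860928 := H_s0_186.slp' chk1686
theorem GT27_m0 : C.Mem R (C.gen R 42909875144244888034033716760208657141324695421140860928) 42909875144244888034033716760208657141324695421140860928 := GC.Mem.gen GT27_in1687.top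
theorem pt1688e : ∃ x, A0.Rep pt1688c x := act4_rep e18 (by decide) (by decide) (c := 0x1) (by decide +kernel)
noncomputable def pt1688 := Classical.choose pt1688e
theorem pt1688r : A0.Rep pt1688c pt1688 := Classical.choose_spec pt1688e
theorem pt1689e : ∃ x, A1.Rep pt1689c x := (act4_rep e18 (by decide) (by decide) (c := 0x4) (by decide +kernel)).elim fun x hx => ⟨_, x, hx, rfl⟩
noncomputable def pt1689 := Classical.choose pt1689e
theorem pt1689r : A1.Rep pt1689c pt1689 := Classical.choose_spec pt1689e
theorem GT27_s0_1692 : C.Mem R (C.gen R 42909875144244888034033716760208657141324695421140860928) 190029447067370218436435031366638338768723651150766669824 := GT27_m0.slp' chk1691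
theorem GT27_c0i : C.Mem R (C.gen R 42909875144244888034033716760208657141324695421140860928) 147119571923125330402401314606429681627398955729625808896 := GT27_s0_1692.sub chk1693
theorem GT27_c0m : C.Mem R (C.gen R 147119571923125330402401314606429681627398955729625808896) 147119571923125330402401314606429681627398955729625808896 := GT27_c0i.gen
theorem fx1695 : C.gen R 147119571923125330402401314606429681627398955729625808896 ≤ stabilizer _ pt1688 := Act.fix_sound GT27_c0i.top pt1688r chk1694
theorem cov1702 : Cov (C.gen R 42909875144244888034033716760208657141324695421140860928) (C.wds R [0]) pt1688 3 := Act.cov_of_seen (Act.pieces_sound GT27_s0_1692 GT27_s0_1692.top pt1688r chk1700) chk1701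
theorem GT27_c1i : C.Mem R (C.gen R 147119571923125330402401314606429681627398955729625808896) 0 := GT27_c0m.sub chk1703
theorem GT27_c1m : C.Mem R (C.gen R 0) 0 := GT27_c1i.gen
theorem fx1705 : C.gen R 0 ≤ stabilizer _ pt1689 := Act.fix_sound GT27_c1i.top pt1689r chk1704
theorem cov1712 : Cov (C.gen R 147119571923125330402401314606429681627398955729625808896) (C.wds R [0]) pt1689 4 := Act.cov_of_seen (Act.pieces_sound GT27_c0m GT27_c0m.top pt1689r chk1710) chk1711
theorem GT27_lb2 : 1 ≤ Nat.card (C.gen R 0) := Nat.card_pos
theorem GT27_lo1 : 4 * Nat.card (C.gen R 0) ≤ Nat.card (C.gen R 147119571923125330402401314606429681627398955729625808896) := cov1712.low le_rfl (GC.wds_zero _) GT27_c1i.gen_le fx1705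
theorem GT27_lb1 : 4 ≤ Nat.card (C.gen R 147119571923125330402401314606429681627398955729625808896) := low_step GT27_lo1 GT27_lb2 (by decide +kernel)
theorem GT27_lo0 : 3 * Nat.card (C.gen R 147119571923125330402401314606429681627398955729625808896) ≤ Nat.card (C.gen R 42909875144244888034033716760208657141324695421140860928) := cov1702.low le_rfl (GC.wds_zero _) GT27_c0i.gen_le fx1695
theorem GT27_lb0 : 12 ≤ Nat.card (C.gen R 42909875144244888034033716760208657141324695421140860928) := low_step GT27_lo0 GT27_lb1 (by decide +kernel)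
theorem G_T27c : ∀ τ ∈ (C.gen R 42909875144244888034033716760208657141324695421140860928), C.el (R 95) * τ * (C.el (R 95))⁻¹ ∈ (C.gen R 8937930022191104) := H_s0_186.conjA (G_I.get (i := 95) (by decide +kernel)).top GT27_in1687.top chk1714
theorem cov1723 : Cov (C.gen R 42909875144244888034033716760208657141324695421140860928) (C.wds R (List.map Prod.fst (l1715))) pt183 80 := Act.cov_of_seen (Act.pieces_sound GT27_s0_1692 H_s0_186.top pt183r chk1721) chk1722
theorem G_T27d : Dec (C.gen R 8937930022191104) (C.gen R 42909875144244888034033716760208657141324695421140860928) (C.wds R (List.map Prod.fst (l1715))) (C.gen R 1188422437713965063903159255040) := cov1723.dec GT27_in1687.gen_le (GC.wds_sub H_s0_186 chk1724) GK_in237.gen_le fx288 (up_low H_ub GK_lb0 (by decide +kernel))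
theorem G_T27p : ∀ x ∈ DC1 (C.gen R 8937930022191104) (C.el (R 95)), x * C.el (R 22) ∈ DCs (C.gen R 8937930022191104) (C.els R 79228161333672716876136841216) := GC.dc_piece' G_T27d G_T27c G_Kc (H_s0_186.dcRel G_I.top (G_I.get (i := 95) (by decide +kernel)).top (G_m1.get (i := 22) (by decide +kernel)).top chk1716)
theorem G_T27u : Nat.card (C.gen R 8937930022191104) ≤ 540 * Nat.card (C.gen R 42909875144244888034033716760208657141324695421140860928) := up_low H_ub GT27_lb0 (by decide +kernel)
theorem G_T27n : (DC1 (C.gen R 8937930022191104) (C.el (R 95))).ncard ≤ Nat.card (C.gen R 8937930022191104) * 540 := ncard_DC1 GT27_in1687.gen_le G_T27c G_T27u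
theorem G_dc : ∀ x ∈ (C.gen R 8937930026385408), x ∈ DCs (C.gen R 8937930022191104) (C.els R 79228161333672716876136841216) := GC.dc_gen (MU := 4194304) H_s0_186 (by decide +kernel) (GC.forall_els (L := [22]) (forall_cons ⟨H_s0_186.inDC' G_I.top (G_m1.get (i := 22) (by decide +kernel)).top chk1725, GC.forall_els (L := [22, 70, 71, 72, 73, 74, 75, 76, 77, 78, 79, 80, 81, 82, 83, 84, 85, 86, 87, 88, 89, 90, 91, 92, 93, 94, 95]) (forall_cons G_T1p (forall_cons G_T2p (forall_cons G_T3p (forall_cons G_T4p (forall_cons G_T5p (forall_cons G_T6p (forall_cons G_T7p (forall_cons G_T8p (forall_cons G_T9p (forall_cons G_T10p (forall_cons G_T11p (forall_cons G_T12p (forall_cons G_T13p (forall_cons G_T14p (forall_cons G_T15p (forall_cons G_T16p (forall_cons G_T17p (forall_cons G_T18p (forall_cons G_T19p (forall_cons G_T20p (forall_cons G_T21p (forall_cons G_T22p (forall_cons G_T23p (forall_cons G_T24p (forall_cons G_T25p (forall_cons G_T26p (forall_cons G_T27p forall_nil))))))))))))))))))))))))))) (by decide +kernel)⟩ forall_nil) (by decide +kernel))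
theorem G_cs : ∀ p ∈ ([(22, 80), (70, 180), (71, 720), (72, 720), (73, 720), (74, 720), (75, 720), (76, 720), (77, 720), (78, 2160), (79, 135), (80, 1080), (81, 1080), (82, 1080), (83, 2160), (84, 1080), (85, 1080), (86, 540), (87, 1080), (88, 1080), (89, 1080), (90, 1080), (91, 1080), (92, 540), (93, 540), (94, 540), (95, 540)] : List (ℕ × ℕ)), (DC1 (C.gen R 8937930022191104) (C.el (R p.1))).ncard ≤ Nat.card (C.gen R 8937930022191104) * p.2 := (forall_cons G_T1n (forall_cons G_T2n (forall_cons G_T3n (forall_cons G_T4n (forall_cons G_T5n (forall_cons G_T6n (forall_cons G_T7n (forall_cons G_T8n (forall_cons G_T9n (forall_cons G_T10n (forall_cons G_T11n (forall_cons G_T12n (forall_cons G_T13n (forall_cons G_T14n (forall_cons G_T15n (forall_cons G_T16n (forall_cons G_T17n (forall_cons G_T18n (forall_cons G_T19n (forall_cons G_T20n (forall_cons G_T21n (forall_cons G_T22n (forall_cons G_T23n (forall_cons G_T24n (forall_cons G_T25n (forall_cons G_T26n (forall_cons G_T27n forall_nil)))))))))))))))))))))))))))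
theorem G_ix : Nat.card (C.gen R 8937930026385408) ≤ 23256 * Nat.card (C.gen R 8937930022191104) := GC.card_dc [(22, 80), (70, 180), (71, 720), (72, 720), (73, 720), (74, 720), (75, 720), (76, 720), (77, 720), (78, 2160), (79, 135), (80, 1080), (81, 1080), (82, 1080), (83, 2160), (84, 1080), (85, 1080), (86, 540), (87, 1080), (88, 1080), (89, 1080), (90, 1080), (91, 1080), (92, 540), (93, 540), (94, 540), (95, 540)] G_dc G_cs (by decide +kernel)
theorem G_ub : Nat.card (C.gen R 8937930026385408) ≤ 150698880 := up_mul G_ix H_ub (by decide +kernel)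
theorem G_max : ∀ L, (C.gen R 8937930022191104) ≤ L → L ≤ (C.gen R 8937930026385408) → L = (C.gen R 8937930022191104) ∨ L = (C.gen R 8937930026385408) := maximal_of_DCs G_dc (H_s0_186.maxChk G_I.top chk1727 chk1728)
theorem pt1729e : ∃ x, A1.Rep pt1729c x := (act4_rep e18 (by decide) (by decide) (c := 0x1) (by decide +kernel)).elim fun x hx => ⟨_, x, hx, rfl⟩
noncomputable def pt1729 := Classical.choose pt1729e
theorem pt1729r : A1.Rep pt1729c pt1729 := Classical.choose_spec pt1729e
noncomputable def pt1730 := C.wd R 23119923 • pt1729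
theorem pt1730r : A1.Rep pt1730c pt1730 := Act.appW_ok G_s1_191 chk1731 pt1729r
theorem pt1730g : C.wd R 23119923 ∈ (C.gen R 8937930026385408) := G_s1_191.wd_mem chk1731
noncomputable def pt1732 := C.wd R 27297592255972516291846119471 • pt1729
theorem pt1732r : A1.Rep pt1732c pt1732 := Act.appW_ok G_s1_191 chk1733 pt1729r
theorem pt1732g : C.wd R 27297592255972516291846119471 ∈ (C.gen R 8937930026385408) := G_s1_191.wd_mem chk1733
theorem pt1734e : ∃ x, A0.Rep pt1734c x := act4_rep e18 (by decide) (by decide) (c := 0x1) (by decide +kernel)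
noncomputable def pt1734 := Classical.choose pt1734e
theorem pt1734r : A0.Rep pt1734c pt1734 := Classical.choose_spec pt1734e
theorem H_s1_1737 : C.Mem R (C.gen R 8937930022191104) 196159429230833773869868419475239576610012189992096366592 := H_s0_186.slp' chk1736
theorem H_c0i : C.Mem R (C.gen R 8937930022191104) 196159429230833773869868419475239575503199663170663743488 := H_s1_1737.sub chk1738
theorem H_c0m : C.Mem R (C.gen R 196159429230833773869868419475239575503199663170663743488) 196159429230833773869868419475239575503199663170663743488 := H_c0i.gen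
theorem fx1740 : C.gen R 196159429230833773869868419475239575503199663170663743488 ≤ stabilizer _ pt1730 := Act.fix_sound H_c0i.top pt1730r chk1739
theorem cov1747 : Cov (C.gen R 8937930022191104) (C.wds R [0]) pt1730 80 := Act.cov_of_seen (Act.pieces_sound H_s1_1737 H_s1_1737.top pt1730r chk1745) chk1746
theorem H_c1i : C.Mem R (C.gen R 196159429230833773869868419475239575503199663170663743488) 196159429230833773869868419475239575503198607639501078528 := H_c0m.sub chk1748
theorem H_c1m : C.Mem R (C.gen R 196159429230833773869868419475239575503198607639501078528) 196159429230833773869868419475239575503198607639501078528 := H_c1i.gen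
theorem fx1750 : C.gen R 196159429230833773869868419475239575503198607639501078528 ≤ stabilizer _ pt1732 := Act.fix_sound H_c1i.top pt1732r chk1749
theorem cov1757 : Cov (C.gen R 196159429230833773869868419475239575503199663170663743488) (C.wds R [0]) pt1732 27 := Act.cov_of_seen (Act.pieces_sound H_c0m H_c0m.top pt1732r chk1755) chk1756
theorem H_c2i : C.Mem R (C.gen R 196159429230833773869868419475239575503198607639501078528) 0 := H_c1m.sub chk1758
theorem H_c2m : C.Mem R (C.gen R 0) 0 := H_c2i.gen
theorem fx1760 : C.gen R 0 ≤ stabilizer _ pt1734 := Act.fix_sound H_c2i.top pt1734r chk1759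
theorem cov1767 : Cov (C.gen R 196159429230833773869868419475239575503198607639501078528) (C.wds R [0]) pt1734 3 := Act.cov_of_seen (Act.pieces_sound H_c1m H_c1m.top pt1734r chk1765) chk1766
theorem H_lb3 : 1 ≤ Nat.card (C.gen R 0) := Nat.card_pos
theorem H_lo2 : 3 * Nat.card (C.gen R 0) ≤ Nat.card (C.gen R 196159429230833773869868419475239575503198607639501078528) := cov1767.low le_rfl (GC.wds_zero _) H_c2i.gen_le fx1760
theorem H_lb2 : 3 ≤ Nat.card (C.gen R 196159429230833773869868419475239575503198607639501078528) := low_step H_lo2 H_lb3 (by decide +kernel)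
theorem H_lo1 : 27 * Nat.card (C.gen R 196159429230833773869868419475239575503198607639501078528) ≤ Nat.card (C.gen R 196159429230833773869868419475239575503199663170663743488) := cov1757.low le_rfl (GC.wds_zero _) H_c1i.gen_le fx1750
theorem H_lb1 : 81 ≤ Nat.card (C.gen R 196159429230833773869868419475239575503199663170663743488) := low_step H_lo1 H_lb2 (by decide +kernel)
theorem H_lo0 : 80 * Nat.card (C.gen R 196159429230833773869868419475239575503199663170663743488) ≤ Nat.card (C.gen R 8937930022191104) := cov1747.low le_rfl (GC.wds_zero _) H_c0i.gen_le fx1740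
theorem H_lb0 : 6480 ≤ Nat.card (C.gen R 8937930022191104) := low_step H_lo0 H_lb1 (by decide +kernel)
theorem H_st0 : (C.gen R 8937930022191104) ⊓ stabilizer _ pt1730 = (C.gen R 196159429230833773869868419475239575503199663170663743488) ∧ (orbit (C.gen R 8937930022191104) pt1730).ncard = 80 := cov1747.stab le_rfl (GC.wds_zero _) H_c0i.gen_le fx1740 (up_low H_ub H_lb1 (by decide +kernel))
theorem H_ub1 : Nat.card (C.gen R 196159429230833773869868419475239575503199663170663743488) ≤ 81 := up_step H_lo0 H_ub (by decide +kernel)
theorem H_st1 : (C.gen R 196159429230833773869868419475239575503199663170663743488) ⊓ stabilizer _ pt1732 = (C.gen R 196159429230833773869868419475239575503198607639501078528) ∧ (orbit (C.gen R 196159429230833773869868419475239575503199663170663743488) pt1732).ncard = 27 := cov1757.stab le_rfl (GC.wds_zero _) H_c1i.gen_le fx1750 (up_low H_ub1 H_lb2 (by decide +kernel))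
theorem H_ub2 : Nat.card (C.gen R 196159429230833773869868419475239575503198607639501078528) ≤ 3 := up_step H_lo1 H_ub1 (by decide +kernel)
theorem H_st2 : (C.gen R 196159429230833773869868419475239575503198607639501078528) ⊓ stabilizer _ pt1734 = (C.gen R 0) ∧ (orbit (C.gen R 196159429230833773869868419475239575503198607639501078528) pt1734).ncard = 3 := cov1767.stab le_rfl (GC.wds_zero _) H_c2i.gen_le fx1760 (up_low H_ub2 H_lb3 (by decide +kernel))
theorem H_ub3 : Nat.card (C.gen R 0) ≤ 1 := up_step H_lo2 H_ub2 (by decide +kernel)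
theorem cov1794 : Cov (C.gen R 8937930026385408) (C.wds R [0]) pt1729 23256 := Act.cov_of_seen (Act.pieces_sound G_s1_191 G_s1_191.top pt1729r chk1792) chk1793
theorem fx1796 : C.gen R 8937930022191104 ≤ stabilizer _ pt1729 := Act.fix_sound (inS012.top.sub chk42) pt1729r chk1795
theorem G_cov : Cov (C.gen R 8937930026385408) (C.wds R [0]) pt1729 23256 := cov1794
theorem G_lo : 23256 * Nat.card (C.gen R 8937930022191104) ≤ Nat.card (C.gen R 8937930026385408) := cov1794.low le_rfl (GC.wds_zero _) (G_s1_191.sub chk1797).gen_le fx1796
theorem G_lb : 150698880 ≤ Nat.card (C.gen R 8937930026385408) := low_step G_lo H_lb0 (by decide +kernel)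
theorem core (N : Subgroup _) (h : N ≤ (C.gen R 8937930022191104)) (hN : NormBy (C.gen R 8937930026385408) N) : N ≤ (C.gen R 196159429230833773869868419475239575503198607639501078528) := (le_next H_st1 (le_next H_st0 h (hN.fix (h.trans fx1796) pt1730g)) (hN.fix (h.trans fx1796) pt1732g))
theorem G_m3 : C.Mem R (C.gen R 8937930026385408) 196159429230833773869868419554467737943684906868233207808 := G_s1_191.lor' (H_s1_1737.mono (G_s1_191.sub chk1798).gen_le) chk1799
theorem G_s3_1802 : C.Mem R (C.gen R 8937930026385408) 588478287692501321609605258504946888950082191278756331518 := G_m3.slp' chk1801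
theorem G_s4_1805 : C.Mem R (C.gen R 8937930026385408) 2942391438462506608048026292207821794988465482952769273854 := G_s3_1802.slp' chk1804
theorem ncl (N : Subgroup _) (hN : NormBy (C.gen R 8937930026385408) N) (hz : C.el (R 188) ∈ N) : C.gen R 8937930026385408 ≤ N := by
  have h0 := (GC.Mem.single (G_s4_1805.get (i := 188) (by decide +kernel)).top hz).lor' (G_s4_1805.nconj (GC.Mem.single (G_s4_1805.get (i := 188) (by decide +kernel)).top hz) hN (G_s4_1805.sub chk1806).top chk1808) (M'' := 2746232009231672834178157872653354057044780506953015099392) (by decide +kernel)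
  have h1 := G_s4_1805.ncop h0 hN chk1810
  exact h1.gen_le
theorem dich (N : Subgroup _) (h : N ≤ (C.gen R 8937930026385408)) (hN : NormBy (C.gen R 8937930026385408) N) : N ≤ (C.gen R 196159429230833773869868419475239575503198607639501078528) ∨ N = (C.gen R 8937930026385408) :=
  normal_dichotomy (G_s4_1805.sub chk1812).gen_le G_max core (p := 19) (k := 1) (n := 23256) (by norm_num)
    (eq_mul_of G_ub G_lb H_ub H_lb0 (by decide +kernel)) (by norm_num)
    (not_dvd_of G_ub G_lb (by decide +kernel)) (G_s4_1805.get (i := 188) (by decide +kernel)).el_mem ((G_s4_1805.get (i := 188) (by decide +kernel)).prime_dvd (by norm_num) chk1811).1.1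
    (fun N _ hN hz => ncl N hN hz) N h hN
theorem cen : center (C.gen R 8937930026385408) = ((C.gen R 196159429230833773869868419475239575503198607639501078528)).subgroupOf (C.gen R 8937930026385408) ∧ IsSimpleGroup ((C.gen R 8937930026385408) ⧸ center (C.gen R 8937930026385408)) :=
  center_of_dichotomy (comm_gen1 (G_m0.top.commL (G_s4_1805.get (i := 187) (by decide +kernel)).top chk1813) (by decide +kernel))
    ⟨_, (G_s4_1805.get (i := 40) (by decide +kernel)).el_mem, _, (G_s4_1805.get (i := 22) (by decide +kernel)).el_mem, by
      have := G_s4_1805.top.wd_ne chk1814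
      simpa [GC.wd] using this⟩ dich
theorem card : Nat.card (C.gen R 8937930026385408) = 150698880 := le_antisymm G_ub G_lb
theorem cardZ : Nat.card (C.gen R 196159429230833773869868419475239575503198607639501078528) = 3 := le_antisymm H_ub2 H_lb2
theorem Z_le : (C.gen R 196159429230833773869868419475239575503198607639501078528) ≤ (C.gen R 8937930026385408) := (G_s4_1805.sub (by decide +kernel)).gen_le
theorem gen_eq : (C.gen R 70231036788734) = (C.gen R 8937930026385408) := le_antisymm (G_s4_1805.sub chk1815).gen_le inS012.gen_le
theorem valid0 : C.Mem R ⊤ 70231036788734 := val3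
theorem orb0 : (orbit (C.gen R 8937930026385408) pt1729).ncard = 23256 ∧ A1.Rep 1 pt1729 := ⟨(G_cov.stab le_rfl (GC.wds_zero _) (G_s4_1805.sub chk1816).gen_le fx1796 G_ix).2, pt1729r⟩
theorem pt1817e : ∃ x, A1.Rep pt1817c x := (act4_rep e18 (by decide) (by decide) (c := 0x14) (by decide +kernel)).elim fun x hx => ⟨_, x, hx, rfl⟩
noncomputable def pt1817 := Classical.choose pt1817e
theorem pt1817r : A1.Rep pt1817c pt1817 := Classical.choose_spec pt1817e
theorem cov1866 : Cov (C.gen R 8937930026385408) (C.wds R [0]) pt1817 43605 := Act.cov_of_seen (forall_app (Act.pieces_sound G_s4_1805 G_s4_1805.top pt1817r chk1862) (Act.pieces_sound G_s4_1805 G_s4_1805.top pt1817r chk1864)) chk1865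
theorem orb1 : ∃ p, 43605 ≤ (orbit (C.gen R 8937930026385408) p).ncard ∧ A1.Rep 20 p := ⟨_, cov1866.le_ncard le_rfl (GC.wds_zero _), pt1817r⟩
theorem Q0_m0 : C.Mem R (C.gen R 0) 0 := GC.Mem.gen (GC.Mem.zero ⊤)
theorem G_s5_1869 : C.Mem R (C.gen R 8937930026385408) 6080942306155846989965921003811655003039643205184786530302 := G_s4_1805.slp' chk1868
theorem inG1872 : C.Mem R (C.gen R 8937930026385408) 3207598986782593870320088395259117538628303632121121636089856 := G_s5_1869.slp' chk1871
theorem Q1_m0 : C.Mem R (C.gen R 12554203470773361527671578846415332832204710888928069025792) 12554203470773361527671578846415332832204710888928069025792 := GC.Mem.gen (inG1872.top.sub chk1873)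
theorem Q1_dvd : Nat.card (C.gen R 12554203470773361527671578846415332832204710888928069025792) ∣ 2 := GC.card_ins (dvd_step (Q0_m0.pc (m := 2) (w := 0) (inG1872.top.get (i := 193) (by decide +kernel)) Q0_m0.top chk1875 chk1876) GC.card_gen_zero (n := 2) (by decide +kernel)) (by decide +kernel)
theorem Q2_m0 : C.Mem R (C.gen R 37662610412320084583014736539245998496614132666784207077376) 37662610412320084583014736539245998496614132666784207077376 := GC.Mem.gen (inG1872.top.sub chk1877)
theorem Q2_dvd : Nat.card (C.gen R 37662610412320084583014736539245998496614132666784207077376) ∣ 4 := GC.card_ins (dvd_step (Q1_m0.pc (m := 2) (w := 0) (inG1872.top.get (i := 194) (by decide +kernel)) Q1_m0.top chk1879 chk1880) Q1_dvd (n := 4) (by decide +kernel)) (by decide +kernel)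
theorem Q3_m0 : C.Mem R (C.gen R 87879424295413530693701051924907329825432976222496483180544) 87879424295413530693701051924907329825432976222496483180544 := GC.Mem.gen (inG1872.top.sub chk1881)
theorem Q3_dvd : Nat.card (C.gen R 87879424295413530693701051924907329825432976222496483180544) ∣ 8 := GC.card_ins (dvd_step (Q2_m0.pc (m := 2) (w := 0) (inG1872.top.get (i := 195) (by decide +kernel)) Q2_m0.top chk1883 chk1884) Q2_dvd (n := 8) (by decide +kernel)) (by decide +kernel)
theorem Q4_m0 : C.Mem R (C.gen R 188313052061600422915073682696229992483070663333921035386880) 188313052061600422915073682696229992483070663333921035386880 := GC.Mem.gen (inG1872.top.sub chk1885)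
theorem Q4_dvd : Nat.card (C.gen R 188313052061600422915073682696229992483070663333921035386880) ∣ 16 := GC.card_ins (dvd_step (Q3_m0.pc (m := 2) (w := 0) (inG1872.top.get (i := 196) (by decide +kernel)) Q3_m0.top chk1887 chk1888) Q3_dvd (n := 16) (by decide +kernel)) (by decide +kernel)
theorem Q5_m0 : C.Mem R (C.gen R 389180307593974207357818944238875317798346037556770139799552) 389180307593974207357818944238875317798346037556770139799552 := GC.Mem.gen (inG1872.top.sub chk1889)
theorem Q5_dvd : Nat.card (C.gen R 389180307593974207357818944238875317798346037556770139799552) ∣ 80 := GC.card_ins (dvd_step (Q4_m0.pc (m := 5) (w := 0) (inG1872.top.get (i := 197) (by decide +kernel)) Q4_m0.top chk1891 chk1892) Q4_dvd (n := 80) (by decide +kernel)) (by decide +kernel)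
theorem Q6_m0 : C.Mem R (C.gen R 790914818658721776243309467324165968428896786002468348624896) 790914818658721776243309467324165968428896786002468348624896 := GC.Mem.gen (inG1872.top.sub chk1893)
theorem Q6_dvd : Nat.card (C.gen R 790914818658721776243309467324165968428896786002468348624896) ∣ 240 := GC.card_ins (dvd_step (Q5_m0.pc (m := 3) (w := 203624645) (inG1872.top.get (i := 198) (by decide +kernel)) Q5_m0.top chk1895 chk1896) Q5_dvd (n := 240) (by decide +kernel)) (by decide +kernel)
theorem Q7_m0 : C.Mem R (C.gen R 1594383840788216914014290513494747269689998282893864766275584) 1594383840788216914014290513494747269689998282893864766275584 := GC.Mem.gen (inG1872.top.sub chk1897)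
theorem Q7_dvd : Nat.card (C.gen R 1594383840788216914014290513494747269689998282893864766275584) ∣ 720 := GC.card_ins (dvd_step (Q6_m0.pc (m := 3) (w := 0) (inG1872.top.get (i := 199) (by decide +kernel)) Q6_m0.top chk1899 chk1900) Q6_dvd (n := 720) (by decide +kernel)) (by decide +kernel)
theorem Q8_m0 : C.Mem R (C.gen R 3201321885047207189556252605835909872212201276676657601576960) 3201321885047207189556252605835909872212201276676657601576960 := GC.Mem.gen (inG1872.top.sub chk1901)
theorem Q8_dvd : Nat.card (C.gen R 3201321885047207189556252605835909872212201276676657601576960) ∣ 1440 := GC.card_ins (dvd_step (Q7_m0.pc (m := 2) (w := 212417479121095) (inG1872.top.get (i := 200) (by decide +kernel)) Q7_m0.top chk1903 chk1904) Q7_dvd (n := 1440) (by decide +kernel)) (by decide +kernel)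
theorem Q8_ub : Nat.card (C.gen R 3201321885047207189556252605835909872212201276676657601576960) ≤ 1440 := le_of_dvd' Q8_dvd (by decide +kernel)
theorem pt1905e : ∃ x, A1.Rep pt1905c x := (act4_rep e18 (by decide) (by decide) (c := 0x1f03f) (by decide +kernel)).elim fun x hx => ⟨_, x, hx, rfl⟩
noncomputable def pt1905 := Classical.choose pt1905e
theorem pt1905r : A1.Rep pt1905c pt1905 := Classical.choose_spec pt1905e
theorem L_m0 : C.Mem R (C.gen R 3207598986782593870320088395259117538628303632121121636089856) 3207598986782593870320088395259117538628303632121121636089856 := GC.Mem.gen inG1872.top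
theorem L_I : C.Mem R (C.gen R 3207598986782593870320088395259117538628303632121121636089856) 6277101735386680763835789423207666416102355444464034512896 := L_m0.sub chk1906
theorem LK_in1921 : C.Mem R (C.gen R 3201321885047207189556252605835909872212201276676657601576960) 9641628265553941653251772554046975615133217962696757011808256 := Q8_m0.slp' chk1920
theorem LK_m0 : C.Mem R (C.gen R 9641628265553941653251772554046975615133217962696757011808256) 9641628265553941653251772554046975615133217962696757011808256 := GC.Mem.gen LK_in1921.top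
theorem pt1922e : ∃ x, A1.Rep pt1922c x := (act4_rep e18 (by decide) (by decide) (c := 0x1) (by decide +kernel)).elim fun x hx => ⟨_, x, hx, rfl⟩
noncomputable def pt1922 := Classical.choose pt1922e
theorem pt1922r : A1.Rep pt1922c pt1922 := Classical.choose_spec pt1922e
theorem pt1923e : ∃ x, A0.Rep pt1923c x := act4_rep e18 (by decide) (by decide) (c := 0x1) (by decide +kernel)
noncomputable def pt1923 := Classical.choose pt1923e
theorem pt1923r : A0.Rep pt1923c pt1923 := Classical.choose_spec pt1923e
theorem LK_s0_1926 : C.Mem R (C.gen R 9641628265553941653251772554046975615133217962696757011808256) 22497132619625863857587469292776276435310841912959099694219264 := LK_m0.slp' chk1925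
theorem LK_c0i : C.Mem R (C.gen R 9641628265553941653251772554046975615133217962696757011808256) 12855504354071922204335696738729300820177623950262342682411008 := LK_s0_1926.sub chk1927
theorem LK_c0m : C.Mem R (C.gen R 12855504354071922204335696738729300820177623950262342682411008) 12855504354071922204335696738729300820177623950262342682411008 := LK_c0i.gen
theorem fx1929 : C.gen R 12855504354071922204335696738729300820177623950262342682411008 ≤ stabilizer _ pt1922 := Act.fix_sound LK_c0i.top pt1922r chk1928
theorem cov1936 : Cov (C.gen R 9641628265553941653251772554046975615133217962696757011808256) (C.wds R [0]) pt1922 6 := Act.cov_of_seen (Act.pieces_sound LK_s0_1926 LK_s0_1926.top pt1922r chk1934) chk1935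
theorem LK_c1i : C.Mem R (C.gen R 12855504354071922204335696738729300820177623950262342682411008) 0 := LK_c0m.sub chk1937
theorem LK_c1m : C.Mem R (C.gen R 0) 0 := LK_c1i.gen
theorem fx1939 : C.gen R 0 ≤ stabilizer _ pt1923 := Act.fix_sound LK_c1i.top pt1923r chk1938
theorem cov1946 : Cov (C.gen R 12855504354071922204335696738729300820177623950262342682411008) (C.wds R [0]) pt1923 3 := Act.cov_of_seen (Act.pieces_sound LK_c0m LK_c0m.top pt1923r chk1944) chk1945
theorem LK_lb2 : 1 ≤ Nat.card (C.gen R 0) := Nat.card_pos
theorem LK_lo1 : 3 * Nat.card (C.gen R 0) ≤ Nat.card (C.gen R 12855504354071922204335696738729300820177623950262342682411008) := cov1946.low le_rfl (GC.wds_zero _) LK_c1i.gen_le fx1939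
theorem LK_lb1 : 3 ≤ Nat.card (C.gen R 12855504354071922204335696738729300820177623950262342682411008) := low_step LK_lo1 LK_lb2 (by decide +kernel)
theorem LK_lo0 : 6 * Nat.card (C.gen R 12855504354071922204335696738729300820177623950262342682411008) ≤ Nat.card (C.gen R 9641628265553941653251772554046975615133217962696757011808256) := cov1936.low le_rfl (GC.wds_zero _) LK_c0i.gen_le fx1929
theorem LK_lb0 : 18 ≤ Nat.card (C.gen R 9641628265553941653251772554046975615133217962696757011808256) := low_step LK_lo0 LK_lb1 (by decide +kernel)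
theorem fx1950 : C.gen R 9641628265553941653251772554046975615133217962696757011808256 ≤ stabilizer _ pt1905 := Act.fix_sound LK_in1921.top pt1905r chk1949
theorem L_Kc : ∀ κ ∈ (C.gen R 9641628265553941653251772554046975615133217962696757011808256), (C.el (R 192))⁻¹ * κ * C.el (R 192) ∈ (C.gen R 3201321885047207189556252605835909872212201276676657601576960) := Q8_m0.conjB (L_m0.get (i := 192) (by decide +kernel)).top LK_in1921.top chk1948
theorem LT1_in1971 : C.Mem R (C.gen R 3201321885047207189556252605835909872212201276676657601576960) 77133026124431533226014180432375804921065743701574056094466048 := Q8_m0.slp' chk1970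
theorem LT1_m0 : C.Mem R (C.gen R 77133026124431533226014180432375804921065743701574056094466048) 77133026124431533226014180432375804921065743701574056094466048 := GC.Mem.gen LT1_in1971.top
theorem pt1972e : ∃ x, A1.Rep pt1972c x := (act4_rep e18 (by decide) (by decide) (c := 0x4000) (by decide +kernel)).elim fun x hx => ⟨_, x, hx, rfl⟩
noncomputable def pt1972 := Classical.choose pt1972e
theorem pt1972r : A1.Rep pt1972c pt1972 := Classical.choose_spec pt1972e
theorem pt1973e : ∃ x, A1.Rep pt1973c x := (act4_rep e18 (by decide) (by decide) (c := 0x1) (by decide +kernel)).elim fun x hx => ⟨_, x, hx, rfl⟩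
noncomputable def pt1973 := Classical.choose pt1973e
theorem pt1973r : A1.Rep pt1973c pt1973 := Classical.choose_spec pt1973e
theorem pt1974e : ∃ x, A0.Rep pt1974c x := act4_rep e18 (by decide) (by decide) (c := 0x1) (by decide +kernel)
noncomputable def pt1974 := Classical.choose pt1974e
theorem pt1974r : A0.Rep pt1974c pt1974 := Classical.choose_spec pt1974e
theorem LT1_s0_1977 : C.Mem R (C.gen R 77133026124431533226014180432375804921065743701574056094466048) 385665130622157666130070902161879024605328718507870280472330240 := LT1_m0.slp' chk1976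
theorem LT1_c0i : C.Mem R (C.gen R 77133026124431533226014180432375804921065743701574056094466048) 308532104497726132904056721729503219684262974806296224377864192 := LT1_s0_1977.sub chk1978
theorem LT1_c0m : C.Mem R (C.gen R 308532104497726132904056721729503219684262974806296224377864192) 308532104497726132904056721729503219684262974806296224377864192 := LT1_c0i.gen
theorem fx1980 : C.gen R 308532104497726132904056721729503219684262974806296224377864192 ≤ stabilizer _ pt1972 := Act.fix_sound LT1_c0i.top pt1972r chk1979
theorem cov1987 : Cov (C.gen R 77133026124431533226014180432375804921065743701574056094466048) (C.wds R [0]) pt1972 15 := Act.cov_of_seen (Act.pieces_sound LT1_s0_1977 LT1_s0_1977.top pt1972r chk1985) chk1986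
theorem LT1_c1i : C.Mem R (C.gen R 308532104497726132904056721729503219684262974806296224377864192) 205688069665150755269371147819668813122841983204197482918576128 := LT1_c0m.sub chk1988
theorem LT1_c1m : C.Mem R (C.gen R 205688069665150755269371147819668813122841983204197482918576128) 205688069665150755269371147819668813122841983204197482918576128 := LT1_c1i.gen
theorem fx1990 : C.gen R 205688069665150755269371147819668813122841983204197482918576128 ≤ stabilizer _ pt1973 := Act.fix_sound LT1_c1i.top pt1973r chk1989
theorem cov1997 : Cov (C.gen R 308532104497726132904056721729503219684262974806296224377864192) (C.wds R [0]) pt1973 2 := Act.cov_of_seen (Act.pieces_sound LT1_c0m LT1_c0m.top pt1973r chk1995) chk1996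
theorem LT1_c2i : C.Mem R (C.gen R 205688069665150755269371147819668813122841983204197482918576128) 0 := LT1_c1m.sub chk1998
theorem LT1_c2m : C.Mem R (C.gen R 0) 0 := LT1_c2i.gen
theorem fx2000 : C.gen R 0 ≤ stabilizer _ pt1974 := Act.fix_sound LT1_c2i.top pt1974r chk1999
theorem cov2007 : Cov (C.gen R 205688069665150755269371147819668813122841983204197482918576128) (C.wds R [0]) pt1974 3 := Act.cov_of_seen (Act.pieces_sound LT1_c1m LT1_c1m.top pt1974r chk2005) chk2006
theorem LT1_lb3 : 1 ≤ Nat.card (C.gen R 0) := Nat.card_pos
theorem LT1_lo2 : 3 * Nat.card (C.gen R 0) ≤ Nat.card (C.gen R 205688069665150755269371147819668813122841983204197482918576128) := cov2007.low le_rfl (GC.wds_zero _) LT1_c2i.gen_le fx2000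
theorem LT1_lb2 : 3 ≤ Nat.card (C.gen R 205688069665150755269371147819668813122841983204197482918576128) := low_step LT1_lo2 LT1_lb3 (by decide +kernel)
theorem LT1_lo1 : 2 * Nat.card (C.gen R 205688069665150755269371147819668813122841983204197482918576128) ≤ Nat.card (C.gen R 308532104497726132904056721729503219684262974806296224377864192) := cov1997.low le_rfl (GC.wds_zero _) LT1_c1i.gen_le fx1990
theorem LT1_lb1 : 6 ≤ Nat.card (C.gen R 308532104497726132904056721729503219684262974806296224377864192) := low_step LT1_lo1 LT1_lb2 (by decide +kernel)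
theorem LT1_lo0 : 15 * Nat.card (C.gen R 308532104497726132904056721729503219684262974806296224377864192) ≤ Nat.card (C.gen R 77133026124431533226014180432375804921065743701574056094466048) := cov1987.low le_rfl (GC.wds_zero _) LT1_c0i.gen_le fx1980
theorem LT1_lb0 : 90 ≤ Nat.card (C.gen R 77133026124431533226014180432375804921065743701574056094466048) := low_step LT1_lo0 LT1_lb1 (by decide +kernel)
theorem L_T1c : ∀ τ ∈ (C.gen R 77133026124431533226014180432375804921065743701574056094466048), C.el (R 192) * τ * (C.el (R 192))⁻¹ ∈ (C.gen R 3201321885047207189556252605835909872212201276676657601576960) := Q8_m0.conjA (L_I.get (i := 192) (by decide +kernel)).top LT1_in1971.top chk2009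
theorem cov2018 : Cov (C.gen R 77133026124431533226014180432375804921065743701574056094466048) (C.wds R (List.map Prod.fst (l2010))) pt1905 80 := Act.cov_of_seen (Act.pieces_sound LT1_s0_1977 Q8_m0.top pt1905r chk2016) chk2017
theorem L_T1d : Dec (C.gen R 3201321885047207189556252605835909872212201276676657601576960) (C.gen R 77133026124431533226014180432375804921065743701574056094466048) (C.wds R (List.map Prod.fst (l2010))) (C.gen R 9641628265553941653251772554046975615133217962696757011808256) := cov2018.dec LT1_in1971.gen_le (GC.wds_sub Q8_m0 chk2019) LK_in1921.gen_le fx1950 (up_low Q8_ub LK_lb0 (by decide +kernel))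
theorem L_T1p : ∀ x ∈ DC1 (C.gen R 3201321885047207189556252605835909872212201276676657601576960) (C.el (R 192)), x * C.el (R 192) ∈ DCs (C.gen R 3201321885047207189556252605835909872212201276676657601576960) (C.els R 6277101735386680763835789423207666416102355444464034512896) := GC.dc_piece' L_T1d L_T1c L_Kc (Q8_m0.dcRel L_I.top (L_I.get (i := 192) (by decide +kernel)).top (L_m0.get (i := 192) (by decide +kernel)).top chk2011)
theorem L_T1u : Nat.card (C.gen R 3201321885047207189556252605835909872212201276676657601576960) ≤ 16 * Nat.card (C.gen R 77133026124431533226014180432375804921065743701574056094466048) := up_low Q8_ub LT1_lb0 (by decide +kernel)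
theorem L_T1n : (DC1 (C.gen R 3201321885047207189556252605835909872212201276676657601576960) (C.el (R 192))).ncard ≤ Nat.card (C.gen R 3201321885047207189556252605835909872212201276676657601576960) * 16 := ncard_DC1 LT1_in1971.gen_le L_T1c L_T1u
theorem L_dc : ∀ x ∈ (C.gen R 3207598986782593870320088395259117538628303632121121636089856), x ∈ DCs (C.gen R 3201321885047207189556252605835909872212201276676657601576960) (C.els R 6277101735386680763835789423207666416102355444464034512896) := GC.dc_gen (MU := 6277101735386680763835789423207666416102355444464034512896) Q8_m0 (by decide +kernel) (GC.forall_els (L := [192]) (forall_cons ⟨Q8_m0.inDC' L_I.top (L_m0.get (i := 192) (by decide +kernel)).top chk2020, GC.forall_els (L := [192]) (forall_cons L_T1p forall_nil) (by decide +kernel)⟩ forall_nil) (by decide +kernel))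
theorem L_cs : ∀ p ∈ ([(192, 16)] : List (ℕ × ℕ)), (DC1 (C.gen R 3201321885047207189556252605835909872212201276676657601576960) (C.el (R p.1))).ncard ≤ Nat.card (C.gen R 3201321885047207189556252605835909872212201276676657601576960) * p.2 := (forall_cons L_T1n forall_nil)
theorem L_ix : Nat.card (C.gen R 3207598986782593870320088395259117538628303632121121636089856) ≤ 17 * Nat.card (C.gen R 3201321885047207189556252605835909872212201276676657601576960) := GC.card_dc [(192, 16)] L_dc L_cs (by decide +kernel)
theorem L_ub : Nat.card (C.gen R 3207598986782593870320088395259117538628303632121121636089856) ≤ 24480 := up_mul L_ix Q8_ub (by decide +kernel)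
theorem pt2021e : ∃ x, A1.Rep pt2021c x := (act4_rep e18 (by decide) (by decide) (c := 0x400) (by decide +kernel)).elim fun x hx => ⟨_, x, hx, rfl⟩
noncomputable def pt2021 := Classical.choose pt2021e
theorem pt2021r : A1.Rep pt2021c pt2021 := Classical.choose_spec pt2021e
theorem pt2022e : ∃ x, A0.Rep pt2022c x := act4_rep e18 (by decide) (by decide) (c := 0x1) (by decide +kernel)
noncomputable def pt2022 := Classical.choose pt2022e
theorem pt2022r : A0.Rep pt2022c pt2022 := Classical.choose_spec pt2022e
theorem L_s0_2025 : C.Mem R (C.gen R 3207598986782593870320088395259117538628303632121121636089856) 2882840574298893167641516157870622501258416068490885882496155648 := L_m0.slp' chk2024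
theorem L_c0i : C.Mem R (C.gen R 3207598986782593870320088395259117538628303632121121636089856) 2879632975312110573771196069475363383719787764858764760860065792 := L_s0_2025.sub chk2026
theorem L_c0m : C.Mem R (C.gen R 2879632975312110573771196069475363383719787764858764760860065792) 2879632975312110573771196069475363383719787764858764760860065792 := L_c0i.gen
theorem fx2028 : C.gen R 2879632975312110573771196069475363383719787764858764760860065792 ≤ stabilizer _ pt2021 := Act.fix_sound L_c0i.top pt2021r chk2027
theorem cov2035 : Cov (C.gen R 3207598986782593870320088395259117538628303632121121636089856) (C.wds R [0]) pt2021 1020 := Act.cov_of_seen (Act.pieces_sound L_s0_2025 L_s0_2025.top pt2021r chk2033) chk2034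
theorem L_c1i : C.Mem R (C.gen R 2879632975312110573771196069475363383719787764858764760860065792) 0 := L_c0m.sub chk2036
theorem L_c1m : C.Mem R (C.gen R 0) 0 := L_c1i.gen
theorem fx2038 : C.gen R 0 ≤ stabilizer _ pt2022 := Act.fix_sound L_c1i.top pt2022r chk2037
theorem cov2045 : Cov (C.gen R 2879632975312110573771196069475363383719787764858764760860065792) (C.wds R [0]) pt2022 24 := Act.cov_of_seen (Act.pieces_sound L_c0m L_c0m.top pt2022r chk2043) chk2044
theorem L_lb2 : 1 ≤ Nat.card (C.gen R 0) := Nat.card_pos
theorem L_lo1 : 24 * Nat.card (C.gen R 0) ≤ Nat.card (C.gen R 2879632975312110573771196069475363383719787764858764760860065792) := cov2045.low le_rfl (GC.wds_zero _) L_c1i.gen_le fx2038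
theorem L_lb1 : 24 ≤ Nat.card (C.gen R 2879632975312110573771196069475363383719787764858764760860065792) := low_step L_lo1 L_lb2 (by decide +kernel)
theorem L_lo0 : 1020 * Nat.card (C.gen R 2879632975312110573771196069475363383719787764858764760860065792) ≤ Nat.card (C.gen R 3207598986782593870320088395259117538628303632121121636089856) := cov2035.low le_rfl (GC.wds_zero _) L_c0i.gen_le fx2028
theorem L_lb0 : 24480 ≤ Nat.card (C.gen R 3207598986782593870320088395259117538628303632121121636089856) := low_step L_lo0 L_lb1 (by decide +kernel)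
theorem L_s1_2048 : C.Mem R (C.gen R 3207598986782593870320088395259117538628303632121121636089856) 2882840770458322398475290027739041976497991571689493521997234176 := L_s0_2025.slp' chk2047
theorem sub : ∃ L, L ≤ (C.gen R 8937930026385408) ∧ (C.gen R 196159429230833773869868419475239575503198607639501078528) ≤ L ∧ Nat.card L = 24480 := ⟨(C.gen R 3207598986782593870320088395259117538628303632121121636089856), inG1872.gen_le, (L_s1_2048.sub (by decide +kernel)).gen_le, le_antisymm L_ub L_lb0⟩
end

end CfsgH6.J3
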