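import Cfsg.Agent.H6.J3D0

set_option autoImplicit false
set_option maxRecDepth 100000
set_option linter.all false

namespace CfsgH6.J3

open CfsgH5 CfsgH6 Subgroup MulAction Pointwise

noncomputable section

theorem chk2 : band (allL l1 fun e => band (can4 e18 (force (hd e) R)) (band (Nat.ble 1 (tl e)) (Nat.beq (powC (ops2 18) (force (hd e) R) (tl e)) (ops2 18).one))) (subM 70231036788734 (insL l1 0)) = true := by decide +kernel
theorem chk4 : subM 4294978580 70231036788734 = true := by decide +kernel
theorem chk6 : band (slp (ops2 18) R l5 4294978580) (subM 135107993116093460 (insL l5 4294978580)) = true := by decide +kernel
theorem chk8 : subM 4294978580 70231036788734 = true := by decide +kernel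
theorem chk9 : subM 135178219857903614 (Nat.lor 70231036788734 135107993116093460) = true := by decide +kernel
theorem chk11 : band (slp (ops2 18) R l10 135178219857903614) (subM 8937930026385408 (insL l10 135178219857903614)) = true := by decide +kernel
theorem chk13 : subM 70368744177664 8937930026385408 = true := by decide +kernel
theorem chk15 : band (conjB (ops2 18) R 0 46 l14) (subM 0 (insL l14 0)) = true := by decide +kernel
theorem chk16 : band (Nat.ble 1 3) (band (subW 0 0) (Nat.beq (powC (ops2 18) (R 46) 3) (evalW (ops2 18) R 0))) = true := by decide +kernel
theorem chk17 : subM 211106232532992 8937930026385408 = true := by decide +kernel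
theorem chk19 : band (conjB (ops2 18) R 70368744177664 47 l18) (subM 70368744177664 (insL l18 0)) = true := by decide +kernel
theorem chk20 : band (Nat.ble 1 3) (band (subW 70368744177664 0) (Nat.beq (powC (ops2 18) (R 47) 3) (evalW (ops2 18) R 0))) = true := by decide +kernel
theorem chk21 : subM 492581209243648 8937930026385408 = true := by decide +kernel
theorem chk23 : band (conjB (ops2 18) R 211106232532992 48 l22) (subM 211106232532992 (insL l22 0)) = true := by decide +kernel
theorem chk24 : band (Nat.ble 1 3) (band (subW 211106232532992 0) (Nat.beq (powC (ops2 18) (R 48) 3) (evalW (ops2 18) R 0))) = true := by decide +kernel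
theorem chk25 : subM 1055531162664960 8937930026385408 = true := by decide +kernel
theorem chk27 : band (conjB (ops2 18) R 492581209243648 49 l26) (subM 492581209243648 (insL l26 0)) = true := by decide +kernel
theorem chk28 : band (Nat.ble 1 3) (band (subW 492581209243648 0) (Nat.beq (powC (ops2 18) (R 49) 3) (evalW (ops2 18) R 0))) = true := by decide +kernel
theorem chk29 : subM 2181431069507584 8937930026385408 = true := by decide +kernel
theorem chk31 : band (conjB (ops2 18) R 1055531162664960 50 l30) (subM 1055531162664960 (insL l30 0)) = true := by decide +kernel
theorem chk32 : band (Nat.ble 1 2) (band (subW 1055531162664960 0) (Nat.beq (powC (ops2 18) (R 50) 2) (evalW (ops2 18) R 0))) = true := by decide +kernel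
theorem chk33 : subM 4433230883192832 8937930026385408 = true := by decide +kernel
theorem chk35 : band (conjB (ops2 18) R 2181431069507584 51 l34) (subM 2181431069507584 (insL l34 0)) = true := by decide +kernel
theorem chk36 : band (Nat.ble 1 2) (band (subW 2181431069507584 50) (Nat.beq (powC (ops2 18) (R 51) 2) (evalW (ops2 18) R 50))) = true := by decide +kernel
theorem chk37 : subM 8936830510563328 8937930026385408 = true := by decide +kernel
theorem chk39 : band (conjB (ops2 18) R 4433230883192832 52 l38) (subM 4433230883192832 (insL l38 0)) = true := by decide +kernel
theorem chk40 : band (Nat.ble 1 2) (band (subW 4433230883192832 51) (Nat.beq (powC (ops2 18) (R 52) 2) (evalW (ops2 18) R 51))) = true := by decide +kernel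
theorem chk42 : subM 8937930022191104 8937930026385408 = true := by decide +kernel
theorem chk43 : subM 1099511627776 8937930022191104 = true := by decide +kernel
theorem chk61 : band (slp (ops2 18) R l60 8936830510563328) (subM 432345564227567616 (insL l60 8936830510563328)) = true := by decide +kernel
theorem chk66 : band (slp (ops2 18) R l65 432345564227567616) (subM 1008806316530991104 (insL l65 432345564227567616)) = true := by decide +kernel
theorem chk68 : subM 576460752303423488 1008806316530991104 = true := by decide +kernel
theorem chk69 : band (fixL (app2 18 19 5) (keyL (app2 18 19 5) (fun x => x) om 2) R [59] pt63c) (subM 576460752303423488 (insL [59] 0)) = true := by decide +kernel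
theorem chk75 : band (pieces (app2 18 19 5) (keyL (app2 18 19 5) (fun x => x) om 2) tab73 R 1008806316530991104 [57, 58, 59] pt63c l74) (allL l74 fun p => subW 1008806316530991104 p.2.1) = true := by decide +kernel
theorem chk76 : cover 3 [0] (l74) 0 = true := by decide +kernel
theorem chk78 : subM 0 576460752303423488 = true := by decide +kernel
theorem chk79 : band (fixL (app2 18 19 5) (fun x => x) R [] pt64c) (subM 0 (insL [] 0)) = true := by decide +kernel
theorem chk85 : band (pieces (app2 18 19 5) (fun x => x) tab83 R 576460752303423488 [59] pt64c l84) (allL l84 fun p => subW 576460752303423488 p.2.1) = true := by decide +kernel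
theorem chk86 : cover 3 [0] (l84) 0 = true := by decide +kernel
theorem chk89 : band (conjB (ops2 18) R 8936830510563328 40 l88) (subM 432345564227567616 (insL l88 0)) = true := by decide +kernel
theorem chk90 : band (fixL (app2 18 19 5) (keyL (app2 18 19 5) (fun x => x) om 2) R [57, 58] pt41c) (subM 432345564227567616 (insL [57, 58] 0)) = true := by decide +kernel
theorem chk132 : band (slp (ops2 18) R l131 8936830510563328) (subM 8070450532247928832 (insL l131 8936830510563328)) = true := by decide +kernel
theorem chk138 : band (slp (ops2 18) R l137 8070450532247928832) (subM 72634054790231359488 (insL l137 8070450532247928832)) = true := by decide +kernel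
theorem chk140 : subM 64563604257983430656 72634054790231359488 = true := by decide +kernel
theorem chk141 : band (fixL (app2 18 19 5) (fun x => x) R [63, 64, 65] pt134c) (subM 64563604257983430656 (insL [63, 64, 65] 0)) = true := by decide +kernel
theorem chk147 : band (pieces (app2 18 19 5) (fun x => x) tab145 R 72634054790231359488 [60, 61, 62, 63, 64, 65] pt134c l146) (allL l146 fun p => subW 72634054790231359488 p.2.1) = true := by decide +kernel
theorem chk148 : cover 3 [0] (l146) 0 = true := by decide +kernel
theorem chk150 : subM 18446744073709551616 64563604257983430656 = true := by decide +kernel
theorem chk151 : band (fixL (app2 18 19 5) (keyL (app2 18 19 5) (fun x => x) om 2) R [64] pt135c) (subM 18446744073709551616 (insL [64] 0)) = true := by decide +kernel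
theorem chk157 : band (pieces (app2 18 19 5) (keyL (app2 18 19 5) (fun x => x) om 2) tab155 R 64563604257983430656 [63, 64, 65] pt135c l156) (allL l156 fun p => subW 64563604257983430656 p.2.1) = true := by decide +kernel
theorem chk158 : cover 12 [0] (l156) 0 = true := by decide +kernel
theorem chk160 : subM 0 18446744073709551616 = true := by decide +kernel
theorem chk161 : band (fixL (app2 18 19 5) (keyL (app2 18 19 5) (fun x => x) om 2) R [] pt136c) (subM 0 (insL [] 0)) = true := by decide +kernel
theorem chk167 : band (pieces (app2 18 19 5) (keyL (app2 18 19 5) (fun x => x) om 2) tab165 R 18446744073709551616 [64] pt136c l166) (allL l166 fun p => subW 18446744073709551616 p.2.1) = true := by decide +kernel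
theorem chk168 : cover 2 [0] (l166) 0 = true := by decide +kernel
theorem chk171 : band (conjA (ops2 18) R 8936830510563328 40 l170) (subM 8070450532247928832 (insL l170 0)) = true := by decide +kernel
theorem chk173 : dcRel (ops2 18) R 8936830510563328 1099511627776 40 40 l172 = true := by decide +kernel
theorem chk178 : band (pieces (app2 18 19 5) (keyL (app2 18 19 5) (fun x => x) om 2) tab176 R 72634054790231359488 [60, 61, 62, 63, 64, 65] pt41c l177) (allL l177 fun p => subW 8936830510563328 p.2.1) = true := by decide +kernel
theorem chk179 : cover 72 (List.map Prod.fst (l172)) (l177) 0 = true := by decide +kernel
theorem chk181 : allL (List.map Prod.fst (l172)) (subW 8936830510563328) = true := by decide +kernel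
theorem chk182 : inDC (ops2 18) R 8936830510563328 1099511627776 (R 40) 0 40 = true := by decide +kernel
theorem chk185 : band (slp (ops2 18) R l184 8937930022191104) (subM 1106813582352595288064 (insL l184 8937930022191104)) = true := by decide +kernel
theorem chk187 : subM 8937930022191104 8937930026385408 = true := by decide +kernel
theorem chk188 : subM 1106813582352599482368 (Nat.lor 8937930026385408 1106813582352595288064) = true := by decide +kernel
theorem chk190 : band (slp (ops2 18) R l189 1106813582352599482368) (subM 79228162440486299228732129280 (insL l189 1106813582352599482368)) = true := by decide +kernel
theorem chk192 : subM 79228161333672716876136841216 79228162440486299228732129280 = true := by decide +kernel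
theorem chk236 : band (slp (ops2 18) R l235 1106813582352595288064) (subM 1188422437713965063903159255040 (insL l235 1106813582352595288064)) = true := by decide +kernel
theorem chk243 : band (slp (ops2 18) R l242 1188422437713965063903159255040) (subM 10061976639311570874380081692672 (insL l242 1188422437713965063903159255040)) = true := by decide +kernel
theorem chk245 : subM 8873554201597605810476922437632 10061976639311570874380081692672 = true := by decide +kernel
theorem chk246 : band (fixL (app2 18 19 5) (keyL (app2 18 19 5) (fun x => x) om 2) R [100, 101, 102] pt238c) (subM 8873554201597605810476922437632 (insL [100, 101, 102] 0)) = true := by decide +kernel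
theorem chk252 : band (pieces (app2 18 19 5) (keyL (app2 18 19 5) (fun x => x) om 2) tab250 R 10061976639311570874380081692672 [96, 97, 98, 99, 100, 101, 102] pt238c l251) (allL l251 fun p => subW 10061976639311570874380081692672 p.2.1) = true := by decide +kernel
theorem chk253 : cover 3 [0] (l251) 0 = true := by decide +kernel
theorem chk255 : subM 7605903601369376408980219232256 8873554201597605810476922437632 = true := by decide +kernel
theorem chk256 : band (fixL (app2 18 19 5) (keyL (app2 18 19 5) (fun x => x) om 2) R [101, 102] pt239c) (subM 7605903601369376408980219232256 (insL [101, 102] 0)) = true := by decide +kernel
theorem chk262 : band (pieces (app2 18 19 5) (keyL (app2 18 19 5) (fun x => x) om 2) tab260 R 8873554201597605810476922437632 [100, 101, 102] pt239c l261) (allL l261 fun p => subW 8873554201597605810476922437632 p.2.1) = true := by decide +kernel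
theorem chk263 : cover 3 [0] (l261) 0 = true := by decide +kernel
theorem chk265 : subM 5070602400912917605986812821504 7605903601369376408980219232256 = true := by decide +kernel
theorem chk266 : band (fixL (app2 18 19 5) (fun x => x) R [102] pt240c) (subM 5070602400912917605986812821504 (insL [102] 0)) = true := by decide +kernel
theorem chk272 : band (pieces (app2 18 19 5) (fun x => x) tab270 R 7605903601369376408980219232256 [101, 102] pt240c l271) (allL l271 fun p => subW 7605903601369376408980219232256 p.2.1) = true := by decide +kernel
theorem chk273 : cover 3 [0] (l271) 0 = true := by decide +kernel
theorem chk275 : subM 0 5070602400912917605986812821504 = true := by decide +kernel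
theorem chk276 : band (fixL (app2 18 19 5) (fun x => x) R [] pt241c) (subM 0 (insL [] 0)) = true := by decide +kernel
theorem chk282 : band (pieces (app2 18 19 5) (fun x => x) tab280 R 5070602400912917605986812821504 [102] pt241c l281) (allL l281 fun p => subW 5070602400912917605986812821504 p.2.1) = true := by decide +kernel
theorem chk283 : cover 3 [0] (l281) 0 = true := by decide +kernel
theorem chk286 : band (conjB (ops2 18) R 1106813582352595288064 22 l285) (subM 1188422437713965063903159255040 (insL l285 0)) = true := by decide +kernel
theorem chk287 : band (fixL (app2 18 19 5) (keyL (app2 18 19 5) (fun x => x) om 2) R [96, 97, 98, 99] pt183c) (subM 1188422437713965063903159255040 (insL [96, 97, 98, 99] 0)) = true := by decide +kernel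
theorem chk335 : band (slp (ops2 18) R l334 1106813582352595288064) (subM 152118072027387528179604384645120 (insL l334 1106813582352595288064)) = true := by decide +kernel
theorem chk341 : band (slp (ops2 18) R l340 152118072027387528179604384645120) (subM 1287933009831881071920650456662016 (insL l340 152118072027387528179604384645120)) = true := by decide +kernel
theorem chk343 : subM 1135814937804493543741046072016896 1287933009831881071920650456662016 = true := by decide +kernel
theorem chk344 : band (fixL (app2 18 19 5) (fun x => x) R [107, 108, 109] pt337c) (subM 1135814937804493543741046072016896 (insL [107, 108, 109] 0)) = true := by decide +kernel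
theorem chk350 : band (pieces (app2 18 19 5) (fun x => x) tab348 R 1287933009831881071920650456662016 [103, 104, 105, 106, 107, 108, 109] pt337c l349) (allL l349 fun p => subW 1287933009831881071920650456662016 p.2.1) = true := by decide +kernel
theorem chk351 : cover 3 [0] (l349) 0 = true := by decide +kernel
theorem chk353 : subM 649037107316853453566312041152512 1135814937804493543741046072016896 = true := by decide +kernel
theorem chk354 : band (fixL (app2 18 19 5) (keyL (app2 18 19 5) (fun x => x) om 2) R [109] pt338c) (subM 649037107316853453566312041152512 (insL [109] 0)) = true := by decide +kernel
theorem chk360 : band (pieces (app2 18 19 5) (keyL (app2 18 19 5) (fun x => x) om 2) tab358 R 1135814937804493543741046072016896 [107, 108, 109] pt338c l359) (allL l359 fun p => subW 1135814937804493543741046072016896 p.2.1) = true := by decide +kernel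
theorem chk361 : cover 9 [0] (l359) 0 = true := by decide +kernel
theorem chk363 : subM 0 649037107316853453566312041152512 = true := by decide +kernel
theorem chk364 : band (fixL (app2 18 19 5) (fun x => x) R [] pt339c) (subM 0 (insL [] 0)) = true := by decide +kernel
theorem chk370 : band (pieces (app2 18 19 5) (fun x => x) tab368 R 649037107316853453566312041152512 [109] pt339c l369) (allL l369 fun p => subW 649037107316853453566312041152512 p.2.1) = true := by decide +kernel
theorem chk371 : cover 3 [0] (l369) 0 = true := by decide +kernel
theorem chk374 : band (conjA (ops2 18) R 1106813582352595288064 22 l373) (subM 152118072027387528179604384645120 (insL l373 0)) = true := by decide +kernel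
theorem chk376 : dcRel (ops2 18) R 1106813582352595288064 79228161333672716876136841216 22 22 l375 = true := by decide +kernel
theorem chk381 : band (pieces (app2 18 19 5) (keyL (app2 18 19 5) (fun x => x) om 2) tab379 R 1287933009831881071920650456662016 [103, 104, 105, 106, 107, 108, 109] pt183c l380) (allL l380 fun p => subW 1106813582352595288064 p.2.1) = true := by decide +kernel
theorem chk382 : cover 80 (List.map Prod.fst (l375)) (l380) 0 = true := by decide +kernel
theorem chk384 : allL (List.map Prod.fst (l375)) (subW 1106813582352595288064) = true := by decide +kernel
theorem chk398 : band (slp (ops2 18) R l397 1106813582352595288064) (subM 3894222643901120721397872246915072 (insL l397 1106813582352595288064)) = true := by decide +kernel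
theorem chk404 : band (slp (ops2 18) R l403 3894222643901120721397872246915072) (subM 40240300653644914121111346551455744 (insL l403 3894222643901120721397872246915072)) = true := by decide +kernel
theorem chk406 : subM 36346078009743793399713474304540672 40240300653644914121111346551455744 = true := by decide +kernel
theorem chk407 : band (fixL (app2 18 19 5) (fun x => x) R [112, 113, 114] pt400c) (subM 36346078009743793399713474304540672 (insL [112, 113, 114] 0)) = true := by decide +kernel
theorem chk413 : band (pieces (app2 18 19 5) (fun x => x) tab411 R 40240300653644914121111346551455744 [110, 111, 112, 113, 114] pt400c l412) (allL l412 fun p => subW 40240300653644914121111346551455744 p.2.1) = true := by decide +kernel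
theorem chk414 : cover 3 [0] (l412) 0 = true := by decide +kernel
theorem chk416 : subM 20769187434139310514121985316880384 36346078009743793399713474304540672 = true := by decide +kernel
theorem chk417 : band (fixL (app2 18 19 5) (keyL (app2 18 19 5) (fun x => x) om 2) R [114] pt401c) (subM 20769187434139310514121985316880384 (insL [114] 0)) = true := by decide +kernel
theorem chk423 : band (pieces (app2 18 19 5) (keyL (app2 18 19 5) (fun x => x) om 2) tab421 R 36346078009743793399713474304540672 [112, 113, 114] pt401c l422) (allL l422 fun p => subW 36346078009743793399713474304540672 p.2.1) = true := by decide +kernel
theorem chk424 : cover 4 [0] (l422) 0 = true := by decide +kernel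
theorem chk426 : subM 0 20769187434139310514121985316880384 = true := by decide +kernel
theorem chk427 : band (fixL (app2 18 19 5) (keyL (app2 18 19 5) (fun x => x) om 2) R [] pt402c) (subM 0 (insL [] 0)) = true := by decide +kernel
theorem chk433 : band (pieces (app2 18 19 5) (keyL (app2 18 19 5) (fun x => x) om 2) tab431 R 20769187434139310514121985316880384 [114] pt402c l432) (allL l432 fun p => subW 20769187434139310514121985316880384 p.2.1) = true := by decide +kernel
theorem chk434 : cover 3 [0] (l432) 0 = true := by decide +kernel
theorem chk437 : band (conjA (ops2 18) R 1106813582352595288064 70 l436) (subM 3894222643901120721397872246915072 (insL l436 0)) = true := by decide +kernel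
theorem chk439 : dcRel (ops2 18) R 1106813582352595288064 79228161333672716876136841216 70 22 l438 = true := by decide +kernel
theorem chk444 : band (pieces (app2 18 19 5) (keyL (app2 18 19 5) (fun x => x) om 2) tab442 R 40240300653644914121111346551455744 [110, 111, 112, 113, 114] pt183c l443) (allL l443 fun p => subW 1106813582352595288064 p.2.1) = true := by decide +kernel
theorem chk445 : cover 80 (List.map Prod.fst (l438)) (l443) 0 = true := by decide +kernel
theorem chk447 : allL (List.map Prod.fst (l438)) (subW 1106813582352595288064) = true := by decide +kernel
theorem chk465 : band (slp (ops2 18) R l464 1106813582352595288064) (subM 124615124604835863084731911901282304 (insL l464 1106813582352595288064)) = true := by decide +kernel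
theorem chk470 : band (slp (ops2 18) R l469 124615124604835863084731911901282304) (subM 290768624077950347197707794436325376 (insL l469 124615124604835863084731911901282304)) = true := by decide +kernel
theorem chk472 : subM 166153499473114484112975882535043072 290768624077950347197707794436325376 = true := by decide +kernel
theorem chk473 : band (fixL (app2 18 19 5) (keyL (app2 18 19 5) (fun x => x) om 2) R [117] pt467c) (subM 166153499473114484112975882535043072 (insL [117] 0)) = true := by decide +kernel
theorem chk479 : band (pieces (app2 18 19 5) (keyL (app2 18 19 5) (fun x => x) om 2) tab477 R 290768624077950347197707794436325376 [115, 116, 117] pt467c l478) (allL l478 fun p => subW 290768624077950347197707794436325376 p.2.1) = true := by decide +kernel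
theorem chk480 : cover 3 [0] (l478) 0 = true := by decide +kernel
theorem chk482 : subM 0 166153499473114484112975882535043072 = true := by decide +kernel
theorem chk483 : band (fixL (app2 18 19 5) (fun x => x) R [] pt468c) (subM 0 (insL [] 0)) = true := by decide +kernel
theorem chk489 : band (pieces (app2 18 19 5) (fun x => x) tab487 R 166153499473114484112975882535043072 [117] pt468c l488) (allL l488 fun p => subW 166153499473114484112975882535043072 p.2.1) = true := by decide +kernel
theorem chk490 : cover 3 [0] (l488) 0 = true := by decide +kernel
theorem chk493 : band (conjA (ops2 18) R 1106813582352595288064 71 l492) (subM 124615124604835863084731911901282304 (insL l492 0)) = true := by decide +kernel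
theorem chk495 : dcRel (ops2 18) R 1106813582352595288064 79228161333672716876136841216 71 22 l494 = true := by decide +kernel
theorem chk500 : band (pieces (app2 18 19 5) (keyL (app2 18 19 5) (fun x => x) om 2) tab498 R 290768624077950347197707794436325376 [115, 116, 117] pt183c l499) (allL l499 fun p => subW 1106813582352595288064 p.2.1) = true := by decide +kernel
theorem chk501 : cover 80 (List.map Prod.fst (l494)) (l499) 0 = true := by decide +kernel
theorem chk503 : allL (List.map Prod.fst (l494)) (subW 1106813582352595288064) = true := by decide +kernel
theorem chk517 : band (slp (ops2 18) R l516 1106813582352595288064) (subM 996920996838686904677855295210258432 (insL l516 1106813582352595288064)) = true := by decide +kernel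
theorem chk522 : band (slp (ops2 18) R l521 996920996838686904677855295210258432) (subM 2326148992623602777581662355490603008 (insL l521 996920996838686904677855295210258432)) = true := by decide +kernel
theorem chk524 : subM 1329227995784915872903807060280344576 2326148992623602777581662355490603008 = true := by decide +kernel
theorem chk525 : band (fixL (app2 18 19 5) (keyL (app2 18 19 5) (fun x => x) om 2) R [120] pt519c) (subM 1329227995784915872903807060280344576 (insL [120] 0)) = true := by decide +kernel
theorem chk531 : band (pieces (app2 18 19 5) (keyL (app2 18 19 5) (fun x => x) om 2) tab529 R 2326148992623602777581662355490603008 [118, 119, 120] pt519c l530) (allL l530 fun p => subW 2326148992623602777581662355490603008 p.2.1) = true := by decide +kernel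
theorem chk532 : cover 3 [0] (l530) 0 = true := by decide +kernel
theorem chk534 : subM 0 1329227995784915872903807060280344576 = true := by decide +kernel
theorem chk535 : band (fixL (app2 18 19 5) (fun x => x) R [] pt520c) (subM 0 (insL [] 0)) = true := by decide +kernel
theorem chk541 : band (pieces (app2 18 19 5) (fun x => x) tab539 R 1329227995784915872903807060280344576 [120] pt520c l540) (allL l540 fun p => subW 1329227995784915872903807060280344576 p.2.1) = true := by decide +kernel
theorem chk542 : cover 3 [0] (l540) 0 = true := by decide +kernel
theorem chk545 : band (conjA (ops2 18) R 1106813582352595288064 72 l544) (subM 996920996838686904677855295210258432 (insL l544 0)) = true := by decide +kernel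
theorem chk547 : dcRel (ops2 18) R 1106813582352595288064 79228161333672716876136841216 72 22 l546 = true := by decide +kernel
theorem chk552 : band (pieces (app2 18 19 5) (keyL (app2 18 19 5) (fun x => x) om 2) tab550 R 2326148992623602777581662355490603008 [118, 119, 120] pt183c l551) (allL l551 fun p => subW 1106813582352595288064 p.2.1) = true := by decide +kernel
theorem chk553 : cover 80 (List.map Prod.fst (l546)) (l551) 0 = true := by decide +kernel
theorem chk555 : allL (List.map Prod.fst (l546)) (subW 1106813582352595288064) = true := by decide +kernel
theorem chk569 : band (slp (ops2 18) R l568 1106813582352595288064) (subM 7975367974709495237422842361682067456 (insL l568 1106813582352595288064)) = true := by decide +kernel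
theorem chk574 : band (slp (ops2 18) R l573 7975367974709495237422842361682067456) (subM 18609191940988822220653298843924824064 (insL l573 7975367974709495237422842361682067456)) = true := by decide +kernel
theorem chk576 : subM 10633823966279326983230456482242756608 18609191940988822220653298843924824064 = true := by decide +kernel
theorem chk577 : band (fixL (app2 18 19 5) (fun x => x) R [123] pt571c) (subM 10633823966279326983230456482242756608 (insL [123] 0)) = true := by decide +kernel
theorem chk583 : band (pieces (app2 18 19 5) (fun x => x) tab581 R 18609191940988822220653298843924824064 [121, 122, 123] pt571c l582) (allL l582 fun p => subW 18609191940988822220653298843924824064 p.2.1) = true := by decide +kernel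
theorem chk584 : cover 3 [0] (l582) 0 = true := by decide +kernel
theorem chk586 : subM 0 10633823966279326983230456482242756608 = true := by decide +kernel
theorem chk587 : band (fixL (app2 18 19 5) (keyL (app2 18 19 5) (fun x => x) om 2) R [] pt572c) (subM 0 (insL [] 0)) = true := by decide +kernel
theorem chk593 : band (pieces (app2 18 19 5) (keyL (app2 18 19 5) (fun x => x) om 2) tab591 R 10633823966279326983230456482242756608 [123] pt572c l592) (allL l592 fun p => subW 10633823966279326983230456482242756608 p.2.1) = true := by decide +kernel
theorem chk594 : cover 3 [0] (l592) 0 = true := by decide +kernel
theorem chk597 : band (conjA (ops2 18) R 1106813582352595288064 73 l596) (subM 7975367974709495237422842361682067456 (insL l596 0)) = true := by decide +kernel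
theorem chk599 : dcRel (ops2 18) R 1106813582352595288064 79228161333672716876136841216 73 22 l598 = true := by decide +kernel
theorem chk604 : band (pieces (app2 18 19 5) (keyL (app2 18 19 5) (fun x => x) om 2) tab602 R 18609191940988822220653298843924824064 [121, 122, 123] pt183c l603) (allL l603 fun p => subW 1106813582352595288064 p.2.1) = true := by decide +kernel
theorem chk605 : cover 80 (List.map Prod.fst (l598)) (l603) 0 = true := by decide +kernel
theorem chk607 : allL (List.map Prod.fst (l598)) (subW 1106813582352595288064) = true := by decide +kernel
theorem chk625 : band (slp (ops2 18) R l624 1106813582352595288064) (subM 63802943797675961899382738893456539648 (insL l624 1106813582352595288064)) = true := by decide +kernel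
theorem chk630 : band (slp (ops2 18) R l629 63802943797675961899382738893456539648) (subM 148873535527910577765226390751398592512 (insL l629 63802943797675961899382738893456539648)) = true := by decide +kernel
theorem chk632 : subM 85070591730234615865843651857942052864 148873535527910577765226390751398592512 = true := by decide +kernel
theorem chk633 : band (fixL (app2 18 19 5) (keyL (app2 18 19 5) (fun x => x) om 2) R [126] pt627c) (subM 85070591730234615865843651857942052864 (insL [126] 0)) = true := by decide +kernel
theorem chk639 : band (pieces (app2 18 19 5) (keyL (app2 18 19 5) (fun x => x) om 2) tab637 R 148873535527910577765226390751398592512 [124, 125, 126] pt627c l638) (allL l638 fun p => subW 148873535527910577765226390751398592512 p.2.1) = true := by decide +kernel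
theorem chk640 : cover 3 [0] (l638) 0 = true := by decide +kernel
theorem chk642 : subM 0 85070591730234615865843651857942052864 = true := by decide +kernel
theorem chk643 : band (fixL (app2 18 19 5) (fun x => x) R [] pt628c) (subM 0 (insL [] 0)) = true := by decide +kernel
theorem chk649 : band (pieces (app2 18 19 5) (fun x => x) tab647 R 85070591730234615865843651857942052864 [126] pt628c l648) (allL l648 fun p => subW 85070591730234615865843651857942052864 p.2.1) = true := by decide +kernel
theorem chk650 : cover 3 [0] (l648) 0 = true := by decide +kernel
theorem chk653 : band (conjA (ops2 18) R 1106813582352595288064 74 l652) (subM 63802943797675961899382738893456539648 (insL l652 0)) = true := by decide +kernel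
theorem chk655 : dcRel (ops2 18) R 1106813582352595288064 79228161333672716876136841216 74 22 l654 = true := by decide +kernel
theorem chk660 : band (pieces (app2 18 19 5) (keyL (app2 18 19 5) (fun x => x) om 2) tab658 R 148873535527910577765226390751398592512 [124, 125, 126] pt183c l659) (allL l659 fun p => subW 1106813582352595288064 p.2.1) = true := by decide +kernel
theorem chk661 : cover 80 (List.map Prod.fst (l654)) (l659) 0 = true := by decide +kernel
theorem chk663 : allL (List.map Prod.fst (l654)) (subW 1106813582352595288064) = true := by decide +kernel
theorem chk677 : band (slp (ops2 18) R l676 1106813582352595288064) (subM 510423550381407695195061911147652317184 (insL l676 1106813582352595288064)) = true := by decide +kernel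
theorem chk682 : band (slp (ops2 18) R l681 510423550381407695195061911147652317184) (subM 1190988284223284622121811126011188740096 (insL l681 510423550381407695195061911147652317184)) = true := by decide +kernel
theorem chk684 : subM 680564733841876926926749214863536422912 1190988284223284622121811126011188740096 = true := by decide +kernel
theorem chk685 : band (fixL (app2 18 19 5) (keyL (app2 18 19 5) (fun x => x) om 2) R [129] pt679c) (subM 680564733841876926926749214863536422912 (insL [129] 0)) = true := by decide +kernel
theorem chk691 : band (pieces (app2 18 19 5) (keyL (app2 18 19 5) (fun x => x) om 2) tab689 R 1190988284223284622121811126011188740096 [127, 128, 129] pt679c l690) (allL l690 fun p => subW 1190988284223284622121811126011188740096 p.2.1) = true := by decide +kernel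
theorem chk692 : cover 3 [0] (l690) 0 = true := by decide +kernel
theorem chk694 : subM 0 680564733841876926926749214863536422912 = true := by decide +kernel
theorem chk695 : band (fixL (app2 18 19 5) (fun x => x) R [] pt680c) (subM 0 (insL [] 0)) = true := by decide +kernel
theorem chk701 : band (pieces (app2 18 19 5) (fun x => x) tab699 R 680564733841876926926749214863536422912 [129] pt680c l700) (allL l700 fun p => subW 680564733841876926926749214863536422912 p.2.1) = true := by decide +kernel
theorem chk702 : cover 3 [0] (l700) 0 = true := by decide +kernel
theorem chk705 : band (conjA (ops2 18) R 1106813582352595288064 75 l704) (subM 510423550381407695195061911147652317184 (insL l704 0)) = true := by decide +kernel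
theorem chk707 : dcRel (ops2 18) R 1106813582352595288064 79228161333672716876136841216 75 22 l706 = true := by decide +kernel
theorem chk712 : band (pieces (app2 18 19 5) (keyL (app2 18 19 5) (fun x => x) om 2) tab710 R 1190988284223284622121811126011188740096 [127, 128, 129] pt183c l711) (allL l711 fun p => subW 1106813582352595288064 p.2.1) = true := by decide +kernel
theorem chk713 : cover 80 (List.map Prod.fst (l706)) (l711) 0 = true := by decide +kernel
theorem chk715 : allL (List.map Prod.fst (l706)) (subW 1106813582352595288064) = true := by decide +kernel
theorem chk729 : band (slp (ops2 18) R l728 1106813582352595288064) (subM 4083388403051261561560495289181218537472 (insL l728 1106813582352595288064)) = true := by decide +kernel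
theorem chk734 : band (slp (ops2 18) R l733 4083388403051261561560495289181218537472) (subM 9527906273786276976974489008089509920768 (insL l733 4083388403051261561560495289181218537472)) = true := by decide +kernel
theorem chk736 : subM 5444517870735015415413993718908291383296 9527906273786276976974489008089509920768 = true := by decide +kernel
theorem chk737 : band (fixL (app2 18 19 5) (keyL (app2 18 19 5) (fun x => x) om 2) R [132] pt731c) (subM 5444517870735015415413993718908291383296 (insL [132] 0)) = true := by decide +kernel
theorem chk743 : band (pieces (app2 18 19 5) (keyL (app2 18 19 5) (fun x => x) om 2) tab741 R 9527906273786276976974489008089509920768 [130, 131, 132] pt731c l742) (allL l742 fun p => subW 9527906273786276976974489008089509920768 p.2.1) = true := by decide +kernel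
theorem chk744 : cover 3 [0] (l742) 0 = true := by decide +kernel
theorem chk746 : subM 0 5444517870735015415413993718908291383296 = true := by decide +kernel
theorem chk747 : band (fixL (app2 18 19 5) (fun x => x) R [] pt732c) (subM 0 (insL [] 0)) = true := by decide +kernel
theorem chk753 : band (pieces (app2 18 19 5) (fun x => x) tab751 R 5444517870735015415413993718908291383296 [132] pt732c l752) (allL l752 fun p => subW 5444517870735015415413993718908291383296 p.2.1) = true := by decide +kernel
theorem chk754 : cover 3 [0] (l752) 0 = true := by decide +kernel
theorem chk757 : band (conjA (ops2 18) R 1106813582352595288064 76 l756) (subM 4083388403051261561560495289181218537472 (insL l756 0)) = true := by decide +kernel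
theorem chk759 : dcRel (ops2 18) R 1106813582352595288064 79228161333672716876136841216 76 22 l758 = true := by decide +kernel
theorem chk764 : band (pieces (app2 18 19 5) (keyL (app2 18 19 5) (fun x => x) om 2) tab762 R 9527906273786276976974489008089509920768 [130, 131, 132] pt183c l763) (allL l763 fun p => subW 1106813582352595288064 p.2.1) = true := by decide +kernel
theorem chk765 : cover 80 (List.map Prod.fst (l758)) (l763) 0 = true := by decide +kernel
theorem chk767 : allL (List.map Prod.fst (l758)) (subW 1106813582352595288064) = true := by decide +kernel
theorem chk781 : band (slp (ops2 18) R l780 1106813582352595288064) (subM 32667107224410092492483962313449748299776 (insL l780 1106813582352595288064)) = true := by decide +kernel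
theorem chk786 : band (slp (ops2 18) R l785 32667107224410092492483962313449748299776) (subM 76223250190290215815795912064716079366144 (insL l785 32667107224410092492483962313449748299776)) = true := by decide +kernel
theorem chk788 : subM 43556142965880123323311949751266331066368 76223250190290215815795912064716079366144 = true := by decide +kernel
theorem chk789 : band (fixL (app2 18 19 5) (keyL (app2 18 19 5) (fun x => x) om 2) R [135] pt783c) (subM 43556142965880123323311949751266331066368 (insL [135] 0)) = true := by decide +kernel
theorem chk795 : band (pieces (app2 18 19 5) (keyL (app2 18 19 5) (fun x => x) om 2) tab793 R 76223250190290215815795912064716079366144 [133, 134, 135] pt783c l794) (allL l794 fun p => subW 76223250190290215815795912064716079366144 p.2.1) = true := by decide +kernel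
theorem chk796 : cover 3 [0] (l794) 0 = true := by decide +kernel
theorem chk798 : subM 0 43556142965880123323311949751266331066368 = true := by decide +kernel
theorem chk799 : band (fixL (app2 18 19 5) (fun x => x) R [] pt784c) (subM 0 (insL [] 0)) = true := by decide +kernel
theorem chk805 : band (pieces (app2 18 19 5) (fun x => x) tab803 R 43556142965880123323311949751266331066368 [135] pt784c l804) (allL l804 fun p => subW 43556142965880123323311949751266331066368 p.2.1) = true := by decide +kernel
theorem chk806 : cover 3 [0] (l804) 0 = true := by decide +kernel
theorem chk809 : band (conjA (ops2 18) R 1106813582352595288064 77 l808) (subM 32667107224410092492483962313449748299776 (insL l808 0)) = true := by decide +kernel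
theorem chk811 : dcRel (ops2 18) R 1106813582352595288064 79228161333672716876136841216 77 22 l810 = true := by decide +kernel
theorem chk816 : band (pieces (app2 18 19 5) (keyL (app2 18 19 5) (fun x => x) om 2) tab814 R 76223250190290215815795912064716079366144 [133, 134, 135] pt183c l815) (allL l815 fun p => subW 1106813582352595288064 p.2.1) = true := by decide +kernel
theorem chk817 : cover 80 (List.map Prod.fst (l810)) (l815) 0 = true := by decide +kernel
theorem chk819 : allL (List.map Prod.fst (l810)) (subW 1106813582352595288064) = true := by decide +kernel
theorem chk821 : band (slp (ops2 18) R l820 1106813582352595288064) (subM 87112285931760246646623899502532662132736 (insL l820 1106813582352595288064)) = true := by decide +kernel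
theorem chk824 : subM 0 87112285931760246646623899502532662132736 = true := by decide +kernel
theorem chk825 : band (fixL (app2 18 19 5) (fun x => x) R [] pt823c) (subM 0 (insL [] 0)) = true := by decide +kernel
theorem chk831 : band (pieces (app2 18 19 5) (fun x => x) tab829 R 87112285931760246646623899502532662132736 [136] pt823c l830) (allL l830 fun p => subW 87112285931760246646623899502532662132736 p.2.1) = true := by decide +kernel
theorem chk832 : cover 3 [0] (l830) 0 = true := by decide +kernel
theorem chk835 : band (conjA (ops2 18) R 1106813582352595288064 78 l834) (subM 87112285931760246646623899502532662132736 (insL l834 0)) = true := by decide +kernel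
theorem chk839 : dcRel (ops2 18) R 1106813582352595288064 79228161333672716876136841216 78 22 l836 = true := by decide +kernel
theorem chk846 : band (pieces (app2 18 19 5) (keyL (app2 18 19 5) (fun x => x) om 2) tab842 R 87112285931760246646623899502532662132736 [136] pt183c l843) (allL l843 fun p => subW 1106813582352595288064 p.2.1) = true := by decide +kernel
theorem chk847 : cover 80 (List.map Prod.fst (l836)) (l843) 0 = true := by decide +kernel
theorem chk849 : allL (List.map Prod.fst (l836)) (subW 1106813582352595288064) = true := by decide +kernel
theorem chk865 : band (slp (ops2 18) R l864 1106813582352595288064) (subM 522673715590561479879743397015195972796416 (insL l864 1106813582352595288064)) = true := by decide +kernel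
theorem chk870 : band (slp (ops2 18) R l869 522673715590561479879743397015195972796416) (subM 2613368577952807399398716985075979863982080 (insL l869 522673715590561479879743397015195972796416)) = true := by decide +kernel
theorem chk872 : subM 2090694862362245919518973588060783891185664 2613368577952807399398716985075979863982080 = true := by decide +kernel
theorem chk873 : band (fixL (app2 18 19 5) (fun x => x) R [139, 140] pt867c) (subM 2090694862362245919518973588060783891185664 (insL [139, 140] 0)) = true := by decide +kernel
theorem chk879 : band (pieces (app2 18 19 5) (fun x => x) tab877 R 2613368577952807399398716985075979863982080 [137, 138, 139, 140] pt867c l878) (allL l878 fun p => subW 2613368577952807399398716985075979863982080 p.2.1) = true := by decide +kernel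
theorem chk880 : cover 3 [0] (l878) 0 = true := by decide +kernel
theorem chk882 : subM 0 2090694862362245919518973588060783891185664 = true := by decide +kernel
theorem chk883 : band (fixL (app2 18 19 5) (keyL (app2 18 19 5) (fun x => x) om 2) R [] pt868c) (subM 0 (insL [] 0)) = true := by decide +kernel
theorem chk889 : band (pieces (app2 18 19 5) (keyL (app2 18 19 5) (fun x => x) om 2) tab887 R 2090694862362245919518973588060783891185664 [139, 140] pt868c l888) (allL l888 fun p => subW 2090694862362245919518973588060783891185664 p.2.1) = true := by decide +kernel
theorem chk890 : cover 16 [0] (l888) 0 = true := by decide +kernel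
theorem chk893 : band (conjA (ops2 18) R 1106813582352595288064 79 l892) (subM 522673715590561479879743397015195972796416 (insL l892 0)) = true := by decide +kernel
theorem chk895 : dcRel (ops2 18) R 1106813582352595288064 79228161333672716876136841216 79 22 l894 = true := by decide +kernel
theorem chk900 : band (pieces (app2 18 19 5) (keyL (app2 18 19 5) (fun x => x) om 2) tab898 R 2613368577952807399398716985075979863982080 [137, 138, 139, 140] pt183c l899) (allL l899 fun p => subW 1106813582352595288064 p.2.1) = true := by decide +kernel
theorem chk901 : cover 80 (List.map Prod.fst (l894)) (l899) 0 = true := by decide +kernel
theorem chk903 : allL (List.map Prod.fst (l894)) (subW 1106813582352595288064) = true := by decide +kernel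
theorem chk909 : band (slp (ops2 18) R l908 1106813582352595288064) (subM 2787593149816327892691964784081045188247552 (insL l908 1106813582352595288064)) = true := by decide +kernel
theorem chk914 : band (slp (ops2 18) R l913 2787593149816327892691964784081045188247552) (subM 8362779449448983678075894352243135564742656 (insL l913 2787593149816327892691964784081045188247552)) = true := by decide +kernel
theorem chk916 : subM 5575186299632655785383929568162090376495104 8362779449448983678075894352243135564742656 = true := by decide +kernel
theorem chk917 : band (fixL (app2 18 19 5) (keyL (app2 18 19 5) (fun x => x) om 2) R [142] pt911c) (subM 5575186299632655785383929568162090376495104 (insL [142] 0)) = true := by decide +kernel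
theorem chk923 : band (pieces (app2 18 19 5) (keyL (app2 18 19 5) (fun x => x) om 2) tab921 R 8362779449448983678075894352243135564742656 [141, 142] pt911c l922) (allL l922 fun p => subW 8362779449448983678075894352243135564742656 p.2.1) = true := by decide +kernel
theorem chk924 : cover 2 [0] (l922) 0 = true := by decide +kernel
theorem chk926 : subM 0 5575186299632655785383929568162090376495104 = true := by decide +kernel
theorem chk927 : band (fixL (app2 18 19 5) (fun x => x) R [] pt912c) (subM 0 (insL [] 0)) = true := by decide +kernel
theorem chk933 : band (pieces (app2 18 19 5) (fun x => x) tab931 R 5575186299632655785383929568162090376495104 [142] pt912c l932) (allL l932 fun p => subW 5575186299632655785383929568162090376495104 p.2.1) = true := by decide +kernel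
theorem chk934 : cover 3 [0] (l932) 0 = true := by decide +kernel
theorem chk937 : band (conjA (ops2 18) R 1106813582352595288064 80 l936) (subM 2787593149816327892691964784081045188247552 (insL l936 0)) = true := by decide +kernel
theorem chk939 : dcRel (ops2 18) R 1106813582352595288064 79228161333672716876136841216 80 22 l938 = true := by decide +kernel
theorem chk944 : band (pieces (app2 18 19 5) (keyL (app2 18 19 5) (fun x => x) om 2) tab942 R 8362779449448983678075894352243135564742656 [141, 142] pt183c l943) (allL l943 fun p => subW 1106813582352595288064 p.2.1) = true := by decide +kernel
theorem chk945 : cover 80 (List.map Prod.fst (l938)) (l943) 0 = true := by decide +kernel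
theorem chk947 : allL (List.map Prod.fst (l938)) (subW 1106813582352595288064) = true := by decide +kernel
theorem chk953 : band (slp (ops2 18) R l952 1106813582352595288064) (subM 11150372599265311570767859136324180752990208 (insL l952 1106813582352595288064)) = true := by decide +kernel
theorem chk958 : band (slp (ops2 18) R l957 11150372599265311570767859136324180752990208) (subM 33451117797795934712303577408972542258970624 (insL l957 11150372599265311570767859136324180752990208)) = true := by decide +kernel
theorem chk960 : subM 22300745198530623141535718272648361505980416 33451117797795934712303577408972542258970624 = true := by decide +kernel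
theorem chk961 : band (fixL (app2 18 19 5) (keyL (app2 18 19 5) (fun x => x) om 2) R [144] pt955c) (subM 22300745198530623141535718272648361505980416 (insL [144] 0)) = true := by decide +kernel
theorem chk967 : band (pieces (app2 18 19 5) (keyL (app2 18 19 5) (fun x => x) om 2) tab965 R 33451117797795934712303577408972542258970624 [143, 144] pt955c l966) (allL l966 fun p => subW 33451117797795934712303577408972542258970624 p.2.1) = true := by decide +kernel
theorem chk968 : cover 2 [0] (l966) 0 = true := by decide +kernel
theorem chk970 : subM 0 22300745198530623141535718272648361505980416 = true := by decide +kernel
theorem chk971 : band (fixL (app2 18 19 5) (fun x => x) R [] pt956c) (subM 0 (insL [] 0)) = true := by decide +kernel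
theorem chk977 : band (pieces (app2 18 19 5) (fun x => x) tab975 R 22300745198530623141535718272648361505980416 [144] pt956c l976) (allL l976 fun p => subW 22300745198530623141535718272648361505980416 p.2.1) = true := by decide +kernel
theorem chk978 : cover 3 [0] (l976) 0 = true := by decide +kernel
theorem chk981 : band (conjA (ops2 18) R 1106813582352595288064 81 l980) (subM 11150372599265311570767859136324180752990208 (insL l980 0)) = true := by decide +kernel
theorem chk983 : dcRel (ops2 18) R 1106813582352595288064 79228161333672716876136841216 81 22 l982 = true := by decide +kernel
theorem chk988 : band (pieces (app2 18 19 5) (keyL (app2 18 19 5) (fun x => x) om 2) tab986 R 33451117797795934712303577408972542258970624 [143, 144] pt183c l987) (allL l987 fun p => subW 1106813582352595288064 p.2.1) = true := by decide +kernel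
theorem chk989 : cover 80 (List.map Prod.fst (l982)) (l987) 0 = true := by decide +kernel
theorem chk991 : allL (List.map Prod.fst (l982)) (subW 1106813582352595288064) = true := by decide +kernel
theorem chk1005 : band (slp (ops2 18) R l1004 1106813582352595288064) (subM 133804471191183738849214309635890169035882496 (insL l1004 1106813582352595288064)) = true := by decide +kernel
theorem chk1010 : band (slp (ops2 18) R l1009 133804471191183738849214309635890169035882496) (subM 312210432779428723981500055817077061083725824 (insL l1009 133804471191183738849214309635890169035882496)) = true := by decide +kernel
theorem chk1012 : subM 178405961588244985132285746181186892047843328 312210432779428723981500055817077061083725824 = true := by decide +kernel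
theorem chk1013 : band (fixL (app2 18 19 5) (keyL (app2 18 19 5) (fun x => x) om 2) R [147] pt1007c) (subM 178405961588244985132285746181186892047843328 (insL [147] 0)) = true := by decide +kernel
theorem chk1019 : band (pieces (app2 18 19 5) (keyL (app2 18 19 5) (fun x => x) om 2) tab1017 R 312210432779428723981500055817077061083725824 [145, 146, 147] pt1007c l1018) (allL l1018 fun p => subW 312210432779428723981500055817077061083725824 p.2.1) = true := by decide +kernel
theorem chk1020 : cover 2 [0] (l1018) 0 = true := by decide +kernel
theorem chk1022 : subM 0 178405961588244985132285746181186892047843328 = true := by decide +kernel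
theorem chk1023 : band (fixL (app2 18 19 5) (fun x => x) R [] pt1008c) (subM 0 (insL [] 0)) = true := by decide +kernel
theorem chk1029 : band (pieces (app2 18 19 5) (fun x => x) tab1027 R 178405961588244985132285746181186892047843328 [147] pt1008c l1028) (allL l1028 fun p => subW 178405961588244985132285746181186892047843328 p.2.1) = true := by decide +kernel
theorem chk1030 : cover 3 [0] (l1028) 0 = true := by decide +kernel
theorem chk1033 : band (conjA (ops2 18) R 1106813582352595288064 82 l1032) (subM 133804471191183738849214309635890169035882496 (insL l1032 0)) = true := by decide +kernel
theorem chk1035 : dcRel (ops2 18) R 1106813582352595288064 79228161333672716876136841216 82 22 l1034 = true := by decide +kernel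
theorem chk1040 : band (pieces (app2 18 19 5) (keyL (app2 18 19 5) (fun x => x) om 2) tab1038 R 312210432779428723981500055817077061083725824 [145, 146, 147] pt183c l1039) (allL l1039 fun p => subW 1106813582352595288064 p.2.1) = true := by decide +kernel
theorem chk1041 : cover 80 (List.map Prod.fst (l1034)) (l1039) 0 = true := by decide +kernel
theorem chk1043 : allL (List.map Prod.fst (l1034)) (subW 1106813582352595288064) = true := by decide +kernel
theorem chk1045 : band (slp (ops2 18) R l1044 1106813582352595288064) (subM 356811923176489970264571492362373784095686656 (insL l1044 1106813582352595288064)) = true := by decide +kernel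
theorem chk1048 : subM 0 356811923176489970264571492362373784095686656 = true := by decide +kernel
theorem chk1049 : band (fixL (app2 18 19 5) (fun x => x) R [] pt1047c) (subM 0 (insL [] 0)) = true := by decide +kernel
theorem chk1055 : band (pieces (app2 18 19 5) (fun x => x) tab1053 R 356811923176489970264571492362373784095686656 [148] pt1047c l1054) (allL l1054 fun p => subW 356811923176489970264571492362373784095686656 p.2.1) = true := by decide +kernel
theorem chk1056 : cover 3 [0] (l1054) 0 = true := by decide +kernel
theorem chk1059 : band (conjA (ops2 18) R 1106813582352595288064 83 l1058) (subM 356811923176489970264571492362373784095686656 (insL l1058 0)) = true := by decide +kernel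
theorem chk1063 : dcRel (ops2 18) R 1106813582352595288064 79228161333672716876136841216 83 22 l1060 = true := by decide +kernel
theorem chk1070 : band (pieces (app2 18 19 5) (keyL (app2 18 19 5) (fun x => x) om 2) tab1066 R 356811923176489970264571492362373784095686656 [148] pt183c l1067) (allL l1067 fun p => subW 1106813582352595288064 p.2.1) = true := by decide +kernel
theorem chk1071 : cover 80 (List.map Prod.fst (l1060)) (l1067) 0 = true := by decide +kernel
theorem chk1073 : allL (List.map Prod.fst (l1060)) (subW 1106813582352595288064) = true := by decide +kernel
theorem chk1079 : band (slp (ops2 18) R l1078 1106813582352595288064) (subM 713623846352979940529142984724747568191373312 (insL l1078 1106813582352595288064)) = true := by decide +kernel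
theorem chk1084 : band (slp (ops2 18) R l1083 713623846352979940529142984724747568191373312) (subM 2140871539058939821587428954174242704574119936 (insL l1083 713623846352979940529142984724747568191373312)) = true := by decide +kernel
theorem chk1086 : subM 1427247692705959881058285969449495136382746624 2140871539058939821587428954174242704574119936 = true := by decide +kernel
theorem chk1087 : band (fixL (app2 18 19 5) (keyL (app2 18 19 5) (fun x => x) om 2) R [150] pt1081c) (subM 1427247692705959881058285969449495136382746624 (insL [150] 0)) = true := by decide +kernel
theorem chk1093 : band (pieces (app2 18 19 5) (keyL (app2 18 19 5) (fun x => x) om 2) tab1091 R 2140871539058939821587428954174242704574119936 [149, 150] pt1081c l1092) (allL l1092 fun p => subW 2140871539058939821587428954174242704574119936 p.2.1) = true := by decide +kernel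
theorem chk1094 : cover 2 [0] (l1092) 0 = true := by decide +kernel
theorem chk1096 : subM 0 1427247692705959881058285969449495136382746624 = true := by decide +kernel
theorem chk1097 : band (fixL (app2 18 19 5) (fun x => x) R [] pt1082c) (subM 0 (insL [] 0)) = true := by decide +kernel
theorem chk1103 : band (pieces (app2 18 19 5) (fun x => x) tab1101 R 1427247692705959881058285969449495136382746624 [150] pt1082c l1102) (allL l1102 fun p => subW 1427247692705959881058285969449495136382746624 p.2.1) = true := by decide +kernel
theorem chk1104 : cover 3 [0] (l1102) 0 = true := by decide +kernel
theorem chk1107 : band (conjA (ops2 18) R 1106813582352595288064 84 l1106) (subM 713623846352979940529142984724747568191373312 (insL l1106 0)) = true := by decide +kernel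
theorem chk1109 : dcRel (ops2 18) R 1106813582352595288064 79228161333672716876136841216 84 22 l1108 = true := by decide +kernel
theorem chk1114 : band (pieces (app2 18 19 5) (keyL (app2 18 19 5) (fun x => x) om 2) tab1112 R 2140871539058939821587428954174242704574119936 [149, 150] pt183c l1113) (allL l1113 fun p => subW 1106813582352595288064 p.2.1) = true := by decide +kernel
theorem chk1115 : cover 80 (List.map Prod.fst (l1108)) (l1113) 0 = true := by decide +kernel
theorem chk1117 : allL (List.map Prod.fst (l1108)) (subW 1106813582352595288064) = true := by decide +kernel
theorem chk1123 : band (slp (ops2 18) R l1122 1106813582352595288064) (subM 2854495385411919762116571938898990272765493248 (insL l1122 1106813582352595288064)) = true := by decide +kernel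
theorem chk1128 : band (slp (ops2 18) R l1127 2854495385411919762116571938898990272765493248) (subM 8563486156235759286349715816696970818296479744 (insL l1127 2854495385411919762116571938898990272765493248)) = true := by decide +kernel
theorem chk1130 : subM 5708990770823839524233143877797980545530986496 8563486156235759286349715816696970818296479744 = true := by decide +kernel
theorem chk1131 : band (fixL (app2 18 19 5) (keyL (app2 18 19 5) (fun x => x) om 2) R [152] pt1125c) (subM 5708990770823839524233143877797980545530986496 (insL [152] 0)) = true := by decide +kernel
theorem chk1137 : band (pieces (app2 18 19 5) (keyL (app2 18 19 5) (fun x => x) om 2) tab1135 R 8563486156235759286349715816696970818296479744 [151, 152] pt1125c l1136) (allL l1136 fun p => subW 8563486156235759286349715816696970818296479744 p.2.1) = true := by decide +kernel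
theorem chk1138 : cover 2 [0] (l1136) 0 = true := by decide +kernel
theorem chk1140 : subM 0 5708990770823839524233143877797980545530986496 = true := by decide +kernel
theorem chk1141 : band (fixL (app2 18 19 5) (fun x => x) R [] pt1126c) (subM 0 (insL [] 0)) = true := by decide +kernel
theorem chk1147 : band (pieces (app2 18 19 5) (fun x => x) tab1145 R 5708990770823839524233143877797980545530986496 [152] pt1126c l1146) (allL l1146 fun p => subW 5708990770823839524233143877797980545530986496 p.2.1) = true := by decide +kernel
theorem chk1148 : cover 3 [0] (l1146) 0 = true := by decide +kernel
theorem chk1151 : band (conjA (ops2 18) R 1106813582352595288064 85 l1150) (subM 2854495385411919762116571938898990272765493248 (insL l1150 0)) = true := by decide +kernel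
theorem chk1153 : dcRel (ops2 18) R 1106813582352595288064 79228161333672716876136841216 85 22 l1152 = true := by decide +kernel
theorem chk1158 : band (pieces (app2 18 19 5) (keyL (app2 18 19 5) (fun x => x) om 2) tab1156 R 8563486156235759286349715816696970818296479744 [151, 152] pt183c l1157) (allL l1157 fun p => subW 1106813582352595288064 p.2.1) = true := by decide +kernel
theorem chk1159 : cover 80 (List.map Prod.fst (l1152)) (l1157) 0 = true := by decide +kernel
theorem chk1161 : allL (List.map Prod.fst (l1152)) (subW 1106813582352595288064) = true := by decide +kernel
theorem chk1175 : band (slp (ops2 18) R l1174 1106813582352595288064) (subM 34253944624943037145398863266787883273185918976 (insL l1174 1106813582352595288064)) = true := by decide +kernel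
theorem chk1180 : band (slp (ops2 18) R l1179 34253944624943037145398863266787883273185918976) (subM 171269723124715185726994316333939416365929594880 (insL l1179 34253944624943037145398863266787883273185918976)) = true := by decide +kernel
theorem chk1182 : subM 137015778499772148581595453067151533092743675904 171269723124715185726994316333939416365929594880 = true := by decide +kernel
theorem chk1183 : band (fixL (app2 18 19 5) (fun x => x) R [155, 156] pt1177c) (subM 137015778499772148581595453067151533092743675904 (insL [155, 156] 0)) = true := by decide +kernel
theorem chk1189 : band (pieces (app2 18 19 5) (fun x => x) tab1187 R 171269723124715185726994316333939416365929594880 [153, 154, 155, 156] pt1177c l1188) (allL l1188 fun p => subW 171269723124715185726994316333939416365929594880 p.2.1) = true := by decide +kernel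
theorem chk1190 : cover 3 [0] (l1188) 0 = true := by decide +kernel
theorem chk1192 : subM 0 137015778499772148581595453067151533092743675904 = true := by decide +kernel
theorem chk1193 : band (fixL (app2 18 19 5) (keyL (app2 18 19 5) (fun x => x) om 2) R [] pt1178c) (subM 0 (insL [] 0)) = true := by decide +kernel
theorem chk1199 : band (pieces (app2 18 19 5) (keyL (app2 18 19 5) (fun x => x) om 2) tab1197 R 137015778499772148581595453067151533092743675904 [155, 156] pt1178c l1198) (allL l1198 fun p => subW 137015778499772148581595453067151533092743675904 p.2.1) = true := by decide +kernel
theorem chk1200 : cover 4 [0] (l1198) 0 = true := by decide +kernel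
theorem chk1203 : band (conjA (ops2 18) R 1106813582352595288064 86 l1202) (subM 34253944624943037145398863266787883273185918976 (insL l1202 0)) = true := by decide +kernel
theorem chk1205 : dcRel (ops2 18) R 1106813582352595288064 79228161333672716876136841216 86 22 l1204 = true := by decide +kernel
theorem chk1210 : band (pieces (app2 18 19 5) (keyL (app2 18 19 5) (fun x => x) om 2) tab1208 R 171269723124715185726994316333939416365929594880 [153, 154, 155, 156] pt183c l1209) (allL l1209 fun p => subW 1106813582352595288064 p.2.1) = true := by decide +kernel
theorem chk1211 : cover 80 (List.map Prod.fst (l1204)) (l1209) 0 = true := by decide +kernel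
theorem chk1213 : allL (List.map Prod.fst (l1204)) (subW 1106813582352595288064) = true := by decide +kernel
theorem chk1215 : band (slp (ops2 18) R l1214 1106813582352595288064) (subM 182687704666362864775460604089535377456991567872 (insL l1214 1106813582352595288064)) = true := by decide +kernel
theorem chk1220 : band (slp (ops2 18) R l1219 182687704666362864775460604089535377456991567872) (subM 548063113999088594326381812268606132370974703616 (insL l1219 182687704666362864775460604089535377456991567872)) = true := by decide +kernel
theorem chk1222 : subM 365375409332725729550921208179070754913983135744 548063113999088594326381812268606132370974703616 = true := by decide +kernel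
theorem chk1223 : band (fixL (app2 18 19 5) (keyL (app2 18 19 5) (fun x => x) om 2) R [158] pt1217c) (subM 365375409332725729550921208179070754913983135744 (insL [158] 0)) = true := by decide +kernel
theorem chk1229 : band (pieces (app2 18 19 5) (keyL (app2 18 19 5) (fun x => x) om 2) tab1227 R 548063113999088594326381812268606132370974703616 [157, 158] pt1217c l1228) (allL l1228 fun p => subW 548063113999088594326381812268606132370974703616 p.2.1) = true := by decide +kernel
theorem chk1230 : cover 2 [0] (l1228) 0 = true := by decide +kernel
theorem chk1232 : subM 0 365375409332725729550921208179070754913983135744 = true := by decide +kernel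
theorem chk1233 : band (fixL (app2 18 19 5) (fun x => x) R [] pt1218c) (subM 0 (insL [] 0)) = true := by decide +kernel
theorem chk1239 : band (pieces (app2 18 19 5) (fun x => x) tab1237 R 365375409332725729550921208179070754913983135744 [158] pt1218c l1238) (allL l1238 fun p => subW 365375409332725729550921208179070754913983135744 p.2.1) = true := by decide +kernel
theorem chk1240 : cover 3 [0] (l1238) 0 = true := by decide +kernel
theorem chk1243 : band (conjA (ops2 18) R 1106813582352595288064 87 l1242) (subM 182687704666362864775460604089535377456991567872 (insL l1242 0)) = true := by decide +kernel
theorem chk1245 : dcRel (ops2 18) R 1106813582352595288064 79228161333672716876136841216 87 22 l1244 = true := by decide +kernel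
theorem chk1250 : band (pieces (app2 18 19 5) (keyL (app2 18 19 5) (fun x => x) om 2) tab1248 R 548063113999088594326381812268606132370974703616 [157, 158] pt183c l1249) (allL l1249 fun p => subW 1106813582352595288064 p.2.1) = true := by decide +kernel
theorem chk1251 : cover 80 (List.map Prod.fst (l1244)) (l1249) 0 = true := by decide +kernel
theorem chk1253 : allL (List.map Prod.fst (l1244)) (subW 1106813582352595288064) = true := by decide +kernel
theorem chk1263 : band (slp (ops2 18) R l1262 1106813582352595288064) (subM 730750818665451459101842416358141509827966271488 (insL l1262 1106813582352595288064)) = true := by decide +kernel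
theorem chk1268 : band (slp (ops2 18) R l1267 730750818665451459101842416358141509827966271488) (subM 2192252455996354377305527249074424529483898814464 (insL l1267 730750818665451459101842416358141509827966271488)) = true := by decide +kernel
theorem chk1270 : subM 1461501637330902918203684832716283019655932542976 2192252455996354377305527249074424529483898814464 = true := by decide +kernel
theorem chk1271 : band (fixL (app2 18 19 5) (keyL (app2 18 19 5) (fun x => x) om 2) R [160] pt1265c) (subM 1461501637330902918203684832716283019655932542976 (insL [160] 0)) = true := by decide +kernel
theorem chk1277 : band (pieces (app2 18 19 5) (keyL (app2 18 19 5) (fun x => x) om 2) tab1275 R 2192252455996354377305527249074424529483898814464 [159, 160] pt1265c l1276) (allL l1276 fun p => subW 2192252455996354377305527249074424529483898814464 p.2.1) = true := by decide +kernel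
theorem chk1278 : cover 2 [0] (l1276) 0 = true := by decide +kernel
theorem chk1280 : subM 0 1461501637330902918203684832716283019655932542976 = true := by decide +kernel
theorem chk1281 : band (fixL (app2 18 19 5) (fun x => x) R [] pt1266c) (subM 0 (insL [] 0)) = true := by decide +kernel
theorem chk1287 : band (pieces (app2 18 19 5) (fun x => x) tab1285 R 1461501637330902918203684832716283019655932542976 [160] pt1266c l1286) (allL l1286 fun p => subW 1461501637330902918203684832716283019655932542976 p.2.1) = true := by decide +kernel
theorem chk1288 : cover 3 [0] (l1286) 0 = true := by decide +kernel
theorem chk1291 : band (conjA (ops2 18) R 1106813582352595288064 88 l1290) (subM 730750818665451459101842416358141509827966271488 (insL l1290 0)) = true := by decide +kernel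
theorem chk1293 : dcRel (ops2 18) R 1106813582352595288064 79228161333672716876136841216 88 22 l1292 = true := by decide +kernel
theorem chk1298 : band (pieces (app2 18 19 5) (keyL (app2 18 19 5) (fun x => x) om 2) tab1296 R 2192252455996354377305527249074424529483898814464 [159, 160] pt183c l1297) (allL l1297 fun p => subW 1106813582352595288064 p.2.1) = true := by decide +kernel
theorem chk1299 : cover 80 (List.map Prod.fst (l1292)) (l1297) 0 = true := by decide +kernel
theorem chk1301 : allL (List.map Prod.fst (l1292)) (subW 1106813582352595288064) = true := by decide +kernel
theorem chk1307 : band (slp (ops2 18) R l1306 1106813582352595288064) (subM 2923003274661805836407369665432566039311865085952 (insL l1306 1106813582352595288064)) = true := by decide +kernel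
theorem chk1312 : band (slp (ops2 18) R l1311 2923003274661805836407369665432566039311865085952) (subM 8769009823985417509222108996297698117935595257856 (insL l1311 2923003274661805836407369665432566039311865085952)) = true := by decide +kernel
theorem chk1314 : subM 5846006549323611672814739330865132078623730171904 8769009823985417509222108996297698117935595257856 = true := by decide +kernel
theorem chk1315 : band (fixL (app2 18 19 5) (keyL (app2 18 19 5) (fun x => x) om 2) R [162] pt1309c) (subM 5846006549323611672814739330865132078623730171904 (insL [162] 0)) = true := by decide +kernel
theorem chk1321 : band (pieces (app2 18 19 5) (keyL (app2 18 19 5) (fun x => x) om 2) tab1319 R 8769009823985417509222108996297698117935595257856 [161, 162] pt1309c l1320) (allL l1320 fun p => subW 8769009823985417509222108996297698117935595257856 p.2.1) = true := by decide +kernel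
theorem chk1322 : cover 2 [0] (l1320) 0 = true := by decide +kernel
theorem chk1324 : subM 0 5846006549323611672814739330865132078623730171904 = true := by decide +kernel
theorem chk1325 : band (fixL (app2 18 19 5) (fun x => x) R [] pt1310c) (subM 0 (insL [] 0)) = true := by decide +kernel
theorem chk1331 : band (pieces (app2 18 19 5) (fun x => x) tab1329 R 5846006549323611672814739330865132078623730171904 [162] pt1310c l1330) (allL l1330 fun p => subW 5846006549323611672814739330865132078623730171904 p.2.1) = true := by decide +kernel
theorem chk1332 : cover 3 [0] (l1330) 0 = true := by decide +kernel
theorem chk1335 : band (conjA (ops2 18) R 1106813582352595288064 89 l1334) (subM 2923003274661805836407369665432566039311865085952 (insL l1334 0)) = true := by decide +kernel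
theorem chk1337 : dcRel (ops2 18) R 1106813582352595288064 79228161333672716876136841216 89 22 l1336 = true := by decide +kernel
theorem chk1342 : band (pieces (app2 18 19 5) (keyL (app2 18 19 5) (fun x => x) om 2) tab1340 R 8769009823985417509222108996297698117935595257856 [161, 162] pt183c l1341) (allL l1341 fun p => subW 1106813582352595288064 p.2.1) = true := by decide +kernel
theorem chk1343 : cover 80 (List.map Prod.fst (l1336)) (l1341) 0 = true := by decide +kernel
theorem chk1345 : allL (List.map Prod.fst (l1336)) (subW 1106813582352595288064) = true := by decide +kernel
theorem chk1363 : band (slp (ops2 18) R l1362 1106813582352595288064) (subM 35076039295941670036888435985190792471742381031424 (insL l1362 1106813582352595288064)) = true := by decide +kernel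
theorem chk1368 : band (slp (ops2 18) R l1367 35076039295941670036888435985190792471742381031424) (subM 81844091690530563419406350632111849100732222406656 (insL l1367 35076039295941670036888435985190792471742381031424)) = true := by decide +kernel
theorem chk1370 : subM 46768052394588893382517914646921056628989841375232 81844091690530563419406350632111849100732222406656 = true := by decide +kernel
theorem chk1371 : band (fixL (app2 18 19 5) (fun x => x) R [165] pt1365c) (subM 46768052394588893382517914646921056628989841375232 (insL [165] 0)) = true := by decide +kernel
theorem chk1377 : band (pieces (app2 18 19 5) (fun x => x) tab1375 R 81844091690530563419406350632111849100732222406656 [163, 164, 165] pt1365c l1376) (allL l1376 fun p => subW 81844091690530563419406350632111849100732222406656 p.2.1) = true := by decide +kernel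
theorem chk1378 : cover 3 [0] (l1376) 0 = true := by decide +kernel
theorem chk1380 : subM 0 46768052394588893382517914646921056628989841375232 = true := by decide +kernel
theorem chk1381 : band (fixL (app2 18 19 5) (keyL (app2 18 19 5) (fun x => x) om 2) R [] pt1366c) (subM 0 (insL [] 0)) = true := by decide +kernel
theorem chk1387 : band (pieces (app2 18 19 5) (keyL (app2 18 19 5) (fun x => x) om 2) tab1385 R 46768052394588893382517914646921056628989841375232 [165] pt1366c l1386) (allL l1386 fun p => subW 46768052394588893382517914646921056628989841375232 p.2.1) = true := by decide +kernel
theorem chk1388 : cover 2 [0] (l1386) 0 = true := by decide +kernel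
theorem chk1391 : band (conjA (ops2 18) R 1106813582352595288064 90 l1390) (subM 35076039295941670036888435985190792471742381031424 (insL l1390 0)) = true := by decide +kernel
theorem chk1393 : dcRel (ops2 18) R 1106813582352595288064 79228161333672716876136841216 90 22 l1392 = true := by decide +kernel
theorem chk1398 : band (pieces (app2 18 19 5) (keyL (app2 18 19 5) (fun x => x) om 2) tab1396 R 81844091690530563419406350632111849100732222406656 [163, 164, 165] pt183c l1397) (allL l1397 fun p => subW 1106813582352595288064 p.2.1) = true := by decide +kernel
theorem chk1399 : cover 80 (List.map Prod.fst (l1392)) (l1397) 0 = true := by decide +kernel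
theorem chk1401 : allL (List.map Prod.fst (l1392)) (subW 1106813582352595288064) = true := by decide +kernel
theorem chk1415 : band (slp (ops2 18) R l1414 1106813582352595288064) (subM 280608314367533360295107487881526339773939048251392 (insL l1414 1106813582352595288064)) = true := by decide +kernel
theorem chk1420 : band (slp (ops2 18) R l1419 280608314367533360295107487881526339773939048251392) (subM 654752733524244507355250805056894792805857779253248 (insL l1419 280608314367533360295107487881526339773939048251392)) = true := by decide +kernel
theorem chk1422 : subM 374144419156711147060143317175368453031918731001856 654752733524244507355250805056894792805857779253248 = true := by decide +kernel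
theorem chk1423 : band (fixL (app2 18 19 5) (fun x => x) R [168] pt1417c) (subM 374144419156711147060143317175368453031918731001856 (insL [168] 0)) = true := by decide +kernel
theorem chk1429 : band (pieces (app2 18 19 5) (fun x => x) tab1427 R 654752733524244507355250805056894792805857779253248 [166, 167, 168] pt1417c l1428) (allL l1428 fun p => subW 654752733524244507355250805056894792805857779253248 p.2.1) = true := by decide +kernel
theorem chk1430 : cover 3 [0] (l1428) 0 = true := by decide +kernel
theorem chk1432 : subM 0 374144419156711147060143317175368453031918731001856 = true := by decide +kernel
theorem chk1433 : band (fixL (app2 18 19 5) (keyL (app2 18 19 5) (fun x => x) om 2) R [] pt1418c) (subM 0 (insL [] 0)) = true := by decide +kernel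
theorem chk1439 : band (pieces (app2 18 19 5) (keyL (app2 18 19 5) (fun x => x) om 2) tab1437 R 374144419156711147060143317175368453031918731001856 [168] pt1418c l1438) (allL l1438 fun p => subW 374144419156711147060143317175368453031918731001856 p.2.1) = true := by decide +kernel
theorem chk1440 : cover 2 [0] (l1438) 0 = true := by decide +kernel
theorem chk1443 : band (conjA (ops2 18) R 1106813582352595288064 91 l1442) (subM 280608314367533360295107487881526339773939048251392 (insL l1442 0)) = true := by decide +kernel
theorem chk1445 : dcRel (ops2 18) R 1106813582352595288064 79228161333672716876136841216 91 22 l1444 = true := by decide +kernel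
theorem chk1450 : band (pieces (app2 18 19 5) (keyL (app2 18 19 5) (fun x => x) om 2) tab1448 R 654752733524244507355250805056894792805857779253248 [166, 167, 168] pt183c l1449) (allL l1449 fun p => subW 1106813582352595288064 p.2.1) = true := by decide +kernel
theorem chk1451 : cover 80 (List.map Prod.fst (l1444)) (l1449) 0 = true := by decide +kernel
theorem chk1453 : allL (List.map Prod.fst (l1444)) (subW 1106813582352595288064) = true := by decide +kernel
theorem chk1488 : band (slp (ops2 18) R l1487 1106813582352595288064) (subM 5238021868193956058842006440455158342446862234025984 (insL l1487 1106813582352595288064)) = true := by decide +kernel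
theorem chk1493 : band (slp (ops2 18) R l1492 5238021868193956058842006440455158342446862234025984) (subM 23196953987716091117728885664872844087978961322115072 (insL l1492 5238021868193956058842006440455158342446862234025984)) = true := by decide +kernel
theorem chk1495 : subM 17958932119522135058886879224417685745532099088089088 23196953987716091117728885664872844087978961322115072 = true := by decide +kernel
theorem chk1496 : band (fixL (app2 18 19 5) (fun x => x) R [172, 173] pt1490c) (subM 17958932119522135058886879224417685745532099088089088 (insL [172, 173] 0)) = true := by decide +kernel
theorem chk1502 : band (pieces (app2 18 19 5) (fun x => x) tab1500 R 23196953987716091117728885664872844087978961322115072 [169, 170, 171, 172, 173] pt1490c l1501) (allL l1501 fun p => subW 23196953987716091117728885664872844087978961322115072 p.2.1) = true := by decide +kernel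
theorem chk1503 : cover 3 [0] (l1501) 0 = true := by decide +kernel
theorem chk1505 : subM 0 17958932119522135058886879224417685745532099088089088 = true := by decide +kernel
theorem chk1506 : band (fixL (app2 18 19 5) (keyL (app2 18 19 5) (fun x => x) om 2) R [] pt1491c) (subM 0 (insL [] 0)) = true := by decide +kernel
theorem chk1512 : band (pieces (app2 18 19 5) (keyL (app2 18 19 5) (fun x => x) om 2) tab1510 R 17958932119522135058886879224417685745532099088089088 [172, 173] pt1491c l1511) (allL l1511 fun p => subW 17958932119522135058886879224417685745532099088089088 p.2.1) = true := by decide +kernel
theorem chk1513 : cover 4 [0] (l1511) 0 = true := by decide +kernel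
theorem chk1516 : band (conjA (ops2 18) R 1106813582352595288064 92 l1515) (subM 5238021868193956058842006440455158342446862234025984 (insL l1515 0)) = true := by decide +kernel
theorem chk1518 : dcRel (ops2 18) R 1106813582352595288064 79228161333672716876136841216 92 22 l1517 = true := by decide +kernel
theorem chk1523 : band (pieces (app2 18 19 5) (keyL (app2 18 19 5) (fun x => x) om 2) tab1521 R 23196953987716091117728885664872844087978961322115072 [169, 170, 171, 172, 173] pt183c l1522) (allL l1522 fun p => subW 1106813582352595288064 p.2.1) = true := by decide +kernel
theorem chk1524 : cover 80 (List.map Prod.fst (l1517)) (l1522) 0 = true := by decide +kernel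
theorem chk1526 : allL (List.map Prod.fst (l1517)) (subW 1106813582352595288064) = true := by decide +kernel
theorem chk1552 : band (slp (ops2 18) R l1551 1106813582352595288064) (subM 71835728478088540235547516897670742982128396352356352 (insL l1551 1106813582352595288064)) = true := by decide +kernel
theorem chk1557 : band (slp (ops2 18) R l1556 71835728478088540235547516897670742982128396352356352) (subM 359178642390442701177737584488353714910641981761781760 (insL l1556 71835728478088540235547516897670742982128396352356352)) = true := by decide +kernel
theorem chk1559 : subM 287342913912354160942190067590682971928513585409425408 359178642390442701177737584488353714910641981761781760 = true := by decide +kernel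
theorem chk1560 : band (fixL (app2 18 19 5) (fun x => x) R [176, 177] pt1554c) (subM 287342913912354160942190067590682971928513585409425408 (insL [176, 177] 0)) = true := by decide +kernel
theorem chk1566 : band (pieces (app2 18 19 5) (fun x => x) tab1564 R 359178642390442701177737584488353714910641981761781760 [174, 175, 176, 177] pt1554c l1565) (allL l1565 fun p => subW 359178642390442701177737584488353714910641981761781760 p.2.1) = true := by decide +kernel
theorem chk1567 : cover 3 [0] (l1565) 0 = true := by decide +kernel
theorem chk1569 : subM 0 287342913912354160942190067590682971928513585409425408 = true := by decide +kernel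
theorem chk1570 : band (fixL (app2 18 19 5) (keyL (app2 18 19 5) (fun x => x) om 2) R [] pt1555c) (subM 0 (insL [] 0)) = true := by decide +kernel
theorem chk1576 : band (pieces (app2 18 19 5) (keyL (app2 18 19 5) (fun x => x) om 2) tab1574 R 287342913912354160942190067590682971928513585409425408 [176, 177] pt1555c l1575) (allL l1575 fun p => subW 287342913912354160942190067590682971928513585409425408 p.2.1) = true := by decide +kernel
theorem chk1577 : cover 4 [0] (l1575) 0 = true := by decide +kernel
theorem chk1580 : band (conjA (ops2 18) R 1106813582352595288064 93 l1579) (subM 71835728478088540235547516897670742982128396352356352 (insL l1579 0)) = true := by decide +kernel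
theorem chk1582 : dcRel (ops2 18) R 1106813582352595288064 79228161333672716876136841216 93 22 l1581 = true := by decide +kernel
theorem chk1587 : band (pieces (app2 18 19 5) (keyL (app2 18 19 5) (fun x => x) om 2) tab1585 R 359178642390442701177737584488353714910641981761781760 [174, 175, 176, 177] pt183c l1586) (allL l1586 fun p => subW 1106813582352595288064 p.2.1) = true := by decide +kernel
theorem chk1588 : cover 80 (List.map Prod.fst (l1581)) (l1586) 0 = true := by decide +kernel
theorem chk1590 : allL (List.map Prod.fst (l1581)) (subW 1106813582352595288064) = true := by decide +kernel
theorem chk1606 : band (slp (ops2 18) R l1605 1106813582352595288064) (subM 1149371655649416643768760270362731887714054341637701632 (insL l1605 1106813582352595288064)) = true := by decide +kernel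
theorem chk1612 : band (slp (ops2 18) R l1611 1149371655649416643768760270362731887714054341637701632) (subM 5746858278247083218843801351813659438570271708188508160 (insL l1611 1149371655649416643768760270362731887714054341637701632)) = true := by decide +kernel
theorem chk1614 : subM 4597486622597666575075041081450927550856217366550806528 5746858278247083218843801351813659438570271708188508160 = true := by decide +kernel
theorem chk1615 : band (fixL (app2 18 19 5) (keyL (app2 18 19 5) (fun x => x) om 2) R [180, 181] pt1608c) (subM 4597486622597666575075041081450927550856217366550806528 (insL [180, 181] 0)) = true := by decide +kernel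
theorem chk1621 : band (pieces (app2 18 19 5) (keyL (app2 18 19 5) (fun x => x) om 2) tab1619 R 5746858278247083218843801351813659438570271708188508160 [178, 179, 180, 181] pt1608c l1620) (allL l1620 fun p => subW 5746858278247083218843801351813659438570271708188508160 p.2.1) = true := by decide +kernel
theorem chk1622 : cover 2 [0] (l1620) 0 = true := by decide +kernel
theorem chk1624 : subM 3064991081731777716716694054300618367237478244367204352 4597486622597666575075041081450927550856217366550806528 = true := by decide +kernel
theorem chk1625 : band (fixL (app2 18 19 5) (keyL (app2 18 19 5) (fun x => x) om 2) R [181] pt1609c) (subM 3064991081731777716716694054300618367237478244367204352 (insL [181] 0)) = true := by decide +kernel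
theorem chk1631 : band (pieces (app2 18 19 5) (keyL (app2 18 19 5) (fun x => x) om 2) tab1629 R 4597486622597666575075041081450927550856217366550806528 [180, 181] pt1609c l1630) (allL l1630 fun p => subW 4597486622597666575075041081450927550856217366550806528 p.2.1) = true := by decide +kernel
theorem chk1632 : cover 2 [0] (l1630) 0 = true := by decide +kernel
theorem chk1634 : subM 0 3064991081731777716716694054300618367237478244367204352 = true := by decide +kernel
theorem chk1635 : band (fixL (app2 18 19 5) (fun x => x) R [] pt1610c) (subM 0 (insL [] 0)) = true := by decide +kernel
theorem chk1641 : band (pieces (app2 18 19 5) (fun x => x) tab1639 R 3064991081731777716716694054300618367237478244367204352 [181] pt1610c l1640) (allL l1640 fun p => subW 3064991081731777716716694054300618367237478244367204352 p.2.1) = true := by decide +kernel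
theorem chk1642 : cover 3 [0] (l1640) 0 = true := by decide +kernel
theorem chk1645 : band (conjA (ops2 18) R 1106813582352595288064 94 l1644) (subM 1149371655649416643768760270362731887714054341637701632 (insL l1644 0)) = true := by decide +kernel
theorem chk1647 : dcRel (ops2 18) R 1106813582352595288064 79228161333672716876136841216 94 22 l1646 = true := by decide +kernel
theorem chk1652 : band (pieces (app2 18 19 5) (keyL (app2 18 19 5) (fun x => x) om 2) tab1650 R 5746858278247083218843801351813659438570271708188508160 [178, 179, 180, 181] pt183c l1651) (allL l1651 fun p => subW 1106813582352595288064 p.2.1) = true := by decide +kernel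
theorem chk1653 : cover 80 (List.map Prod.fst (l1646)) (l1651) 0 = true := by decide +kernel
theorem chk1655 : allL (List.map Prod.fst (l1646)) (subW 1106813582352595288064) = true := by decide +kernel
theorem chk1686 : band (slp (ops2 18) R l1685 1106813582352595288064) (subM 42909875144244888034033716760208657141324695421140860928 (insL l1685 1106813582352595288064)) = true := by decide +kernel
theorem chk1691 : band (slp (ops2 18) R l1690 42909875144244888034033716760208657141324695421140860928) (subM 190029447067370218436435031366638338768723651150766669824 (insL l1690 42909875144244888034033716760208657141324695421140860928)) = true := by decide +kernel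
theorem chk1693 : subM 147119571923125330402401314606429681627398955729625808896 190029447067370218436435031366638338768723651150766669824 = true := by decide +kernel
theorem chk1694 : band (fixL (app2 18 19 5) (fun x => x) R [185, 186] pt1688c) (subM 147119571923125330402401314606429681627398955729625808896 (insL [185, 186] 0)) = true := by decide +kernel
theorem chk1700 : band (pieces (app2 18 19 5) (fun x => x) tab1698 R 190029447067370218436435031366638338768723651150766669824 [182, 183, 184, 185, 186] pt1688c l1699) (allL l1699 fun p => subW 190029447067370218436435031366638338768723651150766669824 p.2.1) = true := by decide +kernel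
theorem chk1701 : cover 3 [0] (l1699) 0 = true := by decide +kernel
theorem chk1703 : subM 0 147119571923125330402401314606429681627398955729625808896 = true := by decide +kernel
theorem chk1704 : band (fixL (app2 18 19 5) (keyL (app2 18 19 5) (fun x => x) om 2) R [] pt1689c) (subM 0 (insL [] 0)) = true := by decide +kernel
theorem chk1710 : band (pieces (app2 18 19 5) (keyL (app2 18 19 5) (fun x => x) om 2) tab1708 R 147119571923125330402401314606429681627398955729625808896 [185, 186] pt1689c l1709) (allL l1709 fun p => subW 147119571923125330402401314606429681627398955729625808896 p.2.1) = true := by decide +kernel
theorem chk1711 : cover 4 [0] (l1709) 0 = true := by decide +kernel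
theorem chk1714 : band (conjA (ops2 18) R 1106813582352595288064 95 l1713) (subM 42909875144244888034033716760208657141324695421140860928 (insL l1713 0)) = true := by decide +kernel
theorem chk1716 : dcRel (ops2 18) R 1106813582352595288064 79228161333672716876136841216 95 22 l1715 = true := by decide +kernel
theorem chk1721 : band (pieces (app2 18 19 5) (keyL (app2 18 19 5) (fun x => x) om 2) tab1719 R 190029447067370218436435031366638338768723651150766669824 [182, 183, 184, 185, 186] pt183c l1720) (allL l1720 fun p => subW 1106813582352595288064 p.2.1) = true := by decide +kernel
theorem chk1722 : cover 80 (List.map Prod.fst (l1715)) (l1720) 0 = true := by decide +kernel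
theorem chk1724 : allL (List.map Prod.fst (l1715)) (subW 1106813582352595288064) = true := by decide +kernel
theorem chk1725 : inDC (ops2 18) R 1106813582352595288064 79228161333672716876136841216 (R 22) 0 22 = true := by decide +kernel
theorem chk1727 : band (maxChk (ops2 18) R 1106813582352595288064 8937930026385408 l1726) (subM 79228161333672716876136841216 (insL (l1726.map Prod.fst) 0)) = true := by decide +kernel
theorem chk1728 : allL l1726 (fun p => Nat.blt p.1 1024) = true := by decide +kernel
theorem chk1731 : subW 79228162440486299228732129280 23119923 = true := by decide +kernel
theorem chk1733 : subW 79228162440486299228732129280 27297592255972516291846119471 = true := by decide +kernel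
theorem chk1736 : band (slp (ops2 18) R l1735 1106813582352595288064) (subM 196159429230833773869868419475239576610012189992096366592 (insL l1735 1106813582352595288064)) = true := by decide +kernel
theorem chk1738 : subM 196159429230833773869868419475239575503199663170663743488 196159429230833773869868419475239576610012189992096366592 = true := by decide +kernel
theorem chk1739 : band (fixL (app2 18 19 5) (keyL (app2 18 19 5) (fun x => x) om 2) R [46, 47, 48, 49, 187] pt1730c) (subM 196159429230833773869868419475239575503199663170663743488 (insL [46, 47, 48, 49, 187] 0)) = true := by decide +kernel
theorem chk1745 : band (pieces (app2 18 19 5) (keyL (app2 18 19 5) (fun x => x) om 2) tab1743 R 196159429230833773869868419475239576610012189992096366592 [46, 47, 48, 49, 50, 51, 52, 40, 187] pt1730c l1744) (allL l1744 fun p => subW 196159429230833773869868419475239576610012189992096366592 p.2.1) = true := by decide +kernel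
theorem chk1746 : cover 80 [0] (l1744) 0 = true := by decide +kernel
theorem chk1748 : subM 196159429230833773869868419475239575503198607639501078528 196159429230833773869868419475239575503199663170663743488 = true := by decide +kernel
theorem chk1749 : band (fixL (app2 18 19 5) (keyL (app2 18 19 5) (fun x => x) om 2) R [187] pt1732c) (subM 196159429230833773869868419475239575503198607639501078528 (insL [187] 0)) = true := by decide +kernel
theorem chk1755 : band (pieces (app2 18 19 5) (keyL (app2 18 19 5) (fun x => x) om 2) tab1753 R 196159429230833773869868419475239575503199663170663743488 [46, 47, 48, 49, 187] pt1732c l1754) (allL l1754 fun p => subW 196159429230833773869868419475239575503199663170663743488 p.2.1) = true := by decide +kernel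
theorem chk1756 : cover 27 [0] (l1754) 0 = true := by decide +kernel
theorem chk1758 : subM 0 196159429230833773869868419475239575503198607639501078528 = true := by decide +kernel
theorem chk1759 : band (fixL (app2 18 19 5) (fun x => x) R [] pt1734c) (subM 0 (insL [] 0)) = true := by decide +kernel
theorem chk1765 : band (pieces (app2 18 19 5) (fun x => x) tab1763 R 196159429230833773869868419475239575503198607639501078528 [187] pt1734c l1764) (allL l1764 fun p => subW 196159429230833773869868419475239575503198607639501078528 p.2.1) = true := by decide +kernel
theorem chk1766 : cover 3 [0] (l1764) 0 = true := by decide +kernel
theorem chk1792 : band (pieces (app2 18 19 5) (keyL (app2 18 19 5) (fun x => x) om 2) tab1790 R 79228162440486299228732129280 [46, 47, 48, 49, 50, 51, 52, 40, 22] pt1729c l1791) (allL l1791 fun p => subW 79228162440486299228732129280 p.2.1) = true := by decide +kernel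
theorem chk1793 : cover 23256 [0] (l1791) 0 = true := by decide +kernel
theorem chk1795 : band (fixL (app2 18 19 5) (keyL (app2 18 19 5) (fun x => x) om 2) R [46, 47, 48, 49, 50, 51, 52, 40] pt1729c) (subM 8937930022191104 (insL [46, 47, 48, 49, 50, 51, 52, 40] 0)) = true := by decide +kernel
theorem chk1797 : subM 8937930022191104 79228162440486299228732129280 = true := by decide +kernel
theorem chk1798 : subM 8937930022191104 79228162440486299228732129280 = true := by decide +kernel
theorem chk1799 : subM 196159429230833773869868419554467737943684906868233207808 (Nat.lor 79228162440486299228732129280 196159429230833773869868419475239576610012189992096366592) = true := by decide +kernel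
theorem chk1801 : band (slp (ops2 18) R l1800 196159429230833773869868419554467737943684906868233207808) (subM 588478287692501321609605258504946888950082191278756331518 (insL l1800 196159429230833773869868419554467737943684906868233207808)) = true := by decide +kernel
theorem chk1804 : band (slp (ops2 18) R l1803 588478287692501321609605258504946888950082191278756331518) (subM 2942391438462506608048026292207821794988465482952769273854 (insL l1803 588478287692501321609605258504946888950082191278756331518)) = true := by decide +kernel
theorem chk1806 : subM 2353913150770005286438421033702874906038383291674012942336 2942391438462506608048026292207821794988465482952769273854 = true := by decide +kernel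
theorem chk1808 : band (nconj (ops2 18) R 2942391438462506608048026292207821794988465482952769273854 (ins 0 188) l1807) (subM 2353913150770005286438421033702874906038383291674012942336 (insL l1807 (ins 0 188))) = true := by decide +kernel
theorem chk1810 : band (ncop (ops2 18) R 2942391438462506608048026292207821794988465482952769273854 2746232009231672834178157872653354057044780506953015099392 l1809) (subM 8937930026385408 (insL (l1809.map Prod.fst) 2746232009231672834178157872653354057044780506953015099392)) = true := by decide +kernel
theorem chk1811 : band (Nat.beq (powC (ops2 18) (R 188) 19) (ops2 18).one) (bnot (Nat.beq (R 188) (ops2 18).one)) = true := by decide +kernel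
theorem chk1812 : subM 8937930022191104 2942391438462506608048026292207821794988465482952769273854 = true := by decide +kernel
theorem chk1813 : band (commL (ops2 18) R 187 [46, 47, 48, 49, 50, 51, 52, 40, 22]) (subM 8937930026385408 (insL [46, 47, 48, 49, 50, 51, 52, 40, 22] 0)) = true := by decide +kernel
theorem chk1814 : band (subW 2942391438462506608048026292207821794988465482952769273854 22568) (band (subW 2942391438462506608048026292207821794988465482952769273854 40982) (bnot (Nat.beq (evalW (ops2 18) R 22568) (evalW (ops2 18) R 40982)))) = true := by decide +kernel
theorem chk1815 : subM 70231036788734 2942391438462506608048026292207821794988465482952769273854 = true := by decide +kernel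
theorem chk1816 : subM 8937930022191104 2942391438462506608048026292207821794988465482952769273854 = true := by decide +kernel
theorem chk1862 : band (pieces (app2 18 19 5) (keyL (app2 18 19 5) (fun x => x) om 2) tab1860 R 2942391438462506608048026292207821794988465482952769273854 [46, 47, 48, 49, 50, 51, 52, 40, 22] pt1817c l1861) (allL l1861 fun p => subW 2942391438462506608048026292207821794988465482952769273854 p.2.1) = true := by decide +kernel
theorem chk1864 : band (pieces (app2 18 19 5) (keyL (app2 18 19 5) (fun x => x) om 2) tab1860 R 2942391438462506608048026292207821794988465482952769273854 [46, 47, 48, 49, 50, 51, 52, 40, 22] pt1817c l1863) (allL l1863 fun p => subW 2942391438462506608048026292207821794988465482952769273854 p.2.1) = true := by decide +kernel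
theorem chk1865 : cover 43605 [0] (l1861 ++ (l1863)) 0 = true := by decide +kernel
theorem chk1868 : band (slp (ops2 18) R l1867 2942391438462506608048026292207821794988465482952769273854) (subM 6080942306155846989965921003811655003039643205184786530302 (insL l1867 2942391438462506608048026292207821794988465482952769273854)) = true := by decide +kernel
theorem chk1871 : band (slp (ops2 18) R l1870 6080942306155846989965921003811655003039643205184786530302) (subM 3207598986782593870320088395259117538628303632121121636089856 (insL l1870 6080942306155846989965921003811655003039643205184786530302)) = true := by decide +kernel
theorem chk1873 : subM 12554203470773361527671578846415332832204710888928069025792 3207598986782593870320088395259117538628303632121121636089856 = true := by decide +kernel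
theorem chk1875 : band (conjB (ops2 18) R 0 193 l1874) (subM 0 (insL l1874 0)) = true := by decide +kernel
theorem chk1876 : band (Nat.ble 1 2) (band (subW 0 0) (Nat.beq (powC (ops2 18) (R 193) 2) (evalW (ops2 18) R 0))) = true := by decide +kernel
theorem chk1877 : subM 37662610412320084583014736539245998496614132666784207077376 3207598986782593870320088395259117538628303632121121636089856 = true := by decide +kernel
theorem chk1879 : band (conjB (ops2 18) R 12554203470773361527671578846415332832204710888928069025792 194 l1878) (subM 12554203470773361527671578846415332832204710888928069025792 (insL l1878 0)) = true := by decide +kernel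
theorem chk1880 : band (Nat.ble 1 2) (band (subW 12554203470773361527671578846415332832204710888928069025792 0) (Nat.beq (powC (ops2 18) (R 194) 2) (evalW (ops2 18) R 0))) = true := by decide +kernel
theorem chk1881 : subM 87879424295413530693701051924907329825432976222496483180544 3207598986782593870320088395259117538628303632121121636089856 = true := by decide +kernel
theorem chk1883 : band (conjB (ops2 18) R 37662610412320084583014736539245998496614132666784207077376 195 l1882) (subM 37662610412320084583014736539245998496614132666784207077376 (insL l1882 0)) = true := by decide +kernel
theorem chk1884 : band (Nat.ble 1 2) (band (subW 37662610412320084583014736539245998496614132666784207077376 0) (Nat.beq (powC (ops2 18) (R 195) 2) (evalW (ops2 18) R 0))) = true := by decide +kernel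
theorem chk1885 : subM 188313052061600422915073682696229992483070663333921035386880 3207598986782593870320088395259117538628303632121121636089856 = true := by decide +kernel
theorem chk1887 : band (conjB (ops2 18) R 87879424295413530693701051924907329825432976222496483180544 196 l1886) (subM 87879424295413530693701051924907329825432976222496483180544 (insL l1886 0)) = true := by decide +kernel
theorem chk1888 : band (Nat.ble 1 2) (band (subW 87879424295413530693701051924907329825432976222496483180544 0) (Nat.beq (powC (ops2 18) (R 196) 2) (evalW (ops2 18) R 0))) = true := by decide +kernel
theorem chk1889 : subM 389180307593974207357818944238875317798346037556770139799552 3207598986782593870320088395259117538628303632121121636089856 = true := by decide +kernel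
theorem chk1891 : band (conjB (ops2 18) R 188313052061600422915073682696229992483070663333921035386880 197 l1890) (subM 188313052061600422915073682696229992483070663333921035386880 (insL l1890 0)) = true := by decide +kernel
theorem chk1892 : band (Nat.ble 1 5) (band (subW 188313052061600422915073682696229992483070663333921035386880 0) (Nat.beq (powC (ops2 18) (R 197) 5) (evalW (ops2 18) R 0))) = true := by decide +kernel
theorem chk1893 : subM 790914818658721776243309467324165968428896786002468348624896 3207598986782593870320088395259117538628303632121121636089856 = true := by decide +kernel
theorem chk1895 : band (conjB (ops2 18) R 389180307593974207357818944238875317798346037556770139799552 198 l1894) (subM 389180307593974207357818944238875317798346037556770139799552 (insL l1894 0)) = true := by decide +kernel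
theorem chk1896 : band (Nat.ble 1 3) (band (subW 389180307593974207357818944238875317798346037556770139799552 203624645) (Nat.beq (powC (ops2 18) (R 198) 3) (evalW (ops2 18) R 203624645))) = true := by decide +kernel
theorem chk1897 : subM 1594383840788216914014290513494747269689998282893864766275584 3207598986782593870320088395259117538628303632121121636089856 = true := by decide +kernel
theorem chk1899 : band (conjB (ops2 18) R 790914818658721776243309467324165968428896786002468348624896 199 l1898) (subM 790914818658721776243309467324165968428896786002468348624896 (insL l1898 0)) = true := by decide +kernel
theorem chk1900 : band (Nat.ble 1 3) (band (subW 790914818658721776243309467324165968428896786002468348624896 0) (Nat.beq (powC (ops2 18) (R 199) 3) (evalW (ops2 18) R 0))) = true := by decide +kernel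
theorem chk1901 : subM 3201321885047207189556252605835909872212201276676657601576960 3207598986782593870320088395259117538628303632121121636089856 = true := by decide +kernel
theorem chk1903 : band (conjB (ops2 18) R 1594383840788216914014290513494747269689998282893864766275584 200 l1902) (subM 1594383840788216914014290513494747269689998282893864766275584 (insL l1902 0)) = true := by decide +kernel
theorem chk1904 : band (Nat.ble 1 2) (band (subW 1594383840788216914014290513494747269689998282893864766275584 212417479121095) (Nat.beq (powC (ops2 18) (R 200) 2) (evalW (ops2 18) R 212417479121095))) = true := by decide +kernel
theorem chk1906 : subM 6277101735386680763835789423207666416102355444464034512896 3207598986782593870320088395259117538628303632121121636089856 = true := by decide +kernel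
theorem chk1920 : band (slp (ops2 18) R l1919 3201321885047207189556252605835909872212201276676657601576960) (subM 9641628265553941653251772554046975615133217962696757011808256 (insL l1919 3201321885047207189556252605835909872212201276676657601576960)) = true := by decide +kernel
theorem chk1925 : band (slp (ops2 18) R l1924 9641628265553941653251772554046975615133217962696757011808256) (subM 22497132619625863857587469292776276435310841912959099694219264 (insL l1924 9641628265553941653251772554046975615133217962696757011808256)) = true := by decide +kernel
theorem chk1927 : subM 12855504354071922204335696738729300820177623950262342682411008 22497132619625863857587469292776276435310841912959099694219264 = true := by decide +kernel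
theorem chk1928 : band (fixL (app2 18 19 5) (keyL (app2 18 19 5) (fun x => x) om 2) R [203] pt1922c) (subM 12855504354071922204335696738729300820177623950262342682411008 (insL [203] 0)) = true := by decide +kernel
theorem chk1934 : band (pieces (app2 18 19 5) (keyL (app2 18 19 5) (fun x => x) om 2) tab1932 R 22497132619625863857587469292776276435310841912959099694219264 [201, 202, 203] pt1922c l1933) (allL l1933 fun p => subW 22497132619625863857587469292776276435310841912959099694219264 p.2.1) = true := by decide +kernel
theorem chk1935 : cover 6 [0] (l1933) 0 = true := by decide +kernel
theorem chk1937 : subM 0 12855504354071922204335696738729300820177623950262342682411008 = true := by decide +kernel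
theorem chk1938 : band (fixL (app2 18 19 5) (fun x => x) R [] pt1923c) (subM 0 (insL [] 0)) = true := by decide +kernel
theorem chk1944 : band (pieces (app2 18 19 5) (fun x => x) tab1942 R 12855504354071922204335696738729300820177623950262342682411008 [203] pt1923c l1943) (allL l1943 fun p => subW 12855504354071922204335696738729300820177623950262342682411008 p.2.1) = true := by decide +kernel
theorem chk1945 : cover 3 [0] (l1943) 0 = true := by decide +kernel
theorem chk1948 : band (conjB (ops2 18) R 3201321885047207189556252605835909872212201276676657601576960 192 l1947) (subM 9641628265553941653251772554046975615133217962696757011808256 (insL l1947 0)) = true := by decide +kernel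
theorem chk1949 : band (fixL (app2 18 19 5) (keyL (app2 18 19 5) (fun x => x) om 2) R [201, 202] pt1905c) (subM 9641628265553941653251772554046975615133217962696757011808256 (insL [201, 202] 0)) = true := by decide +kernel
theorem chk1970 : band (slp (ops2 18) R l1969 3201321885047207189556252605835909872212201276676657601576960) (subM 77133026124431533226014180432375804921065743701574056094466048 (insL l1969 3201321885047207189556252605835909872212201276676657601576960)) = true := by decide +kernel
theorem chk1976 : band (slp (ops2 18) R l1975 77133026124431533226014180432375804921065743701574056094466048) (subM 385665130622157666130070902161879024605328718507870280472330240 (insL l1975 77133026124431533226014180432375804921065743701574056094466048)) = true := by decide +kernel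
theorem chk1978 : subM 308532104497726132904056721729503219684262974806296224377864192 385665130622157666130070902161879024605328718507870280472330240 = true := by decide +kernel
theorem chk1979 : band (fixL (app2 18 19 5) (keyL (app2 18 19 5) (fun x => x) om 2) R [206, 207] pt1972c) (subM 308532104497726132904056721729503219684262974806296224377864192 (insL [206, 207] 0)) = true := by decide +kernel
theorem chk1985 : band (pieces (app2 18 19 5) (keyL (app2 18 19 5) (fun x => x) om 2) tab1983 R 385665130622157666130070902161879024605328718507870280472330240 [204, 205, 206, 207] pt1972c l1984) (allL l1984 fun p => subW 385665130622157666130070902161879024605328718507870280472330240 p.2.1) = true := by decide +kernel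
theorem chk1986 : cover 15 [0] (l1984) 0 = true := by decide +kernel
theorem chk1988 : subM 205688069665150755269371147819668813122841983204197482918576128 308532104497726132904056721729503219684262974806296224377864192 = true := by decide +kernel
theorem chk1989 : band (fixL (app2 18 19 5) (keyL (app2 18 19 5) (fun x => x) om 2) R [207] pt1973c) (subM 205688069665150755269371147819668813122841983204197482918576128 (insL [207] 0)) = true := by decide +kernel
theorem chk1995 : band (pieces (app2 18 19 5) (keyL (app2 18 19 5) (fun x => x) om 2) tab1993 R 308532104497726132904056721729503219684262974806296224377864192 [206, 207] pt1973c l1994) (allL l1994 fun p => subW 308532104497726132904056721729503219684262974806296224377864192 p.2.1) = true := by decide +kernel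
theorem chk1996 : cover 2 [0] (l1994) 0 = true := by decide +kernel
theorem chk1998 : subM 0 205688069665150755269371147819668813122841983204197482918576128 = true := by decide +kernel
theorem chk1999 : band (fixL (app2 18 19 5) (fun x => x) R [] pt1974c) (subM 0 (insL [] 0)) = true := by decide +kernel
theorem chk2005 : band (pieces (app2 18 19 5) (fun x => x) tab2003 R 205688069665150755269371147819668813122841983204197482918576128 [207] pt1974c l2004) (allL l2004 fun p => subW 205688069665150755269371147819668813122841983204197482918576128 p.2.1) = true := by decide +kernel
theorem chk2006 : cover 3 [0] (l2004) 0 = true := by decide +kernel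
theorem chk2009 : band (conjA (ops2 18) R 3201321885047207189556252605835909872212201276676657601576960 192 l2008) (subM 77133026124431533226014180432375804921065743701574056094466048 (insL l2008 0)) = true := by decide +kernel
theorem chk2011 : dcRel (ops2 18) R 3201321885047207189556252605835909872212201276676657601576960 6277101735386680763835789423207666416102355444464034512896 192 192 l2010 = true := by decide +kernel
theorem chk2016 : band (pieces (app2 18 19 5) (keyL (app2 18 19 5) (fun x => x) om 2) tab2014 R 385665130622157666130070902161879024605328718507870280472330240 [204, 205, 206, 207] pt1905c l2015) (allL l2015 fun p => subW 3201321885047207189556252605835909872212201276676657601576960 p.2.1) = true := by decide +kernel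
theorem chk2017 : cover 80 (List.map Prod.fst (l2010)) (l2015) 0 = true := by decide +kernel
theorem chk2019 : allL (List.map Prod.fst (l2010)) (subW 3201321885047207189556252605835909872212201276676657601576960) = true := by decide +kernel
theorem chk2020 : inDC (ops2 18) R 3201321885047207189556252605835909872212201276676657601576960 6277101735386680763835789423207666416102355444464034512896 (R 192) 0 192 = true := by decide +kernel
theorem chk2024 : band (slp (ops2 18) R l2023 3207598986782593870320088395259117538628303632121121636089856) (subM 2882840574298893167641516157870622501258416068490885882496155648 (insL l2023 3207598986782593870320088395259117538628303632121121636089856)) = true := by decide +kernel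
theorem chk2026 : subM 2879632975312110573771196069475363383719787764858764760860065792 2882840574298893167641516157870622501258416068490885882496155648 = true := by decide +kernel
theorem chk2027 : band (fixL (app2 18 19 5) (keyL (app2 18 19 5) (fun x => x) om 2) R [208, 209, 210] pt2021c) (subM 2879632975312110573771196069475363383719787764858764760860065792 (insL [208, 209, 210] 0)) = true := by decide +kernel
theorem chk2033 : band (pieces (app2 18 19 5) (keyL (app2 18 19 5) (fun x => x) om 2) tab2031 R 2882840574298893167641516157870622501258416068490885882496155648 [193, 194, 195, 196, 197, 198, 199, 200, 192, 208, 209, 210] pt2021c l2032) (allL l2032 fun p => subW 2882840574298893167641516157870622501258416068490885882496155648 p.2.1) = true := by decide +kernel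
theorem chk2034 : cover 1020 [0] (l2032) 0 = true := by decide +kernel
theorem chk2036 : subM 0 2879632975312110573771196069475363383719787764858764760860065792 = true := by decide +kernel
theorem chk2037 : band (fixL (app2 18 19 5) (fun x => x) R [] pt2022c) (subM 0 (insL [] 0)) = true := by decide +kernel
theorem chk2043 : band (pieces (app2 18 19 5) (fun x => x) tab2041 R 2879632975312110573771196069475363383719787764858764760860065792 [208, 209, 210] pt2022c l2042) (allL l2042 fun p => subW 2879632975312110573771196069475363383719787764858764760860065792 p.2.1) = true := by decide +kernel
theorem chk2044 : cover 24 [0] (l2042) 0 = true := by decide +kernel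
theorem chk2047 : band (slp (ops2 18) R l2046 2882840574298893167641516157870622501258416068490885882496155648) (subM 2882840770458322398475290027739041976497991571689493521997234176 (insL l2046 2882840574298893167641516157870622501258416068490885882496155648)) = true := by decide +kernel
end

end CfsgH6.J3
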