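import Cfsg.Agent.H6.J4K0
import Cfsg.Agent.H6.J4K1

set_option autoImplicit false
set_option maxRecDepth 100000
set_option linter.all false
set_option Elab.async false

namespace CfsgH6.J4

open CfsgH5 CfsgH6 Subgroup MulAction Pointwise

noncomputable section

theorem B0_m0 : C.Mem R (C.gen R 0) 0 := GC.Mem.gen (GC.Mem.zero ⊤)
theorem val3 : C.Mem R ⊤ 268435454 := MC.mem_units (mc2 112) (can2_sound (by decide)) chk2
theorem B1_m0 : C.Mem R (C.gen R 2) 2 := GC.Mem.gen (val3.sub chk4)
theorem B1_dvd : Nat.card (C.gen R 2) ∣ 2 := GC.card_ins (dvd_step (B0_m0.pc (m := 2) (w := 0) (val3.get (i := 1) (by decide +kernel)) B0_m0.top chk6 chk7) GC.card_gen_zero (n := 2) (by decide +kernel)) (by decide +kernel)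
theorem B2_m0 : C.Mem R (C.gen R 6) 6 := GC.Mem.gen (val3.sub chk8)
theorem B2_dvd : Nat.card (C.gen R 6) ∣ 4 := GC.card_ins (dvd_step (B1_m0.pc (m := 2) (w := 0) (val3.get (i := 2) (by decide +kernel)) B1_m0.top chk10 chk11) B1_dvd (n := 4) (by decide +kernel)) (by decide +kernel)
theorem B3_m0 : C.Mem R (C.gen R 14) 14 := GC.Mem.gen (val3.sub chk12)
theorem B3_dvd : Nat.card (C.gen R 14) ∣ 8 := GC.card_ins (dvd_step (B2_m0.pc (m := 2) (w := 0) (val3.get (i := 3) (by decide +kernel)) B2_m0.top chk14 chk15) B2_dvd (n := 8) (by decide +kernel)) (by decide +kernel)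
theorem B4_m0 : C.Mem R (C.gen R 30) 30 := GC.Mem.gen (val3.sub chk16)
theorem B4_dvd : Nat.card (C.gen R 30) ∣ 16 := GC.card_ins (dvd_step (B3_m0.pc (m := 2) (w := 1) (val3.get (i := 4) (by decide +kernel)) B3_m0.top chk18 chk19) B3_dvd (n := 16) (by decide +kernel)) (by decide +kernel)
theorem B5_m0 : C.Mem R (C.gen R 62) 62 := GC.Mem.gen (val3.sub chk20)
theorem B5_dvd : Nat.card (C.gen R 62) ∣ 32 := GC.card_ins (dvd_step (B4_m0.pc (m := 2) (w := 0) (val3.get (i := 5) (by decide +kernel)) B4_m0.top chk22 chk23) B4_dvd (n := 32) (by decide +kernel)) (by decide +kernel)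
theorem B6_m0 : C.Mem R (C.gen R 126) 126 := GC.Mem.gen (val3.sub chk24)
theorem B6_dvd : Nat.card (C.gen R 126) ∣ 64 := GC.card_ins (dvd_step (B5_m0.pc (m := 2) (w := 0) (val3.get (i := 6) (by decide +kernel)) B5_m0.top chk26 chk27) B5_dvd (n := 64) (by decide +kernel)) (by decide +kernel)
theorem B7_m0 : C.Mem R (C.gen R 254) 254 := GC.Mem.gen (val3.sub chk28)
theorem B7_dvd : Nat.card (C.gen R 254) ∣ 128 := GC.card_ins (dvd_step (B6_m0.pc (m := 2) (w := 0) (val3.get (i := 7) (by decide +kernel)) B6_m0.top chk30 chk31) B6_dvd (n := 128) (by decide +kernel)) (by decide +kernel)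
theorem B8_m0 : C.Mem R (C.gen R 510) 510 := GC.Mem.gen (val3.sub chk32)
theorem B8_dvd : Nat.card (C.gen R 510) ∣ 256 := GC.card_ins (dvd_step (B7_m0.pc (m := 2) (w := 0) (val3.get (i := 8) (by decide +kernel)) B7_m0.top chk34 chk35) B7_dvd (n := 256) (by decide +kernel)) (by decide +kernel)
theorem B9_m0 : C.Mem R (C.gen R 1022) 1022 := GC.Mem.gen (val3.sub chk36)
theorem B9_dvd : Nat.card (C.gen R 1022) ∣ 512 := GC.card_ins (dvd_step (B8_m0.pc (m := 2) (w := 0) (val3.get (i := 9) (by decide +kernel)) B8_m0.top chk38 chk39) B8_dvd (n := 512) (by decide +kernel)) (by decide +kernel)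
theorem B10_m0 : C.Mem R (C.gen R 2046) 2046 := GC.Mem.gen (val3.sub chk40)
theorem B10_dvd : Nat.card (C.gen R 2046) ∣ 1024 := GC.card_ins (dvd_step (B9_m0.pc (m := 2) (w := 0) (val3.get (i := 10) (by decide +kernel)) B9_m0.top chk42 chk43) B9_dvd (n := 1024) (by decide +kernel)) (by decide +kernel)
theorem B11_m0 : C.Mem R (C.gen R 4094) 4094 := GC.Mem.gen (val3.sub chk44)
theorem B11_dvd : Nat.card (C.gen R 4094) ∣ 2048 := GC.card_ins (dvd_step (B10_m0.pc (m := 2) (w := 0) (val3.get (i := 11) (by decide +kernel)) B10_m0.top chk46 chk47) B10_dvd (n := 2048) (by decide +kernel)) (by decide +kernel)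
theorem B12_m0 : C.Mem R (C.gen R 8190) 8190 := GC.Mem.gen (val3.sub chk48)
theorem B12_dvd : Nat.card (C.gen R 8190) ∣ 4096 := GC.card_ins (dvd_step (B11_m0.pc (m := 2) (w := 11002638767107) (val3.get (i := 12) (by decide +kernel)) B11_m0.top chk50 chk51) B11_dvd (n := 4096) (by decide +kernel)) (by decide +kernel)
theorem B13_m0 : C.Mem R (C.gen R 16382) 16382 := GC.Mem.gen (val3.sub chk52)
theorem B13_dvd : Nat.card (C.gen R 16382) ∣ 8192 := GC.card_ins (dvd_step (B12_m0.pc (m := 2) (w := 11002638767105) (val3.get (i := 13) (by decide +kernel)) B12_m0.top chk54 chk55) B12_dvd (n := 8192) (by decide +kernel)) (by decide +kernel)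
theorem B14_m0 : C.Mem R (C.gen R 32766) 32766 := GC.Mem.gen (val3.sub chk56)
theorem B14_dvd : Nat.card (C.gen R 32766) ∣ 16384 := GC.card_ins (dvd_step (B13_m0.pc (m := 2) (w := 8803614458882) (val3.get (i := 14) (by decide +kernel)) B13_m0.top chk58 chk59) B13_dvd (n := 16384) (by decide +kernel)) (by decide +kernel)
theorem B15_m0 : C.Mem R (C.gen R 65534) 65534 := GC.Mem.gen (val3.sub chk60)
theorem B15_dvd : Nat.card (C.gen R 65534) ∣ 32768 := GC.card_ins (dvd_step (B14_m0.pc (m := 2) (w := 7887901789521924) (val3.get (i := 15) (by decide +kernel)) B14_m0.top chk62 chk63) B14_dvd (n := 32768) (by decide +kernel)) (by decide +kernel)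
theorem B16_m0 : C.Mem R (C.gen R 131070) 131070 := GC.Mem.gen (val3.sub chk64)
theorem B16_dvd : Nat.card (C.gen R 131070) ∣ 65536 := GC.card_ins (dvd_step (B15_m0.pc (m := 2) (w := 11002635617284) (val3.get (i := 16) (by decide +kernel)) B15_m0.top chk66 chk67) B15_dvd (n := 65536) (by decide +kernel)) (by decide +kernel)
theorem B17_m0 : C.Mem R (C.gen R 262142) 262142 := GC.Mem.gen (val3.sub chk68)
theorem B17_dvd : Nat.card (C.gen R 262142) ∣ 131072 := GC.card_ins (dvd_step (B16_m0.pc (m := 2) (w := 6296579) (val3.get (i := 17) (by decide +kernel)) B16_m0.top chk70 chk71) B16_dvd (n := 131072) (by decide +kernel)) (by decide +kernel)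
theorem B18_m0 : C.Mem R (C.gen R 524286) 524286 := GC.Mem.gen (val3.sub chk72)
theorem B18_dvd : Nat.card (C.gen R 524286) ∣ 262144 := GC.card_ins (dvd_step (B17_m0.pc (m := 2) (w := 0) (val3.get (i := 18) (by decide +kernel)) B17_m0.top chk74 chk75) B17_dvd (n := 262144) (by decide +kernel)) (by decide +kernel)
theorem B19_m0 : C.Mem R (C.gen R 1048574) 1048574 := GC.Mem.gen (val3.sub chk76)
theorem B19_dvd : Nat.card (C.gen R 1048574) ∣ 786432 := GC.card_ins (dvd_step (B18_m0.pc (m := 3) (w := 20278302622094339) (val3.get (i := 19) (by decide +kernel)) B18_m0.top chk78 chk79) B18_dvd (n := 786432) (by decide +kernel)) (by decide +kernel)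
theorem B20_m0 : C.Mem R (C.gen R 2097150) 2097150 := GC.Mem.gen (val3.sub chk80)
theorem B20_dvd : Nat.card (C.gen R 2097150) ∣ 2359296 := GC.card_ins (dvd_step (B19_m0.pc (m := 3) (w := 10492931) (val3.get (i := 20) (by decide +kernel)) B19_m0.top chk82 chk83) B19_dvd (n := 2359296) (by decide +kernel)) (by decide +kernel)
theorem B21_m0 : C.Mem R (C.gen R 4194302) 4194302 := GC.Mem.gen (val3.sub chk84)
theorem B21_dvd : Nat.card (C.gen R 4194302) ∣ 4718592 := GC.card_ins (dvd_step (B20_m0.pc (m := 2) (w := 0) (val3.get (i := 21) (by decide +kernel)) B20_m0.top chk86 chk87) B20_dvd (n := 4718592) (by decide +kernel)) (by decide +kernel)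
theorem B21_ub : Nat.card (C.gen R 4194302) ≤ 4718592 := le_of_dvd' B21_dvd (by decide +kernel)
theorem pt89e : ∃ x, A0.Rep pt89c x := act2_rep (n := 112) (d := 7) (by decide) (by decide) (c := 0xa80) (by decide +kernel)
noncomputable def pt89 := Classical.choose pt89e
theorem pt89r : A0.Rep pt89c pt89 := Classical.choose_spec pt89e
theorem Ha_m0 : C.Mem R (C.gen R 8388606) 8388606 := GC.Mem.gen (val3.sub chk88)
theorem Ha_I : C.Mem R (C.gen R 8388606) 4194304 := Ha_m0.sub chk90
theorem HaK_in169 : C.Mem R (C.gen R 4194302) 1879048192 := B21_m0.slp' chk168
theorem HaK_m0 : C.Mem R (C.gen R 1879048192) 1879048192 := GC.Mem.gen HaK_in169.top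
theorem pt170e : ∃ x, A0.Rep pt170c x := act2_rep (n := 112) (d := 7) (by decide) (by decide) (c := 0x95e) (by decide +kernel)
noncomputable def pt170 := Classical.choose pt170e
theorem pt170r : A0.Rep pt170c pt170 := Classical.choose_spec pt170e
theorem pt171e : ∃ x, A0.Rep pt171c x := act2_rep (n := 112) (d := 7) (by decide) (by decide) (c := 0x334) (by decide +kernel)
noncomputable def pt171 := Classical.choose pt171e
theorem pt171r : A0.Rep pt171c pt171 := Classical.choose_spec pt171e
theorem pt172e : ∃ x, A0.Rep pt172c x := act2_rep (n := 112) (d := 7) (by decide) (by decide) (c := 0xa10) (by decide +kernel)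
noncomputable def pt172 := Classical.choose pt172e
theorem pt172r : A0.Rep pt172c pt172 := Classical.choose_spec pt172e
theorem pt173e : ∃ x, A0.Rep pt173c x := act2_rep (n := 112) (d := 7) (by decide) (by decide) (c := 0x4c5) (by decide +kernel)
noncomputable def pt173 := Classical.choose pt173e
theorem pt173r : A0.Rep pt173c pt173 := Classical.choose_spec pt173e
theorem pt174e : ∃ x, A0.Rep pt174c x := act2_rep (n := 112) (d := 7) (by decide) (by decide) (c := 0xbd7) (by decide +kernel)
noncomputable def pt174 := Classical.choose pt174e
theorem pt174r : A0.Rep pt174c pt174 := Classical.choose_spec pt174e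
theorem pt175e : ∃ x, A0.Rep pt175c x := act2_rep (n := 112) (d := 7) (by decide) (by decide) (c := 0xa3) (by decide +kernel)
noncomputable def pt175 := Classical.choose pt175e
theorem pt175r : A0.Rep pt175c pt175 := Classical.choose_spec pt175e
theorem pt176e : ∃ x, A0.Rep pt176c x := act2_rep (n := 112) (d := 7) (by decide) (by decide) (c := 0xc55) (by decide +kernel)
noncomputable def pt176 := Classical.choose pt176e
theorem pt176r : A0.Rep pt176c pt176 := Classical.choose_spec pt176e
theorem pt177e : ∃ x, A0.Rep pt177c x := act2_rep (n := 112) (d := 7) (by decide) (by decide) (c := 0xc25) (by decide +kernel)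
noncomputable def pt177 := Classical.choose pt177e
theorem pt177r : A0.Rep pt177c pt177 := Classical.choose_spec pt177e
theorem pt178e : ∃ x, A0.Rep pt178c x := act2_rep (n := 112) (d := 7) (by decide) (by decide) (c := 0xdcc) (by decide +kernel)
noncomputable def pt178 := Classical.choose pt178e
theorem pt178r : A0.Rep pt178c pt178 := Classical.choose_spec pt178e
theorem pt179e : ∃ x, A0.Rep pt179c x := act2_rep (n := 112) (d := 7) (by decide) (by decide) (c := 0xd4) (by decide +kernel)
noncomputable def pt179 := Classical.choose pt179e
theorem pt179r : A0.Rep pt179c pt179 := Classical.choose_spec pt179e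
theorem HaK_s0_182 : C.Mem R (C.gen R 1879048192) 35184103653376 := HaK_m0.slp' chk181
theorem HaK_c0i : C.Mem R (C.gen R 1879048192) 35182224605184 := HaK_s0_182.sub chk183
theorem HaK_c0m : C.Mem R (C.gen R 35182224605184) 35182224605184 := HaK_c0i.gen
theorem fx185 : C.gen R 35182224605184 ≤ stabilizer _ pt170 := Act.fix_sound HaK_c0i.top pt170r chk184
theorem cov192 : Cov (C.gen R 1879048192) (C.wds R [0]) pt170 6 := Act.cov_of_seen (Act.pieces_sound HaK_s0_182 HaK_s0_182.top pt170r chk190) chk191
theorem HaK_c1i : C.Mem R (C.gen R 35182224605184) 35167192219648 := HaK_c0m.sub chk193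
theorem HaK_c1m : C.Mem R (C.gen R 35167192219648) 35167192219648 := HaK_c1i.gen
theorem fx195 : C.gen R 35167192219648 ≤ stabilizer _ pt171 := Act.fix_sound HaK_c1i.top pt171r chk194
theorem cov202 : Cov (C.gen R 35182224605184) (C.wds R [0]) pt171 48 := Act.cov_of_seen (Act.pieces_sound HaK_c0m HaK_c0m.top pt171r chk200) chk201
theorem HaK_c2i : C.Mem R (C.gen R 35167192219648) 33706903339008 := HaK_c1m.sub chk203
theorem HaK_c2m : C.Mem R (C.gen R 33706903339008) 33706903339008 := HaK_c2i.gen
theorem fx205 : C.gen R 33706903339008 ≤ stabilizer _ pt172 := Act.fix_sound HaK_c2i.top pt172r chk204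
theorem cov212 : Cov (C.gen R 35167192219648) (C.wds R [0]) pt172 16 := Act.cov_of_seen (Act.pieces_sound HaK_c1m HaK_c1m.top pt172r chk210) chk211
theorem HaK_c3i : C.Mem R (C.gen R 33706903339008) 33672543600640 := HaK_c2m.sub chk213
theorem HaK_c3m : C.Mem R (C.gen R 33672543600640) 33672543600640 := HaK_c3i.gen
theorem fx215 : C.gen R 33672543600640 ≤ stabilizer _ pt173 := Act.fix_sound HaK_c3i.top pt173r chk214
theorem cov222 : Cov (C.gen R 33706903339008) (C.wds R [0]) pt173 2 := Act.cov_of_seen (Act.pieces_sound HaK_c2m HaK_c2m.top pt173r chk220) chk221
theorem HaK_c4i : C.Mem R (C.gen R 33672543600640) 33535104647168 := HaK_c3m.sub chk223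
theorem HaK_c4m : C.Mem R (C.gen R 33535104647168) 33535104647168 := HaK_c4i.gen
theorem fx225 : C.gen R 33535104647168 ≤ stabilizer _ pt174 := Act.fix_sound HaK_c4i.top pt174r chk224
theorem cov232 : Cov (C.gen R 33672543600640) (C.wds R [0]) pt174 2 := Act.cov_of_seen (Act.pieces_sound HaK_c3m HaK_c3m.top pt174r chk230) chk231
theorem HaK_c5i : C.Mem R (C.gen R 33535104647168) 32985348833280 := HaK_c4m.sub chk233
theorem HaK_c5m : C.Mem R (C.gen R 32985348833280) 32985348833280 := HaK_c5i.gen
theorem fx235 : C.gen R 32985348833280 ≤ stabilizer _ pt175 := Act.fix_sound HaK_c5i.top pt175r chk234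
theorem cov242 : Cov (C.gen R 33535104647168) (C.wds R [0]) pt175 2 := Act.cov_of_seen (Act.pieces_sound HaK_c4m HaK_c4m.top pt175r chk240) chk241
theorem HaK_c6i : C.Mem R (C.gen R 32985348833280) 30786325577728 := HaK_c5m.sub chk243
theorem HaK_c6m : C.Mem R (C.gen R 30786325577728) 30786325577728 := HaK_c6i.gen
theorem fx245 : C.gen R 30786325577728 ≤ stabilizer _ pt176 := Act.fix_sound HaK_c6i.top pt176r chk244
theorem cov252 : Cov (C.gen R 32985348833280) (C.wds R [0]) pt176 2 := Act.cov_of_seen (Act.pieces_sound HaK_c5m HaK_c5m.top pt176r chk250) chk251
theorem HaK_c7i : C.Mem R (C.gen R 30786325577728) 26388279066624 := HaK_c6m.sub chk253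
theorem HaK_c7m : C.Mem R (C.gen R 26388279066624) 26388279066624 := HaK_c7i.gen
theorem fx255 : C.gen R 26388279066624 ≤ stabilizer _ pt177 := Act.fix_sound HaK_c7i.top pt177r chk254
theorem cov262 : Cov (C.gen R 30786325577728) (C.wds R [0]) pt177 2 := Act.cov_of_seen (Act.pieces_sound HaK_c6m HaK_c6m.top pt177r chk260) chk261
theorem HaK_c8i : C.Mem R (C.gen R 26388279066624) 17592186044416 := HaK_c7m.sub chk263
theorem HaK_c8m : C.Mem R (C.gen R 17592186044416) 17592186044416 := HaK_c8i.gen
theorem fx265 : C.gen R 17592186044416 ≤ stabilizer _ pt178 := Act.fix_sound HaK_c8i.top pt178r chk264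
theorem cov272 : Cov (C.gen R 26388279066624) (C.wds R [0]) pt178 2 := Act.cov_of_seen (Act.pieces_sound HaK_c7m HaK_c7m.top pt178r chk270) chk271
theorem HaK_c9i : C.Mem R (C.gen R 17592186044416) 0 := HaK_c8m.sub chk273
theorem HaK_c9m : C.Mem R (C.gen R 0) 0 := HaK_c9i.gen
theorem fx275 : C.gen R 0 ≤ stabilizer _ pt179 := Act.fix_sound HaK_c9i.top pt179r chk274
theorem cov282 : Cov (C.gen R 17592186044416) (C.wds R [0]) pt179 2 := Act.cov_of_seen (Act.pieces_sound HaK_c8m HaK_c8m.top pt179r chk280) chk281
theorem HaK_lb10 : 1 ≤ Nat.card (C.gen R 0) := Nat.card_pos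
theorem HaK_lo9 : 2 * Nat.card (C.gen R 0) ≤ Nat.card (C.gen R 17592186044416) := cov282.low le_rfl (GC.wds_zero _) HaK_c9i.gen_le fx275
theorem HaK_lb9 : 2 ≤ Nat.card (C.gen R 17592186044416) := low_step HaK_lo9 HaK_lb10 (by decide +kernel)
theorem HaK_lo8 : 2 * Nat.card (C.gen R 17592186044416) ≤ Nat.card (C.gen R 26388279066624) := cov272.low le_rfl (GC.wds_zero _) HaK_c8i.gen_le fx265
theorem HaK_lb8 : 4 ≤ Nat.card (C.gen R 26388279066624) := low_step HaK_lo8 HaK_lb9 (by decide +kernel)
theorem HaK_lo7 : 2 * Nat.card (C.gen R 26388279066624) ≤ Nat.card (C.gen R 30786325577728) := cov262.low le_rfl (GC.wds_zero _) HaK_c7i.gen_le fx255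
theorem HaK_lb7 : 8 ≤ Nat.card (C.gen R 30786325577728) := low_step HaK_lo7 HaK_lb8 (by decide +kernel)
theorem HaK_lo6 : 2 * Nat.card (C.gen R 30786325577728) ≤ Nat.card (C.gen R 32985348833280) := cov252.low le_rfl (GC.wds_zero _) HaK_c6i.gen_le fx245
theorem HaK_lb6 : 16 ≤ Nat.card (C.gen R 32985348833280) := low_step HaK_lo6 HaK_lb7 (by decide +kernel)
theorem HaK_lo5 : 2 * Nat.card (C.gen R 32985348833280) ≤ Nat.card (C.gen R 33535104647168) := cov242.low le_rfl (GC.wds_zero _) HaK_c5i.gen_le fx235
theorem HaK_lb5 : 32 ≤ Nat.card (C.gen R 33535104647168) := low_step HaK_lo5 HaK_lb6 (by decide +kernel)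
theorem HaK_lo4 : 2 * Nat.card (C.gen R 33535104647168) ≤ Nat.card (C.gen R 33672543600640) := cov232.low le_rfl (GC.wds_zero _) HaK_c4i.gen_le fx225
theorem HaK_lb4 : 64 ≤ Nat.card (C.gen R 33672543600640) := low_step HaK_lo4 HaK_lb5 (by decide +kernel)
theorem HaK_lo3 : 2 * Nat.card (C.gen R 33672543600640) ≤ Nat.card (C.gen R 33706903339008) := cov222.low le_rfl (GC.wds_zero _) HaK_c3i.gen_le fx215
theorem HaK_lb3 : 128 ≤ Nat.card (C.gen R 33706903339008) := low_step HaK_lo3 HaK_lb4 (by decide +kernel)
theorem HaK_lo2 : 16 * Nat.card (C.gen R 33706903339008) ≤ Nat.card (C.gen R 35167192219648) := cov212.low le_rfl (GC.wds_zero _) HaK_c2i.gen_le fx205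
theorem HaK_lb2 : 2048 ≤ Nat.card (C.gen R 35167192219648) := low_step HaK_lo2 HaK_lb3 (by decide +kernel)
theorem HaK_lo1 : 48 * Nat.card (C.gen R 35167192219648) ≤ Nat.card (C.gen R 35182224605184) := cov202.low le_rfl (GC.wds_zero _) HaK_c1i.gen_le fx195
theorem HaK_lb1 : 98304 ≤ Nat.card (C.gen R 35182224605184) := low_step HaK_lo1 HaK_lb2 (by decide +kernel)
theorem HaK_lo0 : 6 * Nat.card (C.gen R 35182224605184) ≤ Nat.card (C.gen R 1879048192) := cov192.low le_rfl (GC.wds_zero _) HaK_c0i.gen_le fx185
theorem HaK_lb0 : 589824 ≤ Nat.card (C.gen R 1879048192) := low_step HaK_lo0 HaK_lb1 (by decide +kernel)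
theorem fx286 : C.gen R 1879048192 ≤ stabilizer _ pt89 := Act.fix_sound HaK_in169.top pt89r chk285
theorem Ha_Kc : ∀ κ ∈ (C.gen R 1879048192), (C.el (R 22))⁻¹ * κ * C.el (R 22) ∈ (C.gen R 4194302) := B21_m0.conjB (Ha_m0.get (i := 22) (by decide +kernel)).top HaK_in169.top chk284
theorem HaT1_in337 : C.Mem R (C.gen R 4194302) 246290604621824 := B21_m0.slp' chk336
theorem HaT1_m0 : C.Mem R (C.gen R 246290604621824) 246290604621824 := GC.Mem.gen HaT1_in337.top
theorem pt338e : ∃ x, A0.Rep pt338c x := act2_rep (n := 112) (d := 7) (by decide) (by decide) (c := 0xb1b) (by decide +kernel)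
noncomputable def pt338 := Classical.choose pt338e
theorem pt338r : A0.Rep pt338c pt338 := Classical.choose_spec pt338e
theorem pt339e : ∃ x, A0.Rep pt339c x := act2_rep (n := 112) (d := 7) (by decide) (by decide) (c := 0x334) (by decide +kernel)
noncomputable def pt339 := Classical.choose pt339e
theorem pt339r : A0.Rep pt339c pt339 := Classical.choose_spec pt339e
theorem pt340e : ∃ x, A0.Rep pt340c x := act2_rep (n := 112) (d := 7) (by decide) (by decide) (c := 0xa10) (by decide +kernel)
noncomputable def pt340 := Classical.choose pt340e
theorem pt340r : A0.Rep pt340c pt340 := Classical.choose_spec pt340e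
theorem pt341e : ∃ x, A0.Rep pt341c x := act2_rep (n := 112) (d := 7) (by decide) (by decide) (c := 0x95e) (by decide +kernel)
noncomputable def pt341 := Classical.choose pt341e
theorem pt341r : A0.Rep pt341c pt341 := Classical.choose_spec pt341e
theorem pt342e : ∃ x, A0.Rep pt342c x := act2_rep (n := 112) (d := 7) (by decide) (by decide) (c := 0xbd7) (by decide +kernel)
noncomputable def pt342 := Classical.choose pt342e
theorem pt342r : A0.Rep pt342c pt342 := Classical.choose_spec pt342e
theorem pt343e : ∃ x, A0.Rep pt343c x := act2_rep (n := 112) (d := 7) (by decide) (by decide) (c := 0xeb) (by decide +kernel)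
noncomputable def pt343 := Classical.choose pt343e
theorem pt343r : A0.Rep pt343c pt343 := Classical.choose_spec pt343e
theorem pt344e : ∃ x, A0.Rep pt344c x := act2_rep (n := 112) (d := 7) (by decide) (by decide) (c := 0xa3) (by decide +kernel)
noncomputable def pt344 := Classical.choose pt344e
theorem pt344r : A0.Rep pt344c pt344 := Classical.choose_spec pt344e
theorem pt345e : ∃ x, A0.Rep pt345c x := act2_rep (n := 112) (d := 7) (by decide) (by decide) (c := 0xd4) (by decide +kernel)
noncomputable def pt345 := Classical.choose pt345e
theorem pt345r : A0.Rep pt345c pt345 := Classical.choose_spec pt345e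
theorem pt346e : ∃ x, A0.Rep pt346c x := act2_rep (n := 112) (d := 7) (by decide) (by decide) (c := 0xc25) (by decide +kernel)
noncomputable def pt346 := Classical.choose pt346e
theorem pt346r : A0.Rep pt346c pt346 := Classical.choose_spec pt346e
theorem pt347e : ∃ x, A0.Rep pt347c x := act2_rep (n := 112) (d := 7) (by decide) (by decide) (c := 0x4c5) (by decide +kernel)
noncomputable def pt347 := Classical.choose pt347e
theorem pt347r : A0.Rep pt347c pt347 := Classical.choose_spec pt347e
theorem pt348e : ∃ x, A0.Rep pt348c x := act2_rep (n := 112) (d := 7) (by decide) (by decide) (c := 0xc55) (by decide +kernel)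
noncomputable def pt348 := Classical.choose pt348e
theorem pt348r : A0.Rep pt348c pt348 := Classical.choose_spec pt348e
theorem HaT1_s0_351 : C.Mem R (C.gen R 246290604621824) 2305807824841605120 := HaT1_m0.slp' chk350
theorem HaT1_c0i : C.Mem R (C.gen R 246290604621824) 2305561534236983296 := HaT1_s0_351.sub chk352
theorem HaT1_c0m : C.Mem R (C.gen R 2305561534236983296) 2305561534236983296 := HaT1_c0i.gen
theorem fx354 : C.gen R 2305561534236983296 ≤ stabilizer _ pt338 := Act.fix_sound HaT1_c0i.top pt338r chk353
theorem cov361 : Cov (C.gen R 246290604621824) (C.wds R [0]) pt338 48 := Act.cov_of_seen (Act.pieces_sound HaT1_s0_351 HaT1_s0_351.top pt338r chk359) chk360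
theorem HaT1_c1i : C.Mem R (C.gen R 2305561534236983296) 2303591209400008704 := HaT1_c0m.sub chk362
theorem HaT1_c1m : C.Mem R (C.gen R 2303591209400008704) 2303591209400008704 := HaT1_c1i.gen
theorem fx364 : C.gen R 2303591209400008704 ≤ stabilizer _ pt339 := Act.fix_sound HaT1_c1i.top pt339r chk363
theorem cov371 : Cov (C.gen R 2305561534236983296) (C.wds R [0]) pt339 24 := Act.cov_of_seen (Act.pieces_sound HaT1_c0m HaT1_c0m.top pt339r chk369) chk370
theorem HaT1_c2i : C.Mem R (C.gen R 2303591209400008704) 2296835809958952960 := HaT1_c1m.sub chk372
theorem HaT1_c2m : C.Mem R (C.gen R 2296835809958952960) 2296835809958952960 := HaT1_c2i.gen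
theorem fx374 : C.gen R 2296835809958952960 ≤ stabilizer _ pt340 := Act.fix_sound HaT1_c2i.top pt340r chk373
theorem cov381 : Cov (C.gen R 2303591209400008704) (C.wds R [0]) pt340 4 := Act.cov_of_seen (Act.pieces_sound HaT1_c1m HaT1_c1m.top pt340r chk379) chk380
theorem HaT1_c3i : C.Mem R (C.gen R 2296835809958952960) 2287828610704211968 := HaT1_c2m.sub chk382
theorem HaT1_c3m : C.Mem R (C.gen R 2287828610704211968) 2287828610704211968 := HaT1_c3i.gen
theorem fx384 : C.gen R 2287828610704211968 ≤ stabilizer _ pt341 := Act.fix_sound HaT1_c3i.top pt341r chk383
theorem cov391 : Cov (C.gen R 2296835809958952960) (C.wds R [0]) pt341 2 := Act.cov_of_seen (Act.pieces_sound HaT1_c2m HaT1_c2m.top pt341r chk389) chk390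
theorem HaT1_c4i : C.Mem R (C.gen R 2287828610704211968) 2269814212194729984 := HaT1_c3m.sub chk392
theorem HaT1_c4m : C.Mem R (C.gen R 2269814212194729984) 2269814212194729984 := HaT1_c4i.gen
theorem fx394 : C.gen R 2269814212194729984 ≤ stabilizer _ pt342 := Act.fix_sound HaT1_c4i.top pt342r chk393
theorem cov401 : Cov (C.gen R 2287828610704211968) (C.wds R [0]) pt342 2 := Act.cov_of_seen (Act.pieces_sound HaT1_c3m HaT1_c3m.top pt342r chk399) chk400
theorem HaT1_c5i : C.Mem R (C.gen R 2269814212194729984) 2233785415175766016 := HaT1_c4m.sub chk402
theorem HaT1_c5m : C.Mem R (C.gen R 2233785415175766016) 2233785415175766016 := HaT1_c5i.gen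
theorem fx404 : C.gen R 2233785415175766016 ≤ stabilizer _ pt343 := Act.fix_sound HaT1_c5i.top pt343r chk403
theorem cov411 : Cov (C.gen R 2269814212194729984) (C.wds R [0]) pt343 2 := Act.cov_of_seen (Act.pieces_sound HaT1_c4m HaT1_c4m.top pt343r chk409) chk410
theorem HaT1_c6i : C.Mem R (C.gen R 2233785415175766016) 2161727821137838080 := HaT1_c5m.sub chk412
theorem HaT1_c6m : C.Mem R (C.gen R 2161727821137838080) 2161727821137838080 := HaT1_c6i.gen
theorem fx414 : C.gen R 2161727821137838080 ≤ stabilizer _ pt344 := Act.fix_sound HaT1_c6i.top pt344r chk413
theorem cov421 : Cov (C.gen R 2233785415175766016) (C.wds R [0]) pt344 2 := Act.cov_of_seen (Act.pieces_sound HaT1_c5m HaT1_c5m.top pt344r chk419) chk420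
theorem HaT1_c7i : C.Mem R (C.gen R 2161727821137838080) 2017612633061982208 := HaT1_c6m.sub chk422
theorem HaT1_c7m : C.Mem R (C.gen R 2017612633061982208) 2017612633061982208 := HaT1_c7i.gen
theorem fx424 : C.gen R 2017612633061982208 ≤ stabilizer _ pt345 := Act.fix_sound HaT1_c7i.top pt345r chk423
theorem cov431 : Cov (C.gen R 2161727821137838080) (C.wds R [0]) pt345 2 := Act.cov_of_seen (Act.pieces_sound HaT1_c6m HaT1_c6m.top pt345r chk429) chk430
theorem HaT1_c8i : C.Mem R (C.gen R 2017612633061982208) 1729382256910270464 := HaT1_c7m.sub chk432
theorem HaT1_c8m : C.Mem R (C.gen R 1729382256910270464) 1729382256910270464 := HaT1_c8i.gen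
theorem fx434 : C.gen R 1729382256910270464 ≤ stabilizer _ pt346 := Act.fix_sound HaT1_c8i.top pt346r chk433
theorem cov441 : Cov (C.gen R 2017612633061982208) (C.wds R [0]) pt346 2 := Act.cov_of_seen (Act.pieces_sound HaT1_c7m HaT1_c7m.top pt346r chk439) chk440
theorem HaT1_c9i : C.Mem R (C.gen R 1729382256910270464) 1152921504606846976 := HaT1_c8m.sub chk442
theorem HaT1_c9m : C.Mem R (C.gen R 1152921504606846976) 1152921504606846976 := HaT1_c9i.gen
theorem fx444 : C.gen R 1152921504606846976 ≤ stabilizer _ pt347 := Act.fix_sound HaT1_c9i.top pt347r chk443
theorem cov451 : Cov (C.gen R 1729382256910270464) (C.wds R [0]) pt347 2 := Act.cov_of_seen (Act.pieces_sound HaT1_c8m HaT1_c8m.top pt347r chk449) chk450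
theorem HaT1_c10i : C.Mem R (C.gen R 1152921504606846976) 0 := HaT1_c9m.sub chk452
theorem HaT1_c10m : C.Mem R (C.gen R 0) 0 := HaT1_c10i.gen
theorem fx454 : C.gen R 0 ≤ stabilizer _ pt348 := Act.fix_sound HaT1_c10i.top pt348r chk453
theorem cov461 : Cov (C.gen R 1152921504606846976) (C.wds R [0]) pt348 2 := Act.cov_of_seen (Act.pieces_sound HaT1_c9m HaT1_c9m.top pt348r chk459) chk460
theorem HaT1_lb11 : 1 ≤ Nat.card (C.gen R 0) := Nat.card_pos
theorem HaT1_lo10 : 2 * Nat.card (C.gen R 0) ≤ Nat.card (C.gen R 1152921504606846976) := cov461.low le_rfl (GC.wds_zero _) HaT1_c10i.gen_le fx454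
theorem HaT1_lb10 : 2 ≤ Nat.card (C.gen R 1152921504606846976) := low_step HaT1_lo10 HaT1_lb11 (by decide +kernel)
theorem HaT1_lo9 : 2 * Nat.card (C.gen R 1152921504606846976) ≤ Nat.card (C.gen R 1729382256910270464) := cov451.low le_rfl (GC.wds_zero _) HaT1_c9i.gen_le fx444
theorem HaT1_lb9 : 4 ≤ Nat.card (C.gen R 1729382256910270464) := low_step HaT1_lo9 HaT1_lb10 (by decide +kernel)
theorem HaT1_lo8 : 2 * Nat.card (C.gen R 1729382256910270464) ≤ Nat.card (C.gen R 2017612633061982208) := cov441.low le_rfl (GC.wds_zero _) HaT1_c8i.gen_le fx434
theorem HaT1_lb8 : 8 ≤ Nat.card (C.gen R 2017612633061982208) := low_step HaT1_lo8 HaT1_lb9 (by decide +kernel)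
theorem HaT1_lo7 : 2 * Nat.card (C.gen R 2017612633061982208) ≤ Nat.card (C.gen R 2161727821137838080) := cov431.low le_rfl (GC.wds_zero _) HaT1_c7i.gen_le fx424
theorem HaT1_lb7 : 16 ≤ Nat.card (C.gen R 2161727821137838080) := low_step HaT1_lo7 HaT1_lb8 (by decide +kernel)
theorem HaT1_lo6 : 2 * Nat.card (C.gen R 2161727821137838080) ≤ Nat.card (C.gen R 2233785415175766016) := cov421.low le_rfl (GC.wds_zero _) HaT1_c6i.gen_le fx414
theorem HaT1_lb6 : 32 ≤ Nat.card (C.gen R 2233785415175766016) := low_step HaT1_lo6 HaT1_lb7 (by decide +kernel)
theorem HaT1_lo5 : 2 * Nat.card (C.gen R 2233785415175766016) ≤ Nat.card (C.gen R 2269814212194729984) := cov411.low le_rfl (GC.wds_zero _) HaT1_c5i.gen_le fx404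
theorem HaT1_lb5 : 64 ≤ Nat.card (C.gen R 2269814212194729984) := low_step HaT1_lo5 HaT1_lb6 (by decide +kernel)
theorem HaT1_lo4 : 2 * Nat.card (C.gen R 2269814212194729984) ≤ Nat.card (C.gen R 2287828610704211968) := cov401.low le_rfl (GC.wds_zero _) HaT1_c4i.gen_le fx394
theorem HaT1_lb4 : 128 ≤ Nat.card (C.gen R 2287828610704211968) := low_step HaT1_lo4 HaT1_lb5 (by decide +kernel)
theorem HaT1_lo3 : 2 * Nat.card (C.gen R 2287828610704211968) ≤ Nat.card (C.gen R 2296835809958952960) := cov391.low le_rfl (GC.wds_zero _) HaT1_c3i.gen_le fx384
theorem HaT1_lb3 : 256 ≤ Nat.card (C.gen R 2296835809958952960) := low_step HaT1_lo3 HaT1_lb4 (by decide +kernel)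
theorem HaT1_lo2 : 4 * Nat.card (C.gen R 2296835809958952960) ≤ Nat.card (C.gen R 2303591209400008704) := cov381.low le_rfl (GC.wds_zero _) HaT1_c2i.gen_le fx374
theorem HaT1_lb2 : 1024 ≤ Nat.card (C.gen R 2303591209400008704) := low_step HaT1_lo2 HaT1_lb3 (by decide +kernel)
theorem HaT1_lo1 : 24 * Nat.card (C.gen R 2303591209400008704) ≤ Nat.card (C.gen R 2305561534236983296) := cov371.low le_rfl (GC.wds_zero _) HaT1_c1i.gen_le fx364
theorem HaT1_lb1 : 24576 ≤ Nat.card (C.gen R 2305561534236983296) := low_step HaT1_lo1 HaT1_lb2 (by decide +kernel)
theorem HaT1_lo0 : 48 * Nat.card (C.gen R 2305561534236983296) ≤ Nat.card (C.gen R 246290604621824) := cov361.low le_rfl (GC.wds_zero _) HaT1_c0i.gen_le fx354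
theorem HaT1_lb0 : 1179648 ≤ Nat.card (C.gen R 246290604621824) := low_step HaT1_lo0 HaT1_lb1 (by decide +kernel)
theorem Ha_T1c : ∀ τ ∈ (C.gen R 246290604621824), C.el (R 22) * τ * (C.el (R 22))⁻¹ ∈ (C.gen R 4194302) := B21_m0.conjA (Ha_I.get (i := 22) (by decide +kernel)).top HaT1_in337.top chk463
theorem cov472 : Cov (C.gen R 246290604621824) (C.wds R (List.map Prod.fst (l464))) pt89 8 := Act.cov_of_seen (Act.pieces_sound HaT1_s0_351 B21_m0.top pt89r chk470) chk471
theorem Ha_T1d : Dec (C.gen R 4194302) (C.gen R 246290604621824) (C.wds R (List.map Prod.fst (l464))) (C.gen R 1879048192) := cov472.dec HaT1_in337.gen_le (GC.wds_sub B21_m0 chk473) HaK_in169.gen_le fx286 (up_low B21_ub HaK_lb0 (by decide +kernel))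
theorem Ha_T1p : ∀ x ∈ DC1 (C.gen R 4194302) (C.el (R 22)), x * C.el (R 22) ∈ DCs (C.gen R 4194302) (C.els R 4194304) := GC.dc_piece' Ha_T1d Ha_T1c Ha_Kc (B21_m0.dcRel Ha_I.top (Ha_I.get (i := 22) (by decide +kernel)).top (Ha_m0.get (i := 22) (by decide +kernel)).top chk465)
theorem Ha_T1u : Nat.card (C.gen R 4194302) ≤ 4 * Nat.card (C.gen R 246290604621824) := up_low B21_ub HaT1_lb0 (by decide +kernel)
theorem Ha_T1n : (DC1 (C.gen R 4194302) (C.el (R 22))).ncard ≤ Nat.card (C.gen R 4194302) * 4 := ncard_DC1 HaT1_in337.gen_le Ha_T1c Ha_T1u
theorem Ha_dc : ∀ x ∈ (C.gen R 8388606), x ∈ DCs (C.gen R 4194302) (C.els R 4194304) := GC.dc_gen (MU := 4194304) B21_m0 (by decide +kernel) (GC.forall_els (L := [22]) (forall_cons ⟨B21_m0.inDC' Ha_I.top (Ha_m0.get (i := 22) (by decide +kernel)).top chk474, GC.forall_els (L := [22]) (forall_cons Ha_T1p forall_nil) (by decide +kernel)⟩ forall_nil) (by decide +kernel))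
theorem Ha_cs : ∀ p ∈ ([(22, 4)] : List (ℕ × ℕ)), (DC1 (C.gen R 4194302) (C.el (R p.1))).ncard ≤ Nat.card (C.gen R 4194302) * p.2 := (forall_cons Ha_T1n forall_nil)
theorem Ha_ix : Nat.card (C.gen R 8388606) ≤ 5 * Nat.card (C.gen R 4194302) := GC.card_dc [(22, 4)] Ha_dc Ha_cs (by decide +kernel)
theorem Ha_ub : Nat.card (C.gen R 8388606) ≤ 23592960 := up_mul Ha_ix B21_ub (by decide +kernel)
theorem pt476e : ∃ x, A0.Rep pt476c x := act2_rep (n := 112) (d := 7) (by decide) (by decide) (c := 0x266) (by decide +kernel)
noncomputable def pt476 := Classical.choose pt476e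
theorem pt476r : A0.Rep pt476c pt476 := Classical.choose_spec pt476e
theorem Lb_m0 : C.Mem R (C.gen R 16777214) 16777214 := GC.Mem.gen (val3.sub chk475)
theorem Lb_I : C.Mem R (C.gen R 16777214) 8388608 := Lb_m0.sub chk477
theorem LbK_in566 : C.Mem R (C.gen R 8388606) 34587645138205409280 := Ha_m0.slp' chk565
theorem LbK_m0 : C.Mem R (C.gen R 34587645138205409280) 34587645138205409280 := GC.Mem.gen LbK_in566.top
theorem pt567e : ∃ x, A0.Rep pt567c x := act2_rep (n := 112) (d := 7) (by decide) (by decide) (c := 0x95e) (by decide +kernel)
noncomputable def pt567 := Classical.choose pt567e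
theorem pt567r : A0.Rep pt567c pt567 := Classical.choose_spec pt567e
theorem pt568e : ∃ x, A0.Rep pt568c x := act2_rep (n := 112) (d := 7) (by decide) (by decide) (c := 0xa10) (by decide +kernel)
noncomputable def pt568 := Classical.choose pt568e
theorem pt568r : A0.Rep pt568c pt568 := Classical.choose_spec pt568e
theorem pt569e : ∃ x, A0.Rep pt569c x := act2_rep (n := 112) (d := 7) (by decide) (by decide) (c := 0x334) (by decide +kernel)
noncomputable def pt569 := Classical.choose pt569e
theorem pt569r : A0.Rep pt569c pt569 := Classical.choose_spec pt569e
theorem pt570e : ∃ x, A0.Rep pt570c x := act2_rep (n := 112) (d := 7) (by decide) (by decide) (c := 0xeb) (by decide +kernel)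
noncomputable def pt570 := Classical.choose pt570e
theorem pt570r : A0.Rep pt570c pt570 := Classical.choose_spec pt570e
theorem pt571e : ∃ x, A0.Rep pt571c x := act2_rep (n := 112) (d := 7) (by decide) (by decide) (c := 0xa3) (by decide +kernel)
noncomputable def pt571 := Classical.choose pt571e
theorem pt571r : A0.Rep pt571c pt571 := Classical.choose_spec pt571e
theorem pt572e : ∃ x, A0.Rep pt572c x := act2_rep (n := 112) (d := 7) (by decide) (by decide) (c := 0xbd7) (by decide +kernel)
noncomputable def pt572 := Classical.choose pt572e
theorem pt572r : A0.Rep pt572c pt572 := Classical.choose_spec pt572e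
theorem pt573e : ∃ x, A0.Rep pt573c x := act2_rep (n := 112) (d := 7) (by decide) (by decide) (c := 0x4c5) (by decide +kernel)
noncomputable def pt573 := Classical.choose pt573e
theorem pt573r : A0.Rep pt573c pt573 := Classical.choose_spec pt573e
theorem pt574e : ∃ x, A0.Rep pt574c x := act2_rep (n := 112) (d := 7) (by decide) (by decide) (c := 0xd4) (by decide +kernel)
noncomputable def pt574 := Classical.choose pt574e
theorem pt574r : A0.Rep pt574c pt574 := Classical.choose_spec pt574e
theorem pt575e : ∃ x, A0.Rep pt575c x := act2_rep (n := 112) (d := 7) (by decide) (by decide) (c := 0xc25) (by decide +kernel)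
noncomputable def pt575 := Classical.choose pt575e
theorem pt575r : A0.Rep pt575c pt575 := Classical.choose_spec pt575e
theorem pt576e : ∃ x, A0.Rep pt576c x := act2_rep (n := 112) (d := 7) (by decide) (by decide) (c := 0xdcc) (by decide +kernel)
noncomputable def pt576 := Classical.choose pt576e
theorem pt576r : A0.Rep pt576c pt576 := Classical.choose_spec pt576e
theorem LbK_s0_579 : C.Mem R (C.gen R 34587645138205409280) 604460603964305373659136 := LbK_m0.slp' chk578
theorem LbK_c0i : C.Mem R (C.gen R 34587645138205409280) 604426016319167168249856 := LbK_s0_579.sub chk580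
theorem LbK_c0m : C.Mem R (C.gen R 604426016319167168249856) 604426016319167168249856 := LbK_c0i.gen
theorem fx582 : C.gen R 604426016319167168249856 ≤ stabilizer _ pt567 := Act.fix_sound LbK_c0i.top pt567r chk581
theorem cov589 : Cov (C.gen R 34587645138205409280) (C.wds R [0]) pt567 8 := Act.cov_of_seen (Act.pieces_sound LbK_s0_579 LbK_s0_579.top pt567r chk587) chk588
theorem LbK_c1i : C.Mem R (C.gen R 604426016319167168249856) 602396874471059117572096 := LbK_c0m.sub chk590
theorem LbK_c1m : C.Mem R (C.gen R 602396874471059117572096) 602396874471059117572096 := LbK_c1i.gen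
theorem fx592 : C.gen R 602396874471059117572096 ≤ stabilizer _ pt568 := Act.fix_sound LbK_c1i.top pt568r chk591
theorem cov599 : Cov (C.gen R 604426016319167168249856) (C.wds R [0]) pt568 384 := Act.cov_of_seen (Act.pieces_sound LbK_c0m LbK_c0m.top pt568r chk597) chk598
theorem LbK_c2i : C.Mem R (C.gen R 602396874471059117572096) 599740543324444942139392 := LbK_c1m.sub chk600
theorem LbK_c2m : C.Mem R (C.gen R 599740543324444942139392) 599740543324444942139392 := LbK_c2i.gen
theorem fx602 : C.gen R 599740543324444942139392 ≤ stabilizer _ pt569 := Act.fix_sound LbK_c2i.top pt569r chk601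
theorem cov609 : Cov (C.gen R 602396874471059117572096) (C.wds R [0]) pt569 6 := Act.cov_of_seen (Act.pieces_sound LbK_c1m LbK_c1m.top pt569r chk607) chk608
theorem LbK_c3i : C.Mem R (C.gen R 599740543324444942139392) 595018176841575296925696 := LbK_c2m.sub chk610
theorem LbK_c3m : C.Mem R (C.gen R 595018176841575296925696) 595018176841575296925696 := LbK_c3i.gen
theorem fx612 : C.gen R 595018176841575296925696 ≤ stabilizer _ pt570 := Act.fix_sound LbK_c3i.top pt570r chk611
theorem cov619 : Cov (C.gen R 599740543324444942139392) (C.wds R [0]) pt570 2 := Act.cov_of_seen (Act.pieces_sound LbK_c2m LbK_c2m.top pt570r chk617) chk618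
theorem LbK_c4i : C.Mem R (C.gen R 595018176841575296925696) 585573443875836006498304 := LbK_c3m.sub chk620
theorem LbK_c4m : C.Mem R (C.gen R 585573443875836006498304) 585573443875836006498304 := LbK_c4i.gen
theorem fx622 : C.gen R 585573443875836006498304 ≤ stabilizer _ pt571 := Act.fix_sound LbK_c4i.top pt571r chk621
theorem cov629 : Cov (C.gen R 595018176841575296925696) (C.wds R [0]) pt571 2 := Act.cov_of_seen (Act.pieces_sound LbK_c3m LbK_c3m.top pt571r chk627) chk628
theorem LbK_c5i : C.Mem R (C.gen R 585573443875836006498304) 566683977944357425643520 := LbK_c4m.sub chk630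
theorem LbK_c5m : C.Mem R (C.gen R 566683977944357425643520) 566683977944357425643520 := LbK_c5i.gen
theorem fx632 : C.gen R 566683977944357425643520 ≤ stabilizer _ pt572 := Act.fix_sound LbK_c5i.top pt572r chk631
theorem cov639 : Cov (C.gen R 585573443875836006498304) (C.wds R [0]) pt572 2 := Act.cov_of_seen (Act.pieces_sound LbK_c4m LbK_c4m.top pt572r chk637) chk638
theorem LbK_c6i : C.Mem R (C.gen R 566683977944357425643520) 528905046081400263933952 := LbK_c5m.sub chk640
theorem LbK_c6m : C.Mem R (C.gen R 528905046081400263933952) 528905046081400263933952 := LbK_c6i.gen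
theorem fx642 : C.gen R 528905046081400263933952 ≤ stabilizer _ pt573 := Act.fix_sound LbK_c6i.top pt573r chk641
theorem cov649 : Cov (C.gen R 566683977944357425643520) (C.wds R [0]) pt573 2 := Act.cov_of_seen (Act.pieces_sound LbK_c5m LbK_c5m.top pt573r chk647) chk648
theorem LbK_c7i : C.Mem R (C.gen R 528905046081400263933952) 453347182355485940514816 := LbK_c6m.sub chk650
theorem LbK_c7m : C.Mem R (C.gen R 453347182355485940514816) 453347182355485940514816 := LbK_c7i.gen
theorem fx652 : C.gen R 453347182355485940514816 ≤ stabilizer _ pt574 := Act.fix_sound LbK_c7i.top pt574r chk651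
theorem cov659 : Cov (C.gen R 528905046081400263933952) (C.wds R [0]) pt574 2 := Act.cov_of_seen (Act.pieces_sound LbK_c6m LbK_c6m.top pt574r chk657) chk658
theorem LbK_c8i : C.Mem R (C.gen R 453347182355485940514816) 302231454903657293676544 := LbK_c7m.sub chk660
theorem LbK_c8m : C.Mem R (C.gen R 302231454903657293676544) 302231454903657293676544 := LbK_c8i.gen
theorem fx662 : C.gen R 302231454903657293676544 ≤ stabilizer _ pt575 := Act.fix_sound LbK_c8i.top pt575r chk661
theorem cov669 : Cov (C.gen R 453347182355485940514816) (C.wds R [0]) pt575 2 := Act.cov_of_seen (Act.pieces_sound LbK_c7m LbK_c7m.top pt575r chk667) chk668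
theorem LbK_c9i : C.Mem R (C.gen R 302231454903657293676544) 0 := LbK_c8m.sub chk670
theorem LbK_c9m : C.Mem R (C.gen R 0) 0 := LbK_c9i.gen
theorem fx672 : C.gen R 0 ≤ stabilizer _ pt576 := Act.fix_sound LbK_c9i.top pt576r chk671
theorem cov679 : Cov (C.gen R 302231454903657293676544) (C.wds R [0]) pt576 2 := Act.cov_of_seen (Act.pieces_sound LbK_c8m LbK_c8m.top pt576r chk677) chk678
theorem LbK_lb10 : 1 ≤ Nat.card (C.gen R 0) := Nat.card_pos
theorem LbK_lo9 : 2 * Nat.card (C.gen R 0) ≤ Nat.card (C.gen R 302231454903657293676544) := cov679.low le_rfl (GC.wds_zero _) LbK_c9i.gen_le fx672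
theorem LbK_lb9 : 2 ≤ Nat.card (C.gen R 302231454903657293676544) := low_step LbK_lo9 LbK_lb10 (by decide +kernel)
theorem LbK_lo8 : 2 * Nat.card (C.gen R 302231454903657293676544) ≤ Nat.card (C.gen R 453347182355485940514816) := cov669.low le_rfl (GC.wds_zero _) LbK_c8i.gen_le fx662
theorem LbK_lb8 : 4 ≤ Nat.card (C.gen R 453347182355485940514816) := low_step LbK_lo8 LbK_lb9 (by decide +kernel)
theorem LbK_lo7 : 2 * Nat.card (C.gen R 453347182355485940514816) ≤ Nat.card (C.gen R 528905046081400263933952) := cov659.low le_rfl (GC.wds_zero _) LbK_c7i.gen_le fx652
theorem LbK_lb7 : 8 ≤ Nat.card (C.gen R 528905046081400263933952) := low_step LbK_lo7 LbK_lb8 (by decide +kernel)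
theorem LbK_lo6 : 2 * Nat.card (C.gen R 528905046081400263933952) ≤ Nat.card (C.gen R 566683977944357425643520) := cov649.low le_rfl (GC.wds_zero _) LbK_c6i.gen_le fx642
theorem LbK_lb6 : 16 ≤ Nat.card (C.gen R 566683977944357425643520) := low_step LbK_lo6 LbK_lb7 (by decide +kernel)
theorem LbK_lo5 : 2 * Nat.card (C.gen R 566683977944357425643520) ≤ Nat.card (C.gen R 585573443875836006498304) := cov639.low le_rfl (GC.wds_zero _) LbK_c5i.gen_le fx632
theorem LbK_lb5 : 32 ≤ Nat.card (C.gen R 585573443875836006498304) := low_step LbK_lo5 LbK_lb6 (by decide +kernel)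
theorem LbK_lo4 : 2 * Nat.card (C.gen R 585573443875836006498304) ≤ Nat.card (C.gen R 595018176841575296925696) := cov629.low le_rfl (GC.wds_zero _) LbK_c4i.gen_le fx622
theorem LbK_lb4 : 64 ≤ Nat.card (C.gen R 595018176841575296925696) := low_step LbK_lo4 LbK_lb5 (by decide +kernel)
theorem LbK_lo3 : 2 * Nat.card (C.gen R 595018176841575296925696) ≤ Nat.card (C.gen R 599740543324444942139392) := cov619.low le_rfl (GC.wds_zero _) LbK_c3i.gen_le fx612
theorem LbK_lb3 : 128 ≤ Nat.card (C.gen R 599740543324444942139392) := low_step LbK_lo3 LbK_lb4 (by decide +kernel)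
theorem LbK_lo2 : 6 * Nat.card (C.gen R 599740543324444942139392) ≤ Nat.card (C.gen R 602396874471059117572096) := cov609.low le_rfl (GC.wds_zero _) LbK_c2i.gen_le fx602
theorem LbK_lb2 : 768 ≤ Nat.card (C.gen R 602396874471059117572096) := low_step LbK_lo2 LbK_lb3 (by decide +kernel)
theorem LbK_lo1 : 384 * Nat.card (C.gen R 602396874471059117572096) ≤ Nat.card (C.gen R 604426016319167168249856) := cov599.low le_rfl (GC.wds_zero _) LbK_c1i.gen_le fx592
theorem LbK_lb1 : 294912 ≤ Nat.card (C.gen R 604426016319167168249856) := low_step LbK_lo1 LbK_lb2 (by decide +kernel)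
theorem LbK_lo0 : 8 * Nat.card (C.gen R 604426016319167168249856) ≤ Nat.card (C.gen R 34587645138205409280) := cov589.low le_rfl (GC.wds_zero _) LbK_c0i.gen_le fx582
theorem LbK_lb0 : 2359296 ≤ Nat.card (C.gen R 34587645138205409280) := low_step LbK_lo0 LbK_lb1 (by decide +kernel)
theorem fx683 : C.gen R 34587645138205409280 ≤ stabilizer _ pt476 := Act.fix_sound LbK_in566.top pt476r chk682
theorem Lb_Kc : ∀ κ ∈ (C.gen R 34587645138205409280), (C.el (R 23))⁻¹ * κ * C.el (R 23) ∈ (C.gen R 8388606) := Ha_m0.conjB (Lb_m0.get (i := 23) (by decide +kernel)).top LbK_in566.top chk681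
theorem LbT1_in740 : C.Mem R (C.gen R 8388606) 4231240368651202111471616 := Ha_m0.slp' chk739
theorem LbT1_m0 : C.Mem R (C.gen R 4231240368651202111471616) 4231240368651202111471616 := GC.Mem.gen LbT1_in740.top
theorem pt741e : ∃ x, A0.Rep pt741c x := act2_rep (n := 112) (d := 7) (by decide) (by decide) (c := 0x95e) (by decide +kernel)
noncomputable def pt741 := Classical.choose pt741e
theorem pt741r : A0.Rep pt741c pt741 := Classical.choose_spec pt741e
theorem pt742e : ∃ x, A0.Rep pt742c x := act2_rep (n := 112) (d := 7) (by decide) (by decide) (c := 0x455) (by decide +kernel)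
noncomputable def pt742 := Classical.choose pt742e
theorem pt742r : A0.Rep pt742c pt742 := Classical.choose_spec pt742e
theorem pt743e : ∃ x, A0.Rep pt743c x := act2_rep (n := 112) (d := 7) (by decide) (by decide) (c := 0x334) (by decide +kernel)
noncomputable def pt743 := Classical.choose pt743e
theorem pt743r : A0.Rep pt743c pt743 := Classical.choose_spec pt743e
theorem pt744e : ∃ x, A0.Rep pt744c x := act2_rep (n := 112) (d := 7) (by decide) (by decide) (c := 0xa10) (by decide +kernel)
noncomputable def pt744 := Classical.choose pt744e
theorem pt744r : A0.Rep pt744c pt744 := Classical.choose_spec pt744e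
theorem pt745e : ∃ x, A0.Rep pt745c x := act2_rep (n := 112) (d := 7) (by decide) (by decide) (c := 0xa3) (by decide +kernel)
noncomputable def pt745 := Classical.choose pt745e
theorem pt745r : A0.Rep pt745c pt745 := Classical.choose_spec pt745e
theorem pt746e : ∃ x, A0.Rep pt746c x := act2_rep (n := 112) (d := 7) (by decide) (by decide) (c := 0xc25) (by decide +kernel)
noncomputable def pt746 := Classical.choose pt746e
theorem pt746r : A0.Rep pt746c pt746 := Classical.choose_spec pt746e
theorem pt747e : ∃ x, A0.Rep pt747c x := act2_rep (n := 112) (d := 7) (by decide) (by decide) (c := 0xbd7) (by decide +kernel)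
noncomputable def pt747 := Classical.choose pt747e
theorem pt747r : A0.Rep pt747c pt747 := Classical.choose_spec pt747e
theorem pt748e : ∃ x, A0.Rep pt748c x := act2_rep (n := 112) (d := 7) (by decide) (by decide) (c := 0xd4) (by decide +kernel)
noncomputable def pt748 := Classical.choose pt748e
theorem pt748r : A0.Rep pt748c pt748 := Classical.choose_spec pt748e
theorem pt749e : ∃ x, A0.Rep pt749c x := act2_rep (n := 112) (d := 7) (by decide) (by decide) (c := 0xdcc) (by decide +kernel)
noncomputable def pt749 := Classical.choose pt749e
theorem pt749r : A0.Rep pt749c pt749 := Classical.choose_spec pt749e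
theorem pt750e : ∃ x, A0.Rep pt750c x := act2_rep (n := 112) (d := 7) (by decide) (by decide) (c := 0xeb) (by decide +kernel)
noncomputable def pt750 := Classical.choose pt750e
theorem pt750r : A0.Rep pt750c pt750 := Classical.choose_spec pt750e
theorem pt751e : ∃ x, A0.Rep pt751c x := act2_rep (n := 112) (d := 7) (by decide) (by decide) (c := 0xc55) (by decide +kernel)
noncomputable def pt751 := Classical.choose pt751e
theorem pt751r : A0.Rep pt751c pt751 := Classical.choose_spec pt751e
theorem LbT1_s0_754 : C.Mem R (C.gen R 4231240368651202111471616) 633824695651204893433764249600 := LbT1_m0.slp' chk753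
theorem LbT1_c0i : C.Mem R (C.gen R 4231240368651202111471616) 633820464410836242231652777984 := LbT1_s0_754.sub chk755
theorem LbT1_c0m : C.Mem R (C.gen R 633820464410836242231652777984) 633820464410836242231652777984 := LbT1_c0i.gen
theorem fx757 : C.gen R 633820464410836242231652777984 ≤ stabilizer _ pt741 := Act.fix_sound LbT1_c0i.top pt741r chk756
theorem cov764 : Cov (C.gen R 4231240368651202111471616) (C.wds R [0]) pt741 8 := Act.cov_of_seen (Act.pieces_sound LbT1_s0_754 LbT1_s0_754.top pt741r chk762) chk763
theorem LbT1_c1i : C.Mem R (C.gen R 633820464410836242231652777984) 631204348937190184697588613120 := LbT1_c0m.sub chk765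
theorem LbT1_c1m : C.Mem R (C.gen R 631204348937190184697588613120) 631204348937190184697588613120 := LbT1_c1i.gen
theorem fx767 : C.gen R 631204348937190184697588613120 ≤ stabilizer _ pt742 := Act.fix_sound LbT1_c1i.top pt742r chk766
theorem cov774 : Cov (C.gen R 633820464410836242231652777984) (C.wds R [0]) pt742 144 := Act.cov_of_seen (Act.pieces_sound LbT1_c0m LbT1_c0m.top pt742r chk772) chk773
theorem LbT1_c2i : C.Mem R (C.gen R 631204348937190184697588613120) 626088174868581074030232076288 := LbT1_c1m.sub chk775
theorem LbT1_c2m : C.Mem R (C.gen R 626088174868581074030232076288) 626088174868581074030232076288 := LbT1_c2i.gen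
theorem fx777 : C.gen R 626088174868581074030232076288 ≤ stabilizer _ pt743 := Act.fix_sound LbT1_c2i.top pt743r chk776
theorem cov784 : Cov (C.gen R 631204348937190184697588613120) (C.wds R [0]) pt743 8 := Act.cov_of_seen (Act.pieces_sound LbT1_c1m LbT1_c1m.top pt743r chk782) chk783
theorem LbT1_c3i : C.Mem R (C.gen R 626088174868581074030232076288) 546550527344495391367963344896 := LbT1_c2m.sub chk785
theorem LbT1_c3m : C.Mem R (C.gen R 546550527344495391367963344896) 546550527344495391367963344896 := LbT1_c3i.gen
theorem fx787 : C.gen R 546550527344495391367963344896 ≤ stabilizer _ pt744 := Act.fix_sound LbT1_c3i.top pt744r chk786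
theorem cov794 : Cov (C.gen R 626088174868581074030232076288) (C.wds R [0]) pt744 4 := Act.cov_of_seen (Act.pieces_sound LbT1_c2m LbT1_c2m.top pt744r chk792) chk793
theorem LbT1_c4i : C.Mem R (C.gen R 546550527344495391367963344896) 545931557324852701230513782784 := LbT1_c3m.sub chk795
theorem LbT1_c4m : C.Mem R (C.gen R 545931557324852701230513782784) 545931557324852701230513782784 := LbT1_c4i.gen
theorem fx797 : C.gen R 545931557324852701230513782784 ≤ stabilizer _ pt745 := Act.fix_sound LbT1_c4i.top pt745r chk796
theorem cov804 : Cov (C.gen R 546550527344495391367963344896) (C.wds R [0]) pt745 2 := Act.cov_of_seen (Act.pieces_sound LbT1_c3m LbT1_c3m.top pt745r chk802) chk803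
theorem LbT1_c5i : C.Mem R (C.gen R 545931557324852701230513782784) 544693617285567320955614658560 := LbT1_c4m.sub chk805
theorem LbT1_c5m : C.Mem R (C.gen R 544693617285567320955614658560) 544693617285567320955614658560 := LbT1_c5i.gen
theorem fx807 : C.gen R 544693617285567320955614658560 ≤ stabilizer _ pt746 := Act.fix_sound LbT1_c5i.top pt746r chk806
theorem cov814 : Cov (C.gen R 545931557324852701230513782784) (C.wds R [0]) pt746 2 := Act.cov_of_seen (Act.pieces_sound LbT1_c4m LbT1_c4m.top pt746r chk812) chk813
theorem LbT1_c6i : C.Mem R (C.gen R 544693617285567320955614658560) 534790096971284278756421664768 := LbT1_c5m.sub chk815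
theorem LbT1_c6m : C.Mem R (C.gen R 534790096971284278756421664768) 534790096971284278756421664768 := LbT1_c6i.gen
theorem fx817 : C.gen R 534790096971284278756421664768 ≤ stabilizer _ pt747 := Act.fix_sound LbT1_c6i.top pt747r chk816
theorem cov824 : Cov (C.gen R 544693617285567320955614658560) (C.wds R [0]) pt747 2 := Act.cov_of_seen (Act.pieces_sound LbT1_c5m LbT1_c5m.top pt747r chk822) chk823
theorem LbT1_c7i : C.Mem R (C.gen R 534790096971284278756421664768) 514983056342718194358035677184 := LbT1_c6m.sub chk825
theorem LbT1_c7m : C.Mem R (C.gen R 514983056342718194358035677184) 514983056342718194358035677184 := LbT1_c7i.gen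
theorem fx827 : C.gen R 514983056342718194358035677184 ≤ stabilizer _ pt748 := Act.fix_sound LbT1_c7i.top pt748r chk826
theorem cov834 : Cov (C.gen R 534790096971284278756421664768) (C.wds R [0]) pt748 2 := Act.cov_of_seen (Act.pieces_sound LbT1_c6m LbT1_c6m.top pt748r chk832) chk833
theorem LbT1_c8i : C.Mem R (C.gen R 514983056342718194358035677184) 475368975085586025561263702016 := LbT1_c7m.sub chk835
theorem LbT1_c8m : C.Mem R (C.gen R 475368975085586025561263702016) 475368975085586025561263702016 := LbT1_c8i.gen
theorem fx837 : C.gen R 475368975085586025561263702016 ≤ stabilizer _ pt749 := Act.fix_sound LbT1_c8i.top pt749r chk836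
theorem cov844 : Cov (C.gen R 514983056342718194358035677184) (C.wds R [0]) pt749 2 := Act.cov_of_seen (Act.pieces_sound LbT1_c7m LbT1_c7m.top pt749r chk842) chk843
theorem LbT1_c9i : C.Mem R (C.gen R 475368975085586025561263702016) 316912650057057350374175801344 := LbT1_c8m.sub chk845
theorem LbT1_c9m : C.Mem R (C.gen R 316912650057057350374175801344) 316912650057057350374175801344 := LbT1_c9i.gen
theorem fx847 : C.gen R 316912650057057350374175801344 ≤ stabilizer _ pt750 := Act.fix_sound LbT1_c9i.top pt750r chk846
theorem cov854 : Cov (C.gen R 475368975085586025561263702016) (C.wds R [0]) pt750 2 := Act.cov_of_seen (Act.pieces_sound LbT1_c8m LbT1_c8m.top pt750r chk852) chk853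
theorem LbT1_c10i : C.Mem R (C.gen R 316912650057057350374175801344) 0 := LbT1_c9m.sub chk855
theorem LbT1_c10m : C.Mem R (C.gen R 0) 0 := LbT1_c10i.gen
theorem fx857 : C.gen R 0 ≤ stabilizer _ pt751 := Act.fix_sound LbT1_c10i.top pt751r chk856
theorem cov864 : Cov (C.gen R 316912650057057350374175801344) (C.wds R [0]) pt751 2 := Act.cov_of_seen (Act.pieces_sound LbT1_c9m LbT1_c9m.top pt751r chk862) chk863
theorem LbT1_lb11 : 1 ≤ Nat.card (C.gen R 0) := Nat.card_pos
theorem LbT1_lo10 : 2 * Nat.card (C.gen R 0) ≤ Nat.card (C.gen R 316912650057057350374175801344) := cov864.low le_rfl (GC.wds_zero _) LbT1_c10i.gen_le fx857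
theorem LbT1_lb10 : 2 ≤ Nat.card (C.gen R 316912650057057350374175801344) := low_step LbT1_lo10 LbT1_lb11 (by decide +kernel)
theorem LbT1_lo9 : 2 * Nat.card (C.gen R 316912650057057350374175801344) ≤ Nat.card (C.gen R 475368975085586025561263702016) := cov854.low le_rfl (GC.wds_zero _) LbT1_c9i.gen_le fx847
theorem LbT1_lb9 : 4 ≤ Nat.card (C.gen R 475368975085586025561263702016) := low_step LbT1_lo9 LbT1_lb10 (by decide +kernel)
theorem LbT1_lo8 : 2 * Nat.card (C.gen R 475368975085586025561263702016) ≤ Nat.card (C.gen R 514983056342718194358035677184) := cov844.low le_rfl (GC.wds_zero _) LbT1_c8i.gen_le fx837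
theorem LbT1_lb8 : 8 ≤ Nat.card (C.gen R 514983056342718194358035677184) := low_step LbT1_lo8 LbT1_lb9 (by decide +kernel)
theorem LbT1_lo7 : 2 * Nat.card (C.gen R 514983056342718194358035677184) ≤ Nat.card (C.gen R 534790096971284278756421664768) := cov834.low le_rfl (GC.wds_zero _) LbT1_c7i.gen_le fx827
theorem LbT1_lb7 : 16 ≤ Nat.card (C.gen R 534790096971284278756421664768) := low_step LbT1_lo7 LbT1_lb8 (by decide +kernel)
theorem LbT1_lo6 : 2 * Nat.card (C.gen R 534790096971284278756421664768) ≤ Nat.card (C.gen R 544693617285567320955614658560) := cov824.low le_rfl (GC.wds_zero _) LbT1_c6i.gen_le fx817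
theorem LbT1_lb6 : 32 ≤ Nat.card (C.gen R 544693617285567320955614658560) := low_step LbT1_lo6 LbT1_lb7 (by decide +kernel)
theorem LbT1_lo5 : 2 * Nat.card (C.gen R 544693617285567320955614658560) ≤ Nat.card (C.gen R 545931557324852701230513782784) := cov814.low le_rfl (GC.wds_zero _) LbT1_c5i.gen_le fx807
theorem LbT1_lb5 : 64 ≤ Nat.card (C.gen R 545931557324852701230513782784) := low_step LbT1_lo5 LbT1_lb6 (by decide +kernel)
theorem LbT1_lo4 : 2 * Nat.card (C.gen R 545931557324852701230513782784) ≤ Nat.card (C.gen R 546550527344495391367963344896) := cov804.low le_rfl (GC.wds_zero _) LbT1_c4i.gen_le fx797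
theorem LbT1_lb4 : 128 ≤ Nat.card (C.gen R 546550527344495391367963344896) := low_step LbT1_lo4 LbT1_lb5 (by decide +kernel)
theorem LbT1_lo3 : 4 * Nat.card (C.gen R 546550527344495391367963344896) ≤ Nat.card (C.gen R 626088174868581074030232076288) := cov794.low le_rfl (GC.wds_zero _) LbT1_c3i.gen_le fx787
theorem LbT1_lb3 : 512 ≤ Nat.card (C.gen R 626088174868581074030232076288) := low_step LbT1_lo3 LbT1_lb4 (by decide +kernel)
theorem LbT1_lo2 : 8 * Nat.card (C.gen R 626088174868581074030232076288) ≤ Nat.card (C.gen R 631204348937190184697588613120) := cov784.low le_rfl (GC.wds_zero _) LbT1_c2i.gen_le fx777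
theorem LbT1_lb2 : 4096 ≤ Nat.card (C.gen R 631204348937190184697588613120) := low_step LbT1_lo2 LbT1_lb3 (by decide +kernel)
theorem LbT1_lo1 : 144 * Nat.card (C.gen R 631204348937190184697588613120) ≤ Nat.card (C.gen R 633820464410836242231652777984) := cov774.low le_rfl (GC.wds_zero _) LbT1_c1i.gen_le fx767
theorem LbT1_lb1 : 589824 ≤ Nat.card (C.gen R 633820464410836242231652777984) := low_step LbT1_lo1 LbT1_lb2 (by decide +kernel)
theorem LbT1_lo0 : 8 * Nat.card (C.gen R 633820464410836242231652777984) ≤ Nat.card (C.gen R 4231240368651202111471616) := cov764.low le_rfl (GC.wds_zero _) LbT1_c0i.gen_le fx757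
theorem LbT1_lb0 : 4718592 ≤ Nat.card (C.gen R 4231240368651202111471616) := low_step LbT1_lo0 LbT1_lb1 (by decide +kernel)
theorem Lb_T1c : ∀ τ ∈ (C.gen R 4231240368651202111471616), C.el (R 23) * τ * (C.el (R 23))⁻¹ ∈ (C.gen R 8388606) := Ha_m0.conjA (Lb_I.get (i := 23) (by decide +kernel)).top LbT1_in740.top chk866
theorem cov875 : Cov (C.gen R 4231240368651202111471616) (C.wds R (List.map Prod.fst (l867))) pt476 10 := Act.cov_of_seen (Act.pieces_sound LbT1_s0_754 Ha_m0.top pt476r chk873) chk874
theorem Lb_T1d : Dec (C.gen R 8388606) (C.gen R 4231240368651202111471616) (C.wds R (List.map Prod.fst (l867))) (C.gen R 34587645138205409280) := cov875.dec LbT1_in740.gen_le (GC.wds_sub Ha_m0 chk876) LbK_in566.gen_le fx683 (up_low Ha_ub LbK_lb0 (by decide +kernel))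
theorem Lb_T1p : ∀ x ∈ DC1 (C.gen R 8388606) (C.el (R 23)), x * C.el (R 23) ∈ DCs (C.gen R 8388606) (C.els R 8388608) := GC.dc_piece' Lb_T1d Lb_T1c Lb_Kc (Ha_m0.dcRel Lb_I.top (Lb_I.get (i := 23) (by decide +kernel)).top (Lb_m0.get (i := 23) (by decide +kernel)).top chk868)
theorem Lb_T1u : Nat.card (C.gen R 8388606) ≤ 5 * Nat.card (C.gen R 4231240368651202111471616) := up_low Ha_ub LbT1_lb0 (by decide +kernel)
theorem Lb_T1n : (DC1 (C.gen R 8388606) (C.el (R 23))).ncard ≤ Nat.card (C.gen R 8388606) * 5 := ncard_DC1 LbT1_in740.gen_le Lb_T1c Lb_T1u
theorem Lb_dc : ∀ x ∈ (C.gen R 16777214), x ∈ DCs (C.gen R 8388606) (C.els R 8388608) := GC.dc_gen (MU := 8388608) Ha_m0 (by decide +kernel) (GC.forall_els (L := [23]) (forall_cons ⟨Ha_m0.inDC' Lb_I.top (Lb_m0.get (i := 23) (by decide +kernel)).top chk877, GC.forall_els (L := [23]) (forall_cons Lb_T1p forall_nil) (by decide +kernel)⟩ forall_nil) (by decide +kernel))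
theorem Lb_cs : ∀ p ∈ ([(23, 5)] : List (ℕ × ℕ)), (DC1 (C.gen R 8388606) (C.el (R p.1))).ncard ≤ Nat.card (C.gen R 8388606) * p.2 := (forall_cons Lb_T1n forall_nil)
theorem Lb_ix : Nat.card (C.gen R 16777214) ≤ 6 * Nat.card (C.gen R 8388606) := GC.card_dc [(23, 5)] Lb_dc Lb_cs (by decide +kernel)
theorem Lb_ub : Nat.card (C.gen R 16777214) ≤ 141557760 := up_mul Lb_ix Ha_ub (by decide +kernel)
theorem L_m0 : C.Mem R (C.gen R 33554430) 33554430 := GC.Mem.gen (val3.sub chk878)
theorem L_dv : Nat.card (C.gen R 33554430) ∣ 2 * Nat.card (C.gen R 16777214) := GC.card_ins (Lb_m0.pc (m := 2) (w := 24514964918419638890407181650090313923600) (val3.get (i := 24) (by decide +kernel)) Lb_m0.top chk880 chk881) (by decide +kernel)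
theorem L_ub : Nat.card (C.gen R 33554430) ≤ 283115520 := up_mul (Nat.le_of_dvd (Nat.mul_pos (by decide) Nat.card_pos) L_dv) Lb_ub (by decide +kernel)
theorem pt883e : ∃ x, A0.Rep pt883c x := act2_rep (n := 112) (d := 7) (by decide) (by decide) (c := 0xd4c0bbc013776d) (by decide +kernel)
noncomputable def pt883 := Classical.choose pt883e
theorem pt883r : A0.Rep pt883c pt883 := Classical.choose_spec pt883e
theorem H_m0 : C.Mem R (C.gen R 67108862) 67108862 := GC.Mem.gen (val3.sub chk882)
theorem H_s0_886 : C.Mem R (C.gen R 67108862) 1901475900342344102245121916926 := H_m0.slp' chk885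
theorem H_I : C.Mem R (C.gen R 67108862) 1901475900342344102245088362496 := H_s0_886.sub chk887
theorem HK_in919 : C.Mem R (C.gen R 33554430) 17747108403195211620953844875264 := L_m0.slp' chk918
theorem HK_m0 : C.Mem R (C.gen R 17747108403195211620953844875264) 17747108403195211620953844875264 := GC.Mem.gen HK_in919.top
theorem pt920e : ∃ x, A0.Rep pt920c x := act2_rep (n := 112) (d := 7) (by decide) (by decide) (c := 0xc55) (by decide +kernel)
noncomputable def pt920 := Classical.choose pt920e
theorem pt920r : A0.Rep pt920c pt920 := Classical.choose_spec pt920e
theorem pt921e : ∃ x, A0.Rep pt921c x := act2_rep (n := 112) (d := 7) (by decide) (by decide) (c := 0x334) (by decide +kernel)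
noncomputable def pt921 := Classical.choose pt921e
theorem pt921r : A0.Rep pt921c pt921 := Classical.choose_spec pt921e
theorem pt922e : ∃ x, A0.Rep pt922c x := act2_rep (n := 112) (d := 7) (by decide) (by decide) (c := 0xa3) (by decide +kernel)
noncomputable def pt922 := Classical.choose pt922e
theorem pt922r : A0.Rep pt922c pt922 := Classical.choose_spec pt922e
theorem pt923e : ∃ x, A0.Rep pt923c x := act2_rep (n := 112) (d := 7) (by decide) (by decide) (c := 0xa10) (by decide +kernel)
noncomputable def pt923 := Classical.choose pt923e
theorem pt923r : A0.Rep pt923c pt923 := Classical.choose_spec pt923e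
theorem pt924e : ∃ x, A0.Rep pt924c x := act2_rep (n := 112) (d := 7) (by decide) (by decide) (c := 0xc25) (by decide +kernel)
noncomputable def pt924 := Classical.choose pt924e
theorem pt924r : A0.Rep pt924c pt924 := Classical.choose_spec pt924e
theorem pt925e : ∃ x, A0.Rep pt925c x := act2_rep (n := 112) (d := 7) (by decide) (by decide) (c := 0x95e) (by decide +kernel)
noncomputable def pt925 := Classical.choose pt925e
theorem pt925r : A0.Rep pt925c pt925 := Classical.choose_spec pt925e
theorem pt926e : ∃ x, A0.Rep pt926c x := act2_rep (n := 112) (d := 7) (by decide) (by decide) (c := 0xbd7) (by decide +kernel)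
noncomputable def pt926 := Classical.choose pt926e
theorem pt926r : A0.Rep pt926c pt926 := Classical.choose_spec pt926e
theorem pt927e : ∃ x, A0.Rep pt927c x := act2_rep (n := 112) (d := 7) (by decide) (by decide) (c := 0xeb) (by decide +kernel)
noncomputable def pt927 := Classical.choose pt927e
theorem pt927r : A0.Rep pt927c pt927 := Classical.choose_spec pt927e
theorem HK_s0_930 : C.Mem R (C.gen R 17747108403195211620953844875264) 41535839567078164569440977227350016 := HK_m0.slp' chk929
theorem HK_c0i : C.Mem R (C.gen R 17747108403195211620953844875264) 41518092458674969357820023382474752 := HK_s0_930.sub chk931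
theorem HK_c0m : C.Mem R (C.gen R 41518092458674969357820023382474752) 41518092458674969357820023382474752 := HK_c0i.gen
theorem fx933 : C.gen R 41518092458674969357820023382474752 ≤ stabilizer _ pt920 := Act.fix_sound HK_c0i.top pt920r chk932
theorem cov940 : Cov (C.gen R 17747108403195211620953844875264) (C.wds R [0]) pt920 12 := Act.cov_of_seen (Act.pieces_sound HK_s0_930 HK_s0_930.top pt920r chk938) chk939
theorem HK_c1i : C.Mem R (C.gen R 41518092458674969357820023382474752) 40483689568888734166198713566887936 := HK_c0m.sub chk941
theorem HK_c1m : C.Mem R (C.gen R 40483689568888734166198713566887936) 40483689568888734166198713566887936 := HK_c1i.gen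
theorem fx943 : C.gen R 40483689568888734166198713566887936 ≤ stabilizer _ pt921 := Act.fix_sound HK_c1i.top pt921r chk942
theorem cov950 : Cov (C.gen R 41518092458674969357820023382474752) (C.wds R [0]) pt921 128 := Act.cov_of_seen (Act.pieces_sound HK_c0m HK_c0m.top pt921r chk948) chk949
theorem HK_c2i : C.Mem R (C.gen R 40483689568888734166198713566887936) 39104485715840420577370300479438848 := HK_c1m.sub chk951
theorem HK_c2m : C.Mem R (C.gen R 39104485715840420577370300479438848) 39104485715840420577370300479438848 := HK_c2i.gen
theorem fx953 : C.gen R 39104485715840420577370300479438848 ≤ stabilizer _ pt922 := Act.fix_sound HK_c2i.top pt922r chk952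
theorem cov960 : Cov (C.gen R 40483689568888734166198713566887936) (C.wds R [0]) pt922 4 := Act.cov_of_seen (Act.pieces_sound HK_c1m HK_c1m.top pt922r chk958) chk959
theorem HK_c3i : C.Mem R (C.gen R 39104485715840420577370300479438848) 38942226439011207213978722469150720 := HK_c2m.sub chk961
theorem HK_c3m : C.Mem R (C.gen R 38942226439011207213978722469150720) 38942226439011207213978722469150720 := HK_c3i.gen
theorem fx963 : C.gen R 38942226439011207213978722469150720 ≤ stabilizer _ pt923 := Act.fix_sound HK_c3i.top pt923r chk962
theorem cov970 : Cov (C.gen R 39104485715840420577370300479438848) (C.wds R [0]) pt923 2 := Act.cov_of_seen (Act.pieces_sound HK_c2m HK_c2m.top pt923r chk968) chk969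
theorem HK_c4i : C.Mem R (C.gen R 38942226439011207213978722469150720) 36346078009743793399713474304540672 := HK_c3m.sub chk971
theorem HK_c4m : C.Mem R (C.gen R 36346078009743793399713474304540672) 36346078009743793399713474304540672 := HK_c4i.gen
theorem fx973 : C.gen R 36346078009743793399713474304540672 ≤ stabilizer _ pt924 := Act.fix_sound HK_c4i.top pt924r chk972
theorem cov980 : Cov (C.gen R 38942226439011207213978722469150720) (C.wds R [0]) pt924 2 := Act.cov_of_seen (Act.pieces_sound HK_c3m HK_c3m.top pt924r chk978) chk979
theorem HK_c5i : C.Mem R (C.gen R 36346078009743793399713474304540672) 31153781151208965771182977975320576 := HK_c4m.sub chk981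
theorem HK_c5m : C.Mem R (C.gen R 31153781151208965771182977975320576) 31153781151208965771182977975320576 := HK_c5i.gen
theorem fx983 : C.gen R 31153781151208965771182977975320576 ≤ stabilizer _ pt925 := Act.fix_sound HK_c5i.top pt925r chk982
theorem cov990 : Cov (C.gen R 36346078009743793399713474304540672) (C.wds R [0]) pt925 2 := Act.cov_of_seen (Act.pieces_sound HK_c4m HK_c4m.top pt925r chk988) chk989
theorem HK_c6i : C.Mem R (C.gen R 31153781151208965771182977975320576) 20769187434139310514121985316880384 := HK_c5m.sub chk991
theorem HK_c6m : C.Mem R (C.gen R 20769187434139310514121985316880384) 20769187434139310514121985316880384 := HK_c6i.gen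
theorem fx993 : C.gen R 20769187434139310514121985316880384 ≤ stabilizer _ pt926 := Act.fix_sound HK_c6i.top pt926r chk992
theorem cov1000 : Cov (C.gen R 31153781151208965771182977975320576) (C.wds R [0]) pt926 2 := Act.cov_of_seen (Act.pieces_sound HK_c5m HK_c5m.top pt926r chk998) chk999
theorem HK_c7i : C.Mem R (C.gen R 20769187434139310514121985316880384) 0 := HK_c6m.sub chk1001
theorem HK_c7m : C.Mem R (C.gen R 0) 0 := HK_c7i.gen
theorem fx1003 : C.gen R 0 ≤ stabilizer _ pt927 := Act.fix_sound HK_c7i.top pt927r chk1002
theorem cov1010 : Cov (C.gen R 20769187434139310514121985316880384) (C.wds R [0]) pt927 2 := Act.cov_of_seen (Act.pieces_sound HK_c6m HK_c6m.top pt927r chk1008) chk1009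
theorem HK_lb8 : 1 ≤ Nat.card (C.gen R 0) := Nat.card_pos
theorem HK_lo7 : 2 * Nat.card (C.gen R 0) ≤ Nat.card (C.gen R 20769187434139310514121985316880384) := cov1010.low le_rfl (GC.wds_zero _) HK_c7i.gen_le fx1003
theorem HK_lb7 : 2 ≤ Nat.card (C.gen R 20769187434139310514121985316880384) := low_step HK_lo7 HK_lb8 (by decide +kernel)
theorem HK_lo6 : 2 * Nat.card (C.gen R 20769187434139310514121985316880384) ≤ Nat.card (C.gen R 31153781151208965771182977975320576) := cov1000.low le_rfl (GC.wds_zero _) HK_c6i.gen_le fx993
theorem HK_lb6 : 4 ≤ Nat.card (C.gen R 31153781151208965771182977975320576) := low_step HK_lo6 HK_lb7 (by decide +kernel)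
theorem HK_lo5 : 2 * Nat.card (C.gen R 31153781151208965771182977975320576) ≤ Nat.card (C.gen R 36346078009743793399713474304540672) := cov990.low le_rfl (GC.wds_zero _) HK_c5i.gen_le fx983
theorem HK_lb5 : 8 ≤ Nat.card (C.gen R 36346078009743793399713474304540672) := low_step HK_lo5 HK_lb6 (by decide +kernel)
theorem HK_lo4 : 2 * Nat.card (C.gen R 36346078009743793399713474304540672) ≤ Nat.card (C.gen R 38942226439011207213978722469150720) := cov980.low le_rfl (GC.wds_zero _) HK_c4i.gen_le fx973
theorem HK_lb4 : 16 ≤ Nat.card (C.gen R 38942226439011207213978722469150720) := low_step HK_lo4 HK_lb5 (by decide +kernel)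
theorem HK_lo3 : 2 * Nat.card (C.gen R 38942226439011207213978722469150720) ≤ Nat.card (C.gen R 39104485715840420577370300479438848) := cov970.low le_rfl (GC.wds_zero _) HK_c3i.gen_le fx963
theorem HK_lb3 : 32 ≤ Nat.card (C.gen R 39104485715840420577370300479438848) := low_step HK_lo3 HK_lb4 (by decide +kernel)
theorem HK_lo2 : 4 * Nat.card (C.gen R 39104485715840420577370300479438848) ≤ Nat.card (C.gen R 40483689568888734166198713566887936) := cov960.low le_rfl (GC.wds_zero _) HK_c2i.gen_le fx953
theorem HK_lb2 : 128 ≤ Nat.card (C.gen R 40483689568888734166198713566887936) := low_step HK_lo2 HK_lb3 (by decide +kernel)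
theorem HK_lo1 : 128 * Nat.card (C.gen R 40483689568888734166198713566887936) ≤ Nat.card (C.gen R 41518092458674969357820023382474752) := cov950.low le_rfl (GC.wds_zero _) HK_c1i.gen_le fx943
theorem HK_lb1 : 16384 ≤ Nat.card (C.gen R 41518092458674969357820023382474752) := low_step HK_lo1 HK_lb2 (by decide +kernel)
theorem HK_lo0 : 12 * Nat.card (C.gen R 41518092458674969357820023382474752) ≤ Nat.card (C.gen R 17747108403195211620953844875264) := cov940.low le_rfl (GC.wds_zero _) HK_c0i.gen_le fx933
theorem HK_lb0 : 196608 ≤ Nat.card (C.gen R 17747108403195211620953844875264) := low_step HK_lo0 HK_lb1 (by decide +kernel)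
theorem fx1014 : C.gen R 17747108403195211620953844875264 ≤ stabilizer _ pt883 := Act.fix_sound HK_in919.top pt883r chk1013
theorem H_Kc : ∀ κ ∈ (C.gen R 17747108403195211620953844875264), (C.el (R 25))⁻¹ * κ * C.el (R 25) ∈ (C.gen R 33554430) := L_m0.conjB (H_m0.get (i := 25) (by decide +kernel)).top HK_in919.top chk1012
theorem HT1_in1108 : C.Mem R (C.gen R 33554430) 623075623024179315423659559506411520 := L_m0.slp' chk1107
theorem HT1_m0 : C.Mem R (C.gen R 623075623024179315423659559506411520) 623075623024179315423659559506411520 := GC.Mem.gen HT1_in1108.top
theorem pt1109e : ∃ x, A0.Rep pt1109c x := act2_rep (n := 112) (d := 7) (by decide) (by decide) (c := 0x95e) (by decide +kernel)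
noncomputable def pt1109 := Classical.choose pt1109e
theorem pt1109r : A0.Rep pt1109c pt1109 := Classical.choose_spec pt1109e
theorem pt1110e : ∃ x, A0.Rep pt1110c x := act2_rep (n := 112) (d := 7) (by decide) (by decide) (c := 0xc8f) (by decide +kernel)
noncomputable def pt1110 := Classical.choose pt1110e
theorem pt1110r : A0.Rep pt1110c pt1110 := Classical.choose_spec pt1110e
theorem pt1111e : ∃ x, A0.Rep pt1111c x := act2_rep (n := 112) (d := 7) (by decide) (by decide) (c := 0xa10) (by decide +kernel)
noncomputable def pt1111 := Classical.choose pt1111e
theorem pt1111r : A0.Rep pt1111c pt1111 := Classical.choose_spec pt1111e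
theorem pt1112e : ∃ x, A0.Rep pt1112c x := act2_rep (n := 112) (d := 7) (by decide) (by decide) (c := 0xeb) (by decide +kernel)
noncomputable def pt1112 := Classical.choose pt1112e
theorem pt1112r : A0.Rep pt1112c pt1112 := Classical.choose_spec pt1112e
theorem pt1113e : ∃ x, A0.Rep pt1113c x := act2_rep (n := 112) (d := 7) (by decide) (by decide) (c := 0xa3) (by decide +kernel)
noncomputable def pt1113 := Classical.choose pt1113e
theorem pt1113r : A0.Rep pt1113c pt1113 := Classical.choose_spec pt1113e
theorem pt1114e : ∃ x, A0.Rep pt1114c x := act2_rep (n := 112) (d := 7) (by decide) (by decide) (c := 0x4c5) (by decide +kernel)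
noncomputable def pt1114 := Classical.choose pt1114e
theorem pt1114r : A0.Rep pt1114c pt1114 := Classical.choose_spec pt1114e
theorem pt1115e : ∃ x, A0.Rep pt1115c x := act2_rep (n := 112) (d := 7) (by decide) (by decide) (c := 0xc25) (by decide +kernel)
noncomputable def pt1115 := Classical.choose pt1115e
theorem pt1115r : A0.Rep pt1115c pt1115 := Classical.choose_spec pt1115e
theorem pt1116e : ∃ x, A0.Rep pt1116c x := act2_rep (n := 112) (d := 7) (by decide) (by decide) (c := 0xdcc) (by decide +kernel)
noncomputable def pt1116 := Classical.choose pt1116e
theorem pt1116r : A0.Rep pt1116c pt1116 := Classical.choose_spec pt1116e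
theorem pt1117e : ∃ x, A0.Rep pt1117c x := act2_rep (n := 112) (d := 7) (by decide) (by decide) (c := 0x334) (by decide +kernel)
noncomputable def pt1117 := Classical.choose pt1117e
theorem pt1117r : A0.Rep pt1117c pt1117 := Classical.choose_spec pt1117e
theorem pt1118e : ∃ x, A0.Rep pt1118c x := act2_rep (n := 112) (d := 7) (by decide) (by decide) (c := 0xbd7) (by decide +kernel)
noncomputable def pt1118 := Classical.choose pt1118e
theorem pt1118r : A0.Rep pt1118c pt1118 := Classical.choose_spec pt1118e
theorem pt1119e : ∃ x, A0.Rep pt1119c x := act2_rep (n := 112) (d := 7) (by decide) (by decide) (c := 0xd4) (by decide +kernel)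
noncomputable def pt1119 := Classical.choose pt1119e
theorem pt1119r : A0.Rep pt1119c pt1119 := Classical.choose_spec pt1119e
theorem HT1_s0_1122 : C.Mem R (C.gen R 623075623024179315423659559506411520) 21778029944565193383034946631662531772416 := HT1_m0.slp' chk1121
theorem HT1_c0i : C.Mem R (C.gen R 623075623024179315423659559506411520) 21777406868942169203719522972103025360896 := HT1_s0_1122.sub chk1123
theorem HT1_c0m : C.Mem R (C.gen R 21777406868942169203719522972103025360896) 21777406868942169203719522972103025360896 := HT1_c0i.gen
theorem fx1125 : C.gen R 21777406868942169203719522972103025360896 ≤ stabilizer _ pt1109 := Act.fix_sound HT1_c0i.top pt1109r chk1124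
theorem cov1132 : Cov (C.gen R 623075623024179315423659559506411520) (C.wds R [0]) pt1109 24 := Act.cov_of_seen (Act.pieces_sound HT1_s0_1122 HT1_s0_1122.top pt1109r chk1130) chk1131
theorem HT1_c1i : C.Mem R (C.gen R 21777406868942169203719522972103025360896) 21762120746990642671181129190909801398272 := HT1_c0m.sub chk1133
theorem HT1_c1m : C.Mem R (C.gen R 21762120746990642671181129190909801398272) 21762120746990642671181129190909801398272 := HT1_c1i.gen
theorem fx1135 : C.gen R 21762120746990642671181129190909801398272 ≤ stabilizer _ pt1110 := Act.fix_sound HT1_c1i.top pt1110r chk1134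
theorem cov1142 : Cov (C.gen R 21777406868942169203719522972103025360896) (C.wds R [0]) pt1110 64 := Act.cov_of_seen (Act.pieces_sound HT1_c0m HT1_c0m.top pt1110r chk1140) chk1141
theorem HT1_c2i : C.Mem R (C.gen R 21762120746990642671181129190909801398272) 18949474307909760684116673451356592275456 := HT1_c1m.sub chk1143
theorem HT1_c2m : C.Mem R (C.gen R 18949474307909760684116673451356592275456) 18949474307909760684116673451356592275456 := HT1_c2i.gen
theorem fx1145 : C.gen R 18949474307909760684116673451356592275456 ≤ stabilizer _ pt1111 := Act.fix_sound HT1_c2i.top pt1111r chk1144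
theorem cov1152 : Cov (C.gen R 21762120746990642671181129190909801398272) (C.wds R [0]) pt1111 8 := Act.cov_of_seen (Act.pieces_sound HT1_c1m HT1_c1m.top pt1111r chk1150) chk1151
theorem HT1_c3i : C.Mem R (C.gen R 18949474307909760684116673451356592275456) 18928206659977202030150212538392106762240 := HT1_c2m.sub chk1153
theorem HT1_c3m : C.Mem R (C.gen R 18928206659977202030150212538392106762240) 18928206659977202030150212538392106762240 := HT1_c3i.gen
theorem fx1155 : C.gen R 18928206659977202030150212538392106762240 ≤ stabilizer _ pt1112 := Act.fix_sound HT1_c3i.top pt1112r chk1154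
theorem cov1162 : Cov (C.gen R 18949474307909760684116673451356592275456) (C.wds R [0]) pt1112 2 := Act.cov_of_seen (Act.pieces_sound HT1_c2m HT1_c2m.top pt1112r chk1160) chk1161
theorem HT1_c4i : C.Mem R (C.gen R 18928206659977202030150212538392106762240) 18885671364112084722217290712463135735808 := HT1_c3m.sub chk1163
theorem HT1_c4m : C.Mem R (C.gen R 18885671364112084722217290712463135735808) 18885671364112084722217290712463135735808 := HT1_c4i.gen
theorem fx1165 : C.gen R 18885671364112084722217290712463135735808 ≤ stabilizer _ pt1113 := Act.fix_sound HT1_c4i.top pt1113r chk1164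
theorem cov1172 : Cov (C.gen R 18928206659977202030150212538392106762240) (C.wds R [0]) pt1113 2 := Act.cov_of_seen (Act.pieces_sound HT1_c3m HT1_c3m.top pt1113r chk1170) chk1171
theorem HT1_c5i : C.Mem R (C.gen R 18885671364112084722217290712463135735808) 18715530180651615490485603408747251630080 := HT1_c4m.sub chk1173
theorem HT1_c5m : C.Mem R (C.gen R 18715530180651615490485603408747251630080) 18715530180651615490485603408747251630080 := HT1_c5i.gen
theorem fx1175 : C.gen R 18715530180651615490485603408747251630080 ≤ stabilizer _ pt1114 := Act.fix_sound HT1_c5i.top pt1114r chk1174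
theorem cov1182 : Cov (C.gen R 18885671364112084722217290712463135735808) (C.wds R [0]) pt1114 2 := Act.cov_of_seen (Act.pieces_sound HT1_c4m HT1_c4m.top pt1114r chk1180) chk1181
theorem HT1_c6i : C.Mem R (C.gen R 18715530180651615490485603408747251630080) 18375247813730677027022228801315483418624 := HT1_c5m.sub chk1183
theorem HT1_c6m : C.Mem R (C.gen R 18375247813730677027022228801315483418624) 18375247813730677027022228801315483418624 := HT1_c6i.gen
theorem fx1185 : C.gen R 18375247813730677027022228801315483418624 ≤ stabilizer _ pt1115 := Act.fix_sound HT1_c6i.top pt1115r chk1184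
theorem cov1192 : Cov (C.gen R 18715530180651615490485603408747251630080) (C.wds R [0]) pt1115 2 := Act.cov_of_seen (Act.pieces_sound HT1_c5m HT1_c5m.top pt1115r chk1190) chk1191
theorem HT1_c7i : C.Mem R (C.gen R 18375247813730677027022228801315483418624) 17694683079888800100095479586451946995712 := HT1_c6m.sub chk1193
theorem HT1_c7m : C.Mem R (C.gen R 17694683079888800100095479586451946995712) 17694683079888800100095479586451946995712 := HT1_c7i.gen
theorem fx1195 : C.gen R 17694683079888800100095479586451946995712 ≤ stabilizer _ pt1116 := Act.fix_sound HT1_c7i.top pt1116r chk1194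
theorem cov1202 : Cov (C.gen R 18375247813730677027022228801315483418624) (C.wds R [0]) pt1116 2 := Act.cov_of_seen (Act.pieces_sound HT1_c6m HT1_c6m.top pt1116r chk1200) chk1201
theorem HT1_c8i : C.Mem R (C.gen R 17694683079888800100095479586451946995712) 16333553612205046246241981156724874149888 := HT1_c7m.sub chk1203
theorem HT1_c8m : C.Mem R (C.gen R 16333553612205046246241981156724874149888) 16333553612205046246241981156724874149888 := HT1_c8i.gen
theorem fx1205 : C.gen R 16333553612205046246241981156724874149888 ≤ stabilizer _ pt1117 := Act.fix_sound HT1_c8i.top pt1117r chk1204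
theorem cov1212 : Cov (C.gen R 17694683079888800100095479586451946995712) (C.wds R [0]) pt1117 2 := Act.cov_of_seen (Act.pieces_sound HT1_c7m HT1_c7m.top pt1117r chk1210) chk1211
theorem HT1_c9i : C.Mem R (C.gen R 16333553612205046246241981156724874149888) 10889035741470030830827987437816582766592 := HT1_c8m.sub chk1213
theorem HT1_c9m : C.Mem R (C.gen R 10889035741470030830827987437816582766592) 10889035741470030830827987437816582766592 := HT1_c9i.gen
theorem fx1215 : C.gen R 10889035741470030830827987437816582766592 ≤ stabilizer _ pt1118 := Act.fix_sound HT1_c9i.top pt1118r chk1214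
theorem cov1222 : Cov (C.gen R 16333553612205046246241981156724874149888) (C.wds R [0]) pt1118 2 := Act.cov_of_seen (Act.pieces_sound HT1_c8m HT1_c8m.top pt1118r chk1220) chk1221
theorem HT1_c10i : C.Mem R (C.gen R 10889035741470030830827987437816582766592) 0 := HT1_c9m.sub chk1223
theorem HT1_c10m : C.Mem R (C.gen R 0) 0 := HT1_c10i.gen
theorem fx1225 : C.gen R 0 ≤ stabilizer _ pt1119 := Act.fix_sound HT1_c10i.top pt1119r chk1224
theorem cov1232 : Cov (C.gen R 10889035741470030830827987437816582766592) (C.wds R [0]) pt1119 2 := Act.cov_of_seen (Act.pieces_sound HT1_c9m HT1_c9m.top pt1119r chk1230) chk1231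
theorem HT1_lb11 : 1 ≤ Nat.card (C.gen R 0) := Nat.card_pos
theorem HT1_lo10 : 2 * Nat.card (C.gen R 0) ≤ Nat.card (C.gen R 10889035741470030830827987437816582766592) := cov1232.low le_rfl (GC.wds_zero _) HT1_c10i.gen_le fx1225
theorem HT1_lb10 : 2 ≤ Nat.card (C.gen R 10889035741470030830827987437816582766592) := low_step HT1_lo10 HT1_lb11 (by decide +kernel)
theorem HT1_lo9 : 2 * Nat.card (C.gen R 10889035741470030830827987437816582766592) ≤ Nat.card (C.gen R 16333553612205046246241981156724874149888) := cov1222.low le_rfl (GC.wds_zero _) HT1_c9i.gen_le fx1215
theorem HT1_lb9 : 4 ≤ Nat.card (C.gen R 16333553612205046246241981156724874149888) := low_step HT1_lo9 HT1_lb10 (by decide +kernel)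
theorem HT1_lo8 : 2 * Nat.card (C.gen R 16333553612205046246241981156724874149888) ≤ Nat.card (C.gen R 17694683079888800100095479586451946995712) := cov1212.low le_rfl (GC.wds_zero _) HT1_c8i.gen_le fx1205
theorem HT1_lb8 : 8 ≤ Nat.card (C.gen R 17694683079888800100095479586451946995712) := low_step HT1_lo8 HT1_lb9 (by decide +kernel)
theorem HT1_lo7 : 2 * Nat.card (C.gen R 17694683079888800100095479586451946995712) ≤ Nat.card (C.gen R 18375247813730677027022228801315483418624) := cov1202.low le_rfl (GC.wds_zero _) HT1_c7i.gen_le fx1195
theorem HT1_lb7 : 16 ≤ Nat.card (C.gen R 18375247813730677027022228801315483418624) := low_step HT1_lo7 HT1_lb8 (by decide +kernel)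
theorem HT1_lo6 : 2 * Nat.card (C.gen R 18375247813730677027022228801315483418624) ≤ Nat.card (C.gen R 18715530180651615490485603408747251630080) := cov1192.low le_rfl (GC.wds_zero _) HT1_c6i.gen_le fx1185
theorem HT1_lb6 : 32 ≤ Nat.card (C.gen R 18715530180651615490485603408747251630080) := low_step HT1_lo6 HT1_lb7 (by decide +kernel)
theorem HT1_lo5 : 2 * Nat.card (C.gen R 18715530180651615490485603408747251630080) ≤ Nat.card (C.gen R 18885671364112084722217290712463135735808) := cov1182.low le_rfl (GC.wds_zero _) HT1_c5i.gen_le fx1175
theorem HT1_lb5 : 64 ≤ Nat.card (C.gen R 18885671364112084722217290712463135735808) := low_step HT1_lo5 HT1_lb6 (by decide +kernel)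
theorem HT1_lo4 : 2 * Nat.card (C.gen R 18885671364112084722217290712463135735808) ≤ Nat.card (C.gen R 18928206659977202030150212538392106762240) := cov1172.low le_rfl (GC.wds_zero _) HT1_c4i.gen_le fx1165
theorem HT1_lb4 : 128 ≤ Nat.card (C.gen R 18928206659977202030150212538392106762240) := low_step HT1_lo4 HT1_lb5 (by decide +kernel)
theorem HT1_lo3 : 2 * Nat.card (C.gen R 18928206659977202030150212538392106762240) ≤ Nat.card (C.gen R 18949474307909760684116673451356592275456) := cov1162.low le_rfl (GC.wds_zero _) HT1_c3i.gen_le fx1155
theorem HT1_lb3 : 256 ≤ Nat.card (C.gen R 18949474307909760684116673451356592275456) := low_step HT1_lo3 HT1_lb4 (by decide +kernel)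
theorem HT1_lo2 : 8 * Nat.card (C.gen R 18949474307909760684116673451356592275456) ≤ Nat.card (C.gen R 21762120746990642671181129190909801398272) := cov1152.low le_rfl (GC.wds_zero _) HT1_c2i.gen_le fx1145
theorem HT1_lb2 : 2048 ≤ Nat.card (C.gen R 21762120746990642671181129190909801398272) := low_step HT1_lo2 HT1_lb3 (by decide +kernel)
theorem HT1_lo1 : 64 * Nat.card (C.gen R 21762120746990642671181129190909801398272) ≤ Nat.card (C.gen R 21777406868942169203719522972103025360896) := cov1142.low le_rfl (GC.wds_zero _) HT1_c1i.gen_le fx1135
theorem HT1_lb1 : 131072 ≤ Nat.card (C.gen R 21777406868942169203719522972103025360896) := low_step HT1_lo1 HT1_lb2 (by decide +kernel)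
theorem HT1_lo0 : 24 * Nat.card (C.gen R 21777406868942169203719522972103025360896) ≤ Nat.card (C.gen R 623075623024179315423659559506411520) := cov1132.low le_rfl (GC.wds_zero _) HT1_c0i.gen_le fx1125
theorem HT1_lb0 : 3145728 ≤ Nat.card (C.gen R 623075623024179315423659559506411520) := low_step HT1_lo0 HT1_lb1 (by decide +kernel)
theorem H_T1c : ∀ τ ∈ (C.gen R 623075623024179315423659559506411520), C.el (R 25) * τ * (C.el (R 25))⁻¹ ∈ (C.gen R 33554430) := L_m0.conjA (H_I.get (i := 25) (by decide +kernel)).top HT1_in1108.top chk1234
theorem cov1243 : Cov (C.gen R 623075623024179315423659559506411520) (C.wds R (List.map Prod.fst (l1235))) pt883 1440 := Act.cov_of_seen (Act.pieces_sound HT1_s0_1122 L_m0.top pt883r chk1241) chk1242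
theorem H_T1d : Dec (C.gen R 33554430) (C.gen R 623075623024179315423659559506411520) (C.wds R (List.map Prod.fst (l1235))) (C.gen R 17747108403195211620953844875264) := cov1243.dec HT1_in1108.gen_le (GC.wds_sub L_m0 chk1244) HK_in919.gen_le fx1014 (up_low L_ub HK_lb0 (by decide +kernel))
theorem H_T1p : ∀ x ∈ DC1 (C.gen R 33554430) (C.el (R 25)), x * C.el (R 25) ∈ DCs (C.gen R 33554430) (C.els R 1901475900342344102245088362496) := GC.dc_piece' H_T1d H_T1c H_Kc (L_m0.dcRel H_I.top (H_I.get (i := 25) (by decide +kernel)).top (H_m0.get (i := 25) (by decide +kernel)).top chk1236)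
theorem H_T1u : Nat.card (C.gen R 33554430) ≤ 90 * Nat.card (C.gen R 623075623024179315423659559506411520) := up_low L_ub HT1_lb0 (by decide +kernel)
theorem H_T1n : (DC1 (C.gen R 33554430) (C.el (R 25))).ncard ≤ Nat.card (C.gen R 33554430) * 90 := ncard_DC1 HT1_in1108.gen_le H_T1c H_T1u
theorem HT2_in1389 : C.Mem R (C.gen R 33554430) 675120215971141911511335221144628131528704 := L_m0.slp' chk1388
theorem HT2_m0 : C.Mem R (C.gen R 675120215971141911511335221144628131528704) 675120215971141911511335221144628131528704 := GC.Mem.gen HT2_in1389.top
theorem pt1390e : ∃ x, A0.Rep pt1390c x := act2_rep (n := 112) (d := 7) (by decide) (by decide) (c := 0xc55) (by decide +kernel)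
noncomputable def pt1390 := Classical.choose pt1390e
theorem pt1390r : A0.Rep pt1390c pt1390 := Classical.choose_spec pt1390e
theorem pt1391e : ∃ x, A0.Rep pt1391c x := act2_rep (n := 112) (d := 7) (by decide) (by decide) (c := 0xeb) (by decide +kernel)
noncomputable def pt1391 := Classical.choose pt1391e
theorem pt1391r : A0.Rep pt1391c pt1391 := Classical.choose_spec pt1391e
theorem pt1392e : ∃ x, A0.Rep pt1392c x := act2_rep (n := 112) (d := 7) (by decide) (by decide) (c := 0x334) (by decide +kernel)
noncomputable def pt1392 := Classical.choose pt1392e
theorem pt1392r : A0.Rep pt1392c pt1392 := Classical.choose_spec pt1392e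
theorem pt1393e : ∃ x, A0.Rep pt1393c x := act2_rep (n := 112) (d := 7) (by decide) (by decide) (c := 0x95e) (by decide +kernel)
noncomputable def pt1393 := Classical.choose pt1393e
theorem pt1393r : A0.Rep pt1393c pt1393 := Classical.choose_spec pt1393e
theorem pt1394e : ∃ x, A0.Rep pt1394c x := act2_rep (n := 112) (d := 7) (by decide) (by decide) (c := 0xa10) (by decide +kernel)
noncomputable def pt1394 := Classical.choose pt1394e
theorem pt1394r : A0.Rep pt1394c pt1394 := Classical.choose_spec pt1394e
theorem pt1395e : ∃ x, A0.Rep pt1395c x := act2_rep (n := 112) (d := 7) (by decide) (by decide) (c := 0xbd7) (by decide +kernel)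
noncomputable def pt1395 := Classical.choose pt1395e
theorem pt1395r : A0.Rep pt1395c pt1395 := Classical.choose_spec pt1395e
theorem pt1396e : ∃ x, A0.Rep pt1396c x := act2_rep (n := 112) (d := 7) (by decide) (by decide) (c := 0x4c5) (by decide +kernel)
noncomputable def pt1396 := Classical.choose pt1396e
theorem pt1396r : A0.Rep pt1396c pt1396 := Classical.choose_spec pt1396e
theorem pt1397e : ∃ x, A0.Rep pt1397c x := act2_rep (n := 112) (d := 7) (by decide) (by decide) (c := 0xa3) (by decide +kernel)
noncomputable def pt1397 := Classical.choose pt1397e
theorem pt1397r : A0.Rep pt1397c pt1397 := Classical.choose_spec pt1397e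
theorem pt1398e : ∃ x, A0.Rep pt1398c x := act2_rep (n := 112) (d := 7) (by decide) (by decide) (c := 0xd4) (by decide +kernel)
noncomputable def pt1398 := Classical.choose pt1398e
theorem pt1398r : A0.Rep pt1398c pt1398 := Classical.choose_spec pt1398e
theorem pt1399e : ∃ x, A0.Rep pt1399c x := act2_rep (n := 112) (d := 7) (by decide) (by decide) (c := 0xc25) (by decide +kernel)
noncomputable def pt1399 := Classical.choose pt1399e
theorem pt1399r : A0.Rep pt1399c pt1399 := Classical.choose_spec pt1399e
theorem pt1400e : ∃ x, A0.Rep pt1400c x := act2_rep (n := 112) (d := 7) (by decide) (by decide) (c := 0xdcc) (by decide +kernel)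
noncomputable def pt1400 := Classical.choose pt1400e
theorem pt1400r : A0.Rep pt1400c pt1400 := Classical.choose_spec pt1400e
theorem HT2_s0_1403 : C.Mem R (C.gen R 675120215971141911511335221144628131528704) 5708968992752356584171482221823104912365453312 := HT2_m0.slp' chk1402
theorem HT2_c0i : C.Mem R (C.gen R 675120215971141911511335221144628131528704) 5708293872536385442259970886601960284233924608 := HT2_s0_1403.sub chk1404
theorem HT2_c0m : C.Mem R (C.gen R 5708293872536385442259970886601960284233924608) 5708293872536385442259970886601960284233924608 := HT2_c0i.gen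
theorem fx1406 : C.gen R 5708293872536385442259970886601960284233924608 ≤ stabilizer _ pt1390 := Act.fix_sound HT2_c0i.top pt1390r chk1405
theorem cov1413 : Cov (C.gen R 675120215971141911511335221144628131528704) (C.wds R [0]) pt1390 12 := Act.cov_of_seen (Act.pieces_sound HT2_s0_1403 HT2_s0_1403.top pt1390r chk1411) chk1412
theorem HT2_c1i : C.Mem R (C.gen R 5708293872536385442259970886601960284233924608) 4977247568997053452401503121976706183616004096 := HT2_c0m.sub chk1414
theorem HT2_c1m : C.Mem R (C.gen R 4977247568997053452401503121976706183616004096) 4977247568997053452401503121976706183616004096 := HT2_c1i.gen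
theorem fx1416 : C.gen R 4977247568997053452401503121976706183616004096 ≤ stabilizer _ pt1391 := Act.fix_sound HT2_c1i.top pt1391r chk1415
theorem cov1423 : Cov (C.gen R 5708293872536385442259970886601960284233924608) (C.wds R [0]) pt1391 32 := Act.cov_of_seen (Act.pieces_sound HT2_c0m HT2_c0m.top pt1391r chk1421) chk1422
theorem HT2_c2i : C.Mem R (C.gen R 4977247568997053452401503121976706183616004096) 4975853772422145288455157139584665661021880320 := HT2_c1m.sub chk1424
theorem HT2_c2m : C.Mem R (C.gen R 4975853772422145288455157139584665661021880320) 4975853772422145288455157139584665661021880320 := HT2_c2i.gen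
theorem fx1426 : C.gen R 4975853772422145288455157139584665661021880320 ≤ stabilizer _ pt1392 := Act.fix_sound HT2_c2i.top pt1392r chk1425
theorem cov1433 : Cov (C.gen R 4977247568997053452401503121976706183616004096) (C.wds R [0]) pt1392 2 := Act.cov_of_seen (Act.pieces_sound HT2_c1m HT2_c1m.top pt1392r chk1431) chk1432
theorem HT2_c3i : C.Mem R (C.gen R 4975853772422145288455157139584665661021880320) 4973066179272328960562465174800584615833632768 := HT2_c2m.sub chk1434
theorem HT2_c3m : C.Mem R (C.gen R 4973066179272328960562465174800584615833632768) 4973066179272328960562465174800584615833632768 := HT2_c3i.gen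
theorem fx1436 : C.gen R 4973066179272328960562465174800584615833632768 ≤ stabilizer _ pt1393 := Act.fix_sound HT2_c3i.top pt1393r chk1435
theorem cov1443 : Cov (C.gen R 4975853772422145288455157139584665661021880320) (C.wds R [0]) pt1393 2 := Act.cov_of_seen (Act.pieces_sound HT2_c2m HT2_c2m.top pt1393r chk1441) chk1442
theorem HT2_c4i : C.Mem R (C.gen R 4973066179272328960562465174800584615833632768) 4950765434073798337420929456527936254327652352 := HT2_c3m.sub chk1444
theorem HT2_c4m : C.Mem R (C.gen R 4950765434073798337420929456527936254327652352) 4950765434073798337420929456527936254327652352 := HT2_c4i.gen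
theorem fx1446 : C.gen R 4950765434073798337420929456527936254327652352 ≤ stabilizer _ pt1394 := Act.fix_sound HT2_c4i.top pt1394r chk1445
theorem cov1453 : Cov (C.gen R 4973066179272328960562465174800584615833632768) (C.wds R [0]) pt1394 2 := Act.cov_of_seen (Act.pieces_sound HT2_c3m HT2_c3m.top pt1394r chk1451) chk1452
theorem HT2_c5i : C.Mem R (C.gen R 4950765434073798337420929456527936254327652352) 4906163943676737091137858019982639531315691520 := HT2_c4m.sub chk1454
theorem HT2_c5m : C.Mem R (C.gen R 4906163943676737091137858019982639531315691520) 4906163943676737091137858019982639531315691520 := HT2_c5i.gen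
theorem fx1456 : C.gen R 4906163943676737091137858019982639531315691520 ≤ stabilizer _ pt1395 := Act.fix_sound HT2_c5i.top pt1395r chk1455
theorem cov1463 : Cov (C.gen R 4950765434073798337420929456527936254327652352) (C.wds R [0]) pt1395 2 := Act.cov_of_seen (Act.pieces_sound HT2_c4m HT2_c4m.top pt1395r chk1461) chk1462
theorem HT2_c6i : C.Mem R (C.gen R 4906163943676737091137858019982639531315691520) 4816960962882614598571715146892046085291769856 := HT2_c5m.sub chk1464
theorem HT2_c6m : C.Mem R (C.gen R 4816960962882614598571715146892046085291769856) 4816960962882614598571715146892046085291769856 := HT2_c6i.gen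
theorem fx1466 : C.gen R 4816960962882614598571715146892046085291769856 ≤ stabilizer _ pt1396 := Act.fix_sound HT2_c6i.top pt1396r chk1465
theorem cov1473 : Cov (C.gen R 4906163943676737091137858019982639531315691520) (C.wds R [0]) pt1396 2 := Act.cov_of_seen (Act.pieces_sound HT2_c5m HT2_c5m.top pt1396r chk1471) chk1472
theorem HT2_c7i : C.Mem R (C.gen R 4816960962882614598571715146892046085291769856) 4638555001294369613439429400710859193243926528 := HT2_c6m.sub chk1474
theorem HT2_c7m : C.Mem R (C.gen R 4638555001294369613439429400710859193243926528) 4638555001294369613439429400710859193243926528 := HT2_c7i.gen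
theorem fx1476 : C.gen R 4638555001294369613439429400710859193243926528 ≤ stabilizer _ pt1397 := Act.fix_sound HT2_c7i.top pt1397r chk1475
theorem cov1483 : Cov (C.gen R 4816960962882614598571715146892046085291769856) (C.wds R [0]) pt1397 2 := Act.cov_of_seen (Act.pieces_sound HT2_c6m HT2_c6m.top pt1397r chk1481) chk1482
theorem HT2_c8i : C.Mem R (C.gen R 4638555001294369613439429400710859193243926528) 4281743078117879643174857908348485409148239872 := HT2_c7m.sub chk1484
theorem HT2_c8m : C.Mem R (C.gen R 4281743078117879643174857908348485409148239872) 4281743078117879643174857908348485409148239872 := HT2_c8i.gen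
theorem fx1486 : C.gen R 4281743078117879643174857908348485409148239872 ≤ stabilizer _ pt1398 := Act.fix_sound HT2_c8i.top pt1398r chk1485
theorem cov1493 : Cov (C.gen R 4638555001294369613439429400710859193243926528) (C.wds R [0]) pt1398 2 := Act.cov_of_seen (Act.pieces_sound HT2_c7m HT2_c7m.top pt1398r chk1491) chk1492
theorem HT2_c9i : C.Mem R (C.gen R 4281743078117879643174857908348485409148239872) 2854495385411919762116571938898990272765493248 := HT2_c8m.sub chk1494
theorem HT2_c9m : C.Mem R (C.gen R 2854495385411919762116571938898990272765493248) 2854495385411919762116571938898990272765493248 := HT2_c9i.gen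
theorem fx1496 : C.gen R 2854495385411919762116571938898990272765493248 ≤ stabilizer _ pt1399 := Act.fix_sound HT2_c9i.top pt1399r chk1495
theorem cov1503 : Cov (C.gen R 4281743078117879643174857908348485409148239872) (C.wds R [0]) pt1399 2 := Act.cov_of_seen (Act.pieces_sound HT2_c8m HT2_c8m.top pt1399r chk1501) chk1502
theorem HT2_c10i : C.Mem R (C.gen R 2854495385411919762116571938898990272765493248) 0 := HT2_c9m.sub chk1504
theorem HT2_c10m : C.Mem R (C.gen R 0) 0 := HT2_c10i.gen
theorem fx1506 : C.gen R 0 ≤ stabilizer _ pt1400 := Act.fix_sound HT2_c10i.top pt1400r chk1505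
theorem cov1513 : Cov (C.gen R 2854495385411919762116571938898990272765493248) (C.wds R [0]) pt1400 2 := Act.cov_of_seen (Act.pieces_sound HT2_c9m HT2_c9m.top pt1400r chk1511) chk1512
theorem HT2_lb11 : 1 ≤ Nat.card (C.gen R 0) := Nat.card_pos
theorem HT2_lo10 : 2 * Nat.card (C.gen R 0) ≤ Nat.card (C.gen R 2854495385411919762116571938898990272765493248) := cov1513.low le_rfl (GC.wds_zero _) HT2_c10i.gen_le fx1506
theorem HT2_lb10 : 2 ≤ Nat.card (C.gen R 2854495385411919762116571938898990272765493248) := low_step HT2_lo10 HT2_lb11 (by decide +kernel)
theorem HT2_lo9 : 2 * Nat.card (C.gen R 2854495385411919762116571938898990272765493248) ≤ Nat.card (C.gen R 4281743078117879643174857908348485409148239872) := cov1503.low le_rfl (GC.wds_zero _) HT2_c9i.gen_le fx1496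
theorem HT2_lb9 : 4 ≤ Nat.card (C.gen R 4281743078117879643174857908348485409148239872) := low_step HT2_lo9 HT2_lb10 (by decide +kernel)
theorem HT2_lo8 : 2 * Nat.card (C.gen R 4281743078117879643174857908348485409148239872) ≤ Nat.card (C.gen R 4638555001294369613439429400710859193243926528) := cov1493.low le_rfl (GC.wds_zero _) HT2_c8i.gen_le fx1486
theorem HT2_lb8 : 8 ≤ Nat.card (C.gen R 4638555001294369613439429400710859193243926528) := low_step HT2_lo8 HT2_lb9 (by decide +kernel)
theorem HT2_lo7 : 2 * Nat.card (C.gen R 4638555001294369613439429400710859193243926528) ≤ Nat.card (C.gen R 4816960962882614598571715146892046085291769856) := cov1483.low le_rfl (GC.wds_zero _) HT2_c7i.gen_le fx1476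
theorem HT2_lb7 : 16 ≤ Nat.card (C.gen R 4816960962882614598571715146892046085291769856) := low_step HT2_lo7 HT2_lb8 (by decide +kernel)
theorem HT2_lo6 : 2 * Nat.card (C.gen R 4816960962882614598571715146892046085291769856) ≤ Nat.card (C.gen R 4906163943676737091137858019982639531315691520) := cov1473.low le_rfl (GC.wds_zero _) HT2_c6i.gen_le fx1466
theorem HT2_lb6 : 32 ≤ Nat.card (C.gen R 4906163943676737091137858019982639531315691520) := low_step HT2_lo6 HT2_lb7 (by decide +kernel)
theorem HT2_lo5 : 2 * Nat.card (C.gen R 4906163943676737091137858019982639531315691520) ≤ Nat.card (C.gen R 4950765434073798337420929456527936254327652352) := cov1463.low le_rfl (GC.wds_zero _) HT2_c5i.gen_le fx1456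
theorem HT2_lb5 : 64 ≤ Nat.card (C.gen R 4950765434073798337420929456527936254327652352) := low_step HT2_lo5 HT2_lb6 (by decide +kernel)
theorem HT2_lo4 : 2 * Nat.card (C.gen R 4950765434073798337420929456527936254327652352) ≤ Nat.card (C.gen R 4973066179272328960562465174800584615833632768) := cov1453.low le_rfl (GC.wds_zero _) HT2_c4i.gen_le fx1446
theorem HT2_lb4 : 128 ≤ Nat.card (C.gen R 4973066179272328960562465174800584615833632768) := low_step HT2_lo4 HT2_lb5 (by decide +kernel)
theorem HT2_lo3 : 2 * Nat.card (C.gen R 4973066179272328960562465174800584615833632768) ≤ Nat.card (C.gen R 4975853772422145288455157139584665661021880320) := cov1443.low le_rfl (GC.wds_zero _) HT2_c3i.gen_le fx1436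
theorem HT2_lb3 : 256 ≤ Nat.card (C.gen R 4975853772422145288455157139584665661021880320) := low_step HT2_lo3 HT2_lb4 (by decide +kernel)
theorem HT2_lo2 : 2 * Nat.card (C.gen R 4975853772422145288455157139584665661021880320) ≤ Nat.card (C.gen R 4977247568997053452401503121976706183616004096) := cov1433.low le_rfl (GC.wds_zero _) HT2_c2i.gen_le fx1426
theorem HT2_lb2 : 512 ≤ Nat.card (C.gen R 4977247568997053452401503121976706183616004096) := low_step HT2_lo2 HT2_lb3 (by decide +kernel)
theorem HT2_lo1 : 32 * Nat.card (C.gen R 4977247568997053452401503121976706183616004096) ≤ Nat.card (C.gen R 5708293872536385442259970886601960284233924608) := cov1423.low le_rfl (GC.wds_zero _) HT2_c1i.gen_le fx1416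
theorem HT2_lb1 : 16384 ≤ Nat.card (C.gen R 5708293872536385442259970886601960284233924608) := low_step HT2_lo1 HT2_lb2 (by decide +kernel)
theorem HT2_lo0 : 12 * Nat.card (C.gen R 5708293872536385442259970886601960284233924608) ≤ Nat.card (C.gen R 675120215971141911511335221144628131528704) := cov1413.low le_rfl (GC.wds_zero _) HT2_c0i.gen_le fx1406
theorem HT2_lb0 : 196608 ≤ Nat.card (C.gen R 675120215971141911511335221144628131528704) := low_step HT2_lo0 HT2_lb1 (by decide +kernel)
theorem H_T2c : ∀ τ ∈ (C.gen R 675120215971141911511335221144628131528704), C.el (R 99) * τ * (C.el (R 99))⁻¹ ∈ (C.gen R 33554430) := L_m0.conjA (H_I.get (i := 99) (by decide +kernel)).top HT2_in1389.top chk1515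
theorem cov1524 : Cov (C.gen R 675120215971141911511335221144628131528704) (C.wds R (List.map Prod.fst (l1516))) pt883 1440 := Act.cov_of_seen (Act.pieces_sound HT2_s0_1403 L_m0.top pt883r chk1522) chk1523
theorem H_T2d : Dec (C.gen R 33554430) (C.gen R 675120215971141911511335221144628131528704) (C.wds R (List.map Prod.fst (l1516))) (C.gen R 17747108403195211620953844875264) := cov1524.dec HT2_in1389.gen_le (GC.wds_sub L_m0 chk1525) HK_in919.gen_le fx1014 (up_low L_ub HK_lb0 (by decide +kernel))
theorem H_T2p : ∀ x ∈ DC1 (C.gen R 33554430) (C.el (R 99)), x * C.el (R 25) ∈ DCs (C.gen R 33554430) (C.els R 1901475900342344102245088362496) := GC.dc_piece' H_T2d H_T2c H_Kc (L_m0.dcRel H_I.top (H_I.get (i := 99) (by decide +kernel)).top (H_m0.get (i := 25) (by decide +kernel)).top chk1517)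
theorem H_T2u : Nat.card (C.gen R 33554430) ≤ 1440 * Nat.card (C.gen R 675120215971141911511335221144628131528704) := up_low L_ub HT2_lb0 (by decide +kernel)
theorem H_T2n : (DC1 (C.gen R 33554430) (C.el (R 99))).ncard ≤ Nat.card (C.gen R 33554430) * 1440 := ncard_DC1 HT2_in1389.gen_le H_T2c H_T2u
theorem HT3_in1599 : C.Mem R (C.gen R 33554430) 39962935395766876669632007144585863818716905472 := L_m0.slp' chk1598
theorem HT3_m0 : C.Mem R (C.gen R 39962935395766876669632007144585863818716905472) 39962935395766876669632007144585863818716905472 := GC.Mem.gen HT3_in1599.top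
theorem pt1600e : ∃ x, A0.Rep pt1600c x := act2_rep (n := 112) (d := 7) (by decide) (by decide) (c := 0x95e) (by decide +kernel)
noncomputable def pt1600 := Classical.choose pt1600e
theorem pt1600r : A0.Rep pt1600c pt1600 := Classical.choose_spec pt1600e
theorem pt1601e : ∃ x, A0.Rep pt1601c x := act2_rep (n := 112) (d := 7) (by decide) (by decide) (c := 0xc55) (by decide +kernel)
noncomputable def pt1601 := Classical.choose pt1601e
theorem pt1601r : A0.Rep pt1601c pt1601 := Classical.choose_spec pt1601e
theorem pt1602e : ∃ x, A0.Rep pt1602c x := act2_rep (n := 112) (d := 7) (by decide) (by decide) (c := 0x334) (by decide +kernel)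
noncomputable def pt1602 := Classical.choose pt1602e
theorem pt1602r : A0.Rep pt1602c pt1602 := Classical.choose_spec pt1602e
theorem pt1603e : ∃ x, A0.Rep pt1603c x := act2_rep (n := 112) (d := 7) (by decide) (by decide) (c := 0xa10) (by decide +kernel)
noncomputable def pt1603 := Classical.choose pt1603e
theorem pt1603r : A0.Rep pt1603c pt1603 := Classical.choose_spec pt1603e
theorem pt1604e : ∃ x, A0.Rep pt1604c x := act2_rep (n := 112) (d := 7) (by decide) (by decide) (c := 0xa3) (by decide +kernel)
noncomputable def pt1604 := Classical.choose pt1604e
theorem pt1604r : A0.Rep pt1604c pt1604 := Classical.choose_spec pt1604e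
theorem pt1605e : ∃ x, A0.Rep pt1605c x := act2_rep (n := 112) (d := 7) (by decide) (by decide) (c := 0xeb) (by decide +kernel)
noncomputable def pt1605 := Classical.choose pt1605e
theorem pt1605r : A0.Rep pt1605c pt1605 := Classical.choose_spec pt1605e
theorem pt1606e : ∃ x, A0.Rep pt1606c x := act2_rep (n := 112) (d := 7) (by decide) (by decide) (c := 0xbd7) (by decide +kernel)
noncomputable def pt1606 := Classical.choose pt1606e
theorem pt1606r : A0.Rep pt1606c pt1606 := Classical.choose_spec pt1606e
theorem pt1607e : ∃ x, A0.Rep pt1607c x := act2_rep (n := 112) (d := 7) (by decide) (by decide) (c := 0xc25) (by decide +kernel)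
noncomputable def pt1607 := Classical.choose pt1607e
theorem pt1607r : A0.Rep pt1607c pt1607 := Classical.choose_spec pt1607e
theorem pt1608e : ∃ x, A0.Rep pt1608c x := act2_rep (n := 112) (d := 7) (by decide) (by decide) (c := 0xd4) (by decide +kernel)
noncomputable def pt1608 := Classical.choose pt1608e
theorem pt1608r : A0.Rep pt1608c pt1608 := Classical.choose_spec pt1608e
theorem pt1609e : ∃ x, A0.Rep pt1609c x := act2_rep (n := 112) (d := 7) (by decide) (by decide) (c := 0xdcc) (by decide +kernel)
noncomputable def pt1609 := Classical.choose pt1609e
theorem pt1609r : A0.Rep pt1609c pt1609 := Classical.choose_spec pt1609e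
theorem pt1610e : ∃ x, A0.Rep pt1610c x := act2_rep (n := 112) (d := 7) (by decide) (by decide) (c := 0x4c5) (by decide +kernel)
noncomputable def pt1610 := Classical.choose pt1610e
theorem pt1610r : A0.Rep pt1610c pt1610 := Classical.choose_spec pt1610e
theorem HT3_s0_1613 : C.Mem R (C.gen R 39962935395766876669632007144585863818716905472) 374138710165940323220619084031490655051373200015360 := HT3_m0.slp' chk1612
theorem HT3_c0i : C.Mem R (C.gen R 39962935395766876669632007144585863818716905472) 374098747230544556343949452024346069187554483109888 := HT3_s0_1613.sub chk1614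
theorem HT3_c0m : C.Mem R (C.gen R 374098747230544556343949452024346069187554483109888) 374098747230544556343949452024346069187554483109888 := HT3_c0i.gen
theorem fx1616 : C.gen R 374098747230544556343949452024346069187554483109888 ≤ stabilizer _ pt1600 := Act.fix_sound HT3_c0i.top pt1600r chk1615
theorem cov1623 : Cov (C.gen R 39962935395766876669632007144585863818716905472) (C.wds R [0]) pt1600 16 := Act.cov_of_seen (Act.pieces_sound HT3_s0_1613 HT3_s0_1613.top pt1600r chk1621) chk1622
theorem HT3_c1i : C.Mem R (C.gen R 374098747230544556343949452024346069187554483109888) 373139636781046151303878283852876008455905277378560 := HT3_c0m.sub chk1624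
theorem HT3_c1m : C.Mem R (C.gen R 373139636781046151303878283852876008455905277378560) 373139636781046151303878283852876008455905277378560 := HT3_c1i.gen
theorem fx1626 : C.gen R 373139636781046151303878283852876008455905277378560 ≤ stabilizer _ pt1601 := Act.fix_sound HT3_c1i.top pt1601r chk1625
theorem cov1633 : Cov (C.gen R 374098747230544556343949452024346069187554483109888) (C.wds R [0]) pt1601 36 := Act.cov_of_seen (Act.pieces_sound HT3_c0m HT3_c0m.top pt1601r chk1631) chk1632
theorem HT3_c2i : C.Mem R (C.gen R 373139636781046151303878283852876008455905277378560) 371586791291382066953286868718114957747520849051648 := HT3_c1m.sub chk1634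
theorem HT3_c2m : C.Mem R (C.gen R 371586791291382066953286868718114957747520849051648) 371586791291382066953286868718114957747520849051648 := HT3_c2i.gen
theorem fx1636 : C.gen R 371586791291382066953286868718114957747520849051648 ≤ stabilizer _ pt1602 := Act.fix_sound HT3_c2i.top pt1602r chk1635
theorem cov1643 : Cov (C.gen R 373139636781046151303878283852876008455905277378560) (C.wds R [0]) pt1602 8 := Act.cov_of_seen (Act.pieces_sound HT3_c1m HT3_c1m.top pt1602r chk1641) chk1642
theorem HT3_c3i : C.Mem R (C.gen R 371586791291382066953286868718114957747520849051648) 371221415882049341223735947509935886992606865915904 := HT3_c2m.sub chk1644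
theorem HT3_c3m : C.Mem R (C.gen R 371221415882049341223735947509935886992606865915904) 371221415882049341223735947509935886992606865915904 := HT3_c3i.gen
theorem fx1646 : C.gen R 371221415882049341223735947509935886992606865915904 ≤ stabilizer _ pt1603 := Act.fix_sound HT3_c3i.top pt1603r chk1645
theorem cov1653 : Cov (C.gen R 371586791291382066953286868718114957747520849051648) (C.wds R [0]) pt1603 2 := Act.cov_of_seen (Act.pieces_sound HT3_c2m HT3_c2m.top pt1603r chk1651) chk1652
theorem HT3_c4i : C.Mem R (C.gen R 371221415882049341223735947509935886992606865915904) 368298412607387535387328577844503320953295000829952 := HT3_c3m.sub chk1654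
theorem HT3_c4m : C.Mem R (C.gen R 368298412607387535387328577844503320953295000829952) 368298412607387535387328577844503320953295000829952 := HT3_c4i.gen
theorem fx1656 : C.gen R 368298412607387535387328577844503320953295000829952 ≤ stabilizer _ pt1604 := Act.fix_sound HT3_c4i.top pt1604r chk1655
theorem cov1663 : Cov (C.gen R 371221415882049341223735947509935886992606865915904) (C.wds R [0]) pt1604 2 := Act.cov_of_seen (Act.pieces_sound HT3_c3m HT3_c3m.top pt1604r chk1661) chk1662
theorem HT3_c5i : C.Mem R (C.gen R 368298412607387535387328577844503320953295000829952) 362452406058063923714513838513638188874671270658048 := HT3_c4m.sub chk1664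
theorem HT3_c5m : C.Mem R (C.gen R 362452406058063923714513838513638188874671270658048) 362452406058063923714513838513638188874671270658048 := HT3_c5i.gen
theorem fx1666 : C.gen R 362452406058063923714513838513638188874671270658048 ≤ stabilizer _ pt1605 := Act.fix_sound HT3_c5i.top pt1605r chk1665
theorem cov1673 : Cov (C.gen R 368298412607387535387328577844503320953295000829952) (C.wds R [0]) pt1605 2 := Act.cov_of_seen (Act.pieces_sound HT3_c4m HT3_c4m.top pt1605r chk1671) chk1672
theorem HT3_c6i : C.Mem R (C.gen R 362452406058063923714513838513638188874671270658048) 350760392959416700368884359851907924717423810314240 := HT3_c5m.sub chk1674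
theorem HT3_c6m : C.Mem R (C.gen R 350760392959416700368884359851907924717423810314240) 350760392959416700368884359851907924717423810314240 := HT3_c6i.gen
theorem fx1676 : C.gen R 350760392959416700368884359851907924717423810314240 ≤ stabilizer _ pt1606 := Act.fix_sound HT3_c6i.top pt1606r chk1675
theorem cov1683 : Cov (C.gen R 362452406058063923714513838513638188874671270658048) (C.wds R [0]) pt1606 2 := Act.cov_of_seen (Act.pieces_sound HT3_c5m HT3_c5m.top pt1606r chk1681) chk1682
theorem HT3_c7i : C.Mem R (C.gen R 350760392959416700368884359851907924717423810314240) 327376366762122253677625402528447396402928889626624 := HT3_c6m.sub chk1684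
theorem HT3_c7m : C.Mem R (C.gen R 327376366762122253677625402528447396402928889626624) 327376366762122253677625402528447396402928889626624 := HT3_c7i.gen
theorem fx1686 : C.gen R 327376366762122253677625402528447396402928889626624 ≤ stabilizer _ pt1607 := Act.fix_sound HT3_c7i.top pt1607r chk1685
theorem cov1693 : Cov (C.gen R 350760392959416700368884359851907924717423810314240) (C.wds R [0]) pt1607 2 := Act.cov_of_seen (Act.pieces_sound HT3_c6m HT3_c6m.top pt1607r chk1691) chk1692
theorem HT3_c8i : C.Mem R (C.gen R 327376366762122253677625402528447396402928889626624) 280608314367533360295107487881526339773939048251392 := HT3_c7m.sub chk1694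
theorem HT3_c8m : C.Mem R (C.gen R 280608314367533360295107487881526339773939048251392) 280608314367533360295107487881526339773939048251392 := HT3_c8i.gen
theorem fx1696 : C.gen R 280608314367533360295107487881526339773939048251392 ≤ stabilizer _ pt1608 := Act.fix_sound HT3_c8i.top pt1608r chk1695
theorem cov1703 : Cov (C.gen R 327376366762122253677625402528447396402928889626624) (C.wds R [0]) pt1608 2 := Act.cov_of_seen (Act.pieces_sound HT3_c7m HT3_c7m.top pt1608r chk1701) chk1702
theorem HT3_c9i : C.Mem R (C.gen R 280608314367533360295107487881526339773939048251392) 187072209578355573530071658587684226515959365500928 := HT3_c8m.sub chk1704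
theorem HT3_c9m : C.Mem R (C.gen R 187072209578355573530071658587684226515959365500928) 187072209578355573530071658587684226515959365500928 := HT3_c9i.gen
theorem fx1706 : C.gen R 187072209578355573530071658587684226515959365500928 ≤ stabilizer _ pt1609 := Act.fix_sound HT3_c9i.top pt1609r chk1705
theorem cov1713 : Cov (C.gen R 280608314367533360295107487881526339773939048251392) (C.wds R [0]) pt1609 2 := Act.cov_of_seen (Act.pieces_sound HT3_c8m HT3_c8m.top pt1609r chk1711) chk1712
theorem HT3_c10i : C.Mem R (C.gen R 187072209578355573530071658587684226515959365500928) 0 := HT3_c9m.sub chk1714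
theorem HT3_c10m : C.Mem R (C.gen R 0) 0 := HT3_c10i.gen
theorem fx1716 : C.gen R 0 ≤ stabilizer _ pt1610 := Act.fix_sound HT3_c10i.top pt1610r chk1715
theorem cov1723 : Cov (C.gen R 187072209578355573530071658587684226515959365500928) (C.wds R [0]) pt1610 2 := Act.cov_of_seen (Act.pieces_sound HT3_c9m HT3_c9m.top pt1610r chk1721) chk1722
theorem HT3_lb11 : 1 ≤ Nat.card (C.gen R 0) := Nat.card_pos
theorem HT3_lo10 : 2 * Nat.card (C.gen R 0) ≤ Nat.card (C.gen R 187072209578355573530071658587684226515959365500928) := cov1723.low le_rfl (GC.wds_zero _) HT3_c10i.gen_le fx1716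
theorem HT3_lb10 : 2 ≤ Nat.card (C.gen R 187072209578355573530071658587684226515959365500928) := low_step HT3_lo10 HT3_lb11 (by decide +kernel)
theorem HT3_lo9 : 2 * Nat.card (C.gen R 187072209578355573530071658587684226515959365500928) ≤ Nat.card (C.gen R 280608314367533360295107487881526339773939048251392) := cov1713.low le_rfl (GC.wds_zero _) HT3_c9i.gen_le fx1706
theorem HT3_lb9 : 4 ≤ Nat.card (C.gen R 280608314367533360295107487881526339773939048251392) := low_step HT3_lo9 HT3_lb10 (by decide +kernel)
theorem HT3_lo8 : 2 * Nat.card (C.gen R 280608314367533360295107487881526339773939048251392) ≤ Nat.card (C.gen R 327376366762122253677625402528447396402928889626624) := cov1703.low le_rfl (GC.wds_zero _) HT3_c8i.gen_le fx1696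
theorem HT3_lb8 : 8 ≤ Nat.card (C.gen R 327376366762122253677625402528447396402928889626624) := low_step HT3_lo8 HT3_lb9 (by decide +kernel)
theorem HT3_lo7 : 2 * Nat.card (C.gen R 327376366762122253677625402528447396402928889626624) ≤ Nat.card (C.gen R 350760392959416700368884359851907924717423810314240) := cov1693.low le_rfl (GC.wds_zero _) HT3_c7i.gen_le fx1686
theorem HT3_lb7 : 16 ≤ Nat.card (C.gen R 350760392959416700368884359851907924717423810314240) := low_step HT3_lo7 HT3_lb8 (by decide +kernel)
theorem HT3_lo6 : 2 * Nat.card (C.gen R 350760392959416700368884359851907924717423810314240) ≤ Nat.card (C.gen R 362452406058063923714513838513638188874671270658048) := cov1683.low le_rfl (GC.wds_zero _) HT3_c6i.gen_le fx1676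
theorem HT3_lb6 : 32 ≤ Nat.card (C.gen R 362452406058063923714513838513638188874671270658048) := low_step HT3_lo6 HT3_lb7 (by decide +kernel)
theorem HT3_lo5 : 2 * Nat.card (C.gen R 362452406058063923714513838513638188874671270658048) ≤ Nat.card (C.gen R 368298412607387535387328577844503320953295000829952) := cov1673.low le_rfl (GC.wds_zero _) HT3_c5i.gen_le fx1666
theorem HT3_lb5 : 64 ≤ Nat.card (C.gen R 368298412607387535387328577844503320953295000829952) := low_step HT3_lo5 HT3_lb6 (by decide +kernel)
theorem HT3_lo4 : 2 * Nat.card (C.gen R 368298412607387535387328577844503320953295000829952) ≤ Nat.card (C.gen R 371221415882049341223735947509935886992606865915904) := cov1663.low le_rfl (GC.wds_zero _) HT3_c4i.gen_le fx1656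
theorem HT3_lb4 : 128 ≤ Nat.card (C.gen R 371221415882049341223735947509935886992606865915904) := low_step HT3_lo4 HT3_lb5 (by decide +kernel)
theorem HT3_lo3 : 2 * Nat.card (C.gen R 371221415882049341223735947509935886992606865915904) ≤ Nat.card (C.gen R 371586791291382066953286868718114957747520849051648) := cov1653.low le_rfl (GC.wds_zero _) HT3_c3i.gen_le fx1646
theorem HT3_lb3 : 256 ≤ Nat.card (C.gen R 371586791291382066953286868718114957747520849051648) := low_step HT3_lo3 HT3_lb4 (by decide +kernel)
theorem HT3_lo2 : 8 * Nat.card (C.gen R 371586791291382066953286868718114957747520849051648) ≤ Nat.card (C.gen R 373139636781046151303878283852876008455905277378560) := cov1643.low le_rfl (GC.wds_zero _) HT3_c2i.gen_le fx1636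
theorem HT3_lb2 : 2048 ≤ Nat.card (C.gen R 373139636781046151303878283852876008455905277378560) := low_step HT3_lo2 HT3_lb3 (by decide +kernel)
theorem HT3_lo1 : 36 * Nat.card (C.gen R 373139636781046151303878283852876008455905277378560) ≤ Nat.card (C.gen R 374098747230544556343949452024346069187554483109888) := cov1633.low le_rfl (GC.wds_zero _) HT3_c1i.gen_le fx1626
theorem HT3_lb1 : 73728 ≤ Nat.card (C.gen R 374098747230544556343949452024346069187554483109888) := low_step HT3_lo1 HT3_lb2 (by decide +kernel)
theorem HT3_lo0 : 16 * Nat.card (C.gen R 374098747230544556343949452024346069187554483109888) ≤ Nat.card (C.gen R 39962935395766876669632007144585863818716905472) := cov1623.low le_rfl (GC.wds_zero _) HT3_c0i.gen_le fx1616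
theorem HT3_lb0 : 1179648 ≤ Nat.card (C.gen R 39962935395766876669632007144585863818716905472) := low_step HT3_lo0 HT3_lb1 (by decide +kernel)
theorem H_T3c : ∀ τ ∈ (C.gen R 39962935395766876669632007144585863818716905472), C.el (R 100) * τ * (C.el (R 100))⁻¹ ∈ (C.gen R 33554430) := L_m0.conjA (H_I.get (i := 100) (by decide +kernel)).top HT3_in1599.top chk1725
theorem cov1734 : Cov (C.gen R 39962935395766876669632007144585863818716905472) (C.wds R (List.map Prod.fst (l1726))) pt883 1440 := Act.cov_of_seen (Act.pieces_sound HT3_s0_1613 L_m0.top pt883r chk1732) chk1733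
theorem H_T3d : Dec (C.gen R 33554430) (C.gen R 39962935395766876669632007144585863818716905472) (C.wds R (List.map Prod.fst (l1726))) (C.gen R 17747108403195211620953844875264) := cov1734.dec HT3_in1599.gen_le (GC.wds_sub L_m0 chk1735) HK_in919.gen_le fx1014 (up_low L_ub HK_lb0 (by decide +kernel))
theorem H_T3p : ∀ x ∈ DC1 (C.gen R 33554430) (C.el (R 100)), x * C.el (R 25) ∈ DCs (C.gen R 33554430) (C.els R 1901475900342344102245088362496) := GC.dc_piece' H_T3d H_T3c H_Kc (L_m0.dcRel H_I.top (H_I.get (i := 100) (by decide +kernel)).top (H_m0.get (i := 25) (by decide +kernel)).top chk1727)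
theorem H_T3u : Nat.card (C.gen R 33554430) ≤ 240 * Nat.card (C.gen R 39962935395766876669632007144585863818716905472) := up_low L_ub HT3_lb0 (by decide +kernel)
theorem H_T3n : (DC1 (C.gen R 33554430) (C.el (R 100))).ncard ≤ Nat.card (C.gen R 33554430) * 240 := ncard_DC1 HT3_in1599.gen_le H_T3c H_T3u
theorem H_dc : ∀ x ∈ (C.gen R 67108862), x ∈ DCs (C.gen R 33554430) (C.els R 1901475900342344102245088362496) := GC.dc_gen (MU := 33554432) L_m0 (by decide +kernel) (GC.forall_els (L := [25]) (forall_cons ⟨L_m0.inDC' H_I.top (H_m0.get (i := 25) (by decide +kernel)).top chk1736, GC.forall_els (L := [25, 99, 100]) (forall_cons H_T1p (forall_cons H_T2p (forall_cons H_T3p forall_nil))) (by decide +kernel)⟩ forall_nil) (by decide +kernel))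
theorem H_cs : ∀ p ∈ ([(25, 90), (99, 1440), (100, 240)] : List (ℕ × ℕ)), (DC1 (C.gen R 33554430) (C.el (R p.1))).ncard ≤ Nat.card (C.gen R 33554430) * p.2 := (forall_cons H_T1n (forall_cons H_T2n (forall_cons H_T3n forall_nil)))
theorem H_ix : Nat.card (C.gen R 67108862) ≤ 1771 * Nat.card (C.gen R 33554430) := GC.card_dc [(25, 90), (99, 1440), (100, 240)] H_dc H_cs (by decide +kernel)
theorem H_ub : Nat.card (C.gen R 67108862) ≤ 501397585920 := up_mul H_ix L_ub (by decide +kernel)
theorem H_max : ∀ L, (C.gen R 33554430) ≤ L → L ≤ (C.gen R 67108862) → L = (C.gen R 33554430) ∨ L = (C.gen R 67108862) := maximal_of_DCs H_dc (L_m0.maxChk H_I.top chk1738 chk1739)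
theorem H_s1_1742 : C.Mem R (C.gen R 67108862) 11598476993858045558866344308336764388091725782974462 := H_s0_886.slp' chk1741
theorem pt1744e : ∃ x, A0.Rep pt1744c x := act2_rep (n := 112) (d := 7) (by decide) (by decide) (c := 0x176d5551de2b82) (by decide +kernel)
noncomputable def pt1744 := Classical.choose pt1744e
theorem pt1744r : A0.Rep pt1744c pt1744 := Classical.choose_spec pt1744e
theorem G_m0 : C.Mem R (C.gen R 201326590) 201326590 := GC.Mem.gen (val3.sub chk1743)
theorem G_m1 : C.Mem R (C.gen R 201326590) 11598476993858045558866344308336764388091725917192190 := G_m0.lor' (H_s1_1742.mono (G_m0.sub chk1745).gen_le) chk1746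
theorem G_s1_1749 : C.Mem R (C.gen R 201326590) 382749740797315503442528514946302269795755107071033342 := G_m1.slp' chk1748
theorem G_I : C.Mem R (C.gen R 201326590) 371151263803457457883662170637965505407663381288058880 := G_s1_1749.sub chk1750
theorem GK_in1753 : C.Mem R (C.gen R 67108862) 1149371655649416643768760270362731887714054341637701632 := H_s1_1742.slp' chk1752
theorem GK_m0 : C.Mem R (C.gen R 1149371655649416643768760270362731887714054341637701632) 1149371655649416643768760270362731887714054341637701632 := GC.Mem.gen GK_in1753.top
theorem pt1754e : ∃ x, A0.Rep pt1754c x := act2_rep (n := 112) (d := 7) (by decide) (by decide) (c := 0x95e) (by decide +kernel)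
noncomputable def pt1754 := Classical.choose pt1754e
theorem pt1754r : A0.Rep pt1754c pt1754 := Classical.choose_spec pt1754e
theorem pt1755e : ∃ x, A0.Rep pt1755c x := act2_rep (n := 112) (d := 7) (by decide) (by decide) (c := 0x334) (by decide +kernel)
noncomputable def pt1755 := Classical.choose pt1755e
theorem pt1755r : A0.Rep pt1755c pt1755 := Classical.choose_spec pt1755e
theorem pt1756e : ∃ x, A0.Rep pt1756c x := act2_rep (n := 112) (d := 7) (by decide) (by decide) (c := 0xbd7) (by decide +kernel)
noncomputable def pt1756 := Classical.choose pt1756e
theorem pt1756r : A0.Rep pt1756c pt1756 := Classical.choose_spec pt1756e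
theorem pt1757e : ∃ x, A0.Rep pt1757c x := act2_rep (n := 112) (d := 7) (by decide) (by decide) (c := 0xa10) (by decide +kernel)
noncomputable def pt1757 := Classical.choose pt1757e
theorem pt1757r : A0.Rep pt1757c pt1757 := Classical.choose_spec pt1757e
theorem pt1758e : ∃ x, A0.Rep pt1758c x := act2_rep (n := 112) (d := 7) (by decide) (by decide) (c := 0xa3) (by decide +kernel)
noncomputable def pt1758 := Classical.choose pt1758e
theorem pt1758r : A0.Rep pt1758c pt1758 := Classical.choose_spec pt1758e
theorem pt1759e : ∃ x, A0.Rep pt1759c x := act2_rep (n := 112) (d := 7) (by decide) (by decide) (c := 0xc25) (by decide +kernel)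
noncomputable def pt1759 := Classical.choose pt1759e
theorem pt1759r : A0.Rep pt1759c pt1759 := Classical.choose_spec pt1759e
theorem pt1760e : ∃ x, A0.Rep pt1760c x := act2_rep (n := 112) (d := 7) (by decide) (by decide) (c := 0xeb) (by decide +kernel)
noncomputable def pt1760 := Classical.choose pt1760e
theorem pt1760r : A0.Rep pt1760c pt1760 := Classical.choose_spec pt1760e
theorem pt1761e : ∃ x, A0.Rep pt1761c x := act2_rep (n := 112) (d := 7) (by decide) (by decide) (c := 0x4c5) (by decide +kernel)
noncomputable def pt1761 := Classical.choose pt1761e
theorem pt1761r : A0.Rep pt1761c pt1761 := Classical.choose_spec pt1761e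
theorem pt1762e : ∃ x, A0.Rep pt1762c x := act2_rep (n := 112) (d := 7) (by decide) (by decide) (c := 0xd4) (by decide +kernel)
noncomputable def pt1762 := Classical.choose pt1762e
theorem pt1762r : A0.Rep pt1762c pt1762 := Classical.choose_spec pt1762e
theorem GK_s0_1765 : C.Mem R (C.gen R 1149371655649416643768760270362731887714054341637701632) 100433244642301675749158041184565875080341782426644006305792 := GK_m0.slp' chk1764
theorem GK_c0i : C.Mem R (C.gen R 1149371655649416643768760270362731887714054341637701632) 100430562775105160443655914077268362039270449633180185001984 := GK_s0_1765.sub chk1766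
theorem GK_c0m : C.Mem R (C.gen R 100430562775105160443655914077268362039270449633180185001984) 100430562775105160443655914077268362039270449633180185001984 := GK_c0i.gen
theorem fx1768 : C.gen R 100430562775105160443655914077268362039270449633180185001984 ≤ stabilizer _ pt1754 := Act.fix_sound GK_c0i.top pt1754r chk1767
theorem cov1775 : Cov (C.gen R 1149371655649416643768760270362731887714054341637701632) (C.wds R [0]) pt1754 168 := Act.cov_of_seen (Act.pieces_sound GK_s0_1765 GK_s0_1765.top pt1754r chk1773) chk1774
theorem GK_c1i : C.Mem R (C.gen R 100430562775105160443655914077268362039270449633180185001984) 100114868693686787338834094589675398347444989374010362953728 := GK_c0m.sub chk1776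
theorem GK_c1m : C.Mem R (C.gen R 100114868693686787338834094589675398347444989374010362953728) 100114868693686787338834094589675398347444989374010362953728 := GK_c1i.gen
theorem fx1778 : C.gen R 100114868693686787338834094589675398347444989374010362953728 ≤ stabilizer _ pt1755 := Act.fix_sound GK_c1i.top pt1755r chk1777
theorem cov1785 : Cov (C.gen R 100430562775105160443655914077268362039270449633180185001984) (C.wds R [0]) pt1755 192 := Act.cov_of_seen (Act.pieces_sound GK_c0m GK_c0m.top pt1755r chk1783) chk1784
theorem GK_c2i : C.Mem R (C.gen R 100114868693686787338834094589675398347444989374010362953728) 91851652737337914614565887419280931229372748027196380020736 := GK_c1m.sub chk1786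
theorem GK_c2m : C.Mem R (C.gen R 91851652737337914614565887419280931229372748027196380020736) 91851652737337914614565887419280931229372748027196380020736 := GK_c2i.gen
theorem fx1788 : C.gen R 91851652737337914614565887419280931229372748027196380020736 ≤ stabilizer _ pt1756 := Act.fix_sound GK_c2i.top pt1756r chk1787
theorem cov1795 : Cov (C.gen R 100114868693686787338834094589675398347444989374010362953728) (C.wds R [0]) pt1756 16 := Act.cov_of_seen (Act.pieces_sound GK_c1m GK_c1m.top pt1756r chk1793) chk1794
theorem GK_c3i : C.Mem R (C.gen R 91851652737337914614565887419280931229372748027196380020736) 91802612880030206171098420314412121335496948375286504751104 := GK_c2m.sub chk1796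
theorem GK_c3m : C.Mem R (C.gen R 91802612880030206171098420314412121335496948375286504751104) 91802612880030206171098420314412121335496948375286504751104 := GK_c3i.gen
theorem fx1798 : C.gen R 91802612880030206171098420314412121335496948375286504751104 ≤ stabilizer _ pt1757 := Act.fix_sound GK_c3i.top pt1757r chk1797
theorem cov1805 : Cov (C.gen R 91851652737337914614565887419280931229372748027196380020736) (C.wds R [0]) pt1757 2 := Act.cov_of_seen (Act.pieces_sound GK_c2m GK_c2m.top pt1757r chk1803) chk1804
theorem GK_c4i : C.Mem R (C.gen R 91802612880030206171098420314412121335496948375286504751104) 91017975163106871075618946636511163033484153944728500436992 := GK_c3m.sub chk1806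
theorem GK_c4m : C.Mem R (C.gen R 91017975163106871075618946636511163033484153944728500436992) 91017975163106871075618946636511163033484153944728500436992 := GK_c4i.gen
theorem fx1808 : C.gen R 91017975163106871075618946636511163033484153944728500436992 ≤ stabilizer _ pt1758 := Act.fix_sound GK_c4i.top pt1758r chk1807
theorem cov1815 : Cov (C.gen R 91802612880030206171098420314412121335496948375286504751104) (C.wds R [0]) pt1758 2 := Act.cov_of_seen (Act.pieces_sound GK_c3m GK_c3m.top pt1758r chk1813) chk1814
theorem GK_c5i : C.Mem R (C.gen R 91017975163106871075618946636511163033484153944728500436992) 87879424295413530693701051924907329825432976222496483180544 := GK_c4m.sub chk1816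
theorem GK_c5m : C.Mem R (C.gen R 87879424295413530693701051924907329825432976222496483180544) 87879424295413530693701051924907329825432976222496483180544 := GK_c5i.gen
theorem fx1818 : C.gen R 87879424295413530693701051924907329825432976222496483180544 ≤ stabilizer _ pt1759 := Act.fix_sound GK_c5i.top pt1759r chk1817
theorem cov1825 : Cov (C.gen R 91017975163106871075618946636511163033484153944728500436992) (C.wds R [0]) pt1759 2 := Act.cov_of_seen (Act.pieces_sound GK_c4m GK_c4m.top pt1759r chk1823) chk1824
theorem GK_c6i : C.Mem R (C.gen R 87879424295413530693701051924907329825432976222496483180544) 75325220824640169166029473078491996993228265333568414154752 := GK_c5m.sub chk1826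
theorem GK_c6m : C.Mem R (C.gen R 75325220824640169166029473078491996993228265333568414154752) 75325220824640169166029473078491996993228265333568414154752 := GK_c6i.gen
theorem fx1828 : C.gen R 75325220824640169166029473078491996993228265333568414154752 ≤ stabilizer _ pt1760 := Act.fix_sound GK_c6i.top pt1760r chk1827
theorem cov1835 : Cov (C.gen R 87879424295413530693701051924907329825432976222496483180544) (C.wds R [0]) pt1760 2 := Act.cov_of_seen (Act.pieces_sound GK_c5m GK_c5m.top pt1760r chk1833) chk1834
theorem GK_c7i : C.Mem R (C.gen R 75325220824640169166029473078491996993228265333568414154752) 50216813883093446110686315385661331328818843555712276103168 := GK_c6m.sub chk1836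
theorem GK_c7m : C.Mem R (C.gen R 50216813883093446110686315385661331328818843555712276103168) 50216813883093446110686315385661331328818843555712276103168 := GK_c7i.gen
theorem fx1838 : C.gen R 50216813883093446110686315385661331328818843555712276103168 ≤ stabilizer _ pt1761 := Act.fix_sound GK_c7i.top pt1761r chk1837
theorem cov1845 : Cov (C.gen R 75325220824640169166029473078491996993228265333568414154752) (C.wds R [0]) pt1761 2 := Act.cov_of_seen (Act.pieces_sound GK_c6m GK_c6m.top pt1761r chk1843) chk1844
theorem GK_c8i : C.Mem R (C.gen R 50216813883093446110686315385661331328818843555712276103168) 0 := GK_c7m.sub chk1846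
theorem GK_c8m : C.Mem R (C.gen R 0) 0 := GK_c8i.gen
theorem fx1848 : C.gen R 0 ≤ stabilizer _ pt1762 := Act.fix_sound GK_c8i.top pt1762r chk1847
theorem cov1855 : Cov (C.gen R 50216813883093446110686315385661331328818843555712276103168) (C.wds R [0]) pt1762 2 := Act.cov_of_seen (Act.pieces_sound GK_c7m GK_c7m.top pt1762r chk1853) chk1854
theorem GK_lb9 : 1 ≤ Nat.card (C.gen R 0) := Nat.card_pos
theorem GK_lo8 : 2 * Nat.card (C.gen R 0) ≤ Nat.card (C.gen R 50216813883093446110686315385661331328818843555712276103168) := cov1855.low le_rfl (GC.wds_zero _) GK_c8i.gen_le fx1848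
theorem GK_lb8 : 2 ≤ Nat.card (C.gen R 50216813883093446110686315385661331328818843555712276103168) := low_step GK_lo8 GK_lb9 (by decide +kernel)
theorem GK_lo7 : 2 * Nat.card (C.gen R 50216813883093446110686315385661331328818843555712276103168) ≤ Nat.card (C.gen R 75325220824640169166029473078491996993228265333568414154752) := cov1845.low le_rfl (GC.wds_zero _) GK_c7i.gen_le fx1838
theorem GK_lb7 : 4 ≤ Nat.card (C.gen R 75325220824640169166029473078491996993228265333568414154752) := low_step GK_lo7 GK_lb8 (by decide +kernel)
theorem GK_lo6 : 2 * Nat.card (C.gen R 75325220824640169166029473078491996993228265333568414154752) ≤ Nat.card (C.gen R 87879424295413530693701051924907329825432976222496483180544) := cov1835.low le_rfl (GC.wds_zero _) GK_c6i.gen_le fx1828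
theorem GK_lb6 : 8 ≤ Nat.card (C.gen R 87879424295413530693701051924907329825432976222496483180544) := low_step GK_lo6 GK_lb7 (by decide +kernel)
theorem GK_lo5 : 2 * Nat.card (C.gen R 87879424295413530693701051924907329825432976222496483180544) ≤ Nat.card (C.gen R 91017975163106871075618946636511163033484153944728500436992) := cov1825.low le_rfl (GC.wds_zero _) GK_c5i.gen_le fx1818
theorem GK_lb5 : 16 ≤ Nat.card (C.gen R 91017975163106871075618946636511163033484153944728500436992) := low_step GK_lo5 GK_lb6 (by decide +kernel)
theorem GK_lo4 : 2 * Nat.card (C.gen R 91017975163106871075618946636511163033484153944728500436992) ≤ Nat.card (C.gen R 91802612880030206171098420314412121335496948375286504751104) := cov1815.low le_rfl (GC.wds_zero _) GK_c4i.gen_le fx1808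
theorem GK_lb4 : 32 ≤ Nat.card (C.gen R 91802612880030206171098420314412121335496948375286504751104) := low_step GK_lo4 GK_lb5 (by decide +kernel)
theorem GK_lo3 : 2 * Nat.card (C.gen R 91802612880030206171098420314412121335496948375286504751104) ≤ Nat.card (C.gen R 91851652737337914614565887419280931229372748027196380020736) := cov1805.low le_rfl (GC.wds_zero _) GK_c3i.gen_le fx1798
theorem GK_lb3 : 64 ≤ Nat.card (C.gen R 91851652737337914614565887419280931229372748027196380020736) := low_step GK_lo3 GK_lb4 (by decide +kernel)
theorem GK_lo2 : 16 * Nat.card (C.gen R 91851652737337914614565887419280931229372748027196380020736) ≤ Nat.card (C.gen R 100114868693686787338834094589675398347444989374010362953728) := cov1795.low le_rfl (GC.wds_zero _) GK_c2i.gen_le fx1788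
theorem GK_lb2 : 1024 ≤ Nat.card (C.gen R 100114868693686787338834094589675398347444989374010362953728) := low_step GK_lo2 GK_lb3 (by decide +kernel)
theorem GK_lo1 : 192 * Nat.card (C.gen R 100114868693686787338834094589675398347444989374010362953728) ≤ Nat.card (C.gen R 100430562775105160443655914077268362039270449633180185001984) := cov1785.low le_rfl (GC.wds_zero _) GK_c1i.gen_le fx1778
theorem GK_lb1 : 196608 ≤ Nat.card (C.gen R 100430562775105160443655914077268362039270449633180185001984) := low_step GK_lo1 GK_lb2 (by decide +kernel)
theorem GK_lo0 : 168 * Nat.card (C.gen R 100430562775105160443655914077268362039270449633180185001984) ≤ Nat.card (C.gen R 1149371655649416643768760270362731887714054341637701632) := cov1775.low le_rfl (GC.wds_zero _) GK_c0i.gen_le fx1768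
theorem GK_lb0 : 33030144 ≤ Nat.card (C.gen R 1149371655649416643768760270362731887714054341637701632) := low_step GK_lo0 GK_lb1 (by decide +kernel)
theorem fx1859 : C.gen R 1149371655649416643768760270362731887714054341637701632 ≤ stabilizer _ pt1744 := Act.fix_sound GK_in1753.top pt1744r chk1858
theorem G_Kc : ∀ κ ∈ (C.gen R 1149371655649416643768760270362731887714054341637701632), (C.el (R 27))⁻¹ * κ * C.el (R 27) ∈ (C.gen R 67108862) := H_s1_1742.conjB (G_m1.get (i := 27) (by decide +kernel)).top GK_in1753.top chk1857
theorem GT1_in1862 : C.Mem R (C.gen R 67108862) 301300883298560676664117892313967987972913061334273656619008 := H_s1_1742.slp' chk1861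
theorem GT1_m0 : C.Mem R (C.gen R 301300883298560676664117892313967987972913061334273656619008) 301300883298560676664117892313967987972913061334273656619008 := GC.Mem.gen GT1_in1862.top
theorem pt1863e : ∃ x, A0.Rep pt1863c x := act2_rep (n := 112) (d := 7) (by decide) (by decide) (c := 0x95e) (by decide +kernel)
noncomputable def pt1863 := Classical.choose pt1863e
theorem pt1863r : A0.Rep pt1863c pt1863 := Classical.choose_spec pt1863e
theorem pt1864e : ∃ x, A0.Rep pt1864c x := act2_rep (n := 112) (d := 7) (by decide) (by decide) (c := 0x40) (by decide +kernel)
noncomputable def pt1864 := Classical.choose pt1864e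
theorem pt1864r : A0.Rep pt1864c pt1864 := Classical.choose_spec pt1864e
theorem pt1865e : ∃ x, A0.Rep pt1865c x := act2_rep (n := 112) (d := 7) (by decide) (by decide) (c := 0x334) (by decide +kernel)
noncomputable def pt1865 := Classical.choose pt1865e
theorem pt1865r : A0.Rep pt1865c pt1865 := Classical.choose_spec pt1865e
theorem pt1866e : ∃ x, A0.Rep pt1866c x := act2_rep (n := 112) (d := 7) (by decide) (by decide) (c := 0xa10) (by decide +kernel)
noncomputable def pt1866 := Classical.choose pt1866e
theorem pt1866r : A0.Rep pt1866c pt1866 := Classical.choose_spec pt1866e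
theorem pt1867e : ∃ x, A0.Rep pt1867c x := act2_rep (n := 112) (d := 7) (by decide) (by decide) (c := 0xbd7) (by decide +kernel)
noncomputable def pt1867 := Classical.choose pt1867e
theorem pt1867r : A0.Rep pt1867c pt1867 := Classical.choose_spec pt1867e
theorem pt1868e : ∃ x, A0.Rep pt1868c x := act2_rep (n := 112) (d := 7) (by decide) (by decide) (c := 0xc25) (by decide +kernel)
noncomputable def pt1868 := Classical.choose pt1868e
theorem pt1868r : A0.Rep pt1868c pt1868 := Classical.choose_spec pt1868e
theorem pt1869e : ∃ x, A0.Rep pt1869c x := act2_rep (n := 112) (d := 7) (by decide) (by decide) (c := 0xeb) (by decide +kernel)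
noncomputable def pt1869 := Classical.choose pt1869e
theorem pt1869r : A0.Rep pt1869c pt1869 := Classical.choose_spec pt1869e
theorem pt1870e : ∃ x, A0.Rep pt1870c x := act2_rep (n := 112) (d := 7) (by decide) (by decide) (c := 0x4c5) (by decide +kernel)
noncomputable def pt1870 := Classical.choose pt1870e
theorem pt1870r : A0.Rep pt1870c pt1870 := Classical.choose_spec pt1870e
theorem pt1871e : ∃ x, A0.Rep pt1871c x := act2_rep (n := 112) (d := 7) (by decide) (by decide) (c := 0xa3) (by decide +kernel)
noncomputable def pt1871 := Classical.choose pt1871e
theorem pt1871r : A0.Rep pt1871c pt1871 := Classical.choose_spec pt1871e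
theorem GT1_s0_1874 : C.Mem R (C.gen R 301300883298560676664117892313967987972913061334273656619008) 52656045400650827162066792469204444836784890062587444202603282432 := GT1_m0.slp' chk1873
theorem GT1_c0i : C.Mem R (C.gen R 301300883298560676664117892313967987972913061334273656619008) 52655342365256463853821242860789045578146286598777664230737838080 := GT1_s0_1874.sub chk1875
theorem GT1_c0m : C.Mem R (C.gen R 52655342365256463853821242860789045578146286598777664230737838080) 52655342365256463853821242860789045578146286598777664230737838080 := GT1_c0i.gen
theorem fx1877 : C.gen R 52655342365256463853821242860789045578146286598777664230737838080 ≤ stabilizer _ pt1863 := Act.fix_sound GT1_c0i.top pt1863r chk1876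
theorem cov1884 : Cov (C.gen R 301300883298560676664117892313967987972913061334273656619008) (C.wds R [0]) pt1863 168 := Act.cov_of_seen (Act.pieces_sound GT1_s0_1874 GT1_s0_1874.top pt1863r chk1882) chk1883
theorem GT1_c1i : C.Mem R (C.gen R 52655342365256463853821242860789045578146286598777664230737838080) 52537232419003428068568908647001970126860904678734628957343186944 := GT1_c0m.sub chk1885
theorem GT1_c1m : C.Mem R (C.gen R 52537232419003428068568908647001970126860904678734628957343186944) 52537232419003428068568908647001970126860904678734628957343186944 := GT1_c1i.gen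
theorem fx1887 : C.gen R 52537232419003428068568908647001970126860904678734628957343186944 ≤ stabilizer _ pt1864 := Act.fix_sound GT1_c1i.top pt1864r chk1886
theorem cov1894 : Cov (C.gen R 52655342365256463853821242860789045578146286598777664230737838080) (C.wds R [0]) pt1864 48 := Act.cov_of_seen (Act.pieces_sound GT1_c0m GT1_c0m.top pt1864r chk1892) chk1893
theorem GT1_c2i : C.Mem R (C.gen R 52537232419003428068568908647001970126860904678734628957343186944) 52090503642699428771968243185331126923359732246463012549129404416 := GT1_c1m.sub chk1895
theorem GT1_c2m : C.Mem R (C.gen R 52090503642699428771968243185331126923359732246463012549129404416) 52090503642699428771968243185331126923359732246463012549129404416 := GT1_c2i.gen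
theorem fx1897 : C.gen R 52090503642699428771968243185331126923359732246463012549129404416 ≤ stabilizer _ pt1865 := Act.fix_sound GT1_c2i.top pt1865r chk1896
theorem cov1904 : Cov (C.gen R 52537232419003428068568908647001970126860904678734628957343186944) (C.wds R [0]) pt1865 16 := Act.cov_of_seen (Act.pieces_sound GT1_c1m GT1_c1m.top pt1865r chk1902) chk1903
theorem GT1_c3i : C.Mem R (C.gen R 52090503642699428771968243185331126923359732246463012549129404416) 37229540609392286703756177755360055175234398959959744408262279168 := GT1_c2m.sub chk1905
theorem GT1_c3m : C.Mem R (C.gen R 37229540609392286703756177755360055175234398959959744408262279168) 37229540609392286703756177755360055175234398959959744408262279168 := GT1_c3i.gen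
theorem fx1907 : C.gen R 37229540609392286703756177755360055175234398959959744408262279168 ≤ stabilizer _ pt1866 := Act.fix_sound GT1_c3i.top pt1866r chk1906
theorem cov1914 : Cov (C.gen R 52090503642699428771968243185331126923359732246463012549129404416) (C.wds R [0]) pt1866 8 := Act.cov_of_seen (Act.pieces_sound GT1_c2m GT1_c2m.top pt1866r chk1912) chk1913
theorem GT1_c4i : C.Mem R (C.gen R 37229540609392286703756177755360055175234398959959744408262279168) 37023852539727135948486806607540386362111556976755546925343703040 := GT1_c3m.sub chk1915
theorem GT1_c4m : C.Mem R (C.gen R 37023852539727135948486806607540386362111556976755546925343703040) 37023852539727135948486806607540386362111556976755546925343703040 := GT1_c4i.gen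
theorem fx1917 : C.gen R 37023852539727135948486806607540386362111556976755546925343703040 ≤ stabilizer _ pt1867 := Act.fix_sound GT1_c4i.top pt1867r chk1916
theorem cov1924 : Cov (C.gen R 37229540609392286703756177755360055175234398959959744408262279168) (C.wds R [0]) pt1867 2 := Act.cov_of_seen (Act.pieces_sound GT1_c3m GT1_c3m.top pt1867r chk1922) chk1923
theorem GT1_c5i : C.Mem R (C.gen R 37023852539727135948486806607540386362111556976755546925343703040) 36201100261066532927409322016261711109620189043938756993669398528 := GT1_c4m.sub chk1925
theorem GT1_c5m : C.Mem R (C.gen R 36201100261066532927409322016261711109620189043938756993669398528) 36201100261066532927409322016261711109620189043938756993669398528 := GT1_c5i.gen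
theorem fx1927 : C.gen R 36201100261066532927409322016261711109620189043938756993669398528 ≤ stabilizer _ pt1868 := Act.fix_sound GT1_c5i.top pt1868r chk1926
theorem cov1934 : Cov (C.gen R 37023852539727135948486806607540386362111556976755546925343703040) (C.wds R [0]) pt1868 2 := Act.cov_of_seen (Act.pieces_sound GT1_c4m GT1_c4m.top pt1868r chk1932) chk1933
theorem GT1_c6i : C.Mem R (C.gen R 36201100261066532927409322016261711109620189043938756993669398528) 32910091146424120843099383651147010099654717312671597266972180480 := GT1_c5m.sub chk1935
theorem GT1_c6m : C.Mem R (C.gen R 32910091146424120843099383651147010099654717312671597266972180480) 32910091146424120843099383651147010099654717312671597266972180480 := GT1_c6i.gen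
theorem fx1937 : C.gen R 32910091146424120843099383651147010099654717312671597266972180480 ≤ stabilizer _ pt1869 := Act.fix_sound GT1_c6i.top pt1869r chk1936
theorem cov1944 : Cov (C.gen R 36201100261066532927409322016261711109620189043938756993669398528) (C.wds R [0]) pt1869 2 := Act.cov_of_seen (Act.pieces_sound GT1_c5m GT1_c5m.top pt1869r chk1942) chk1943
theorem GT1_c7i : C.Mem R (C.gen R 32910091146424120843099383651147010099654717312671597266972180480) 26328072917139296674479506920917608079723773850137277813577744384 := GT1_c6m.sub chk1945
theorem GT1_c7m : C.Mem R (C.gen R 26328072917139296674479506920917608079723773850137277813577744384) 26328072917139296674479506920917608079723773850137277813577744384 := GT1_c7i.gen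
theorem fx1947 : C.gen R 26328072917139296674479506920917608079723773850137277813577744384 ≤ stabilizer _ pt1870 := Act.fix_sound GT1_c7i.top pt1870r chk1946
theorem cov1954 : Cov (C.gen R 32910091146424120843099383651147010099654717312671597266972180480) (C.wds R [0]) pt1870 2 := Act.cov_of_seen (Act.pieces_sound GT1_c6m GT1_c6m.top pt1870r chk1952) chk1953
theorem GT1_c8i : C.Mem R (C.gen R 26328072917139296674479506920917608079723773850137277813577744384) 0 := GT1_c7m.sub chk1955
theorem GT1_c8m : C.Mem R (C.gen R 0) 0 := GT1_c8i.gen
theorem fx1957 : C.gen R 0 ≤ stabilizer _ pt1871 := Act.fix_sound GT1_c8i.top pt1871r chk1956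
theorem cov1964 : Cov (C.gen R 26328072917139296674479506920917608079723773850137277813577744384) (C.wds R [0]) pt1871 2 := Act.cov_of_seen (Act.pieces_sound GT1_c7m GT1_c7m.top pt1871r chk1962) chk1963
theorem GT1_lb9 : 1 ≤ Nat.card (C.gen R 0) := Nat.card_pos
theorem GT1_lo8 : 2 * Nat.card (C.gen R 0) ≤ Nat.card (C.gen R 26328072917139296674479506920917608079723773850137277813577744384) := cov1964.low le_rfl (GC.wds_zero _) GT1_c8i.gen_le fx1957
theorem GT1_lb8 : 2 ≤ Nat.card (C.gen R 26328072917139296674479506920917608079723773850137277813577744384) := low_step GT1_lo8 GT1_lb9 (by decide +kernel)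
theorem GT1_lo7 : 2 * Nat.card (C.gen R 26328072917139296674479506920917608079723773850137277813577744384) ≤ Nat.card (C.gen R 32910091146424120843099383651147010099654717312671597266972180480) := cov1954.low le_rfl (GC.wds_zero _) GT1_c7i.gen_le fx1947
theorem GT1_lb7 : 4 ≤ Nat.card (C.gen R 32910091146424120843099383651147010099654717312671597266972180480) := low_step GT1_lo7 GT1_lb8 (by decide +kernel)
theorem GT1_lo6 : 2 * Nat.card (C.gen R 32910091146424120843099383651147010099654717312671597266972180480) ≤ Nat.card (C.gen R 36201100261066532927409322016261711109620189043938756993669398528) := cov1944.low le_rfl (GC.wds_zero _) GT1_c6i.gen_le fx1937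
theorem GT1_lb6 : 8 ≤ Nat.card (C.gen R 36201100261066532927409322016261711109620189043938756993669398528) := low_step GT1_lo6 GT1_lb7 (by decide +kernel)
theorem GT1_lo5 : 2 * Nat.card (C.gen R 36201100261066532927409322016261711109620189043938756993669398528) ≤ Nat.card (C.gen R 37023852539727135948486806607540386362111556976755546925343703040) := cov1934.low le_rfl (GC.wds_zero _) GT1_c5i.gen_le fx1927
theorem GT1_lb5 : 16 ≤ Nat.card (C.gen R 37023852539727135948486806607540386362111556976755546925343703040) := low_step GT1_lo5 GT1_lb6 (by decide +kernel)
theorem GT1_lo4 : 2 * Nat.card (C.gen R 37023852539727135948486806607540386362111556976755546925343703040) ≤ Nat.card (C.gen R 37229540609392286703756177755360055175234398959959744408262279168) := cov1924.low le_rfl (GC.wds_zero _) GT1_c4i.gen_le fx1917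
theorem GT1_lb4 : 32 ≤ Nat.card (C.gen R 37229540609392286703756177755360055175234398959959744408262279168) := low_step GT1_lo4 GT1_lb5 (by decide +kernel)
theorem GT1_lo3 : 8 * Nat.card (C.gen R 37229540609392286703756177755360055175234398959959744408262279168) ≤ Nat.card (C.gen R 52090503642699428771968243185331126923359732246463012549129404416) := cov1914.low le_rfl (GC.wds_zero _) GT1_c3i.gen_le fx1907
theorem GT1_lb3 : 256 ≤ Nat.card (C.gen R 52090503642699428771968243185331126923359732246463012549129404416) := low_step GT1_lo3 GT1_lb4 (by decide +kernel)
theorem GT1_lo2 : 16 * Nat.card (C.gen R 52090503642699428771968243185331126923359732246463012549129404416) ≤ Nat.card (C.gen R 52537232419003428068568908647001970126860904678734628957343186944) := cov1904.low le_rfl (GC.wds_zero _) GT1_c2i.gen_le fx1897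
theorem GT1_lb2 : 4096 ≤ Nat.card (C.gen R 52537232419003428068568908647001970126860904678734628957343186944) := low_step GT1_lo2 GT1_lb3 (by decide +kernel)
theorem GT1_lo1 : 48 * Nat.card (C.gen R 52537232419003428068568908647001970126860904678734628957343186944) ≤ Nat.card (C.gen R 52655342365256463853821242860789045578146286598777664230737838080) := cov1894.low le_rfl (GC.wds_zero _) GT1_c1i.gen_le fx1887
theorem GT1_lb1 : 196608 ≤ Nat.card (C.gen R 52655342365256463853821242860789045578146286598777664230737838080) := low_step GT1_lo1 GT1_lb2 (by decide +kernel)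
theorem GT1_lo0 : 168 * Nat.card (C.gen R 52655342365256463853821242860789045578146286598777664230737838080) ≤ Nat.card (C.gen R 301300883298560676664117892313967987972913061334273656619008) := cov1884.low le_rfl (GC.wds_zero _) GT1_c0i.gen_le fx1877
theorem GT1_lb0 : 33030144 ≤ Nat.card (C.gen R 301300883298560676664117892313967987972913061334273656619008) := low_step GT1_lo0 GT1_lb1 (by decide +kernel)
theorem G_T1c : ∀ τ ∈ (C.gen R 301300883298560676664117892313967987972913061334273656619008), C.el (R 27) * τ * (C.el (R 27))⁻¹ ∈ (C.gen R 67108862) := H_s1_1742.conjA (G_I.get (i := 27) (by decide +kernel)).top GT1_in1862.top chk1966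
theorem cov1995 : Cov (C.gen R 301300883298560676664117892313967987972913061334273656619008) (C.wds R (List.map Prod.fst (l1967))) pt1744 15180 := Act.cov_of_seen (Act.pieces_sound GT1_s0_1874 H_s1_1742.top pt1744r chk1993) chk1994
theorem G_T1d : Dec (C.gen R 67108862) (C.gen R 301300883298560676664117892313967987972913061334273656619008) (C.wds R (List.map Prod.fst (l1967))) (C.gen R 1149371655649416643768760270362731887714054341637701632) := cov1995.dec GT1_in1862.gen_le (GC.wds_sub H_s1_1742 chk1996) GK_in1753.gen_le fx1859 (up_low H_ub GK_lb0 (by decide +kernel))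
theorem G_T1p : ∀ x ∈ DC1 (C.gen R 67108862) (C.el (R 27)), x * C.el (R 27) ∈ DCs (C.gen R 67108862) (C.els R 371151263803457457883662170637965505407663381288058880) := GC.dc_piece' G_T1d G_T1c G_Kc (H_s1_1742.dcRel G_I.top (G_I.get (i := 27) (by decide +kernel)).top (G_m1.get (i := 27) (by decide +kernel)).top chk1968)
theorem G_T1u : Nat.card (C.gen R 67108862) ≤ 15180 * Nat.card (C.gen R 301300883298560676664117892313967987972913061334273656619008) := up_low H_ub GT1_lb0 (by decide +kernel)
theorem G_T1n : (DC1 (C.gen R 67108862) (C.el (R 27))).ncard ≤ Nat.card (C.gen R 67108862) * 15180 := ncard_DC1 GT1_in1862.gen_le G_T1c G_T1u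
theorem GT2_in2020 : C.Mem R (C.gen R 67108862) 157968437502835780046877041525505648478342643100823666881466466304 := H_s1_1742.slp' chk2019
theorem GT2_m0 : C.Mem R (C.gen R 157968437502835780046877041525505648478342643100823666881466466304) 157968437502835780046877041525505648478342643100823666881466466304 := GC.Mem.gen GT2_in2020.top
theorem pt2021e : ∃ x, A0.Rep pt2021c x := act2_rep (n := 112) (d := 7) (by decide) (by decide) (c := 0xafc) (by decide +kernel)
noncomputable def pt2021 := Classical.choose pt2021e
theorem pt2021r : A0.Rep pt2021c pt2021 := Classical.choose_spec pt2021e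
theorem pt2022e : ∃ x, A0.Rep pt2022c x := act2_rep (n := 112) (d := 7) (by decide) (by decide) (c := 0x334) (by decide +kernel)
noncomputable def pt2022 := Classical.choose pt2022e
theorem pt2022r : A0.Rep pt2022c pt2022 := Classical.choose_spec pt2022e
theorem pt2023e : ∃ x, A0.Rep pt2023c x := act2_rep (n := 112) (d := 7) (by decide) (by decide) (c := 0xeb) (by decide +kernel)
noncomputable def pt2023 := Classical.choose pt2023e
theorem pt2023r : A0.Rep pt2023c pt2023 := Classical.choose_spec pt2023e
theorem pt2024e : ∃ x, A0.Rep pt2024c x := act2_rep (n := 112) (d := 7) (by decide) (by decide) (c := 0xa10) (by decide +kernel)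
noncomputable def pt2024 := Classical.choose pt2024e
theorem pt2024r : A0.Rep pt2024c pt2024 := Classical.choose_spec pt2024e
theorem pt2025e : ∃ x, A0.Rep pt2025c x := act2_rep (n := 112) (d := 7) (by decide) (by decide) (c := 0x95e) (by decide +kernel)
noncomputable def pt2025 := Classical.choose pt2025e
theorem pt2025r : A0.Rep pt2025c pt2025 := Classical.choose_spec pt2025e
theorem GT2_s0_2028 : C.Mem R (C.gen R 157968437502835780046877041525505648478342643100823666881466466304) 431306490528575958121323282378472255562034863212948885142030608498688 := GT2_m0.slp' chk2027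
theorem GT2_c0i : C.Mem R (C.gen R 157968437502835780046877041525505648478342643100823666881466466304) 431148522091073122341276405336946749913556520569848061475149142032384 := GT2_s0_2028.sub chk2029
theorem GT2_c0m : C.Mem R (C.gen R 431148522091073122341276405336946749913556520569848061475149142032384) 431148522091073122341276405336946749913556520569848061475149142032384 := GT2_c0i.gen
theorem fx2031 : C.gen R 431148522091073122341276405336946749913556520569848061475149142032384 ≤ stabilizer _ pt2021 := Act.fix_sound GT2_c0i.top pt2021r chk2030
theorem cov2038 : Cov (C.gen R 157968437502835780046877041525505648478342643100823666881466466304) (C.wds R [0]) pt2021 3 := Act.cov_of_seen (Act.pieces_sound GT2_s0_2028 GT2_s0_2028.top pt2021r chk2036) chk2037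
theorem GT2_c1i : C.Mem R (C.gen R 431148522091073122341276405336946749913556520569848061475149142032384) 424619160007622576766005487620559183109785024655014016577381861425152 := GT2_c0m.sub chk2039
theorem GT2_c1m : C.Mem R (C.gen R 424619160007622576766005487620559183109785024655014016577381861425152) 424619160007622576766005487620559183109785024655014016577381861425152 := GT2_c1i.gen
theorem fx2041 : C.gen R 424619160007622576766005487620559183109785024655014016577381861425152 ≤ stabilizer _ pt2022 := Act.fix_sound GT2_c1i.top pt2022r chk2040
theorem cov2048 : Cov (C.gen R 431148522091073122341276405336946749913556520569848061475149142032384) (C.wds R [0]) pt2022 768 := Act.cov_of_seen (Act.pieces_sound GT2_c0m GT2_c0m.top pt2022r chk2046) chk2047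
theorem GT2_c2i : C.Mem R (C.gen R 424619160007622576766005487620559183109785024655014016577381861425152) 283079440005081717844003658413706122073190016436676011051587907616768 := GT2_c1m.sub chk2049
theorem GT2_c2m : C.Mem R (C.gen R 283079440005081717844003658413706122073190016436676011051587907616768) 283079440005081717844003658413706122073190016436676011051587907616768 := GT2_c2i.gen
theorem fx2051 : C.gen R 283079440005081717844003658413706122073190016436676011051587907616768 ≤ stabilizer _ pt2023 := Act.fix_sound GT2_c2i.top pt2023r chk2050
theorem cov2058 : Cov (C.gen R 424619160007622576766005487620559183109785024655014016577381861425152) (C.wds R [0]) pt2023 8 := Act.cov_of_seen (Act.pieces_sound GT2_c1m GT2_c1m.top pt2023r chk2056) chk2057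
theorem GT2_c3i : C.Mem R (C.gen R 283079440005081717844003658413706122073190016436676011051587907616768) 215679573337205118357336120696157045389097155380324579848828881993728 := GT2_c2m.sub chk2059
theorem GT2_c3m : C.Mem R (C.gen R 215679573337205118357336120696157045389097155380324579848828881993728) 215679573337205118357336120696157045389097155380324579848828881993728 := GT2_c3i.gen
theorem fx2061 : C.gen R 215679573337205118357336120696157045389097155380324579848828881993728 ≤ stabilizer _ pt2024 := Act.fix_sound GT2_c3i.top pt2024r chk2060
theorem cov2068 : Cov (C.gen R 283079440005081717844003658413706122073190016436676011051587907616768) (C.wds R [0]) pt2024 4 := Act.cov_of_seen (Act.pieces_sound GT2_c2m GT2_c2m.top pt2024r chk2066) chk2067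
theorem GT2_c4i : C.Mem R (C.gen R 215679573337205118357336120696157045389097155380324579848828881993728) 0 := GT2_c3m.sub chk2069
theorem GT2_c4m : C.Mem R (C.gen R 0) 0 := GT2_c4i.gen
theorem fx2071 : C.gen R 0 ≤ stabilizer _ pt2025 := Act.fix_sound GT2_c4i.top pt2025r chk2070
theorem cov2078 : Cov (C.gen R 215679573337205118357336120696157045389097155380324579848828881993728) (C.wds R [0]) pt2025 2 := Act.cov_of_seen (Act.pieces_sound GT2_c3m GT2_c3m.top pt2025r chk2076) chk2077
theorem GT2_lb5 : 1 ≤ Nat.card (C.gen R 0) := Nat.card_pos
theorem GT2_lo4 : 2 * Nat.card (C.gen R 0) ≤ Nat.card (C.gen R 215679573337205118357336120696157045389097155380324579848828881993728) := cov2078.low le_rfl (GC.wds_zero _) GT2_c4i.gen_le fx2071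
theorem GT2_lb4 : 2 ≤ Nat.card (C.gen R 215679573337205118357336120696157045389097155380324579848828881993728) := low_step GT2_lo4 GT2_lb5 (by decide +kernel)
theorem GT2_lo3 : 4 * Nat.card (C.gen R 215679573337205118357336120696157045389097155380324579848828881993728) ≤ Nat.card (C.gen R 283079440005081717844003658413706122073190016436676011051587907616768) := cov2068.low le_rfl (GC.wds_zero _) GT2_c3i.gen_le fx2061
theorem GT2_lb3 : 8 ≤ Nat.card (C.gen R 283079440005081717844003658413706122073190016436676011051587907616768) := low_step GT2_lo3 GT2_lb4 (by decide +kernel)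
theorem GT2_lo2 : 8 * Nat.card (C.gen R 283079440005081717844003658413706122073190016436676011051587907616768) ≤ Nat.card (C.gen R 424619160007622576766005487620559183109785024655014016577381861425152) := cov2058.low le_rfl (GC.wds_zero _) GT2_c2i.gen_le fx2051
theorem GT2_lb2 : 64 ≤ Nat.card (C.gen R 424619160007622576766005487620559183109785024655014016577381861425152) := low_step GT2_lo2 GT2_lb3 (by decide +kernel)
theorem GT2_lo1 : 768 * Nat.card (C.gen R 424619160007622576766005487620559183109785024655014016577381861425152) ≤ Nat.card (C.gen R 431148522091073122341276405336946749913556520569848061475149142032384) := cov2048.low le_rfl (GC.wds_zero _) GT2_c1i.gen_le fx2041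
theorem GT2_lb1 : 49152 ≤ Nat.card (C.gen R 431148522091073122341276405336946749913556520569848061475149142032384) := low_step GT2_lo1 GT2_lb2 (by decide +kernel)
theorem GT2_lo0 : 3 * Nat.card (C.gen R 431148522091073122341276405336946749913556520569848061475149142032384) ≤ Nat.card (C.gen R 157968437502835780046877041525505648478342643100823666881466466304) := cov2038.low le_rfl (GC.wds_zero _) GT2_c0i.gen_le fx2031
theorem GT2_lb0 : 147456 ≤ Nat.card (C.gen R 157968437502835780046877041525505648478342643100823666881466466304) := low_step GT2_lo0 GT2_lb1 (by decide +kernel)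
theorem G_T2c : ∀ τ ∈ (C.gen R 157968437502835780046877041525505648478342643100823666881466466304), C.el (R 173) * τ * (C.el (R 173))⁻¹ ∈ (C.gen R 67108862) := H_s1_1742.conjA (G_I.get (i := 173) (by decide +kernel)).top GT2_in2020.top chk2080
theorem cov2109 : Cov (C.gen R 157968437502835780046877041525505648478342643100823666881466466304) (C.wds R (List.map Prod.fst (l2081))) pt1744 15180 := Act.cov_of_seen (Act.pieces_sound GT2_s0_2028 H_s1_1742.top pt1744r chk2107) chk2108
theorem G_T2d : Dec (C.gen R 67108862) (C.gen R 157968437502835780046877041525505648478342643100823666881466466304) (C.wds R (List.map Prod.fst (l2081))) (C.gen R 1149371655649416643768760270362731887714054341637701632) := cov2109.dec GT2_in2020.gen_le (GC.wds_sub H_s1_1742 chk2110) GK_in1753.gen_le fx1859 (up_low H_ub GK_lb0 (by decide +kernel))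
theorem G_T2p : ∀ x ∈ DC1 (C.gen R 67108862) (C.el (R 173)), x * C.el (R 27) ∈ DCs (C.gen R 67108862) (C.els R 371151263803457457883662170637965505407663381288058880) := GC.dc_piece' G_T2d G_T2c G_Kc (H_s1_1742.dcRel G_I.top (G_I.get (i := 173) (by decide +kernel)).top (G_m1.get (i := 27) (by decide +kernel)).top chk2082)
theorem G_T2u : Nat.card (C.gen R 67108862) ≤ 3400320 * Nat.card (C.gen R 157968437502835780046877041525505648478342643100823666881466466304) := up_low H_ub GT2_lb0 (by decide +kernel)
theorem G_T2n : (DC1 (C.gen R 67108862) (C.el (R 173))).ncard ≤ Nat.card (C.gen R 67108862) * 3400320 := ncard_DC1 GT2_in2020.gen_le G_T2c G_T2u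
theorem GT3_in2141 : C.Mem R (C.gen R 67108862) 3019514026720871657002705689746198635447360175324544117883604347912192 := H_s1_1742.slp' chk2140
theorem GT3_m0 : C.Mem R (C.gen R 3019514026720871657002705689746198635447360175324544117883604347912192) 3019514026720871657002705689746198635447360175324544117883604347912192 := GC.Mem.gen GT3_in2141.top
theorem pt2142e : ∃ x, A0.Rep pt2142c x := act2_rep (n := 112) (d := 7) (by decide) (by decide) (c := 0xd) (by decide +kernel)
noncomputable def pt2142 := Classical.choose pt2142e
theorem pt2142r : A0.Rep pt2142c pt2142 := Classical.choose_spec pt2142e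
theorem pt2143e : ∃ x, A0.Rep pt2143c x := act2_rep (n := 112) (d := 7) (by decide) (by decide) (c := 0x334) (by decide +kernel)
noncomputable def pt2143 := Classical.choose pt2143e
theorem pt2143r : A0.Rep pt2143c pt2143 := Classical.choose_spec pt2143e
theorem pt2144e : ∃ x, A0.Rep pt2144c x := act2_rep (n := 112) (d := 7) (by decide) (by decide) (c := 0xa10) (by decide +kernel)
noncomputable def pt2144 := Classical.choose pt2144e
theorem pt2144r : A0.Rep pt2144c pt2144 := Classical.choose_spec pt2144e
theorem GT3_s0_2147 : C.Mem R (C.gen R 3019514026720871657002705689746198635447360175324544117883604347912192) 441280407047921672159109702944337314866092779908144090370703892559167488 := GT3_m0.slp' chk2146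
theorem GT3_c0i : C.Mem R (C.gen R 3019514026720871657002705689746198635447360175324544117883604347912192) 438260893021200800502106997254591116230645419732819546252820288211255296 := GT3_s0_2147.sub chk2148
theorem GT3_c0m : C.Mem R (C.gen R 438260893021200800502106997254591116230645419732819546252820288211255296) 438260893021200800502106997254591116230645419732819546252820288211255296 := GT3_c0i.gen
theorem fx2150 : C.gen R 438260893021200800502106997254591116230645419732819546252820288211255296 ≤ stabilizer _ pt2142 := Act.fix_sound GT3_c0i.top pt2142r chk2149
theorem cov2157 : Cov (C.gen R 3019514026720871657002705689746198635447360175324544117883604347912192) (C.wds R [0]) pt2142 15 := Act.cov_of_seen (Act.pieces_sound GT3_s0_2147 GT3_s0_2147.top pt2142r chk2155) chk2156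
theorem GT3_c1i : C.Mem R (C.gen R 438260893021200800502106997254591116230645419732819546252820288211255296) 220855883097298041197912187592864814478435487109452369765200775161577472 := GT3_c0m.sub chk2158
theorem GT3_c1m : C.Mem R (C.gen R 220855883097298041197912187592864814478435487109452369765200775161577472) 220855883097298041197912187592864814478435487109452369765200775161577472 := GT3_c1i.gen
theorem fx2160 : C.gen R 220855883097298041197912187592864814478435487109452369765200775161577472 ≤ stabilizer _ pt2143 := Act.fix_sound GT3_c1i.top pt2143r chk2159
theorem cov2167 : Cov (C.gen R 438260893021200800502106997254591116230645419732819546252820288211255296) (C.wds R [0]) pt2143 512 := Act.cov_of_seen (Act.pieces_sound GT3_c0m GT3_c0m.top pt2143r chk2165) chk2166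
theorem GT3_c2i : C.Mem R (C.gen R 220855883097298041197912187592864814478435487109452369765200775161577472) 0 := GT3_c1m.sub chk2168
theorem GT3_c2m : C.Mem R (C.gen R 0) 0 := GT3_c2i.gen
theorem fx2170 : C.gen R 0 ≤ stabilizer _ pt2144 := Act.fix_sound GT3_c2i.top pt2144r chk2169
theorem cov2177 : Cov (C.gen R 220855883097298041197912187592864814478435487109452369765200775161577472) (C.wds R [0]) pt2144 2 := Act.cov_of_seen (Act.pieces_sound GT3_c1m GT3_c1m.top pt2144r chk2175) chk2176
theorem GT3_lb3 : 1 ≤ Nat.card (C.gen R 0) := Nat.card_pos
theorem GT3_lo2 : 2 * Nat.card (C.gen R 0) ≤ Nat.card (C.gen R 220855883097298041197912187592864814478435487109452369765200775161577472) := cov2177.low le_rfl (GC.wds_zero _) GT3_c2i.gen_le fx2170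
theorem GT3_lb2 : 2 ≤ Nat.card (C.gen R 220855883097298041197912187592864814478435487109452369765200775161577472) := low_step GT3_lo2 GT3_lb3 (by decide +kernel)
theorem GT3_lo1 : 512 * Nat.card (C.gen R 220855883097298041197912187592864814478435487109452369765200775161577472) ≤ Nat.card (C.gen R 438260893021200800502106997254591116230645419732819546252820288211255296) := cov2167.low le_rfl (GC.wds_zero _) GT3_c1i.gen_le fx2160
theorem GT3_lb1 : 1024 ≤ Nat.card (C.gen R 438260893021200800502106997254591116230645419732819546252820288211255296) := low_step GT3_lo1 GT3_lb2 (by decide +kernel)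
theorem GT3_lo0 : 15 * Nat.card (C.gen R 438260893021200800502106997254591116230645419732819546252820288211255296) ≤ Nat.card (C.gen R 3019514026720871657002705689746198635447360175324544117883604347912192) := cov2157.low le_rfl (GC.wds_zero _) GT3_c0i.gen_le fx2150
theorem GT3_lb0 : 15360 ≤ Nat.card (C.gen R 3019514026720871657002705689746198635447360175324544117883604347912192) := low_step GT3_lo0 GT3_lb1 (by decide +kernel)
theorem G_T3c : ∀ τ ∈ (C.gen R 3019514026720871657002705689746198635447360175324544117883604347912192), C.el (R 174) * τ * (C.el (R 174))⁻¹ ∈ (C.gen R 67108862) := H_s1_1742.conjA (G_I.get (i := 174) (by decide +kernel)).top GT3_in2141.top chk2179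
theorem cov2208 : Cov (C.gen R 3019514026720871657002705689746198635447360175324544117883604347912192) (C.wds R (List.map Prod.fst (l2180))) pt1744 15180 := Act.cov_of_seen (Act.pieces_sound GT3_s0_2147 H_s1_1742.top pt1744r chk2206) chk2207
theorem G_T3d : Dec (C.gen R 67108862) (C.gen R 3019514026720871657002705689746198635447360175324544117883604347912192) (C.wds R (List.map Prod.fst (l2180))) (C.gen R 1149371655649416643768760270362731887714054341637701632) := cov2208.dec GT3_in2141.gen_le (GC.wds_sub H_s1_1742 chk2209) GK_in1753.gen_le fx1859 (up_low H_ub GK_lb0 (by decide +kernel))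
theorem G_T3p : ∀ x ∈ DC1 (C.gen R 67108862) (C.el (R 174)), x * C.el (R 27) ∈ DCs (C.gen R 67108862) (C.els R 371151263803457457883662170637965505407663381288058880) := GC.dc_piece' G_T3d G_T3c G_Kc (H_s1_1742.dcRel G_I.top (G_I.get (i := 174) (by decide +kernel)).top (G_m1.get (i := 27) (by decide +kernel)).top chk2181)
theorem G_T3u : Nat.card (C.gen R 67108862) ≤ 32643072 * Nat.card (C.gen R 3019514026720871657002705689746198635447360175324544117883604347912192) := up_low H_ub GT3_lb0 (by decide +kernel)
theorem G_T3n : (DC1 (C.gen R 67108862) (C.el (R 174))).ncard ≤ Nat.card (C.gen R 67108862) * 32643072 := ncard_DC1 GT3_in2141.gen_le G_T3c G_T3u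
theorem GT4_in2245 : C.Mem R (C.gen R 67108862) 1325135298583788247187473125557188886870612922656714218591204650969464832 := H_s1_1742.slp' chk2244
theorem GT4_m0 : C.Mem R (C.gen R 1325135298583788247187473125557188886870612922656714218591204650969464832) 1325135298583788247187473125557188886870612922656714218591204650969464832 := GC.Mem.gen GT4_in2245.top
theorem pt2246e : ∃ x, A0.Rep pt2246c x := act2_rep (n := 112) (d := 7) (by decide) (by decide) (c := 0x95e) (by decide +kernel)
noncomputable def pt2246 := Classical.choose pt2246e
theorem pt2246r : A0.Rep pt2246c pt2246 := Classical.choose_spec pt2246e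
theorem pt2247e : ∃ x, A0.Rep pt2247c x := act2_rep (n := 112) (d := 7) (by decide) (by decide) (c := 0x90b) (by decide +kernel)
noncomputable def pt2247 := Classical.choose pt2247e
theorem pt2247r : A0.Rep pt2247c pt2247 := Classical.choose_spec pt2247e
theorem pt2248e : ∃ x, A0.Rep pt2248c x := act2_rep (n := 112) (d := 7) (by decide) (by decide) (c := 0x334) (by decide +kernel)
noncomputable def pt2248 := Classical.choose pt2248e
theorem pt2248r : A0.Rep pt2248c pt2248 := Classical.choose_spec pt2248e
theorem pt2249e : ∃ x, A0.Rep pt2249c x := act2_rep (n := 112) (d := 7) (by decide) (by decide) (c := 0xa10) (by decide +kernel)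
noncomputable def pt2249 := Classical.choose pt2249e
theorem pt2249r : A0.Rep pt2249c pt2249 := Classical.choose_spec pt2249e
theorem pt2250e : ∃ x, A0.Rep pt2250c x := act2_rep (n := 112) (d := 7) (by decide) (by decide) (c := 0x4c5) (by decide +kernel)
noncomputable def pt2250 := Classical.choose pt2250e
theorem pt2250r : A0.Rep pt2250c pt2250 := Classical.choose_spec pt2250e
theorem pt2251e : ∃ x, A0.Rep pt2251c x := act2_rep (n := 112) (d := 7) (by decide) (by decide) (c := 0xa3) (by decide +kernel)
noncomputable def pt2251 := Classical.choose pt2251e
theorem pt2251r : A0.Rep pt2251c pt2251 := Classical.choose_spec pt2251e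
theorem pt2252e : ∃ x, A0.Rep pt2252c x := act2_rep (n := 112) (d := 7) (by decide) (by decide) (c := 0xd4) (by decide +kernel)
noncomputable def pt2252 := Classical.choose pt2252e
theorem pt2252r : A0.Rep pt2252c pt2252 := Classical.choose_spec pt2252e
theorem pt2253e : ∃ x, A0.Rep pt2253c x := act2_rep (n := 112) (d := 7) (by decide) (by decide) (c := 0xc25) (by decide +kernel)
noncomputable def pt2253 := Classical.choose pt2253e
theorem pt2253r : A0.Rep pt2253c pt2253 := Classical.choose_spec pt2253e
theorem GT4_s0_2256 : C.Mem R (C.gen R 1325135298583788247187473125557188886870612922656714218591204650969464832) 14473569442898329831863977301710802752029791212230851600192667599438818050048 := GT4_m0.slp' chk2255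
theorem GT4_c0i : C.Mem R (C.gen R 1325135298583788247187473125557188886870612922656714218591204650969464832) 14472244307599746043616789828585245563142920599308194885974076394787848585216 := GT4_s0_2256.sub chk2257
theorem GT4_c0m : C.Mem R (C.gen R 14472244307599746043616789828585245563142920599308194885974076394787848585216) 14472244307599746043616789828585245563142920599308194885974076394787848585216 := GT4_c0i.gen
theorem fx2259 : C.gen R 14472244307599746043616789828585245563142920599308194885974076394787848585216 ≤ stabilizer _ pt2246 := Act.fix_sound GT4_c0i.top pt2246r chk2258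
theorem cov2266 : Cov (C.gen R 1325135298583788247187473125557188886870612922656714218591204650969464832) (C.wds R [0]) pt2246 15 := Act.cov_of_seen (Act.pieces_sound GT4_s0_2256 GT4_s0_2256.top pt2246r chk2264) chk2265
theorem GT4_c1i : C.Mem R (C.gen R 14472244307599746043616789828585245563142920599308194885974076394787848585216) 14336197083611810450238875921028040837424204339248772226198712717288316862464 := GT4_c0m.sub chk2267
theorem GT4_c1m : C.Mem R (C.gen R 14336197083611810450238875921028040837424204339248772226198712717288316862464) 14336197083611810450238875921028040837424204339248772226198712717288316862464 := GT4_c1i.gen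
theorem fx2269 : C.gen R 14336197083611810450238875921028040837424204339248772226198712717288316862464 ≤ stabilizer _ pt2247 := Act.fix_sound GT4_c1i.top pt2247r chk2268
theorem cov2276 : Cov (C.gen R 14472244307599746043616789828585245563142920599308194885974076394787848585216) (C.wds R [0]) pt2247 512 := Act.cov_of_seen (Act.pieces_sound GT4_c0m GT4_c0m.top pt2247r chk2274) chk2275
theorem GT4_c2i : C.Mem R (C.gen R 14336197083611810450238875921028040837424204339248772226198712717288316862464) 6162762561947004541586541682591299783206263832302158925928162430108657778688 := GT4_c1m.sub chk2277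
theorem GT4_c2m : C.Mem R (C.gen R 6162762561947004541586541682591299783206263832302158925928162430108657778688) 6162762561947004541586541682591299783206263832302158925928162430108657778688 := GT4_c2i.gen
theorem fx2279 : C.gen R 6162762561947004541586541682591299783206263832302158925928162430108657778688 ≤ stabilizer _ pt2248 := Act.fix_sound GT4_c2i.top pt2248r chk2278
theorem cov2286 : Cov (C.gen R 14336197083611810450238875921028040837424204339248772226198712717288316862464) (C.wds R [0]) pt2248 72 := Act.cov_of_seen (Act.pieces_sound GT4_c1m GT4_c1m.top pt2248r chk2284) chk2285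
theorem GT4_c3i : C.Mem R (C.gen R 6162762561947004541586541682591299783206263832302158925928162430108657778688) 6106223455874096243039876162567526390699784347602139119268271031667293945856 := GT4_c2m.sub chk2287
theorem GT4_c3m : C.Mem R (C.gen R 6106223455874096243039876162567526390699784347602139119268271031667293945856) 6106223455874096243039876162567526390699784347602139119268271031667293945856 := GT4_c3i.gen
theorem fx2289 : C.gen R 6106223455874096243039876162567526390699784347602139119268271031667293945856 ≤ stabilizer _ pt2249 := Act.fix_sound GT4_c3i.top pt2249r chk2288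
theorem cov2296 : Cov (C.gen R 6162762561947004541586541682591299783206263832302158925928162430108657778688) (C.wds R [0]) pt2249 2 := Act.cov_of_seen (Act.pieces_sound GT4_c2m GT4_c2m.top pt2249r chk2294) chk2295
theorem GT4_c4i : C.Mem R (C.gen R 6106223455874096243039876162567526390699784347602139119268271031667293945856) 5880067031582463048853214082472432820673866408802059892628705437901838614528 := GT4_c3m.sub chk2297
theorem GT4_c4m : C.Mem R (C.gen R 5880067031582463048853214082472432820673866408802059892628705437901838614528) 5880067031582463048853214082472432820673866408802059892628705437901838614528 := GT4_c4i.gen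
theorem fx2299 : C.gen R 5880067031582463048853214082472432820673866408802059892628705437901838614528 ≤ stabilizer _ pt2250 := Act.fix_sound GT4_c4i.top pt2250r chk2298
theorem cov2306 : Cov (C.gen R 6106223455874096243039876162567526390699784347602139119268271031667293945856) (C.wds R [0]) pt2250 2 := Act.cov_of_seen (Act.pieces_sound GT4_c3m GT4_c3m.top pt2250r chk2304) chk2305
theorem GT4_c5i : C.Mem R (C.gen R 5880067031582463048853214082472432820673866408802059892628705437901838614528) 5427754182999196660479889922282245680622030531201901439349574250370927951872 := GT4_c4m.sub chk2307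
theorem GT4_c5m : C.Mem R (C.gen R 5427754182999196660479889922282245680622030531201901439349574250370927951872) 5427754182999196660479889922282245680622030531201901439349574250370927951872 := GT4_c5i.gen
theorem fx2309 : C.gen R 5427754182999196660479889922282245680622030531201901439349574250370927951872 ≤ stabilizer _ pt2251 := Act.fix_sound GT4_c5i.top pt2251r chk2308
theorem cov2316 : Cov (C.gen R 5880067031582463048853214082472432820673866408802059892628705437901838614528) (C.wds R [0]) pt2251 2 := Act.cov_of_seen (Act.pieces_sound GT4_c4m GT4_c4m.top pt2251r chk2314) chk2315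
theorem GT4_c6i : C.Mem R (C.gen R 5427754182999196660479889922282245680622030531201901439349574250370927951872) 3618502788666131106986593281521497120414687020801267626233049500247285301248 := GT4_c5m.sub chk2317
theorem GT4_c6m : C.Mem R (C.gen R 3618502788666131106986593281521497120414687020801267626233049500247285301248) 3618502788666131106986593281521497120414687020801267626233049500247285301248 := GT4_c6i.gen
theorem fx2319 : C.gen R 3618502788666131106986593281521497120414687020801267626233049500247285301248 ≤ stabilizer _ pt2252 := Act.fix_sound GT4_c6i.top pt2252r chk2318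
theorem cov2326 : Cov (C.gen R 5427754182999196660479889922282245680622030531201901439349574250370927951872) (C.wds R [0]) pt2252 2 := Act.cov_of_seen (Act.pieces_sound GT4_c5m GT4_c5m.top pt2252r chk2324) chk2325
theorem GT4_c7i : C.Mem R (C.gen R 3618502788666131106986593281521497120414687020801267626233049500247285301248) 0 := GT4_c6m.sub chk2327
theorem GT4_c7m : C.Mem R (C.gen R 0) 0 := GT4_c7i.gen
theorem fx2329 : C.gen R 0 ≤ stabilizer _ pt2253 := Act.fix_sound GT4_c7i.top pt2253r chk2328
theorem cov2336 : Cov (C.gen R 3618502788666131106986593281521497120414687020801267626233049500247285301248) (C.wds R [0]) pt2253 2 := Act.cov_of_seen (Act.pieces_sound GT4_c6m GT4_c6m.top pt2253r chk2334) chk2335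
theorem GT4_lb8 : 1 ≤ Nat.card (C.gen R 0) := Nat.card_pos
theorem GT4_lo7 : 2 * Nat.card (C.gen R 0) ≤ Nat.card (C.gen R 3618502788666131106986593281521497120414687020801267626233049500247285301248) := cov2336.low le_rfl (GC.wds_zero _) GT4_c7i.gen_le fx2329
theorem GT4_lb7 : 2 ≤ Nat.card (C.gen R 3618502788666131106986593281521497120414687020801267626233049500247285301248) := low_step GT4_lo7 GT4_lb8 (by decide +kernel)
theorem GT4_lo6 : 2 * Nat.card (C.gen R 3618502788666131106986593281521497120414687020801267626233049500247285301248) ≤ Nat.card (C.gen R 5427754182999196660479889922282245680622030531201901439349574250370927951872) := cov2326.low le_rfl (GC.wds_zero _) GT4_c6i.gen_le fx2319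
theorem GT4_lb6 : 4 ≤ Nat.card (C.gen R 5427754182999196660479889922282245680622030531201901439349574250370927951872) := low_step GT4_lo6 GT4_lb7 (by decide +kernel)
theorem GT4_lo5 : 2 * Nat.card (C.gen R 5427754182999196660479889922282245680622030531201901439349574250370927951872) ≤ Nat.card (C.gen R 5880067031582463048853214082472432820673866408802059892628705437901838614528) := cov2316.low le_rfl (GC.wds_zero _) GT4_c5i.gen_le fx2309
theorem GT4_lb5 : 8 ≤ Nat.card (C.gen R 5880067031582463048853214082472432820673866408802059892628705437901838614528) := low_step GT4_lo5 GT4_lb6 (by decide +kernel)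
theorem GT4_lo4 : 2 * Nat.card (C.gen R 5880067031582463048853214082472432820673866408802059892628705437901838614528) ≤ Nat.card (C.gen R 6106223455874096243039876162567526390699784347602139119268271031667293945856) := cov2306.low le_rfl (GC.wds_zero _) GT4_c4i.gen_le fx2299
theorem GT4_lb4 : 16 ≤ Nat.card (C.gen R 6106223455874096243039876162567526390699784347602139119268271031667293945856) := low_step GT4_lo4 GT4_lb5 (by decide +kernel)
theorem GT4_lo3 : 2 * Nat.card (C.gen R 6106223455874096243039876162567526390699784347602139119268271031667293945856) ≤ Nat.card (C.gen R 6162762561947004541586541682591299783206263832302158925928162430108657778688) := cov2296.low le_rfl (GC.wds_zero _) GT4_c3i.gen_le fx2289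
theorem GT4_lb3 : 32 ≤ Nat.card (C.gen R 6162762561947004541586541682591299783206263832302158925928162430108657778688) := low_step GT4_lo3 GT4_lb4 (by decide +kernel)
theorem GT4_lo2 : 72 * Nat.card (C.gen R 6162762561947004541586541682591299783206263832302158925928162430108657778688) ≤ Nat.card (C.gen R 14336197083611810450238875921028040837424204339248772226198712717288316862464) := cov2286.low le_rfl (GC.wds_zero _) GT4_c2i.gen_le fx2279
theorem GT4_lb2 : 2304 ≤ Nat.card (C.gen R 14336197083611810450238875921028040837424204339248772226198712717288316862464) := low_step GT4_lo2 GT4_lb3 (by decide +kernel)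
theorem GT4_lo1 : 512 * Nat.card (C.gen R 14336197083611810450238875921028040837424204339248772226198712717288316862464) ≤ Nat.card (C.gen R 14472244307599746043616789828585245563142920599308194885974076394787848585216) := cov2276.low le_rfl (GC.wds_zero _) GT4_c1i.gen_le fx2269
theorem GT4_lb1 : 1179648 ≤ Nat.card (C.gen R 14472244307599746043616789828585245563142920599308194885974076394787848585216) := low_step GT4_lo1 GT4_lb2 (by decide +kernel)
theorem GT4_lo0 : 15 * Nat.card (C.gen R 14472244307599746043616789828585245563142920599308194885974076394787848585216) ≤ Nat.card (C.gen R 1325135298583788247187473125557188886870612922656714218591204650969464832) := cov2266.low le_rfl (GC.wds_zero _) GT4_c0i.gen_le fx2259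
theorem GT4_lb0 : 17694720 ≤ Nat.card (C.gen R 1325135298583788247187473125557188886870612922656714218591204650969464832) := low_step GT4_lo0 GT4_lb1 (by decide +kernel)
theorem G_T4c : ∀ τ ∈ (C.gen R 1325135298583788247187473125557188886870612922656714218591204650969464832), C.el (R 175) * τ * (C.el (R 175))⁻¹ ∈ (C.gen R 67108862) := H_s1_1742.conjA (G_I.get (i := 175) (by decide +kernel)).top GT4_in2245.top chk2338
theorem cov2367 : Cov (C.gen R 1325135298583788247187473125557188886870612922656714218591204650969464832) (C.wds R (List.map Prod.fst (l2339))) pt1744 15180 := Act.cov_of_seen (Act.pieces_sound GT4_s0_2256 H_s1_1742.top pt1744r chk2365) chk2366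
theorem G_T4d : Dec (C.gen R 67108862) (C.gen R 1325135298583788247187473125557188886870612922656714218591204650969464832) (C.wds R (List.map Prod.fst (l2339))) (C.gen R 1149371655649416643768760270362731887714054341637701632) := cov2367.dec GT4_in2245.gen_le (GC.wds_sub H_s1_1742 chk2368) GK_in1753.gen_le fx1859 (up_low H_ub GK_lb0 (by decide +kernel))
theorem G_T4p : ∀ x ∈ DC1 (C.gen R 67108862) (C.el (R 175)), x * C.el (R 27) ∈ DCs (C.gen R 67108862) (C.els R 371151263803457457883662170637965505407663381288058880) := GC.dc_piece' G_T4d G_T4c G_Kc (H_s1_1742.dcRel G_I.top (G_I.get (i := 175) (by decide +kernel)).top (G_m1.get (i := 27) (by decide +kernel)).top chk2340)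
theorem G_T4u : Nat.card (C.gen R 67108862) ≤ 28336 * Nat.card (C.gen R 1325135298583788247187473125557188886870612922656714218591204650969464832) := up_low H_ub GT4_lb0 (by decide +kernel)
theorem G_T4n : (DC1 (C.gen R 67108862) (C.el (R 175))).ncard ≤ Nat.card (C.gen R 67108862) * 28336 := ncard_DC1 GT4_in2245.gen_le G_T4c G_T4u
theorem GT5_in2393 : C.Mem R (C.gen R 67108862) 101318078082651670995624611882601919371611236582435493534525386006923988434944 := H_s1_1742.slp' chk2392
theorem GT5_m0 : C.Mem R (C.gen R 101318078082651670995624611882601919371611236582435493534525386006923988434944) 101318078082651670995624611882601919371611236582435493534525386006923988434944 := GC.Mem.gen GT5_in2393.top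
theorem pt2394e : ∃ x, A0.Rep pt2394c x := act2_rep (n := 112) (d := 7) (by decide) (by decide) (c := 0xd4) (by decide +kernel)
noncomputable def pt2394 := Classical.choose pt2394e
theorem pt2394r : A0.Rep pt2394c pt2394 := Classical.choose_spec pt2394e
theorem pt2395e : ∃ x, A0.Rep pt2395c x := act2_rep (n := 112) (d := 7) (by decide) (by decide) (c := 0x334) (by decide +kernel)
noncomputable def pt2395 := Classical.choose pt2395e
theorem pt2395r : A0.Rep pt2395c pt2395 := Classical.choose_spec pt2395e
theorem pt2396e : ∃ x, A0.Rep pt2396c x := act2_rep (n := 112) (d := 7) (by decide) (by decide) (c := 0xeb) (by decide +kernel)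
noncomputable def pt2396 := Classical.choose pt2396e
theorem pt2396r : A0.Rep pt2396c pt2396 := Classical.choose_spec pt2396e
theorem GT5_s0_2399 : C.Mem R (C.gen R 101318078082651670995624611882601919371611236582435493534525386006923988434944) 3690872844439453729126325147151927062822980761217292978757710490252231007272960 := GT5_m0.slp' chk2398
theorem GT5_c0i : C.Mem R (C.gen R 101318078082651670995624611882601919371611236582435493534525386006923988434944) 3589554766356802058130700535269325143451369524634857485223185104245307018838016 := GT5_s0_2399.sub chk2400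
theorem GT5_c0m : C.Mem R (C.gen R 3589554766356802058130700535269325143451369524634857485223185104245307018838016) 3589554766356802058130700535269325143451369524634857485223185104245307018838016 := GT5_c0i.gen
theorem fx2402 : C.gen R 3589554766356802058130700535269325143451369524634857485223185104245307018838016 ≤ stabilizer _ pt2394 := Act.fix_sound GT5_c0i.top pt2394r chk2401
theorem cov2409 : Cov (C.gen R 101318078082651670995624611882601919371611236582435493534525386006923988434944) (C.wds R [0]) pt2394 72 := Act.cov_of_seen (Act.pieces_sound GT5_s0_2399 GT5_s0_2399.top pt2394r chk2407) chk2408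
theorem GT5_c1i : C.Mem R (C.gen R 3589554766356802058130700535269325143451369524634857485223185104245307018838016) 1852673427797059126777135760139006525652319754650249024631321344126610074238976 := GT5_c0m.sub chk2410
theorem GT5_c1m : C.Mem R (C.gen R 1852673427797059126777135760139006525652319754650249024631321344126610074238976) 1852673427797059126777135760139006525652319754650249024631321344126610074238976 := GT5_c1i.gen
theorem fx2412 : C.gen R 1852673427797059126777135760139006525652319754650249024631321344126610074238976 ≤ stabilizer _ pt2395 := Act.fix_sound GT5_c1i.top pt2395r chk2411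
theorem cov2419 : Cov (C.gen R 3589554766356802058130700535269325143451369524634857485223185104245307018838016) (C.wds R [0]) pt2395 64 := Act.cov_of_seen (Act.pieces_sound GT5_c0m GT5_c0m.top pt2395r chk2417) chk2418
theorem GT5_c2i : C.Mem R (C.gen R 1852673427797059126777135760139006525652319754650249024631321344126610074238976) 0 := GT5_c1m.sub chk2420
theorem GT5_c2m : C.Mem R (C.gen R 0) 0 := GT5_c2i.gen
theorem fx2422 : C.gen R 0 ≤ stabilizer _ pt2396 := Act.fix_sound GT5_c2i.top pt2396r chk2421
theorem cov2429 : Cov (C.gen R 1852673427797059126777135760139006525652319754650249024631321344126610074238976) (C.wds R [0]) pt2396 2 := Act.cov_of_seen (Act.pieces_sound GT5_c1m GT5_c1m.top pt2396r chk2427) chk2428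
theorem GT5_lb3 : 1 ≤ Nat.card (C.gen R 0) := Nat.card_pos
theorem GT5_lo2 : 2 * Nat.card (C.gen R 0) ≤ Nat.card (C.gen R 1852673427797059126777135760139006525652319754650249024631321344126610074238976) := cov2429.low le_rfl (GC.wds_zero _) GT5_c2i.gen_le fx2422
theorem GT5_lb2 : 2 ≤ Nat.card (C.gen R 1852673427797059126777135760139006525652319754650249024631321344126610074238976) := low_step GT5_lo2 GT5_lb3 (by decide +kernel)
theorem GT5_lo1 : 64 * Nat.card (C.gen R 1852673427797059126777135760139006525652319754650249024631321344126610074238976) ≤ Nat.card (C.gen R 3589554766356802058130700535269325143451369524634857485223185104245307018838016) := cov2419.low le_rfl (GC.wds_zero _) GT5_c1i.gen_le fx2412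
theorem GT5_lb1 : 128 ≤ Nat.card (C.gen R 3589554766356802058130700535269325143451369524634857485223185104245307018838016) := low_step GT5_lo1 GT5_lb2 (by decide +kernel)
theorem GT5_lo0 : 72 * Nat.card (C.gen R 3589554766356802058130700535269325143451369524634857485223185104245307018838016) ≤ Nat.card (C.gen R 101318078082651670995624611882601919371611236582435493534525386006923988434944) := cov2409.low le_rfl (GC.wds_zero _) GT5_c0i.gen_le fx2402
theorem GT5_lb0 : 9216 ≤ Nat.card (C.gen R 101318078082651670995624611882601919371611236582435493534525386006923988434944) := low_step GT5_lo0 GT5_lb1 (by decide +kernel)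
theorem G_T5c : ∀ τ ∈ (C.gen R 101318078082651670995624611882601919371611236582435493534525386006923988434944), C.el (R 176) * τ * (C.el (R 176))⁻¹ ∈ (C.gen R 67108862) := H_s1_1742.conjA (G_I.get (i := 176) (by decide +kernel)).top GT5_in2393.top chk2431
theorem cov2460 : Cov (C.gen R 101318078082651670995624611882601919371611236582435493534525386006923988434944) (C.wds R (List.map Prod.fst (l2432))) pt1744 15180 := Act.cov_of_seen (Act.pieces_sound GT5_s0_2399 H_s1_1742.top pt1744r chk2458) chk2459
theorem G_T5d : Dec (C.gen R 67108862) (C.gen R 101318078082651670995624611882601919371611236582435493534525386006923988434944) (C.wds R (List.map Prod.fst (l2432))) (C.gen R 1149371655649416643768760270362731887714054341637701632) := cov2460.dec GT5_in2393.gen_le (GC.wds_sub H_s1_1742 chk2461) GK_in1753.gen_le fx1859 (up_low H_ub GK_lb0 (by decide +kernel))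
theorem G_T5p : ∀ x ∈ DC1 (C.gen R 67108862) (C.el (R 176)), x * C.el (R 27) ∈ DCs (C.gen R 67108862) (C.els R 371151263803457457883662170637965505407663381288058880) := GC.dc_piece' G_T5d G_T5c G_Kc (H_s1_1742.dcRel G_I.top (G_I.get (i := 176) (by decide +kernel)).top (G_m1.get (i := 27) (by decide +kernel)).top chk2433)
theorem G_T5u : Nat.card (C.gen R 67108862) ≤ 54405120 * Nat.card (C.gen R 101318078082651670995624611882601919371611236582435493534525386006923988434944) := up_low H_ub GT5_lb0 (by decide +kernel)
theorem G_T5n : (DC1 (C.gen R 67108862) (C.el (R 176))).ncard ≤ Nat.card (C.gen R 67108862) * 54405120 := ncard_DC1 GT5_in2393.gen_le G_T5c G_T5u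
theorem GT6_in2464 : C.Mem R (C.gen R 67108862) 11116040566782354760662814560834039153913918527901494147787928064759660445433856 := H_s1_1742.slp' chk2463
theorem GT6_m0 : C.Mem R (C.gen R 11116040566782354760662814560834039153913918527901494147787928064759660445433856) 11116040566782354760662814560834039153913918527901494147787928064759660445433856 := GC.Mem.gen GT6_in2464.top
theorem pt2465e : ∃ x, A0.Rep pt2465c x := act2_rep (n := 112) (d := 7) (by decide) (by decide) (c := 0x334) (by decide +kernel)
noncomputable def pt2465 := Classical.choose pt2465e
theorem pt2465r : A0.Rep pt2465c pt2465 := Classical.choose_spec pt2465e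
theorem pt2466e : ∃ x, A0.Rep pt2466c x := act2_rep (n := 112) (d := 7) (by decide) (by decide) (c := 0xa10) (by decide +kernel)
noncomputable def pt2466 := Classical.choose pt2466e
theorem pt2466r : A0.Rep pt2466c pt2466 := Classical.choose_spec pt2466e
theorem GT6_s0_2469 : C.Mem R (C.gen R 11116040566782354760662814560834039153913918527901494147787928064759660445433856) 944863448176500154656339237670893328082683074871627002561973885504571137861877760 := GT6_m0.slp' chk2468
theorem GT6_c0i : C.Mem R (C.gen R 11116040566782354760662814560834039153913918527901494147787928064759660445433856) 829997695653082488796156820542274923492239250083311563034831962168721313259061248 := GT6_s0_2469.sub chk2470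
theorem GT6_c0m : C.Mem R (C.gen R 829997695653082488796156820542274923492239250083311563034831962168721313259061248) 829997695653082488796156820542274923492239250083311563034831962168721313259061248 := GT6_c0i.gen
theorem fx2472 : C.gen R 829997695653082488796156820542274923492239250083311563034831962168721313259061248 ≤ stabilizer _ pt2465 := Act.fix_sound GT6_c0i.top pt2465r chk2471
theorem cov2479 : Cov (C.gen R 11116040566782354760662814560834039153913918527901494147787928064759660445433856) (C.wds R [0]) pt2465 759 := Act.cov_of_seen (Act.pieces_sound GT6_s0_2469 GT6_s0_2469.top pt2465r chk2477) chk2478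
theorem GT6_c1i : C.Mem R (C.gen R 829997695653082488796156820542274923492239250083311563034831962168721313259061248) 0 := GT6_c0m.sub chk2480
theorem GT6_c1m : C.Mem R (C.gen R 0) 0 := GT6_c1i.gen
theorem fx2482 : C.gen R 0 ≤ stabilizer _ pt2466 := Act.fix_sound GT6_c1i.top pt2466r chk2481
theorem cov2489 : Cov (C.gen R 829997695653082488796156820542274923492239250083311563034831962168721313259061248) (C.wds R [0]) pt2466 8 := Act.cov_of_seen (Act.pieces_sound GT6_c0m GT6_c0m.top pt2466r chk2487) chk2488
theorem GT6_lb2 : 1 ≤ Nat.card (C.gen R 0) := Nat.card_pos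
theorem GT6_lo1 : 8 * Nat.card (C.gen R 0) ≤ Nat.card (C.gen R 829997695653082488796156820542274923492239250083311563034831962168721313259061248) := cov2489.low le_rfl (GC.wds_zero _) GT6_c1i.gen_le fx2482
theorem GT6_lb1 : 8 ≤ Nat.card (C.gen R 829997695653082488796156820542274923492239250083311563034831962168721313259061248) := low_step GT6_lo1 GT6_lb2 (by decide +kernel)
theorem GT6_lo0 : 759 * Nat.card (C.gen R 829997695653082488796156820542274923492239250083311563034831962168721313259061248) ≤ Nat.card (C.gen R 11116040566782354760662814560834039153913918527901494147787928064759660445433856) := cov2479.low le_rfl (GC.wds_zero _) GT6_c0i.gen_le fx2472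
theorem GT6_lb0 : 6072 ≤ Nat.card (C.gen R 11116040566782354760662814560834039153913918527901494147787928064759660445433856) := low_step GT6_lo0 GT6_lb1 (by decide +kernel)
theorem G_T6c : ∀ τ ∈ (C.gen R 11116040566782354760662814560834039153913918527901494147787928064759660445433856), C.el (R 177) * τ * (C.el (R 177))⁻¹ ∈ (C.gen R 67108862) := H_s1_1742.conjA (G_I.get (i := 177) (by decide +kernel)).top GT6_in2464.top chk2491
theorem cov2520 : Cov (C.gen R 11116040566782354760662814560834039153913918527901494147787928064759660445433856) (C.wds R (List.map Prod.fst (l2492))) pt1744 15180 := Act.cov_of_seen (Act.pieces_sound GT6_s0_2469 H_s1_1742.top pt1744r chk2518) chk2519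
theorem G_T6d : Dec (C.gen R 67108862) (C.gen R 11116040566782354760662814560834039153913918527901494147787928064759660445433856) (C.wds R (List.map Prod.fst (l2492))) (C.gen R 1149371655649416643768760270362731887714054341637701632) := cov2520.dec GT6_in2464.gen_le (GC.wds_sub H_s1_1742 chk2521) GK_in1753.gen_le fx1859 (up_low H_ub GK_lb0 (by decide +kernel))
theorem G_T6p : ∀ x ∈ DC1 (C.gen R 67108862) (C.el (R 177)), x * C.el (R 27) ∈ DCs (C.gen R 67108862) (C.els R 371151263803457457883662170637965505407663381288058880) := GC.dc_piece' G_T6d G_T6c G_Kc (H_s1_1742.dcRel G_I.top (G_I.get (i := 177) (by decide +kernel)).top (G_m1.get (i := 27) (by decide +kernel)).top chk2493)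
theorem G_T6u : Nat.card (C.gen R 67108862) ≤ 82575360 * Nat.card (C.gen R 11116040566782354760662814560834039153913918527901494147787928064759660445433856) := up_low H_ub GT6_lb0 (by decide +kernel)
theorem G_T6n : (DC1 (C.gen R 67108862) (C.el (R 177))).ncard ≤ Nat.card (C.gen R 67108862) * 82575360 := ncard_DC1 GT6_in2464.gen_le G_T6c G_T6u
theorem G_dc : ∀ x ∈ (C.gen R 201326590), x ∈ DCs (C.gen R 67108862) (C.els R 371151263803457457883662170637965505407663381288058880) := GC.dc_gen (MU := 134217728) H_s1_1742 (by decide +kernel) (GC.forall_els (L := [27]) (forall_cons ⟨H_s1_1742.inDC' G_I.top (G_m1.get (i := 27) (by decide +kernel)).top chk2522, GC.forall_els (L := [27, 173, 174, 175, 176, 177]) (forall_cons G_T1p (forall_cons G_T2p (forall_cons G_T3p (forall_cons G_T4p (forall_cons G_T5p (forall_cons G_T6p forall_nil)))))) (by decide +kernel)⟩ forall_nil) (by decide +kernel))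
theorem G_cs : ∀ p ∈ ([(27, 15180), (173, 3400320), (174, 32643072), (175, 28336), (176, 54405120), (177, 82575360)] : List (ℕ × ℕ)), (DC1 (C.gen R 67108862) (C.el (R p.1))).ncard ≤ Nat.card (C.gen R 67108862) * p.2 := (forall_cons G_T1n (forall_cons G_T2n (forall_cons G_T3n (forall_cons G_T4n (forall_cons G_T5n (forall_cons G_T6n forall_nil))))))
theorem G_ix : Nat.card (C.gen R 201326590) ≤ 173067389 * Nat.card (C.gen R 67108862) := GC.card_dc [(27, 15180), (173, 3400320), (174, 32643072), (175, 28336), (176, 54405120), (177, 82575360)] G_dc G_cs (by decide +kernel)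
theorem G_ub : Nat.card (C.gen R 201326590) ≤ 86775571046077562880 := up_mul G_ix H_ub (by decide +kernel)
theorem G_max : ∀ L, (C.gen R 67108862) ≤ L → L ≤ (C.gen R 201326590) → L = (C.gen R 67108862) ∨ L = (C.gen R 201326590) := maximal_of_DCs G_dc (H_s1_1742.maxChk G_I.top (band_intro chk2524 chk2525) chk2526)
theorem pt2527e : ∃ x, A0.Rep pt2527c x := act2_rep (n := 112) (d := 7) (by decide) (by decide) (c := 0x1) (by decide +kernel)
noncomputable def pt2527 := Classical.choose pt2527e
theorem pt2527r : A0.Rep pt2527c pt2527 := Classical.choose_spec pt2527e
noncomputable def pt2528 := C.wd R 27 • pt2527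
theorem pt2528r : A0.Rep pt2528c pt2528 := Act.appW_ok G_s1_1749 chk2529 pt2527r
theorem pt2528g : C.wd R 27 ∈ (C.gen R 201326590) := G_s1_1749.wd_mem chk2529
noncomputable def pt2530 := C.wd R 31318221108524788905 • pt2527
theorem pt2530r : A0.Rep pt2530c pt2530 := Act.appW_ok G_s1_1749 chk2531 pt2527r
theorem pt2530g : C.wd R 31318221108524788905 ∈ (C.gen R 201326590) := G_s1_1749.wd_mem chk2531
noncomputable def pt2532 := C.wd R 32072159753439459583145 • pt2527
theorem pt2532r : A0.Rep pt2532c pt2532 := Act.appW_ok G_s1_1749 chk2533 pt2527r
theorem pt2532g : C.wd R 32072159753439459583145 ∈ (C.gen R 201326590) := G_s1_1749.wd_mem chk2533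
noncomputable def pt2534 := C.wd R 31322722508052014250 • pt2527
theorem pt2534r : A0.Rep pt2534c pt2534 := Act.appW_ok G_s1_1749 chk2535 pt2527r
theorem pt2534g : C.wd R 31322722508052014250 ∈ (C.gen R 201326590) := G_s1_1749.wd_mem chk2535
noncomputable def pt2536 := C.wd R 30584199225453736 • pt2527
theorem pt2536r : A0.Rep pt2536c pt2536 := Act.appW_ok G_s1_1749 chk2537 pt2527r
theorem pt2536g : C.wd R 30584199225453736 ∈ (C.gen R 201326590) := G_s1_1749.wd_mem chk2537
noncomputable def pt2538 := C.wd R 31321597707659948203 • pt2527
theorem pt2538r : A0.Rep pt2538c pt2538 := Act.appW_ok G_s1_1749 chk2539 pt2527r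
theorem pt2538g : C.wd R 31321597707659948203 ∈ (C.gen R 201326590) := G_s1_1749.wd_mem chk2539
noncomputable def pt2540 := C.wd R 31321594410194611372 • pt2527
theorem pt2540r : A0.Rep pt2540c pt2540 := Act.appW_ok G_s1_1749 chk2541 pt2527r
theorem pt2540g : C.wd R 31321594410194611372 ∈ (C.gen R 201326590) := G_s1_1749.wd_mem chk2541
noncomputable def pt2542 := C.wd R 31322721409617274025 • pt2527
theorem pt2542r : A0.Rep pt2542c pt2542 := Act.appW_ok G_s1_1749 chk2543 pt2527r
theorem pt2542g : C.wd R 31322721409617274025 ∈ (C.gen R 201326590) := G_s1_1749.wd_mem chk2543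
noncomputable def pt2544 := C.wd R 30588597270914219 • pt2527
theorem pt2544r : A0.Rep pt2544c pt2544 := Act.appW_ok G_s1_1749 chk2545 pt2527r
theorem pt2544g : C.wd R 30588597270914219 ∈ (C.gen R 201326590) := G_s1_1749.wd_mem chk2545
noncomputable def pt2546 := C.wd R 32069857288125669354664 • pt2527
theorem pt2546r : A0.Rep pt2546c pt2546 := Act.appW_ok G_s1_1749 chk2547 pt2527r
theorem pt2546g : C.wd R 32069857288125669354664 ∈ (C.gen R 201326590) := G_s1_1749.wd_mem chk2547
theorem H_s2_2550 : C.Mem R (C.gen R 67108862) 248660669636098288983418214179901240477363935269005036659075685546815943773634460385278 := H_s1_1742.slp' chk2549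
theorem H_c0i : C.Mem R (C.gen R 67108862) 248660669636098288983418214179901228878886941410959477792731377210051555681908677410816 := H_s2_2550.sub chk2551
theorem H_c0m : C.Mem R (C.gen R 248660669636098288983418214179901228878886941410959477792731377210051555681908677410816) 248660669636098288983418214179901228878886941410959477792731377210051555681908677410816 := H_c0i.gen
theorem fx2553 : C.gen R 248660669636098288983418214179901228878886941410959477792731377210051555681908677410816 ≤ stabilizer _ pt2528 := Act.fix_sound H_c0i.top pt2528r chk2552
theorem cov2580 : Cov (C.gen R 67108862) (C.wds R [0]) pt2528 15180 := Act.cov_of_seen (Act.pieces_sound H_s2_2550 H_s2_2550.top pt2528r chk2578) chk2579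
theorem H_c1i : C.Mem R (C.gen R 248660669636098288983418214179901228878886941410959477792731377210051555681908677410816) 248659721067303256889145304286392037707545807423245096865230765973523362857550667055104 := H_c0m.sub chk2581
theorem H_c1m : C.Mem R (C.gen R 248659721067303256889145304286392037707545807423245096865230765973523362857550667055104) 248659721067303256889145304286392037707545807423245096865230765973523362857550667055104 := H_c1i.gen
theorem fx2583 : C.gen R 248659721067303256889145304286392037707545807423245096865230765973523362857550667055104 ≤ stabilizer _ pt2530 := Act.fix_sound H_c1i.top pt2530r chk2582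
theorem cov2590 : Cov (C.gen R 248660669636098288983418214179901228878886941410959477792731377210051555681908677410816) (C.wds R [0]) pt2530 3 := Act.cov_of_seen (Act.pieces_sound H_c0m H_c0m.top pt2530r chk2588) chk2589
theorem H_c2i : C.Mem R (C.gen R 248659721067303256889145304286392037707545807423245096865230765973523362857550667055104) 248619881177911908929683088759006008511218179939241097910205094039339264234514232115200 := H_c1m.sub chk2591
theorem H_c2m : C.Mem R (C.gen R 248619881177911908929683088759006008511218179939241097910205094039339264234514232115200) 248619881177911908929683088759006008511218179939241097910205094039339264234514232115200 := H_c2i.gen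
theorem fx2593 : C.gen R 248619881177911908929683088759006008511218179939241097910205094039339264234514232115200 ≤ stabilizer _ pt2532 := Act.fix_sound H_c2i.top pt2532r chk2592
theorem cov2600 : Cov (C.gen R 248659721067303256889145304286392037707545807423245096865230765973523362857550667055104) (C.wds R [0]) pt2532 56 := Act.cov_of_seen (Act.pieces_sound H_c1m H_c1m.top pt2532r chk2598) chk2599
theorem H_c3i : C.Mem R (C.gen R 248619881177911908929683088759006008511218179939241097910205094039339264234514232115200) 248540201399129213010758657704233950118562924971233100000153750170971066988441362235392 := H_c2m.sub chk2601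
theorem H_c3m : C.Mem R (C.gen R 248540201399129213010758657704233950118562924971233100000153750170971066988441362235392) 248540201399129213010758657704233950118562924971233100000153750170971066988441362235392 := H_c3i.gen
theorem fx2603 : C.gen R 248540201399129213010758657704233950118562924971233100000153750170971066988441362235392 ≤ stabilizer _ pt2534 := Act.fix_sound H_c3i.top pt2534r chk2602
theorem cov2610 : Cov (C.gen R 248619881177911908929683088759006008511218179939241097910205094039339264234514232115200) (C.wds R [0]) pt2534 24 := Act.cov_of_seen (Act.pieces_sound H_c2m H_c2m.top pt2534r chk2608) chk2609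
theorem H_c4i : C.Mem R (C.gen R 248540201399129213010758657704233950118562924971233100000153750170971066988441362235392) 248175950981836888809961258596704540323567473688910823839919035344145022434965385641984 := H_c3m.sub chk2611
theorem H_c4m : C.Mem R (C.gen R 248175950981836888809961258596704540323567473688910823839919035344145022434965385641984) 248175950981836888809961258596704540323567473688910823839919035344145022434965385641984 := H_c4i.gen
theorem fx2613 : C.gen R 248175950981836888809961258596704540323567473688910823839919035344145022434965385641984 ≤ stabilizer _ pt2536 := Act.fix_sound H_c4i.top pt2536r chk2612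
theorem cov2620 : Cov (C.gen R 248540201399129213010758657704233950118562924971233100000153750170971066988441362235392) (C.wds R [0]) pt2536 16 := Act.cov_of_seen (Act.pieces_sound H_c3m H_c3m.top pt2536r chk2618) chk2619
theorem H_c5i : C.Mem R (C.gen R 248175950981836888809961258596704540323567473688910823839919035344145022434965385641984) 243804945974328998400392469306351622783622058301043509917102457422232487793253666521088 := H_c4m.sub chk2621
theorem H_c5m : C.Mem R (C.gen R 243804945974328998400392469306351622783622058301043509917102457422232487793253666521088) 243804945974328998400392469306351622783622058301043509917102457422232487793253666521088 := H_c5i.gen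
theorem fx2623 : C.gen R 243804945974328998400392469306351622783622058301043509917102457422232487793253666521088 ≤ stabilizer _ pt2538 := Act.fix_sound H_c5i.top pt2538r chk2622
theorem cov2630 : Cov (C.gen R 248175950981836888809961258596704540323567473688910823839919035344145022434965385641984) (C.wds R [0]) pt2538 4 := Act.cov_of_seen (Act.pieces_sound H_c4m H_c4m.top pt2538r chk2628) chk2629
theorem H_c6i : C.Mem R (C.gen R 243804945974328998400392469306351622783622058301043509917102457422232487793253666521088) 240890942635990404794013276446116344423658448042465300635224738807624131365445853773824 := H_c5m.sub chk2631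
theorem H_c6m : C.Mem R (C.gen R 240890942635990404794013276446116344423658448042465300635224738807624131365445853773824) 240890942635990404794013276446116344423658448042465300635224738807624131365445853773824 := H_c6i.gen
theorem fx2633 : C.gen R 240890942635990404794013276446116344423658448042465300635224738807624131365445853773824 ≤ stabilizer _ pt2540 := Act.fix_sound H_c6i.top pt2540r chk2632
theorem cov2640 : Cov (C.gen R 243804945974328998400392469306351622783622058301043509917102457422232487793253666521088) (C.wds R [0]) pt2540 4 := Act.cov_of_seen (Act.pieces_sound H_c5m H_c5m.top pt2540r chk2638) chk2639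
theorem H_c7i : C.Mem R (C.gen R 240890942635990404794013276446116344423658448042465300635224738807624131365445853773824) 139872160240252493106201257291293361278253292411754045530130493501201108534775011868672 := H_c6m.sub chk2641
theorem H_c7m : C.Mem R (C.gen R 139872160240252493106201257291293361278253292411754045530130493501201108534775011868672) 139872160240252493106201257291293361278253292411754045530130493501201108534775011868672 := H_c7i.gen
theorem fx2643 : C.gen R 139872160240252493106201257291293361278253292411754045530130493501201108534775011868672 ≤ stabilizer _ pt2542 := Act.fix_sound H_c7i.top pt2542r chk2642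
theorem cov2650 : Cov (C.gen R 240890942635990404794013276446116344423658448042465300635224738807624131365445853773824) (C.wds R [0]) pt2542 8 := Act.cov_of_seen (Act.pieces_sound H_c6m H_c6m.top pt2542r chk2648) chk2649
theorem H_c8i : C.Mem R (C.gen R 139872160240252493106201257291293361278253292411754045530130493501201108534775011868672) 124330809102446660538845562036705210025114037699336929360115994223289874253133343883264 := H_c7m.sub chk2651
theorem H_c8m : C.Mem R (C.gen R 124330809102446660538845562036705210025114037699336929360115994223289874253133343883264) 124330809102446660538845562036705210025114037699336929360115994223289874253133343883264 := H_c8i.gen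
theorem fx2653 : C.gen R 124330809102446660538845562036705210025114037699336929360115994223289874253133343883264 ≤ stabilizer _ pt2544 := Act.fix_sound H_c8i.top pt2544r chk2652
theorem cov2660 : Cov (C.gen R 139872160240252493106201257291293361278253292411754045530130493501201108534775011868672) (C.wds R [0]) pt2544 2 := Act.cov_of_seen (Act.pieces_sound H_c7m H_c7m.top pt2544r chk2658) chk2659
theorem H_c9i : C.Mem R (C.gen R 124330809102446660538845562036705210025114037699336929360115994223289874253133343883264) 0 := H_c8m.sub chk2661
theorem H_c9m : C.Mem R (C.gen R 0) 0 := H_c9i.gen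
theorem fx2663 : C.gen R 0 ≤ stabilizer _ pt2546 := Act.fix_sound H_c9i.top pt2546r chk2662
theorem cov2670 : Cov (C.gen R 124330809102446660538845562036705210025114037699336929360115994223289874253133343883264) (C.wds R [0]) pt2546 2 := Act.cov_of_seen (Act.pieces_sound H_c8m H_c8m.top pt2546r chk2668) chk2669
theorem H_lb10 : 1 ≤ Nat.card (C.gen R 0) := Nat.card_pos
theorem H_lo9 : 2 * Nat.card (C.gen R 0) ≤ Nat.card (C.gen R 124330809102446660538845562036705210025114037699336929360115994223289874253133343883264) := cov2670.low le_rfl (GC.wds_zero _) H_c9i.gen_le fx2663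
theorem H_lb9 : 2 ≤ Nat.card (C.gen R 124330809102446660538845562036705210025114037699336929360115994223289874253133343883264) := low_step H_lo9 H_lb10 (by decide +kernel)
theorem H_lo8 : 2 * Nat.card (C.gen R 124330809102446660538845562036705210025114037699336929360115994223289874253133343883264) ≤ Nat.card (C.gen R 139872160240252493106201257291293361278253292411754045530130493501201108534775011868672) := cov2660.low le_rfl (GC.wds_zero _) H_c8i.gen_le fx2653
theorem H_lb8 : 4 ≤ Nat.card (C.gen R 139872160240252493106201257291293361278253292411754045530130493501201108534775011868672) := low_step H_lo8 H_lb9 (by decide +kernel)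
theorem H_lo7 : 8 * Nat.card (C.gen R 139872160240252493106201257291293361278253292411754045530130493501201108534775011868672) ≤ Nat.card (C.gen R 240890942635990404794013276446116344423658448042465300635224738807624131365445853773824) := cov2650.low le_rfl (GC.wds_zero _) H_c7i.gen_le fx2643
theorem H_lb7 : 32 ≤ Nat.card (C.gen R 240890942635990404794013276446116344423658448042465300635224738807624131365445853773824) := low_step H_lo7 H_lb8 (by decide +kernel)
theorem H_lo6 : 4 * Nat.card (C.gen R 240890942635990404794013276446116344423658448042465300635224738807624131365445853773824) ≤ Nat.card (C.gen R 243804945974328998400392469306351622783622058301043509917102457422232487793253666521088) := cov2640.low le_rfl (GC.wds_zero _) H_c6i.gen_le fx2633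
theorem H_lb6 : 128 ≤ Nat.card (C.gen R 243804945974328998400392469306351622783622058301043509917102457422232487793253666521088) := low_step H_lo6 H_lb7 (by decide +kernel)
theorem H_lo5 : 4 * Nat.card (C.gen R 243804945974328998400392469306351622783622058301043509917102457422232487793253666521088) ≤ Nat.card (C.gen R 248175950981836888809961258596704540323567473688910823839919035344145022434965385641984) := cov2630.low le_rfl (GC.wds_zero _) H_c5i.gen_le fx2623
theorem H_lb5 : 512 ≤ Nat.card (C.gen R 248175950981836888809961258596704540323567473688910823839919035344145022434965385641984) := low_step H_lo5 H_lb6 (by decide +kernel)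
theorem H_lo4 : 16 * Nat.card (C.gen R 248175950981836888809961258596704540323567473688910823839919035344145022434965385641984) ≤ Nat.card (C.gen R 248540201399129213010758657704233950118562924971233100000153750170971066988441362235392) := cov2620.low le_rfl (GC.wds_zero _) H_c4i.gen_le fx2613
theorem H_lb4 : 8192 ≤ Nat.card (C.gen R 248540201399129213010758657704233950118562924971233100000153750170971066988441362235392) := low_step H_lo4 H_lb5 (by decide +kernel)
theorem H_lo3 : 24 * Nat.card (C.gen R 248540201399129213010758657704233950118562924971233100000153750170971066988441362235392) ≤ Nat.card (C.gen R 248619881177911908929683088759006008511218179939241097910205094039339264234514232115200) := cov2610.low le_rfl (GC.wds_zero _) H_c3i.gen_le fx2603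
theorem H_lb3 : 196608 ≤ Nat.card (C.gen R 248619881177911908929683088759006008511218179939241097910205094039339264234514232115200) := low_step H_lo3 H_lb4 (by decide +kernel)
theorem H_lo2 : 56 * Nat.card (C.gen R 248619881177911908929683088759006008511218179939241097910205094039339264234514232115200) ≤ Nat.card (C.gen R 248659721067303256889145304286392037707545807423245096865230765973523362857550667055104) := cov2600.low le_rfl (GC.wds_zero _) H_c2i.gen_le fx2593
theorem H_lb2 : 11010048 ≤ Nat.card (C.gen R 248659721067303256889145304286392037707545807423245096865230765973523362857550667055104) := low_step H_lo2 H_lb3 (by decide +kernel)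
theorem H_lo1 : 3 * Nat.card (C.gen R 248659721067303256889145304286392037707545807423245096865230765973523362857550667055104) ≤ Nat.card (C.gen R 248660669636098288983418214179901228878886941410959477792731377210051555681908677410816) := cov2590.low le_rfl (GC.wds_zero _) H_c1i.gen_le fx2583
theorem H_lb1 : 33030144 ≤ Nat.card (C.gen R 248660669636098288983418214179901228878886941410959477792731377210051555681908677410816) := low_step H_lo1 H_lb2 (by decide +kernel)
theorem H_lo0 : 15180 * Nat.card (C.gen R 248660669636098288983418214179901228878886941410959477792731377210051555681908677410816) ≤ Nat.card (C.gen R 67108862) := cov2580.low le_rfl (GC.wds_zero _) H_c0i.gen_le fx2553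
theorem H_lb0 : 501397585920 ≤ Nat.card (C.gen R 67108862) := low_step H_lo0 H_lb1 (by decide +kernel)
theorem H_st0 : (C.gen R 67108862) ⊓ stabilizer _ pt2528 = (C.gen R 248660669636098288983418214179901228878886941410959477792731377210051555681908677410816) ∧ (orbit (C.gen R 67108862) pt2528).ncard = 15180 := cov2580.stab le_rfl (GC.wds_zero _) H_c0i.gen_le fx2553 (up_low H_ub H_lb1 (by decide +kernel))
theorem H_ub1 : Nat.card (C.gen R 248660669636098288983418214179901228878886941410959477792731377210051555681908677410816) ≤ 33030144 := up_step H_lo0 H_ub (by decide +kernel)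
theorem H_st1 : (C.gen R 248660669636098288983418214179901228878886941410959477792731377210051555681908677410816) ⊓ stabilizer _ pt2530 = (C.gen R 248659721067303256889145304286392037707545807423245096865230765973523362857550667055104) ∧ (orbit (C.gen R 248660669636098288983418214179901228878886941410959477792731377210051555681908677410816) pt2530).ncard = 3 := cov2590.stab le_rfl (GC.wds_zero _) H_c1i.gen_le fx2583 (up_low H_ub1 H_lb2 (by decide +kernel))
theorem H_ub2 : Nat.card (C.gen R 248659721067303256889145304286392037707545807423245096865230765973523362857550667055104) ≤ 11010048 := up_step H_lo1 H_ub1 (by decide +kernel)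
theorem H_st2 : (C.gen R 248659721067303256889145304286392037707545807423245096865230765973523362857550667055104) ⊓ stabilizer _ pt2532 = (C.gen R 248619881177911908929683088759006008511218179939241097910205094039339264234514232115200) ∧ (orbit (C.gen R 248659721067303256889145304286392037707545807423245096865230765973523362857550667055104) pt2532).ncard = 56 := cov2600.stab le_rfl (GC.wds_zero _) H_c2i.gen_le fx2593 (up_low H_ub2 H_lb3 (by decide +kernel))
theorem H_ub3 : Nat.card (C.gen R 248619881177911908929683088759006008511218179939241097910205094039339264234514232115200) ≤ 196608 := up_step H_lo2 H_ub2 (by decide +kernel)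
theorem H_st3 : (C.gen R 248619881177911908929683088759006008511218179939241097910205094039339264234514232115200) ⊓ stabilizer _ pt2534 = (C.gen R 248540201399129213010758657704233950118562924971233100000153750170971066988441362235392) ∧ (orbit (C.gen R 248619881177911908929683088759006008511218179939241097910205094039339264234514232115200) pt2534).ncard = 24 := cov2610.stab le_rfl (GC.wds_zero _) H_c3i.gen_le fx2603 (up_low H_ub3 H_lb4 (by decide +kernel))
theorem H_ub4 : Nat.card (C.gen R 248540201399129213010758657704233950118562924971233100000153750170971066988441362235392) ≤ 8192 := up_step H_lo3 H_ub3 (by decide +kernel)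
theorem H_st4 : (C.gen R 248540201399129213010758657704233950118562924971233100000153750170971066988441362235392) ⊓ stabilizer _ pt2536 = (C.gen R 248175950981836888809961258596704540323567473688910823839919035344145022434965385641984) ∧ (orbit (C.gen R 248540201399129213010758657704233950118562924971233100000153750170971066988441362235392) pt2536).ncard = 16 := cov2620.stab le_rfl (GC.wds_zero _) H_c4i.gen_le fx2613 (up_low H_ub4 H_lb5 (by decide +kernel))
theorem H_ub5 : Nat.card (C.gen R 248175950981836888809961258596704540323567473688910823839919035344145022434965385641984) ≤ 512 := up_step H_lo4 H_ub4 (by decide +kernel)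
theorem H_st5 : (C.gen R 248175950981836888809961258596704540323567473688910823839919035344145022434965385641984) ⊓ stabilizer _ pt2538 = (C.gen R 243804945974328998400392469306351622783622058301043509917102457422232487793253666521088) ∧ (orbit (C.gen R 248175950981836888809961258596704540323567473688910823839919035344145022434965385641984) pt2538).ncard = 4 := cov2630.stab le_rfl (GC.wds_zero _) H_c5i.gen_le fx2623 (up_low H_ub5 H_lb6 (by decide +kernel))
theorem H_ub6 : Nat.card (C.gen R 243804945974328998400392469306351622783622058301043509917102457422232487793253666521088) ≤ 128 := up_step H_lo5 H_ub5 (by decide +kernel)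
theorem H_st6 : (C.gen R 243804945974328998400392469306351622783622058301043509917102457422232487793253666521088) ⊓ stabilizer _ pt2540 = (C.gen R 240890942635990404794013276446116344423658448042465300635224738807624131365445853773824) ∧ (orbit (C.gen R 243804945974328998400392469306351622783622058301043509917102457422232487793253666521088) pt2540).ncard = 4 := cov2640.stab le_rfl (GC.wds_zero _) H_c6i.gen_le fx2633 (up_low H_ub6 H_lb7 (by decide +kernel))
theorem H_ub7 : Nat.card (C.gen R 240890942635990404794013276446116344423658448042465300635224738807624131365445853773824) ≤ 32 := up_step H_lo6 H_ub6 (by decide +kernel)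
theorem H_st7 : (C.gen R 240890942635990404794013276446116344423658448042465300635224738807624131365445853773824) ⊓ stabilizer _ pt2542 = (C.gen R 139872160240252493106201257291293361278253292411754045530130493501201108534775011868672) ∧ (orbit (C.gen R 240890942635990404794013276446116344423658448042465300635224738807624131365445853773824) pt2542).ncard = 8 := cov2650.stab le_rfl (GC.wds_zero _) H_c7i.gen_le fx2643 (up_low H_ub7 H_lb8 (by decide +kernel))
theorem H_ub8 : Nat.card (C.gen R 139872160240252493106201257291293361278253292411754045530130493501201108534775011868672) ≤ 4 := up_step H_lo7 H_ub7 (by decide +kernel)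
theorem H_st8 : (C.gen R 139872160240252493106201257291293361278253292411754045530130493501201108534775011868672) ⊓ stabilizer _ pt2544 = (C.gen R 124330809102446660538845562036705210025114037699336929360115994223289874253133343883264) ∧ (orbit (C.gen R 139872160240252493106201257291293361278253292411754045530130493501201108534775011868672) pt2544).ncard = 2 := cov2660.stab le_rfl (GC.wds_zero _) H_c8i.gen_le fx2653 (up_low H_ub8 H_lb9 (by decide +kernel))
theorem H_ub9 : Nat.card (C.gen R 124330809102446660538845562036705210025114037699336929360115994223289874253133343883264) ≤ 2 := up_step H_lo8 H_ub8 (by decide +kernel)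
theorem H_st9 : (C.gen R 124330809102446660538845562036705210025114037699336929360115994223289874253133343883264) ⊓ stabilizer _ pt2546 = (C.gen R 0) ∧ (orbit (C.gen R 124330809102446660538845562036705210025114037699336929360115994223289874253133343883264) pt2546).ncard = 2 := cov2670.stab le_rfl (GC.wds_zero _) H_c9i.gen_le fx2663 (up_low H_ub9 H_lb10 (by decide +kernel))
theorem H_ub10 : Nat.card (C.gen R 0) ≤ 1 := up_step H_lo9 H_ub9 (by decide +kernel)
theorem G_m3 : C.Mem R (C.gen R 201326590) 248660669636098288983418214179901611628627738726462920321246323512321351437015748444158 := G_s1_1749.lor' (H_s2_2550.mono (G_s1_1749.sub chk2671).gen_le) chk2672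
theorem pt2674e : ∃ x, A0.Rep pt2674c x := act2_rep (n := 112) (d := 7) (by decide) (by decide) (c := 0x372d55d1f729e4) (by decide +kernel)
noncomputable def pt2674 := Classical.choose pt2674e
theorem pt2674r : A0.Rep pt2674c pt2674 := Classical.choose_spec pt2674e
theorem M_m0 : C.Mem R (C.gen R 83886078) 83886078 := GC.Mem.gen (val3.sub chk2673)
theorem M_s0_2677 : C.Mem R (C.gen R 83886078) 248661618204893321077691124073410420050228075398673858720231988446579748506266771652606 := M_m0.slp' chk2676
theorem M_I : C.Mem R (C.gen R 83886078) 248661618204893321077691124073410420050228075398673858720231988446579748506266754875392 := M_s0_2677.sub chk2678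
theorem MK_in2699 : C.Mem R (C.gen R 16777214) 1491969709229359926466146744440462520301368452392043152321391930679478491037600126599168 := Lb_m0.slp' chk2698
theorem MK_m0 : C.Mem R (C.gen R 1491969709229359926466146744440462520301368452392043152321391930679478491037600126599168) 1491969709229359926466146744440462520301368452392043152321391930679478491037600126599168 := GC.Mem.gen MK_in2699.top
theorem pt2700e : ∃ x, A0.Rep pt2700c x := act2_rep (n := 112) (d := 7) (by decide) (by decide) (c := 0x95e) (by decide +kernel)
noncomputable def pt2700 := Classical.choose pt2700e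
theorem pt2700r : A0.Rep pt2700c pt2700 := Classical.choose_spec pt2700e
theorem pt2701e : ∃ x, A0.Rep pt2701c x := act2_rep (n := 112) (d := 7) (by decide) (by decide) (c := 0x7ce) (by decide +kernel)
noncomputable def pt2701 := Classical.choose pt2701e
theorem pt2701r : A0.Rep pt2701c pt2701 := Classical.choose_spec pt2701e
theorem pt2702e : ∃ x, A0.Rep pt2702c x := act2_rep (n := 112) (d := 7) (by decide) (by decide) (c := 0x334) (by decide +kernel)
noncomputable def pt2702 := Classical.choose pt2702e
theorem pt2702r : A0.Rep pt2702c pt2702 := Classical.choose_spec pt2702e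
theorem pt2703e : ∃ x, A0.Rep pt2703c x := act2_rep (n := 112) (d := 7) (by decide) (by decide) (c := 0xa10) (by decide +kernel)
noncomputable def pt2703 := Classical.choose pt2703e
theorem pt2703r : A0.Rep pt2703c pt2703 := Classical.choose_spec pt2703e
theorem pt2704e : ∃ x, A0.Rep pt2704c x := act2_rep (n := 112) (d := 7) (by decide) (by decide) (c := 0xa3) (by decide +kernel)
noncomputable def pt2704 := Classical.choose pt2704e
theorem pt2704r : A0.Rep pt2704c pt2704 := Classical.choose_spec pt2704e
theorem pt2705e : ∃ x, A0.Rep pt2705c x := act2_rep (n := 112) (d := 7) (by decide) (by decide) (c := 0xbd7) (by decide +kernel)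
noncomputable def pt2705 := Classical.choose pt2705e
theorem pt2705r : A0.Rep pt2705c pt2705 := Classical.choose_spec pt2705e
theorem pt2706e : ∃ x, A0.Rep pt2706c x := act2_rep (n := 112) (d := 7) (by decide) (by decide) (c := 0xc25) (by decide +kernel)
noncomputable def pt2706 := Classical.choose pt2706e
theorem pt2706r : A0.Rep pt2706c pt2706 := Classical.choose_spec pt2706e
theorem pt2707e : ∃ x, A0.Rep pt2707c x := act2_rep (n := 112) (d := 7) (by decide) (by decide) (c := 0x4c5) (by decide +kernel)
noncomputable def pt2707 := Classical.choose pt2707e
theorem pt2707r : A0.Rep pt2707c pt2707 := Classical.choose_spec pt2707e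
theorem MK_s0_2710 : C.Mem R (C.gen R 1491969709229359926466146744440462520301368452392043152321391930679478491037600126599168) 32592078298115367593652975632301903755983393842504182662460806725693207636716374765558824960 := MK_m0.slp' chk2709
theorem MK_c0i : C.Mem R (C.gen R 1491969709229359926466146744440462520301368452392043152321391930679478491037600126599168) 32590586328406138233726509485557463293463092474051790619308485333762528158225337165432225792 := MK_s0_2710.sub chk2711
theorem MK_c0m : C.Mem R (C.gen R 32590586328406138233726509485557463293463092474051790619308485333762528158225337165432225792) 32590586328406138233726509485557463293463092474051790619308485333762528158225337165432225792 := MK_c0i.gen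
theorem fx2713 : C.gen R 32590586328406138233726509485557463293463092474051790619308485333762528158225337165432225792 ≤ stabilizer _ pt2700 := Act.fix_sound MK_c0i.top pt2700r chk2712
theorem cov2720 : Cov (C.gen R 1491969709229359926466146744440462520301368452392043152321391930679478491037600126599168) (C.wds R [0]) pt2700 15 := Act.cov_of_seen (Act.pieces_sound MK_s0_2710 MK_s0_2710.top pt2700r chk2718) chk2719
theorem MK_c1i : C.Mem R (C.gen R 32590586328406138233726509485557463293463092474051790619308485333762528158225337165432225792) 32528918247091324690099242086787257509290635911352919502345867800627776380595783026866126848 := MK_c0m.sub chk2721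
theorem MK_c1m : C.Mem R (C.gen R 32528918247091324690099242086787257509290635911352919502345867800627776380595783026866126848) 32528918247091324690099242086787257509290635911352919502345867800627776380595783026866126848 := MK_c1i.gen
theorem fx2723 : C.gen R 32528918247091324690099242086787257509290635911352919502345867800627776380595783026866126848 ≤ stabilizer _ pt2701 := Act.fix_sound MK_c1i.top pt2701r chk2722
theorem cov2730 : Cov (C.gen R 32590586328406138233726509485557463293463092474051790619308485333762528158225337165432225792) (C.wds R [0]) pt2701 512 := Act.cov_of_seen (Act.pieces_sound MK_c0m MK_c0m.top pt2701r chk2728) chk2729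
theorem MK_c2i : C.Mem R (C.gen R 32528918247091324690099242086787257509290635911352919502345867800627776380595783026866126848) 23680543224888400752870681127759021122223320076366508913645132723744682609748789209381994496 := MK_c1m.sub chk2731
theorem MK_c2m : C.Mem R (C.gen R 23680543224888400752870681127759021122223320076366508913645132723744682609748789209381994496) 23680543224888400752870681127759021122223320076366508913645132723744682609748789209381994496 := MK_c2i.gen
theorem fx2733 : C.gen R 23680543224888400752870681127759021122223320076366508913645132723744682609748789209381994496 ≤ stabilizer _ pt2702 := Act.fix_sound MK_c2i.top pt2702r chk2732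
theorem cov2740 : Cov (C.gen R 32528918247091324690099242086787257509290635911352919502345867800627776380595783026866126848) (C.wds R [0]) pt2702 36 := Act.cov_of_seen (Act.pieces_sound MK_c1m MK_c1m.top pt2702r chk2738) chk2739
theorem MK_c3i : C.Mem R (C.gen R 23680543224888400752870681127759021122223320076366508913645132723744682609748789209381994496) 23425913727846589992087125416707848852091886527158266882315615167575384947278372121109069824 := MK_c2m.sub chk2741
theorem MK_c3m : C.Mem R (C.gen R 23425913727846589992087125416707848852091886527158266882315615167575384947278372121109069824) 23425913727846589992087125416707848852091886527158266882315615167575384947278372121109069824 := MK_c3i.gen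
theorem fx2743 : C.gen R 23425913727846589992087125416707848852091886527158266882315615167575384947278372121109069824 ≤ stabilizer _ pt2703 := Act.fix_sound MK_c3i.top pt2703r chk2742
theorem cov2750 : Cov (C.gen R 23680543224888400752870681127759021122223320076366508913645132723744682609748789209381994496) (C.wds R [0]) pt2703 2 := Act.cov_of_seen (Act.pieces_sound MK_c2m MK_c2m.top pt2703r chk2748) chk2749
theorem MK_c4i : C.Mem R (C.gen R 23425913727846589992087125416707848852091886527158266882315615167575384947278372121109069824) 22407395739679346948952902572503159771566152330325298756997544942898194297396703768017371136 := MK_c3m.sub chk2751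
theorem MK_c4m : C.Mem R (C.gen R 22407395739679346948952902572503159771566152330325298756997544942898194297396703768017371136) 22407395739679346948952902572503159771566152330325298756997544942898194297396703768017371136 := MK_c4i.gen
theorem fx2753 : C.gen R 22407395739679346948952902572503159771566152330325298756997544942898194297396703768017371136 ≤ stabilizer _ pt2704 := Act.fix_sound MK_c4i.top pt2704r chk2752
theorem cov2760 : Cov (C.gen R 23425913727846589992087125416707848852091886527158266882315615167575384947278372121109069824) (C.wds R [0]) pt2704 2 := Act.cov_of_seen (Act.pieces_sound MK_c3m MK_c3m.top pt2704r chk2758) chk2759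
theorem MK_c5i : C.Mem R (C.gen R 22407395739679346948952902572503159771566152330325298756997544942898194297396703768017371136) 20370359763344860862684456884093781610514683936659362506361404493543812997633367061833973760 := MK_c4m.sub chk2761
theorem MK_c5m : C.Mem R (C.gen R 20370359763344860862684456884093781610514683936659362506361404493543812997633367061833973760) 20370359763344860862684456884093781610514683936659362506361404493543812997633367061833973760 := MK_c5i.gen
theorem fx2763 : C.gen R 20370359763344860862684456884093781610514683936659362506361404493543812997633367061833973760 ≤ stabilizer _ pt2705 := Act.fix_sound MK_c5i.top pt2705r chk2762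
theorem cov2770 : Cov (C.gen R 22407395739679346948952902572503159771566152330325298756997544942898194297396703768017371136) (C.wds R [0]) pt2705 2 := Act.cov_of_seen (Act.pieces_sound MK_c4m MK_c4m.top pt2705r chk2768) chk2769
theorem MK_c6i : C.Mem R (C.gen R 20370359763344860862684456884093781610514683936659362506361404493543812997633367061833973760) 16296287810675888690147565507275025288411747149327490005089123594835050398106693649467179008 := MK_c5m.sub chk2771
theorem MK_c6m : C.Mem R (C.gen R 16296287810675888690147565507275025288411747149327490005089123594835050398106693649467179008) 16296287810675888690147565507275025288411747149327490005089123594835050398106693649467179008 := MK_c6i.gen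
theorem fx2773 : C.gen R 16296287810675888690147565507275025288411747149327490005089123594835050398106693649467179008 ≤ stabilizer _ pt2706 := Act.fix_sound MK_c6i.top pt2706r chk2772
theorem cov2780 : Cov (C.gen R 20370359763344860862684456884093781610514683936659362506361404493543812997633367061833973760) (C.wds R [0]) pt2706 2 := Act.cov_of_seen (Act.pieces_sound MK_c5m MK_c5m.top pt2706r chk2778) chk2779
theorem MK_c7i : C.Mem R (C.gen R 16296287810675888690147565507275025288411747149327490005089123594835050398106693649467179008) 0 := MK_c6m.sub chk2781
theorem MK_c7m : C.Mem R (C.gen R 0) 0 := MK_c7i.gen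
theorem fx2783 : C.gen R 0 ≤ stabilizer _ pt2707 := Act.fix_sound MK_c7i.top pt2707r chk2782
theorem cov2790 : Cov (C.gen R 16296287810675888690147565507275025288411747149327490005089123594835050398106693649467179008) (C.wds R [0]) pt2707 2 := Act.cov_of_seen (Act.pieces_sound MK_c6m MK_c6m.top pt2707r chk2788) chk2789
theorem MK_lb8 : 1 ≤ Nat.card (C.gen R 0) := Nat.card_pos
theorem MK_lo7 : 2 * Nat.card (C.gen R 0) ≤ Nat.card (C.gen R 16296287810675888690147565507275025288411747149327490005089123594835050398106693649467179008) := cov2790.low le_rfl (GC.wds_zero _) MK_c7i.gen_le fx2783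
theorem MK_lb7 : 2 ≤ Nat.card (C.gen R 16296287810675888690147565507275025288411747149327490005089123594835050398106693649467179008) := low_step MK_lo7 MK_lb8 (by decide +kernel)
theorem MK_lo6 : 2 * Nat.card (C.gen R 16296287810675888690147565507275025288411747149327490005089123594835050398106693649467179008) ≤ Nat.card (C.gen R 20370359763344860862684456884093781610514683936659362506361404493543812997633367061833973760) := cov2780.low le_rfl (GC.wds_zero _) MK_c6i.gen_le fx2773
theorem MK_lb6 : 4 ≤ Nat.card (C.gen R 20370359763344860862684456884093781610514683936659362506361404493543812997633367061833973760) := low_step MK_lo6 MK_lb7 (by decide +kernel)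
theorem MK_lo5 : 2 * Nat.card (C.gen R 20370359763344860862684456884093781610514683936659362506361404493543812997633367061833973760) ≤ Nat.card (C.gen R 22407395739679346948952902572503159771566152330325298756997544942898194297396703768017371136) := cov2770.low le_rfl (GC.wds_zero _) MK_c5i.gen_le fx2763
theorem MK_lb5 : 8 ≤ Nat.card (C.gen R 22407395739679346948952902572503159771566152330325298756997544942898194297396703768017371136) := low_step MK_lo5 MK_lb6 (by decide +kernel)
theorem MK_lo4 : 2 * Nat.card (C.gen R 22407395739679346948952902572503159771566152330325298756997544942898194297396703768017371136) ≤ Nat.card (C.gen R 23425913727846589992087125416707848852091886527158266882315615167575384947278372121109069824) := cov2760.low le_rfl (GC.wds_zero _) MK_c4i.gen_le fx2753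
theorem MK_lb4 : 16 ≤ Nat.card (C.gen R 23425913727846589992087125416707848852091886527158266882315615167575384947278372121109069824) := low_step MK_lo4 MK_lb5 (by decide +kernel)
theorem MK_lo3 : 2 * Nat.card (C.gen R 23425913727846589992087125416707848852091886527158266882315615167575384947278372121109069824) ≤ Nat.card (C.gen R 23680543224888400752870681127759021122223320076366508913645132723744682609748789209381994496) := cov2750.low le_rfl (GC.wds_zero _) MK_c3i.gen_le fx2743
theorem MK_lb3 : 32 ≤ Nat.card (C.gen R 23680543224888400752870681127759021122223320076366508913645132723744682609748789209381994496) := low_step MK_lo3 MK_lb4 (by decide +kernel)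
theorem MK_lo2 : 36 * Nat.card (C.gen R 23680543224888400752870681127759021122223320076366508913645132723744682609748789209381994496) ≤ Nat.card (C.gen R 32528918247091324690099242086787257509290635911352919502345867800627776380595783026866126848) := cov2740.low le_rfl (GC.wds_zero _) MK_c2i.gen_le fx2733
theorem MK_lb2 : 1152 ≤ Nat.card (C.gen R 32528918247091324690099242086787257509290635911352919502345867800627776380595783026866126848) := low_step MK_lo2 MK_lb3 (by decide +kernel)
theorem MK_lo1 : 512 * Nat.card (C.gen R 32528918247091324690099242086787257509290635911352919502345867800627776380595783026866126848) ≤ Nat.card (C.gen R 32590586328406138233726509485557463293463092474051790619308485333762528158225337165432225792) := cov2730.low le_rfl (GC.wds_zero _) MK_c1i.gen_le fx2723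
theorem MK_lb1 : 589824 ≤ Nat.card (C.gen R 32590586328406138233726509485557463293463092474051790619308485333762528158225337165432225792) := low_step MK_lo1 MK_lb2 (by decide +kernel)
theorem MK_lo0 : 15 * Nat.card (C.gen R 32590586328406138233726509485557463293463092474051790619308485333762528158225337165432225792) ≤ Nat.card (C.gen R 1491969709229359926466146744440462520301368452392043152321391930679478491037600126599168) := cov2720.low le_rfl (GC.wds_zero _) MK_c0i.gen_le fx2713
theorem MK_lb0 : 8847360 ≤ Nat.card (C.gen R 1491969709229359926466146744440462520301368452392043152321391930679478491037600126599168) := low_step MK_lo0 MK_lb1 (by decide +kernel)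
theorem fx2794 : C.gen R 1491969709229359926466146744440462520301368452392043152321391930679478491037600126599168 ≤ stabilizer _ pt2674 := Act.fix_sound MK_in2699.top pt2674r chk2793
theorem M_Kc : ∀ κ ∈ (C.gen R 1491969709229359926466146744440462520301368452392043152321391930679478491037600126599168), (C.el (R 26))⁻¹ * κ * C.el (R 26) ∈ (C.gen R 16777214) := Lb_m0.conjB (M_m0.get (i := 26) (by decide +kernel)).top MK_in2699.top chk2792
theorem MT1_in2797 : C.Mem R (C.gen R 16777214) 97777726864055332140885393043650151730470482895964940030534741569010302388640161896803074048 := Lb_m0.slp' chk2796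
theorem MT1_m0 : C.Mem R (C.gen R 97777726864055332140885393043650151730470482895964940030534741569010302388640161896803074048) 97777726864055332140885393043650151730470482895964940030534741569010302388640161896803074048 := GC.Mem.gen MT1_in2797.top
theorem pt2798e : ∃ x, A0.Rep pt2798c x := act2_rep (n := 112) (d := 7) (by decide) (by decide) (c := 0x95e) (by decide +kernel)
noncomputable def pt2798 := Classical.choose pt2798e
theorem pt2798r : A0.Rep pt2798c pt2798 := Classical.choose_spec pt2798e
theorem pt2799e : ∃ x, A0.Rep pt2799c x := act2_rep (n := 112) (d := 7) (by decide) (by decide) (c := 0x455) (by decide +kernel)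
noncomputable def pt2799 := Classical.choose pt2799e
theorem pt2799r : A0.Rep pt2799c pt2799 := Classical.choose_spec pt2799e
theorem pt2800e : ∃ x, A0.Rep pt2800c x := act2_rep (n := 112) (d := 7) (by decide) (by decide) (c := 0x334) (by decide +kernel)
noncomputable def pt2800 := Classical.choose pt2800e
theorem pt2800r : A0.Rep pt2800c pt2800 := Classical.choose_spec pt2800e
theorem pt2801e : ∃ x, A0.Rep pt2801c x := act2_rep (n := 112) (d := 7) (by decide) (by decide) (c := 0xa10) (by decide +kernel)
noncomputable def pt2801 := Classical.choose pt2801e
theorem pt2801r : A0.Rep pt2801c pt2801 := Classical.choose_spec pt2801e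
theorem pt2802e : ∃ x, A0.Rep pt2802c x := act2_rep (n := 112) (d := 7) (by decide) (by decide) (c := 0xa3) (by decide +kernel)
noncomputable def pt2802 := Classical.choose pt2802e
theorem pt2802r : A0.Rep pt2802c pt2802 := Classical.choose_spec pt2802e
theorem pt2803e : ∃ x, A0.Rep pt2803c x := act2_rep (n := 112) (d := 7) (by decide) (by decide) (c := 0xd4) (by decide +kernel)
noncomputable def pt2803 := Classical.choose pt2803e
theorem pt2803r : A0.Rep pt2803c pt2803 := Classical.choose_spec pt2803e
theorem pt2804e : ∃ x, A0.Rep pt2804c x := act2_rep (n := 112) (d := 7) (by decide) (by decide) (c := 0xbd7) (by decide +kernel)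
noncomputable def pt2804 := Classical.choose pt2804e
theorem pt2804r : A0.Rep pt2804c pt2804 := Classical.choose_spec pt2804e
theorem pt2805e : ∃ x, A0.Rep pt2805c x := act2_rep (n := 112) (d := 7) (by decide) (by decide) (c := 0xc25) (by decide +kernel)
noncomputable def pt2805 := Classical.choose pt2805e
theorem pt2805r : A0.Rep pt2805c pt2805 := Classical.choose_spec pt2805e
theorem MT1_s0_2808 : C.Mem R (C.gen R 97777726864055332140885393043650151730470482895964940030534741569010302388640161896803074048) 4271941479266198813012663117208089679154832221219006884914073037397249781460484886658625239515136 := MT1_m0.slp' chk2807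
theorem MT1_c0i : C.Mem R (C.gen R 97777726864055332140885393043650151730470482895964940030534741569010302388640161896803074048) 4271843701539334757680522231815046029003101750736110919974042502655680771158096246496728436441088 := MT1_s0_2808.sub chk2809
theorem MT1_c0m : C.Mem R (C.gen R 4271843701539334757680522231815046029003101750736110919974042502655680771158096246496728436441088) 4271843701539334757680522231815046029003101750736110919974042502655680771158096246496728436441088 := MT1_c0i.gen
theorem fx2811 : C.gen R 4271843701539334757680522231815046029003101750736110919974042502655680771158096246496728436441088 ≤ stabilizer _ pt2798 := Act.fix_sound MT1_c0i.top pt2798r chk2810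
theorem cov2818 : Cov (C.gen R 97777726864055332140885393043650151730470482895964940030534741569010302388640161896803074048) (C.wds R [0]) pt2798 15 := Act.cov_of_seen (Act.pieces_sound MT1_s0_2808 MT1_s0_2808.top pt2798r chk2816) chk2817
theorem MT1_c1i : C.Mem R (C.gen R 4271843701539334757680522231815046029003101750736110919974042502655680771158096246496728436441088) 2130772223821493798014174485207224106510412763268867973145413088271872509653246408055132589654016 := MT1_c0m.sub chk2819
theorem MT1_c1m : C.Mem R (C.gen R 2130772223821493798014174485207224106510412763268867973145413088271872509653246408055132589654016) 2130772223821493798014174485207224106510412763268867973145413088271872509653246408055132589654016 := MT1_c1i.gen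
theorem fx2821 : C.gen R 2130772223821493798014174485207224106510412763268867973145413088271872509653246408055132589654016 ≤ stabilizer _ pt2799 := Act.fix_sound MT1_c1i.top pt2799r chk2820
theorem cov2828 : Cov (C.gen R 4271843701539334757680522231815046029003101750736110919974042502655680771158096246496728436441088) (C.wds R [0]) pt2799 384 := Act.cov_of_seen (Act.pieces_sound MT1_c0m MT1_c0m.top pt2799r chk2826) chk2827
theorem MT1_c2i : C.Mem R (C.gen R 2130772223821493798014174485207224106510412763268867973145413088271872509653246408055132589654016) 1977456748098655037217266188914780668597035046087994947177534613491664355507858634200945369546752 := MT1_c1m.sub chk2829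
theorem MT1_c2m : C.Mem R (C.gen R 1977456748098655037217266188914780668597035046087994947177534613491664355507858634200945369546752) 1977456748098655037217266188914780668597035046087994947177534613491664355507858634200945369546752 := MT1_c2i.gen
theorem fx2831 : C.gen R 1977456748098655037217266188914780668597035046087994947177534613491664355507858634200945369546752 ≤ stabilizer _ pt2800 := Act.fix_sound MT1_c2i.top pt2800r chk2830
theorem cov2838 : Cov (C.gen R 2130772223821493798014174485207224106510412763268867973145413088271872509653246408055132589654016) (C.wds R [0]) pt2800 24 := Act.cov_of_seen (Act.pieces_sound MT1_c1m MT1_c1m.top pt2800r chk2836) chk2837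
theorem MT1_c3i : C.Mem R (C.gen R 1977456748098655037217266188914780668597035046087994947177534613491664355507858634200945369546752) 1902363453867060542133066207057257352068033715223893873234083931966664443273382989864200608677888 := MT1_c2m.sub chk2839
theorem MT1_c3m : C.Mem R (C.gen R 1902363453867060542133066207057257352068033715223893873234083931966664443273382989864200608677888) 1902363453867060542133066207057257352068033715223893873234083931966664443273382989864200608677888 := MT1_c3i.gen
theorem fx2841 : C.gen R 1902363453867060542133066207057257352068033715223893873234083931966664443273382989864200608677888 ≤ stabilizer _ pt2801 := Act.fix_sound MT1_c3i.top pt2801r chk2840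
theorem cov2848 : Cov (C.gen R 1977456748098655037217266188914780668597035046087994947177534613491664355507858634200945369546752) (C.wds R [0]) pt2801 4 := Act.cov_of_seen (Act.pieces_sound MT1_c2m MT1_c2m.top pt2801r chk2846) chk2847
theorem MT1_c4i : C.Mem R (C.gen R 1902363453867060542133066207057257352068033715223893873234083931966664443273382989864200608677888) 1868988656430796322095643992898358100277366457062071173703661406844442260058060481270091826069504 := MT1_c3m.sub chk2849
theorem MT1_c4m : C.Mem R (C.gen R 1868988656430796322095643992898358100277366457062071173703661406844442260058060481270091826069504) 1868988656430796322095643992898358100277366457062071173703661406844442260058060481270091826069504 := MT1_c4i.gen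
theorem fx2851 : C.gen R 1868988656430796322095643992898358100277366457062071173703661406844442260058060481270091826069504 ≤ stabilizer _ pt2802 := Act.fix_sound MT1_c4i.top pt2802r chk2850
theorem cov2858 : Cov (C.gen R 1902363453867060542133066207057257352068033715223893873234083931966664443273382989864200608677888) (C.wds R [0]) pt2802 2 := Act.cov_of_seen (Act.pieces_sound MT1_c3m MT1_c3m.top pt2802r chk2856) chk2857
theorem MT1_c5i : C.Mem R (C.gen R 1868988656430796322095643992898358100277366457062071173703661406844442260058060481270091826069504) 1601990276940682561796266279627164085952028391767489577460281205866664794335480412517221565202432 := MT1_c4m.sub chk2859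
theorem MT1_c5m : C.Mem R (C.gen R 1601990276940682561796266279627164085952028391767489577460281205866664794335480412517221565202432) 1601990276940682561796266279627164085952028391767489577460281205866664794335480412517221565202432 := MT1_c5i.gen
theorem fx2861 : C.gen R 1601990276940682561796266279627164085952028391767489577460281205866664794335480412517221565202432 ≤ stabilizer _ pt2803 := Act.fix_sound MT1_c5i.top pt2803r chk2860
theorem cov2868 : Cov (C.gen R 1868988656430796322095643992898358100277366457062071173703661406844442260058060481270091826069504) (C.wds R [0]) pt2803 2 := Act.cov_of_seen (Act.pieces_sound MT1_c4m MT1_c4m.top pt2803r chk2866) chk2867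
theorem MT1_c6i : C.Mem R (C.gen R 1601990276940682561796266279627164085952028391767489577460281205866664794335480412517221565202432) 1067993517960455041197510853084776057301352261178326384973520803911109862890320275011481043468288 := MT1_c5m.sub chk2869
theorem MT1_c6m : C.Mem R (C.gen R 1067993517960455041197510853084776057301352261178326384973520803911109862890320275011481043468288) 1067993517960455041197510853084776057301352261178326384973520803911109862890320275011481043468288 := MT1_c6i.gen
theorem fx2871 : C.gen R 1067993517960455041197510853084776057301352261178326384973520803911109862890320275011481043468288 ≤ stabilizer _ pt2804 := Act.fix_sound MT1_c6i.top pt2804r chk2870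
theorem cov2878 : Cov (C.gen R 1601990276940682561796266279627164085952028391767489577460281205866664794335480412517221565202432) (C.wds R [0]) pt2804 2 := Act.cov_of_seen (Act.pieces_sound MT1_c5m MT1_c5m.top pt2804r chk2876) chk2877
theorem MT1_c7i : C.Mem R (C.gen R 1067993517960455041197510853084776057301352261178326384973520803911109862890320275011481043468288) 0 := MT1_c6m.sub chk2879
theorem MT1_c7m : C.Mem R (C.gen R 0) 0 := MT1_c7i.gen
theorem fx2881 : C.gen R 0 ≤ stabilizer _ pt2805 := Act.fix_sound MT1_c7i.top pt2805r chk2880
theorem cov2888 : Cov (C.gen R 1067993517960455041197510853084776057301352261178326384973520803911109862890320275011481043468288) (C.wds R [0]) pt2805 2 := Act.cov_of_seen (Act.pieces_sound MT1_c6m MT1_c6m.top pt2805r chk2886) chk2887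
theorem MT1_lb8 : 1 ≤ Nat.card (C.gen R 0) := Nat.card_pos
theorem MT1_lo7 : 2 * Nat.card (C.gen R 0) ≤ Nat.card (C.gen R 1067993517960455041197510853084776057301352261178326384973520803911109862890320275011481043468288) := cov2888.low le_rfl (GC.wds_zero _) MT1_c7i.gen_le fx2881
theorem MT1_lb7 : 2 ≤ Nat.card (C.gen R 1067993517960455041197510853084776057301352261178326384973520803911109862890320275011481043468288) := low_step MT1_lo7 MT1_lb8 (by decide +kernel)
theorem MT1_lo6 : 2 * Nat.card (C.gen R 1067993517960455041197510853084776057301352261178326384973520803911109862890320275011481043468288) ≤ Nat.card (C.gen R 1601990276940682561796266279627164085952028391767489577460281205866664794335480412517221565202432) := cov2878.low le_rfl (GC.wds_zero _) MT1_c6i.gen_le fx2871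
theorem MT1_lb6 : 4 ≤ Nat.card (C.gen R 1601990276940682561796266279627164085952028391767489577460281205866664794335480412517221565202432) := low_step MT1_lo6 MT1_lb7 (by decide +kernel)
theorem MT1_lo5 : 2 * Nat.card (C.gen R 1601990276940682561796266279627164085952028391767489577460281205866664794335480412517221565202432) ≤ Nat.card (C.gen R 1868988656430796322095643992898358100277366457062071173703661406844442260058060481270091826069504) := cov2868.low le_rfl (GC.wds_zero _) MT1_c5i.gen_le fx2861
theorem MT1_lb5 : 8 ≤ Nat.card (C.gen R 1868988656430796322095643992898358100277366457062071173703661406844442260058060481270091826069504) := low_step MT1_lo5 MT1_lb6 (by decide +kernel)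
theorem MT1_lo4 : 2 * Nat.card (C.gen R 1868988656430796322095643992898358100277366457062071173703661406844442260058060481270091826069504) ≤ Nat.card (C.gen R 1902363453867060542133066207057257352068033715223893873234083931966664443273382989864200608677888) := cov2858.low le_rfl (GC.wds_zero _) MT1_c4i.gen_le fx2851
theorem MT1_lb4 : 16 ≤ Nat.card (C.gen R 1902363453867060542133066207057257352068033715223893873234083931966664443273382989864200608677888) := low_step MT1_lo4 MT1_lb5 (by decide +kernel)
theorem MT1_lo3 : 4 * Nat.card (C.gen R 1902363453867060542133066207057257352068033715223893873234083931966664443273382989864200608677888) ≤ Nat.card (C.gen R 1977456748098655037217266188914780668597035046087994947177534613491664355507858634200945369546752) := cov2848.low le_rfl (GC.wds_zero _) MT1_c3i.gen_le fx2841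
theorem MT1_lb3 : 64 ≤ Nat.card (C.gen R 1977456748098655037217266188914780668597035046087994947177534613491664355507858634200945369546752) := low_step MT1_lo3 MT1_lb4 (by decide +kernel)
theorem MT1_lo2 : 24 * Nat.card (C.gen R 1977456748098655037217266188914780668597035046087994947177534613491664355507858634200945369546752) ≤ Nat.card (C.gen R 2130772223821493798014174485207224106510412763268867973145413088271872509653246408055132589654016) := cov2838.low le_rfl (GC.wds_zero _) MT1_c2i.gen_le fx2831
theorem MT1_lb2 : 1536 ≤ Nat.card (C.gen R 2130772223821493798014174485207224106510412763268867973145413088271872509653246408055132589654016) := low_step MT1_lo2 MT1_lb3 (by decide +kernel)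
theorem MT1_lo1 : 384 * Nat.card (C.gen R 2130772223821493798014174485207224106510412763268867973145413088271872509653246408055132589654016) ≤ Nat.card (C.gen R 4271843701539334757680522231815046029003101750736110919974042502655680771158096246496728436441088) := cov2828.low le_rfl (GC.wds_zero _) MT1_c1i.gen_le fx2821
theorem MT1_lb1 : 589824 ≤ Nat.card (C.gen R 4271843701539334757680522231815046029003101750736110919974042502655680771158096246496728436441088) := low_step MT1_lo1 MT1_lb2 (by decide +kernel)
theorem MT1_lo0 : 15 * Nat.card (C.gen R 4271843701539334757680522231815046029003101750736110919974042502655680771158096246496728436441088) ≤ Nat.card (C.gen R 97777726864055332140885393043650151730470482895964940030534741569010302388640161896803074048) := cov2818.low le_rfl (GC.wds_zero _) MT1_c0i.gen_le fx2811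
theorem MT1_lb0 : 8847360 ≤ Nat.card (C.gen R 97777726864055332140885393043650151730470482895964940030534741569010302388640161896803074048) := low_step MT1_lo0 MT1_lb1 (by decide +kernel)
theorem M_T1c : ∀ τ ∈ (C.gen R 97777726864055332140885393043650151730470482895964940030534741569010302388640161896803074048), C.el (R 26) * τ * (C.el (R 26))⁻¹ ∈ (C.gen R 16777214) := Lb_m0.conjA (M_I.get (i := 26) (by decide +kernel)).top MT1_in2797.top chk2890
theorem cov2899 : Cov (C.gen R 97777726864055332140885393043650151730470482895964940030534741569010302388640161896803074048) (C.wds R (List.map Prod.fst (l2891))) pt2674 16 := Act.cov_of_seen (Act.pieces_sound MT1_s0_2808 Lb_m0.top pt2674r chk2897) chk2898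
theorem M_T1d : Dec (C.gen R 16777214) (C.gen R 97777726864055332140885393043650151730470482895964940030534741569010302388640161896803074048) (C.wds R (List.map Prod.fst (l2891))) (C.gen R 1491969709229359926466146744440462520301368452392043152321391930679478491037600126599168) := cov2899.dec MT1_in2797.gen_le (GC.wds_sub Lb_m0 chk2900) MK_in2699.gen_le fx2794 (up_low Lb_ub MK_lb0 (by decide +kernel))
theorem M_T1p : ∀ x ∈ DC1 (C.gen R 16777214) (C.el (R 26)), x * C.el (R 26) ∈ DCs (C.gen R 16777214) (C.els R 248661618204893321077691124073410420050228075398673858720231988446579748506266754875392) := GC.dc_piece' M_T1d M_T1c M_Kc (Lb_m0.dcRel M_I.top (M_I.get (i := 26) (by decide +kernel)).top (M_m0.get (i := 26) (by decide +kernel)).top chk2892)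
theorem M_T1u : Nat.card (C.gen R 16777214) ≤ 16 * Nat.card (C.gen R 97777726864055332140885393043650151730470482895964940030534741569010302388640161896803074048) := up_low Lb_ub MT1_lb0 (by decide +kernel)
theorem M_T1n : (DC1 (C.gen R 16777214) (C.el (R 26))).ncard ≤ Nat.card (C.gen R 16777214) * 16 := ncard_DC1 MT1_in2797.gen_le M_T1c M_T1u
theorem MT2_in2946 : C.Mem R (C.gen R 16777214) 29903818502892741153530303886373729604437863312993138779258582509511076160928967700321469217112064 := Lb_m0.slp' chk2945
theorem MT2_m0 : C.Mem R (C.gen R 29903818502892741153530303886373729604437863312993138779258582509511076160928967700321469217112064) 29903818502892741153530303886373729604437863312993138779258582509511076160928967700321469217112064 := GC.Mem.gen MT2_in2946.top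
theorem pt2947e : ∃ x, A0.Rep pt2947c x := act2_rep (n := 112) (d := 7) (by decide) (by decide) (c := 0x95e) (by decide +kernel)
noncomputable def pt2947 := Classical.choose pt2947e
theorem pt2947r : A0.Rep pt2947c pt2947 := Classical.choose_spec pt2947e
theorem pt2948e : ∃ x, A0.Rep pt2948c x := act2_rep (n := 112) (d := 7) (by decide) (by decide) (c := 0xa10) (by decide +kernel)
noncomputable def pt2948 := Classical.choose pt2948e
theorem pt2948r : A0.Rep pt2948c pt2948 := Classical.choose_spec pt2948e
theorem pt2949e : ∃ x, A0.Rep pt2949c x := act2_rep (n := 112) (d := 7) (by decide) (by decide) (c := 0x334) (by decide +kernel)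
noncomputable def pt2949 := Classical.choose pt2949e
theorem pt2949r : A0.Rep pt2949c pt2949 := Classical.choose_spec pt2949e
theorem pt2950e : ∃ x, A0.Rep pt2950c x := act2_rep (n := 112) (d := 7) (by decide) (by decide) (c := 0xbd7) (by decide +kernel)
noncomputable def pt2950 := Classical.choose pt2950e
theorem pt2950r : A0.Rep pt2950c pt2950 := Classical.choose_spec pt2950e
theorem pt2951e : ∃ x, A0.Rep pt2951c x := act2_rep (n := 112) (d := 7) (by decide) (by decide) (c := 0xc25) (by decide +kernel)
noncomputable def pt2951 := Classical.choose pt2951e
theorem pt2951r : A0.Rep pt2951c pt2951 := Classical.choose_spec pt2951e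
theorem pt2952e : ∃ x, A0.Rep pt2952c x := act2_rep (n := 112) (d := 7) (by decide) (by decide) (c := 0xeb) (by decide +kernel)
noncomputable def pt2952 := Classical.choose pt2952e
theorem pt2952r : A0.Rep pt2952c pt2952 := Classical.choose_spec pt2952e
theorem pt2953e : ∃ x, A0.Rep pt2953c x := act2_rep (n := 112) (d := 7) (by decide) (by decide) (c := 0x4c5) (by decide +kernel)
noncomputable def pt2953 := Classical.choose pt2953e
theorem pt2953r : A0.Rep pt2953c pt2953 := Classical.choose_spec pt2953e
theorem pt2954e : ∃ x, A0.Rep pt2954c x := act2_rep (n := 112) (d := 7) (by decide) (by decide) (c := 0xd4) (by decide +kernel)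
noncomputable def pt2954 := Classical.choose pt2954e
theorem pt2954r : A0.Rep pt2954c pt2954 := Classical.choose_spec pt2954e
theorem pt2955e : ∃ x, A0.Rep pt2955c x := act2_rep (n := 112) (d := 7) (by decide) (by decide) (c := 0xa3) (by decide +kernel)
noncomputable def pt2955 := Classical.choose pt2955e
theorem pt2955r : A0.Rep pt2955c pt2955 := Classical.choose_spec pt2955e
theorem MT2_s0_2958 : C.Mem R (C.gen R 29903818502892741153530303886373729604437863312993138779258582509511076160928967700321469217112064) 69987751218984539759755281224351544587072216379538084660084765321902851534928468262052375740563849216 := MT2_m0.slp' chk2957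
theorem MT2_c0i : C.Mem R (C.gen R 29903818502892741153530303886373729604437863312993138779258582509511076160928967700321469217112064) 69957847400481647018601750920465170857467778516225091521305506739393340458767539294352054271346737152 := MT2_s0_2958.sub chk2959
theorem MT2_c0m : C.Mem R (C.gen R 69957847400481647018601750920465170857467778516225091521305506739393340458767539294352054271346737152) 69957847400481647018601750920465170857467778516225091521305506739393340458767539294352054271346737152 := MT2_c0i.gen
theorem fx2961 : C.gen R 69957847400481647018601750920465170857467778516225091521305506739393340458767539294352054271346737152 ≤ stabilizer _ pt2947 := Act.fix_sound MT2_c0i.top pt2947r chk2960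
theorem cov2968 : Cov (C.gen R 29903818502892741153530303886373729604437863312993138779258582509511076160928967700321469217112064) (C.wds R [0]) pt2947 24 := Act.cov_of_seen (Act.pieces_sound MT2_s0_2958 MT2_s0_2958.top pt2947r chk2966) chk2967
theorem MT2_c1i : C.Mem R (C.gen R 69957847400481647018601750920465170857467778516225091521305506739393340458767539294352054271346737152) 69718616852458505089373508489374181020632275609721146411071438079317251849480107552749482517609840640 := MT2_c0m.sub chk2969
theorem MT2_c1m : C.Mem R (C.gen R 69718616852458505089373508489374181020632275609721146411071438079317251849480107552749482517609840640) 69718616852458505089373508489374181020632275609721146411071438079317251849480107552749482517609840640 := MT2_c1i.gen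
theorem fx2971 : C.gen R 69718616852458505089373508489374181020632275609721146411071438079317251849480107552749482517609840640 ≤ stabilizer _ pt2948 := Act.fix_sound MT2_c1i.top pt2948r chk2970
theorem cov2978 : Cov (C.gen R 69957847400481647018601750920465170857467778516225091521305506739393340458767539294352054271346737152) (C.wds R [0]) pt2948 128 := Act.cov_of_seen (Act.pieces_sound MT2_c0m MT2_c0m.top pt2948r chk2976) chk2977
theorem MT2_c2i : C.Mem R (C.gen R 69718616852458505089373508489374181020632275609721146411071438079317251849480107552749482517609840640) 68898397830664875617733820154205073008624837073136191747411774101913519474780341581540665076226195456 := MT2_c1m.sub chk2979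
theorem MT2_c2m : C.Mem R (C.gen R 68898397830664875617733820154205073008624837073136191747411774101913519474780341581540665076226195456) 68898397830664875617733820154205073008624837073136191747411774101913519474780341581540665076226195456 := MT2_c2i.gen
theorem fx2981 : C.gen R 68898397830664875617733820154205073008624837073136191747411774101913519474780341581540665076226195456 ≤ stabilizer _ pt2949 := Act.fix_sound MT2_c2i.top pt2949r chk2980
theorem cov2988 : Cov (C.gen R 69718616852458505089373508489374181020632275609721146411071438079317251849480107552749482517609840640) (C.wds R [0]) pt2949 12 := Act.cov_of_seen (Act.pieces_sound MT2_c1m MT2_c1m.top pt2949r chk2986) chk2987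
theorem MT2_c3i : C.Mem R (C.gen R 68898397830664875617733820154205073008624837073136191747411774101913519474780341581540665076226195456) 67804772468273369655547569040646262325948252357689585529198888798708542975180653619928908487714668544 := MT2_c2m.sub chk2989
theorem MT2_c3m : C.Mem R (C.gen R 67804772468273369655547569040646262325948252357689585529198888798708542975180653619928908487714668544) 67804772468273369655547569040646262325948252357689585529198888798708542975180653619928908487714668544 := MT2_c3i.gen
theorem fx2991 : C.gen R 67804772468273369655547569040646262325948252357689585529198888798708542975180653619928908487714668544 ≤ stabilizer _ pt2950 := Act.fix_sound MT2_c3i.top pt2950r chk2990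
theorem cov2998 : Cov (C.gen R 68898397830664875617733820154205073008624837073136191747411774101913519474780341581540665076226195456) (C.wds R [0]) pt2950 2 := Act.cov_of_seen (Act.pieces_sound MT2_c2m MT2_c2m.top pt2950r chk2996) chk2997
theorem MT2_c4i : C.Mem R (C.gen R 67804772468273369655547569040646262325948252357689585529198888798708542975180653619928908487714668544) 65617521743490357731175066813528640960595082926796373092773118192298589975981277696705395310691614720 := MT2_c3m.sub chk2999
theorem MT2_c4m : C.Mem R (C.gen R 65617521743490357731175066813528640960595082926796373092773118192298589975981277696705395310691614720) 65617521743490357731175066813528640960595082926796373092773118192298589975981277696705395310691614720 := MT2_c4i.gen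
theorem fx3001 : C.gen R 65617521743490357731175066813528640960595082926796373092773118192298589975981277696705395310691614720 ≤ stabilizer _ pt2951 := Act.fix_sound MT2_c4i.top pt2951r chk3000
theorem cov3008 : Cov (C.gen R 67804772468273369655547569040646262325948252357689585529198888798708542975180653619928908487714668544) (C.wds R [0]) pt2951 2 := Act.cov_of_seen (Act.pieces_sound MT2_c3m MT2_c3m.top pt2951r chk3006) chk3007
theorem MT2_c5i : C.Mem R (C.gen R 65617521743490357731175066813528640960595082926796373092773118192298589975981277696705395310691614720) 61243020293924333882430062359293398229888744065009948219921576979478683977582525850258368956645507072 := MT2_c4m.sub chk3009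
theorem MT2_c5m : C.Mem R (C.gen R 61243020293924333882430062359293398229888744065009948219921576979478683977582525850258368956645507072) 61243020293924333882430062359293398229888744065009948219921576979478683977582525850258368956645507072 := MT2_c5i.gen
theorem fx3011 : C.gen R 61243020293924333882430062359293398229888744065009948219921576979478683977582525850258368956645507072 ≤ stabilizer _ pt2952 := Act.fix_sound MT2_c5i.top pt2952r chk3010
theorem cov3018 : Cov (C.gen R 65617521743490357731175066813528640960595082926796373092773118192298589975981277696705395310691614720) (C.wds R [0]) pt2952 2 := Act.cov_of_seen (Act.pieces_sound MT2_c4m MT2_c4m.top pt2952r chk3016) chk3017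
theorem MT2_c6i : C.Mem R (C.gen R 61243020293924333882430062359293398229888744065009948219921576979478683977582525850258368956645507072) 52494017394792286184940053450822912768476066341437098474218494553838871980785022157364316248553291776 := MT2_c5m.sub chk3019
theorem MT2_c6m : C.Mem R (C.gen R 52494017394792286184940053450822912768476066341437098474218494553838871980785022157364316248553291776) 52494017394792286184940053450822912768476066341437098474218494553838871980785022157364316248553291776 := MT2_c6i.gen
theorem fx3021 : C.gen R 52494017394792286184940053450822912768476066341437098474218494553838871980785022157364316248553291776 ≤ stabilizer _ pt2953 := Act.fix_sound MT2_c6i.top pt2953r chk3020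
theorem cov3028 : Cov (C.gen R 61243020293924333882430062359293398229888744065009948219921576979478683977582525850258368956645507072) (C.wds R [0]) pt2953 2 := Act.cov_of_seen (Act.pieces_sound MT2_c5m MT2_c5m.top pt2953r chk3026) chk3027
theorem MT2_c7i : C.Mem R (C.gen R 52494017394792286184940053450822912768476066341437098474218494553838871980785022157364316248553291776) 34996011596528190789960035633881941845650710894291398982812329702559247987190014771576210832368861184 := MT2_c6m.sub chk3029
theorem MT2_c7m : C.Mem R (C.gen R 34996011596528190789960035633881941845650710894291398982812329702559247987190014771576210832368861184) 34996011596528190789960035633881941845650710894291398982812329702559247987190014771576210832368861184 := MT2_c7i.gen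
theorem fx3031 : C.gen R 34996011596528190789960035633881941845650710894291398982812329702559247987190014771576210832368861184 ≤ stabilizer _ pt2954 := Act.fix_sound MT2_c7i.top pt2954r chk3030
theorem cov3038 : Cov (C.gen R 52494017394792286184940053450822912768476066341437098474218494553838871980785022157364316248553291776) (C.wds R [0]) pt2954 2 := Act.cov_of_seen (Act.pieces_sound MT2_c6m MT2_c6m.top pt2954r chk3036) chk3037
theorem MT2_c8i : C.Mem R (C.gen R 34996011596528190789960035633881941845650710894291398982812329702559247987190014771576210832368861184) 0 := MT2_c7m.sub chk3039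
theorem MT2_c8m : C.Mem R (C.gen R 0) 0 := MT2_c8i.gen
theorem fx3041 : C.gen R 0 ≤ stabilizer _ pt2955 := Act.fix_sound MT2_c8i.top pt2955r chk3040
theorem cov3048 : Cov (C.gen R 34996011596528190789960035633881941845650710894291398982812329702559247987190014771576210832368861184) (C.wds R [0]) pt2955 2 := Act.cov_of_seen (Act.pieces_sound MT2_c7m MT2_c7m.top pt2955r chk3046) chk3047
theorem MT2_lb9 : 1 ≤ Nat.card (C.gen R 0) := Nat.card_pos
theorem MT2_lo8 : 2 * Nat.card (C.gen R 0) ≤ Nat.card (C.gen R 34996011596528190789960035633881941845650710894291398982812329702559247987190014771576210832368861184) := cov3048.low le_rfl (GC.wds_zero _) MT2_c8i.gen_le fx3041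
theorem MT2_lb8 : 2 ≤ Nat.card (C.gen R 34996011596528190789960035633881941845650710894291398982812329702559247987190014771576210832368861184) := low_step MT2_lo8 MT2_lb9 (by decide +kernel)
theorem MT2_lo7 : 2 * Nat.card (C.gen R 34996011596528190789960035633881941845650710894291398982812329702559247987190014771576210832368861184) ≤ Nat.card (C.gen R 52494017394792286184940053450822912768476066341437098474218494553838871980785022157364316248553291776) := cov3038.low le_rfl (GC.wds_zero _) MT2_c7i.gen_le fx3031
theorem MT2_lb7 : 4 ≤ Nat.card (C.gen R 52494017394792286184940053450822912768476066341437098474218494553838871980785022157364316248553291776) := low_step MT2_lo7 MT2_lb8 (by decide +kernel)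
theorem MT2_lo6 : 2 * Nat.card (C.gen R 52494017394792286184940053450822912768476066341437098474218494553838871980785022157364316248553291776) ≤ Nat.card (C.gen R 61243020293924333882430062359293398229888744065009948219921576979478683977582525850258368956645507072) := cov3028.low le_rfl (GC.wds_zero _) MT2_c6i.gen_le fx3021
theorem MT2_lb6 : 8 ≤ Nat.card (C.gen R 61243020293924333882430062359293398229888744065009948219921576979478683977582525850258368956645507072) := low_step MT2_lo6 MT2_lb7 (by decide +kernel)
theorem MT2_lo5 : 2 * Nat.card (C.gen R 61243020293924333882430062359293398229888744065009948219921576979478683977582525850258368956645507072) ≤ Nat.card (C.gen R 65617521743490357731175066813528640960595082926796373092773118192298589975981277696705395310691614720) := cov3018.low le_rfl (GC.wds_zero _) MT2_c5i.gen_le fx3011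
theorem MT2_lb5 : 16 ≤ Nat.card (C.gen R 65617521743490357731175066813528640960595082926796373092773118192298589975981277696705395310691614720) := low_step MT2_lo5 MT2_lb6 (by decide +kernel)
theorem MT2_lo4 : 2 * Nat.card (C.gen R 65617521743490357731175066813528640960595082926796373092773118192298589975981277696705395310691614720) ≤ Nat.card (C.gen R 67804772468273369655547569040646262325948252357689585529198888798708542975180653619928908487714668544) := cov3008.low le_rfl (GC.wds_zero _) MT2_c4i.gen_le fx3001
theorem MT2_lb4 : 32 ≤ Nat.card (C.gen R 67804772468273369655547569040646262325948252357689585529198888798708542975180653619928908487714668544) := low_step MT2_lo4 MT2_lb5 (by decide +kernel)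
theorem MT2_lo3 : 2 * Nat.card (C.gen R 67804772468273369655547569040646262325948252357689585529198888798708542975180653619928908487714668544) ≤ Nat.card (C.gen R 68898397830664875617733820154205073008624837073136191747411774101913519474780341581540665076226195456) := cov2998.low le_rfl (GC.wds_zero _) MT2_c3i.gen_le fx2991
theorem MT2_lb3 : 64 ≤ Nat.card (C.gen R 68898397830664875617733820154205073008624837073136191747411774101913519474780341581540665076226195456) := low_step MT2_lo3 MT2_lb4 (by decide +kernel)
theorem MT2_lo2 : 12 * Nat.card (C.gen R 68898397830664875617733820154205073008624837073136191747411774101913519474780341581540665076226195456) ≤ Nat.card (C.gen R 69718616852458505089373508489374181020632275609721146411071438079317251849480107552749482517609840640) := cov2988.low le_rfl (GC.wds_zero _) MT2_c2i.gen_le fx2981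
theorem MT2_lb2 : 768 ≤ Nat.card (C.gen R 69718616852458505089373508489374181020632275609721146411071438079317251849480107552749482517609840640) := low_step MT2_lo2 MT2_lb3 (by decide +kernel)
theorem MT2_lo1 : 128 * Nat.card (C.gen R 69718616852458505089373508489374181020632275609721146411071438079317251849480107552749482517609840640) ≤ Nat.card (C.gen R 69957847400481647018601750920465170857467778516225091521305506739393340458767539294352054271346737152) := cov2978.low le_rfl (GC.wds_zero _) MT2_c1i.gen_le fx2971
theorem MT2_lb1 : 98304 ≤ Nat.card (C.gen R 69957847400481647018601750920465170857467778516225091521305506739393340458767539294352054271346737152) := low_step MT2_lo1 MT2_lb2 (by decide +kernel)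
theorem MT2_lo0 : 24 * Nat.card (C.gen R 69957847400481647018601750920465170857467778516225091521305506739393340458767539294352054271346737152) ≤ Nat.card (C.gen R 29903818502892741153530303886373729604437863312993138779258582509511076160928967700321469217112064) := cov2968.low le_rfl (GC.wds_zero _) MT2_c0i.gen_le fx2961
theorem MT2_lb0 : 2359296 ≤ Nat.card (C.gen R 29903818502892741153530303886373729604437863312993138779258582509511076160928967700321469217112064) := low_step MT2_lo0 MT2_lb1 (by decide +kernel)
theorem M_T2c : ∀ τ ∈ (C.gen R 29903818502892741153530303886373729604437863312993138779258582509511076160928967700321469217112064), C.el (R 287) * τ * (C.el (R 287))⁻¹ ∈ (C.gen R 16777214) := Lb_m0.conjA (M_I.get (i := 287) (by decide +kernel)).top MT2_in2946.top chk3050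
theorem cov3059 : Cov (C.gen R 29903818502892741153530303886373729604437863312993138779258582509511076160928967700321469217112064) (C.wds R (List.map Prod.fst (l3051))) pt2674 16 := Act.cov_of_seen (Act.pieces_sound MT2_s0_2958 Lb_m0.top pt2674r chk3057) chk3058
theorem M_T2d : Dec (C.gen R 16777214) (C.gen R 29903818502892741153530303886373729604437863312993138779258582509511076160928967700321469217112064) (C.wds R (List.map Prod.fst (l3051))) (C.gen R 1491969709229359926466146744440462520301368452392043152321391930679478491037600126599168) := cov3059.dec MT2_in2946.gen_le (GC.wds_sub Lb_m0 chk3060) MK_in2699.gen_le fx2794 (up_low Lb_ub MK_lb0 (by decide +kernel))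
theorem M_T2p : ∀ x ∈ DC1 (C.gen R 16777214) (C.el (R 287)), x * C.el (R 26) ∈ DCs (C.gen R 16777214) (C.els R 248661618204893321077691124073410420050228075398673858720231988446579748506266754875392) := GC.dc_piece' M_T2d M_T2c M_Kc (Lb_m0.dcRel M_I.top (M_I.get (i := 287) (by decide +kernel)).top (M_m0.get (i := 26) (by decide +kernel)).top chk3052)
theorem M_T2u : Nat.card (C.gen R 16777214) ≤ 60 * Nat.card (C.gen R 29903818502892741153530303886373729604437863312993138779258582509511076160928967700321469217112064) := up_low Lb_ub MT2_lb0 (by decide +kernel)
theorem M_T2n : (DC1 (C.gen R 16777214) (C.el (R 287))).ncard ≤ Nat.card (C.gen R 16777214) * 60 := ncard_DC1 MT2_in2946.gen_le M_T2c M_T2u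
theorem M_dc : ∀ x ∈ (C.gen R 83886078), x ∈ DCs (C.gen R 16777214) (C.els R 248661618204893321077691124073410420050228075398673858720231988446579748506266754875392) := GC.dc_gen (MU := 67108864) Lb_m0 (by decide +kernel) (GC.forall_els (L := [26]) (forall_cons ⟨Lb_m0.inDC' M_I.top (M_m0.get (i := 26) (by decide +kernel)).top chk3061, GC.forall_els (L := [26, 287]) (forall_cons M_T1p (forall_cons M_T2p forall_nil)) (by decide +kernel)⟩ forall_nil) (by decide +kernel))
theorem M_cs : ∀ p ∈ ([(26, 16), (287, 60)] : List (ℕ × ℕ)), (DC1 (C.gen R 16777214) (C.el (R p.1))).ncard ≤ Nat.card (C.gen R 16777214) * p.2 := (forall_cons M_T1n (forall_cons M_T2n forall_nil))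
theorem M_ix : Nat.card (C.gen R 83886078) ≤ 77 * Nat.card (C.gen R 16777214) := GC.card_dc [(26, 16), (287, 60)] M_dc M_cs (by decide +kernel)
theorem M_ub : Nat.card (C.gen R 83886078) ≤ 10899947520 := up_mul M_ix Lb_ub (by decide +kernel)
theorem M_max : ∀ L, (C.gen R 16777214) ≤ L → L ≤ (C.gen R 83886078) → L = (C.gen R 16777214) ∨ L = (C.gen R 83886078) := maximal_of_DCs M_dc (Lb_m0.maxChk M_I.top chk3063 chk3064)
theorem M_s1_3067 : C.Mem R (C.gen R 83886078) 209976069579169393401378418696612728765028338776168444124949376889214208155128535209205771260984819710 := M_s0_2677.slp' chk3066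
noncomputable def pt3068 := C.wd R 26 • pt2527
theorem pt3068r : A0.Rep pt3068c pt3068 := Act.appW_ok M_s1_3067 chk3069 pt2527r
theorem pt3068g : C.wd R 26 ∈ (C.gen R 83886078) := M_s1_3067.wd_mem chk3069
noncomputable def pt3070 := C.wd R 28615571957786 • pt2527
theorem pt3070r : A0.Rep pt3070c pt3070 := Act.appW_ok M_s1_3067 chk3071 pt2527r
theorem pt3070g : C.wd R 28615571957786 ∈ (C.gen R 83886078) := M_s1_3067.wd_mem chk3071
noncomputable def pt3072 := C.wd R 29642094778072400 • pt2527
theorem pt3072r : A0.Rep pt3072c pt3072 := Act.appW_ok M_s1_3067 chk3073 pt2527r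
theorem pt3072g : C.wd R 29642094778072400 ∈ (C.gen R 83886078) := M_s1_3067.wd_mem chk3073
noncomputable def pt3074 := C.wd R 27944577359 • pt2527
theorem pt3074r : A0.Rep pt3074c pt3074 := Act.appW_ok M_s1_3067 chk3075 pt2527r
theorem pt3074g : C.wd R 27944577359 ∈ (C.gen R 83886078) := M_s1_3067.wd_mem chk3075
theorem pt3076e : ∃ x, A0.Rep pt3076c x := act2_rep (n := 112) (d := 7) (by decide) (by decide) (c := 0x334) (by decide +kernel)
noncomputable def pt3076 := Classical.choose pt3076e
theorem pt3076r : A0.Rep pt3076c pt3076 := Classical.choose_spec pt3076e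
theorem pt3077e : ∃ x, A0.Rep pt3077c x := act2_rep (n := 112) (d := 7) (by decide) (by decide) (c := 0xc25) (by decide +kernel)
noncomputable def pt3077 := Classical.choose pt3077e
theorem pt3077r : A0.Rep pt3077c pt3077 := Classical.choose_spec pt3077e
theorem pt3078e : ∃ x, A0.Rep pt3078c x := act2_rep (n := 112) (d := 7) (by decide) (by decide) (c := 0xa10) (by decide +kernel)
noncomputable def pt3078 := Classical.choose pt3078e
theorem pt3078r : A0.Rep pt3078c pt3078 := Classical.choose_spec pt3078e
theorem pt3079e : ∃ x, A0.Rep pt3079c x := act2_rep (n := 112) (d := 7) (by decide) (by decide) (c := 0x4c5) (by decide +kernel)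
noncomputable def pt3079 := Classical.choose pt3079e
theorem pt3079r : A0.Rep pt3079c pt3079 := Classical.choose_spec pt3079e
theorem pt3080e : ∃ x, A0.Rep pt3080c x := act2_rep (n := 112) (d := 7) (by decide) (by decide) (c := 0xa3) (by decide +kernel)
noncomputable def pt3080 := Classical.choose pt3080e
theorem pt3080r : A0.Rep pt3080c pt3080 := Classical.choose_spec pt3080e
theorem pt3081e : ∃ x, A0.Rep pt3081c x := act2_rep (n := 112) (d := 7) (by decide) (by decide) (c := 0xbd7) (by decide +kernel)
noncomputable def pt3081 := Classical.choose pt3081e
theorem pt3081r : A0.Rep pt3081c pt3081 := Classical.choose_spec pt3081e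
theorem pt3082e : ∃ x, A0.Rep pt3082c x := act2_rep (n := 112) (d := 7) (by decide) (by decide) (c := 0xd4) (by decide +kernel)
noncomputable def pt3082 := Classical.choose pt3082e
theorem pt3082r : A0.Rep pt3082c pt3082 := Classical.choose_spec pt3082e
theorem Lb_s0_3085 : C.Mem R (C.gen R 16777214) 73391675743589516146019948969381711049955314447697841628410980361743911560847616338122421089837363035635710 := Lb_m0.slp' chk3084
theorem Lb_c0i : C.Mem R (C.gen R 16777214) 73391675743589516146019948969381711049955314447697841628410980361743911560847616338122421089837363018858496 := Lb_s0_3085.sub chk3086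
theorem Lb_c0m : C.Mem R (C.gen R 73391675743589516146019948969381711049955314447697841628410980361743911560847616338122421089837363018858496) 73391675743589516146019948969381711049955314447697841628410980361743911560847616338122421089837363018858496 := Lb_c0i.gen
theorem fx3088 : C.gen R 73391675743589516146019948969381711049955314447697841628410980361743911560847616338122421089837363018858496 ≤ stabilizer _ pt3068 := Act.fix_sound Lb_c0i.top pt3068r chk3087
theorem cov3095 : Cov (C.gen R 16777214) (C.wds R [0]) pt3068 16 := Act.cov_of_seen (Act.pieces_sound Lb_s0_3085 Lb_s0_3085.top pt3068r chk3093) chk3094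
theorem Lb_c1i : C.Mem R (C.gen R 73391675743589516146019948969381711049955314447697841628410980361743911560847616338122421089837363018858496) 73389715966940110567335711207386213661211958007887761310067942871280568242960333697295212822030750362632192 := Lb_c0m.sub chk3096
theorem Lb_c1m : C.Mem R (C.gen R 73389715966940110567335711207386213661211958007887761310067942871280568242960333697295212822030750362632192) 73389715966940110567335711207386213661211958007887761310067942871280568242960333697295212822030750362632192 := Lb_c1i.gen
theorem fx3098 : C.gen R 73389715966940110567335711207386213661211958007887761310067942871280568242960333697295212822030750362632192 ≤ stabilizer _ pt3070 := Act.fix_sound Lb_c1i.top pt3070r chk3097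
theorem cov3105 : Cov (C.gen R 73391675743589516146019948969381711049955314447697841628410980361743911560847616338122421089837363018858496) (C.wds R [0]) pt3070 45 := Act.cov_of_seen (Act.pieces_sound Lb_c0m Lb_c0m.top pt3070r chk3103) chk3104
theorem Lb_c2i : C.Mem R (C.gen R 73389715966940110567335711207386213661211958007887761310067942871280568242960333697295212822030750362632192) 73387476222197932763125153765105645216933836362390526660533042882179604451089153536349831944537478755516416 := Lb_c1m.sub chk3106
theorem Lb_c2m : C.Mem R (C.gen R 73387476222197932763125153765105645216933836362390526660533042882179604451089153536349831944537478755516416) 73387476222197932763125153765105645216933836362390526660533042882179604451089153536349831944537478755516416 := Lb_c2i.gen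
theorem fx3108 : C.gen R 73387476222197932763125153765105645216933836362390526660533042882179604451089153536349831944537478755516416 ≤ stabilizer _ pt3072 := Act.fix_sound Lb_c2i.top pt3072r chk3107
theorem cov3115 : Cov (C.gen R 73389715966940110567335711207386213661211958007887761310067942871280568242960333697295212822030750362632192) (C.wds R [0]) pt3072 4 := Act.cov_of_seen (Act.pieces_sound Lb_c1m Lb_c1m.top pt3072r chk3113) chk3114
theorem Lb_c3i : C.Mem R (C.gen R 73387476222197932763125153765105645216933836362390526660533042882179604451089153536349831944537478755516416) 73382996732713577154704038880544508328377593071396057361463242903977676867346793214459070189550935541284864 := Lb_c2m.sub chk3116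
theorem Lb_c3m : C.Mem R (C.gen R 73382996732713577154704038880544508328377593071396057361463242903977676867346793214459070189550935541284864) 73382996732713577154704038880544508328377593071396057361463242903977676867346793214459070189550935541284864 := Lb_c3i.gen
theorem fx3118 : C.gen R 73382996732713577154704038880544508328377593071396057361463242903977676867346793214459070189550935541284864 ≤ stabilizer _ pt3074 := Act.fix_sound Lb_c3i.top pt3074r chk3117
theorem cov3125 : Cov (C.gen R 73387476222197932763125153765105645216933836362390526660533042882179604451089153536349831944537478755516416) (C.wds R [0]) pt3074 2 := Act.cov_of_seen (Act.pieces_sound Lb_c2m Lb_c2m.top pt3074r chk3123) chk3124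
theorem Lb_c4i : C.Mem R (C.gen R 73382996732713577154704038880544508328377593071396057361463242903977676867346793214459070189550935541284864) 73176940216433219167332754190732211454790401685650469604252443906689008015198218407484029460169947686633472 := Lb_c3m.sub chk3126
theorem Lb_c4m : C.Mem R (C.gen R 73176940216433219167332754190732211454790401685650469604252443906689008015198218407484029460169947686633472) 73176940216433219167332754190732211454790401685650469604252443906689008015198218407484029460169947686633472 := Lb_c4i.gen
theorem fx3128 : C.gen R 73176940216433219167332754190732211454790401685650469604252443906689008015198218407484029460169947686633472 ≤ stabilizer _ pt3076 := Act.fix_sound Lb_c4i.top pt3076r chk3127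
theorem cov3135 : Cov (C.gen R 73382996732713577154704038880544508328377593071396057361463242903977676867346793214459070189550935541284864) (C.wds R [0]) pt3076 48 := Act.cov_of_seen (Act.pieces_sound Lb_c3m Lb_c3m.top pt3076r chk3133) chk3134
theorem Lb_c5i : C.Mem R (C.gen R 73176940216433219167332754190732211454790401685650469604252443906689008015198218407484029460169947686633472) 72818581057684770493643563425841260370290938406092925678668445650534801315809392656223089061246490548109312 := Lb_c4m.sub chk3136
theorem Lb_c5m : C.Mem R (C.gen R 72818581057684770493643563425841260370290938406092925678668445650534801315809392656223089061246490548109312) 72818581057684770493643563425841260370290938406092925678668445650534801315809392656223089061246490548109312 := Lb_c5i.gen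
theorem fx3138 : C.gen R 72818581057684770493643563425841260370290938406092925678668445650534801315809392656223089061246490548109312 ≤ stabilizer _ pt3077 := Act.fix_sound Lb_c5i.top pt3077r chk3137
theorem cov3145 : Cov (C.gen R 73176940216433219167332754190732211454790401685650469604252443906689008015198218407484029460169947686633472) (C.wds R [0]) pt3077 4 := Act.cov_of_seen (Act.pieces_sound Lb_c4m Lb_c4m.top pt3077r chk3143) chk3144
theorem Lb_c6i : C.Mem R (C.gen R 72818581057684770493643563425841260370290938406092925678668445650534801315809392656223089061246490548109312) 60777713323736895057686753725505303931108972212959449779046104243753456216344847413855491657418330693697536 := Lb_c5m.sub chk3146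
theorem Lb_c6m : C.Mem R (C.gen R 60777713323736895057686753725505303931108972212959449779046104243753456216344847413855491657418330693697536) 60777713323736895057686753725505303931108972212959449779046104243753456216344847413855491657418330693697536 := Lb_c6i.gen
theorem fx3148 : C.gen R 60777713323736895057686753725505303931108972212959449779046104243753456216344847413855491657418330693697536 ≤ stabilizer _ pt3078 := Act.fix_sound Lb_c6i.top pt3078r chk3147
theorem cov3155 : Cov (C.gen R 72818581057684770493643563425841260370290938406092925678668445650534801315809392656223089061246490548109312) (C.wds R [0]) pt3078 8 := Act.cov_of_seen (Act.pieces_sound Lb_c5m Lb_c5m.top pt3078r chk3153) chk3154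
theorem Lb_c7i : C.Mem R (C.gen R 60777713323736895057686753725505303931108972212959449779046104243753456216344847413855491657418330693697536) 59630964015741859301881343277854260460710689718375309217177309824059994778300605009820482380863267850420224 := Lb_c6m.sub chk3156
theorem Lb_c7m : C.Mem R (C.gen R 59630964015741859301881343277854260460710689718375309217177309824059994778300605009820482380863267850420224) 59630964015741859301881343277854260460710689718375309217177309824059994778300605009820482380863267850420224 := Lb_c7i.gen
theorem fx3158 : C.gen R 59630964015741859301881343277854260460710689718375309217177309824059994778300605009820482380863267850420224 ≤ stabilizer _ pt3079 := Act.fix_sound Lb_c7i.top pt3079r chk3157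
theorem cov3165 : Cov (C.gen R 60777713323736895057686753725505303931108972212959449779046104243753456216344847413855491657418330693697536) (C.wds R [0]) pt3079 2 := Act.cov_of_seen (Act.pieces_sound Lb_c6m Lb_c6m.top pt3079r chk3163) chk3164
theorem Lb_c8i : C.Mem R (C.gen R 59630964015741859301881343277854260460710689718375309217177309824059994778300605009820482380863267850420224) 55043966783761716278659701487250086579117559740038746969702132145286149026123635393680445274643016477310976 := Lb_c7m.sub chk3166
theorem Lb_c8m : C.Mem R (C.gen R 55043966783761716278659701487250086579117559740038746969702132145286149026123635393680445274643016477310976) 55043966783761716278659701487250086579117559740038746969702132145286149026123635393680445274643016477310976 := Lb_c8i.gen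
theorem fx3168 : C.gen R 55043966783761716278659701487250086579117559740038746969702132145286149026123635393680445274643016477310976 ≤ stabilizer _ pt3080 := Act.fix_sound Lb_c8i.top pt3080r chk3167
theorem cov3175 : Cov (C.gen R 59630964015741859301881343277854260460710689718375309217177309824059994778300605009820482380863267850420224) (C.wds R [0]) pt3080 2 := Act.cov_of_seen (Act.pieces_sound Lb_c7m Lb_c7m.top pt3080r chk3173) chk3174
theorem Lb_c9i : C.Mem R (C.gen R 55043966783761716278659701487250086579117559740038746969702132145286149026123635393680445274643016477310976) 36695977855841144185773134324833391052745039826692497979801421430190766017415756929120296849762010984873984 := Lb_c8m.sub chk3176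
theorem Lb_c9m : C.Mem R (C.gen R 36695977855841144185773134324833391052745039826692497979801421430190766017415756929120296849762010984873984) 36695977855841144185773134324833391052745039826692497979801421430190766017415756929120296849762010984873984 := Lb_c9i.gen
theorem fx3178 : C.gen R 36695977855841144185773134324833391052745039826692497979801421430190766017415756929120296849762010984873984 ≤ stabilizer _ pt3081 := Act.fix_sound Lb_c9i.top pt3081r chk3177
theorem cov3185 : Cov (C.gen R 55043966783761716278659701487250086579117559740038746969702132145286149026123635393680445274643016477310976) (C.wds R [0]) pt3081 2 := Act.cov_of_seen (Act.pieces_sound Lb_c8m Lb_c8m.top pt3081r chk3183) chk3184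
theorem Lb_c10i : C.Mem R (C.gen R 36695977855841144185773134324833391052745039826692497979801421430190766017415756929120296849762010984873984) 0 := Lb_c9m.sub chk3186
theorem Lb_c10m : C.Mem R (C.gen R 0) 0 := Lb_c10i.gen
theorem fx3188 : C.gen R 0 ≤ stabilizer _ pt3082 := Act.fix_sound Lb_c10i.top pt3082r chk3187
theorem cov3195 : Cov (C.gen R 36695977855841144185773134324833391052745039826692497979801421430190766017415756929120296849762010984873984) (C.wds R [0]) pt3082 2 := Act.cov_of_seen (Act.pieces_sound Lb_c9m Lb_c9m.top pt3082r chk3193) chk3194
theorem Lb_lb11 : 1 ≤ Nat.card (C.gen R 0) := Nat.card_pos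
theorem Lb_lo10 : 2 * Nat.card (C.gen R 0) ≤ Nat.card (C.gen R 36695977855841144185773134324833391052745039826692497979801421430190766017415756929120296849762010984873984) := cov3195.low le_rfl (GC.wds_zero _) Lb_c10i.gen_le fx3188
theorem Lb_lb10 : 2 ≤ Nat.card (C.gen R 36695977855841144185773134324833391052745039826692497979801421430190766017415756929120296849762010984873984) := low_step Lb_lo10 Lb_lb11 (by decide +kernel)
theorem Lb_lo9 : 2 * Nat.card (C.gen R 36695977855841144185773134324833391052745039826692497979801421430190766017415756929120296849762010984873984) ≤ Nat.card (C.gen R 55043966783761716278659701487250086579117559740038746969702132145286149026123635393680445274643016477310976) := cov3185.low le_rfl (GC.wds_zero _) Lb_c9i.gen_le fx3178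
theorem Lb_lb9 : 4 ≤ Nat.card (C.gen R 55043966783761716278659701487250086579117559740038746969702132145286149026123635393680445274643016477310976) := low_step Lb_lo9 Lb_lb10 (by decide +kernel)
theorem Lb_lo8 : 2 * Nat.card (C.gen R 55043966783761716278659701487250086579117559740038746969702132145286149026123635393680445274643016477310976) ≤ Nat.card (C.gen R 59630964015741859301881343277854260460710689718375309217177309824059994778300605009820482380863267850420224) := cov3175.low le_rfl (GC.wds_zero _) Lb_c8i.gen_le fx3168
theorem Lb_lb8 : 8 ≤ Nat.card (C.gen R 59630964015741859301881343277854260460710689718375309217177309824059994778300605009820482380863267850420224) := low_step Lb_lo8 Lb_lb9 (by decide +kernel)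
theorem Lb_lo7 : 2 * Nat.card (C.gen R 59630964015741859301881343277854260460710689718375309217177309824059994778300605009820482380863267850420224) ≤ Nat.card (C.gen R 60777713323736895057686753725505303931108972212959449779046104243753456216344847413855491657418330693697536) := cov3165.low le_rfl (GC.wds_zero _) Lb_c7i.gen_le fx3158
theorem Lb_lb7 : 16 ≤ Nat.card (C.gen R 60777713323736895057686753725505303931108972212959449779046104243753456216344847413855491657418330693697536) := low_step Lb_lo7 Lb_lb8 (by decide +kernel)
theorem Lb_lo6 : 8 * Nat.card (C.gen R 60777713323736895057686753725505303931108972212959449779046104243753456216344847413855491657418330693697536) ≤ Nat.card (C.gen R 72818581057684770493643563425841260370290938406092925678668445650534801315809392656223089061246490548109312) := cov3155.low le_rfl (GC.wds_zero _) Lb_c6i.gen_le fx3148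
theorem Lb_lb6 : 128 ≤ Nat.card (C.gen R 72818581057684770493643563425841260370290938406092925678668445650534801315809392656223089061246490548109312) := low_step Lb_lo6 Lb_lb7 (by decide +kernel)
theorem Lb_lo5 : 4 * Nat.card (C.gen R 72818581057684770493643563425841260370290938406092925678668445650534801315809392656223089061246490548109312) ≤ Nat.card (C.gen R 73176940216433219167332754190732211454790401685650469604252443906689008015198218407484029460169947686633472) := cov3145.low le_rfl (GC.wds_zero _) Lb_c5i.gen_le fx3138
theorem Lb_lb5 : 512 ≤ Nat.card (C.gen R 73176940216433219167332754190732211454790401685650469604252443906689008015198218407484029460169947686633472) := low_step Lb_lo5 Lb_lb6 (by decide +kernel)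
theorem Lb_lo4 : 48 * Nat.card (C.gen R 73176940216433219167332754190732211454790401685650469604252443906689008015198218407484029460169947686633472) ≤ Nat.card (C.gen R 73382996732713577154704038880544508328377593071396057361463242903977676867346793214459070189550935541284864) := cov3135.low le_rfl (GC.wds_zero _) Lb_c4i.gen_le fx3128
theorem Lb_lb4 : 24576 ≤ Nat.card (C.gen R 73382996732713577154704038880544508328377593071396057361463242903977676867346793214459070189550935541284864) := low_step Lb_lo4 Lb_lb5 (by decide +kernel)
theorem Lb_lo3 : 2 * Nat.card (C.gen R 73382996732713577154704038880544508328377593071396057361463242903977676867346793214459070189550935541284864) ≤ Nat.card (C.gen R 73387476222197932763125153765105645216933836362390526660533042882179604451089153536349831944537478755516416) := cov3125.low le_rfl (GC.wds_zero _) Lb_c3i.gen_le fx3118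
theorem Lb_lb3 : 49152 ≤ Nat.card (C.gen R 73387476222197932763125153765105645216933836362390526660533042882179604451089153536349831944537478755516416) := low_step Lb_lo3 Lb_lb4 (by decide +kernel)
theorem Lb_lo2 : 4 * Nat.card (C.gen R 73387476222197932763125153765105645216933836362390526660533042882179604451089153536349831944537478755516416) ≤ Nat.card (C.gen R 73389715966940110567335711207386213661211958007887761310067942871280568242960333697295212822030750362632192) := cov3115.low le_rfl (GC.wds_zero _) Lb_c2i.gen_le fx3108
theorem Lb_lb2 : 196608 ≤ Nat.card (C.gen R 73389715966940110567335711207386213661211958007887761310067942871280568242960333697295212822030750362632192) := low_step Lb_lo2 Lb_lb3 (by decide +kernel)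
theorem Lb_lo1 : 45 * Nat.card (C.gen R 73389715966940110567335711207386213661211958007887761310067942871280568242960333697295212822030750362632192) ≤ Nat.card (C.gen R 73391675743589516146019948969381711049955314447697841628410980361743911560847616338122421089837363018858496) := cov3105.low le_rfl (GC.wds_zero _) Lb_c1i.gen_le fx3098
theorem Lb_lb1 : 8847360 ≤ Nat.card (C.gen R 73391675743589516146019948969381711049955314447697841628410980361743911560847616338122421089837363018858496) := low_step Lb_lo1 Lb_lb2 (by decide +kernel)
theorem Lb_lo0 : 16 * Nat.card (C.gen R 73391675743589516146019948969381711049955314447697841628410980361743911560847616338122421089837363018858496) ≤ Nat.card (C.gen R 16777214) := cov3095.low le_rfl (GC.wds_zero _) Lb_c0i.gen_le fx3088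
theorem Lb_lb0 : 141557760 ≤ Nat.card (C.gen R 16777214) := low_step Lb_lo0 Lb_lb1 (by decide +kernel)
theorem Lb_st0 : (C.gen R 16777214) ⊓ stabilizer _ pt3068 = (C.gen R 73391675743589516146019948969381711049955314447697841628410980361743911560847616338122421089837363018858496) ∧ (orbit (C.gen R 16777214) pt3068).ncard = 16 := cov3095.stab le_rfl (GC.wds_zero _) Lb_c0i.gen_le fx3088 (up_low Lb_ub Lb_lb1 (by decide +kernel))
theorem Lb_ub1 : Nat.card (C.gen R 73391675743589516146019948969381711049955314447697841628410980361743911560847616338122421089837363018858496) ≤ 8847360 := up_step Lb_lo0 Lb_ub (by decide +kernel)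
theorem Lb_st1 : (C.gen R 73391675743589516146019948969381711049955314447697841628410980361743911560847616338122421089837363018858496) ⊓ stabilizer _ pt3070 = (C.gen R 73389715966940110567335711207386213661211958007887761310067942871280568242960333697295212822030750362632192) ∧ (orbit (C.gen R 73391675743589516146019948969381711049955314447697841628410980361743911560847616338122421089837363018858496) pt3070).ncard = 45 := cov3105.stab le_rfl (GC.wds_zero _) Lb_c1i.gen_le fx3098 (up_low Lb_ub1 Lb_lb2 (by decide +kernel))
theorem Lb_ub2 : Nat.card (C.gen R 73389715966940110567335711207386213661211958007887761310067942871280568242960333697295212822030750362632192) ≤ 196608 := up_step Lb_lo1 Lb_ub1 (by decide +kernel)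
theorem Lb_st2 : (C.gen R 73389715966940110567335711207386213661211958007887761310067942871280568242960333697295212822030750362632192) ⊓ stabilizer _ pt3072 = (C.gen R 73387476222197932763125153765105645216933836362390526660533042882179604451089153536349831944537478755516416) ∧ (orbit (C.gen R 73389715966940110567335711207386213661211958007887761310067942871280568242960333697295212822030750362632192) pt3072).ncard = 4 := cov3115.stab le_rfl (GC.wds_zero _) Lb_c2i.gen_le fx3108 (up_low Lb_ub2 Lb_lb3 (by decide +kernel))
theorem Lb_ub3 : Nat.card (C.gen R 73387476222197932763125153765105645216933836362390526660533042882179604451089153536349831944537478755516416) ≤ 49152 := up_step Lb_lo2 Lb_ub2 (by decide +kernel)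
theorem Lb_st3 : (C.gen R 73387476222197932763125153765105645216933836362390526660533042882179604451089153536349831944537478755516416) ⊓ stabilizer _ pt3074 = (C.gen R 73382996732713577154704038880544508328377593071396057361463242903977676867346793214459070189550935541284864) ∧ (orbit (C.gen R 73387476222197932763125153765105645216933836362390526660533042882179604451089153536349831944537478755516416) pt3074).ncard = 2 := cov3125.stab le_rfl (GC.wds_zero _) Lb_c3i.gen_le fx3118 (up_low Lb_ub3 Lb_lb4 (by decide +kernel))
theorem Lb_ub4 : Nat.card (C.gen R 73382996732713577154704038880544508328377593071396057361463242903977676867346793214459070189550935541284864) ≤ 24576 := up_step Lb_lo3 Lb_ub3 (by decide +kernel)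
theorem Lb_st4 : (C.gen R 73382996732713577154704038880544508328377593071396057361463242903977676867346793214459070189550935541284864) ⊓ stabilizer _ pt3076 = (C.gen R 73176940216433219167332754190732211454790401685650469604252443906689008015198218407484029460169947686633472) ∧ (orbit (C.gen R 73382996732713577154704038880544508328377593071396057361463242903977676867346793214459070189550935541284864) pt3076).ncard = 48 := cov3135.stab le_rfl (GC.wds_zero _) Lb_c4i.gen_le fx3128 (up_low Lb_ub4 Lb_lb5 (by decide +kernel))
theorem Lb_ub5 : Nat.card (C.gen R 73176940216433219167332754190732211454790401685650469604252443906689008015198218407484029460169947686633472) ≤ 512 := up_step Lb_lo4 Lb_ub4 (by decide +kernel)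
theorem Lb_st5 : (C.gen R 73176940216433219167332754190732211454790401685650469604252443906689008015198218407484029460169947686633472) ⊓ stabilizer _ pt3077 = (C.gen R 72818581057684770493643563425841260370290938406092925678668445650534801315809392656223089061246490548109312) ∧ (orbit (C.gen R 73176940216433219167332754190732211454790401685650469604252443906689008015198218407484029460169947686633472) pt3077).ncard = 4 := cov3145.stab le_rfl (GC.wds_zero _) Lb_c5i.gen_le fx3138 (up_low Lb_ub5 Lb_lb6 (by decide +kernel))
theorem Lb_ub6 : Nat.card (C.gen R 72818581057684770493643563425841260370290938406092925678668445650534801315809392656223089061246490548109312) ≤ 128 := up_step Lb_lo5 Lb_ub5 (by decide +kernel)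
theorem Lb_st6 : (C.gen R 72818581057684770493643563425841260370290938406092925678668445650534801315809392656223089061246490548109312) ⊓ stabilizer _ pt3078 = (C.gen R 60777713323736895057686753725505303931108972212959449779046104243753456216344847413855491657418330693697536) ∧ (orbit (C.gen R 72818581057684770493643563425841260370290938406092925678668445650534801315809392656223089061246490548109312) pt3078).ncard = 8 := cov3155.stab le_rfl (GC.wds_zero _) Lb_c6i.gen_le fx3148 (up_low Lb_ub6 Lb_lb7 (by decide +kernel))
theorem Lb_ub7 : Nat.card (C.gen R 60777713323736895057686753725505303931108972212959449779046104243753456216344847413855491657418330693697536) ≤ 16 := up_step Lb_lo6 Lb_ub6 (by decide +kernel)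
theorem Lb_st7 : (C.gen R 60777713323736895057686753725505303931108972212959449779046104243753456216344847413855491657418330693697536) ⊓ stabilizer _ pt3079 = (C.gen R 59630964015741859301881343277854260460710689718375309217177309824059994778300605009820482380863267850420224) ∧ (orbit (C.gen R 60777713323736895057686753725505303931108972212959449779046104243753456216344847413855491657418330693697536) pt3079).ncard = 2 := cov3165.stab le_rfl (GC.wds_zero _) Lb_c7i.gen_le fx3158 (up_low Lb_ub7 Lb_lb8 (by decide +kernel))
theorem Lb_ub8 : Nat.card (C.gen R 59630964015741859301881343277854260460710689718375309217177309824059994778300605009820482380863267850420224) ≤ 8 := up_step Lb_lo7 Lb_ub7 (by decide +kernel)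
theorem Lb_st8 : (C.gen R 59630964015741859301881343277854260460710689718375309217177309824059994778300605009820482380863267850420224) ⊓ stabilizer _ pt3080 = (C.gen R 55043966783761716278659701487250086579117559740038746969702132145286149026123635393680445274643016477310976) ∧ (orbit (C.gen R 59630964015741859301881343277854260460710689718375309217177309824059994778300605009820482380863267850420224) pt3080).ncard = 2 := cov3175.stab le_rfl (GC.wds_zero _) Lb_c8i.gen_le fx3168 (up_low Lb_ub8 Lb_lb9 (by decide +kernel))
theorem Lb_ub9 : Nat.card (C.gen R 55043966783761716278659701487250086579117559740038746969702132145286149026123635393680445274643016477310976) ≤ 4 := up_step Lb_lo8 Lb_ub8 (by decide +kernel)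
theorem Lb_st9 : (C.gen R 55043966783761716278659701487250086579117559740038746969702132145286149026123635393680445274643016477310976) ⊓ stabilizer _ pt3081 = (C.gen R 36695977855841144185773134324833391052745039826692497979801421430190766017415756929120296849762010984873984) ∧ (orbit (C.gen R 55043966783761716278659701487250086579117559740038746969702132145286149026123635393680445274643016477310976) pt3081).ncard = 2 := cov3185.stab le_rfl (GC.wds_zero _) Lb_c9i.gen_le fx3178 (up_low Lb_ub9 Lb_lb10 (by decide +kernel))
theorem Lb_ub10 : Nat.card (C.gen R 36695977855841144185773134324833391052745039826692497979801421430190766017415756929120296849762010984873984) ≤ 2 := up_step Lb_lo9 Lb_ub9 (by decide +kernel)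
theorem Lb_st10 : (C.gen R 36695977855841144185773134324833391052745039826692497979801421430190766017415756929120296849762010984873984) ⊓ stabilizer _ pt3082 = (C.gen R 0) ∧ (orbit (C.gen R 36695977855841144185773134324833391052745039826692497979801421430190766017415756929120296849762010984873984) pt3082).ncard = 2 := cov3195.stab le_rfl (GC.wds_zero _) Lb_c10i.gen_le fx3188 (up_low Lb_ub10 Lb_lb11 (by decide +kernel))
theorem Lb_ub11 : Nat.card (C.gen R 0) ≤ 1 := up_step Lb_lo10 Lb_ub10 (by decide +kernel)
theorem cov3202 : Cov (C.gen R 83886078) (C.wds R [0]) pt2527 77 := Act.cov_of_seen (Act.pieces_sound M_s1_3067 M_s1_3067.top pt2527r chk3200) chk3201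
theorem fx3204 : C.gen R 16777214 ≤ stabilizer _ pt2527 := Act.fix_sound (val3.sub chk475) pt2527r chk3203
theorem M_cov : Cov (C.gen R 83886078) (C.wds R [0]) pt2527 77 := cov3202
theorem M_lo : 77 * Nat.card (C.gen R 16777214) ≤ Nat.card (C.gen R 83886078) := cov3202.low le_rfl (GC.wds_zero _) (M_s1_3067.sub chk3205).gen_le fx3204
theorem M_lb : 10899947520 ≤ Nat.card (C.gen R 83886078) := low_step M_lo Lb_lb0 (by decide +kernel)
theorem coreM (N : Subgroup _) (h : N ≤ (C.gen R 16777214)) (hN : NormBy (C.gen R 83886078) N) : N ≤ (C.gen R 73382996732713577154704038880544508328377593071396057361463242903977676867346793214459070189550935541284864) := (le_next Lb_st3 (le_next Lb_st2 (le_next Lb_st1 (le_next Lb_st0 h (hN.fix (h.trans fx3204) pt3068g)) (hN.fix (h.trans fx3204) pt3070g)) (hN.fix (h.trans fx3204) pt3072g)) (hN.fix (h.trans fx3204) pt3074g))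
theorem M_m3 : C.Mem R (C.gen R 83886078) 73391885719659095315413350347800407662684079476036617796855105311120800775055771466657630295608624003678206 := M_s1_3067.lor' (Lb_s0_3085.mono (M_s1_3067.sub chk3206).gen_le) chk3207
theorem N_m0 : C.Mem R (C.gen R 73382996732713577154704038880544508328377593071396057361463242903977676867346793214459070189550935541284864) 73382996732713577154704038880544508328377593071396057361463242903977676867346793214459070189550935541284864 := GC.Mem.gen Lb_c3i.top
theorem M_s3_3210 : C.Mem R (C.gen R 83886078) 146783841431341383686959618997467189768174159129421613756457948171502332809887285324898223995132645973426174 := M_m3.slp' chk3209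
theorem M_s4_3213 : C.Mem R (C.gen R 83886078) 587135575701435113916237230895467882401114637049731589514075005333791525018876368474341786192276777791913982 := M_s3_3210.slp' chk3212
theorem nclM (N : Subgroup _) (hN : NormBy (C.gen R 83886078) N) (hz : C.el (R 355) ∈ N) : C.gen R 83886078 ≤ N := by
  have h0 := (GC.Mem.single (M_s4_3213.get (i := 355) (by decide +kernel)).top hz).lor' (M_s4_3213.nconj (GC.Mem.single (M_s4_3213.get (i := 355) (by decide +kernel)).top hz) hN (M_s4_3213.sub chk3214).top chk3216) (M'' := 513743689981776018600823880547667474738430557573694971717219900022670724243820597007684155896668153788235776) (by decide +kernel)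
  have h1 := M_s4_3213.ncop h0 hN chk3218
  exact h1.gen_le
theorem dichM (N : Subgroup _) (h : N ≤ (C.gen R 83886078)) (hN : NormBy (C.gen R 83886078) N) : N ≤ (C.gen R 73382996732713577154704038880544508328377593071396057361463242903977676867346793214459070189550935541284864) ∨ N = (C.gen R 83886078) :=
  normal_dichotomy (M_s4_3213.sub chk3220).gen_le M_max coreM (p := 11) (k := 1) (n := 77) (by norm_num)
    (eq_mul_of M_ub M_lb Lb_ub Lb_lb0 (by decide +kernel)) (by norm_num)
    (not_dvd_of M_ub M_lb (by decide +kernel)) (M_s4_3213.get (i := 355) (by decide +kernel)).el_mem ((M_s4_3213.get (i := 355) (by decide +kernel)).prime_dvd (by norm_num) chk3219).1.1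
    (fun N _ hN hz => nclM N hN hz) N h hN
theorem Cz_m0 : C.Mem R (C.gen R 100663294) 100663294 := GC.Mem.gen (val3.sub chk3221)
theorem Cz_m1 : C.Mem R (C.gen R 100663294) 587135575701435113916237230895467882401114637049731589514075005333791525018876368474341786192276777808691198 := Cz_m0.lor' (M_s4_3213.mono (Cz_m0.sub chk3222).gen_le) chk3223
theorem Cz_dv : Nat.card (C.gen R 100663294) ∣ 2 * Nat.card (C.gen R 83886078) := GC.card_ins (M_s4_3213.pc (m := 2) (w := 456061818773770396230984854421195780) (val3.get (i := 24) (by decide +kernel)) M_m0.top chk3225 chk3226) (by decide +kernel)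
theorem Cz_ub : Nat.card (C.gen R 100663294) ≤ 21799895040 := up_mul (Nat.le_of_dvd (Nat.mul_pos (by decide) Nat.card_pos) Cz_dv) M_ub (by decide +kernel)
theorem L_lb : 283115520 ≤ Nat.card (C.gen R 33554430) := Nat.le_of_mul_le_mul_left ((show 1771 * 283115520 ≤ _ from H_lb0).trans H_ix) (by decide)
theorem cov3233 : Cov (C.gen R 100663294) (C.wds R [0]) pt2527 77 := Act.cov_of_seen (Act.pieces_sound Cz_m1 Cz_m1.top pt2527r chk3231) chk3232
theorem fx3235 : C.gen R 33554430 ≤ stabilizer _ pt2527 := Act.fix_sound (val3.sub chk878) pt2527r chk3234
theorem Cz_cov : Cov (C.gen R 100663294) (C.wds R [0]) pt2527 77 := cov3233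
theorem Cz_lo : 77 * Nat.card (C.gen R 33554430) ≤ Nat.card (C.gen R 100663294) := cov3233.low le_rfl (GC.wds_zero _) (Cz_m1.sub chk3236).gen_le fx3235
theorem Cz_lb : 21799895040 ≤ Nat.card (C.gen R 100663294) := low_step Cz_lo L_lb (by decide +kernel)
theorem Q0_m0 : C.Mem R (C.gen R 0) 0 := GC.Mem.gen (GC.Mem.zero ⊤)
theorem Qin3239 : C.Mem R (C.gen R 67108862) 1201866666734509154372441695406943223759505544403832693834456154681607968602400870942547962423405383776592723968 := H_s2_2550.slp' chk3238
theorem Q1_m0 : C.Mem R (C.gen R 587135645693458306972370149197334256843920637227079967676822742883052256278652110865924749596192175757983744) 587135645693458306972370149197334256843920637227079967676822742883052256278652110865924749596192175757983744 := GC.Mem.gen (Qin3239.top.sub chk3240)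
theorem Q1_dvd : Nat.card (C.gen R 587135645693458306972370149197334256843920637227079967676822742883052256278652110865924749596192175757983744) ∣ 2 := GC.card_ins (dvd_step (Q0_m0.pc (m := 2) (w := 0) (Qin3239.top.get (i := 358) (by decide +kernel)) Q0_m0.top chk3242 chk3243) GC.card_gen_zero (n := 2) (by decide +kernel)) (by decide +kernel)
theorem Q2_m0 : C.Mem R (C.gen R 1761406937080374920917110447592002770531761911681239903030468228649156768835956332597774248788576527273951232) 1761406937080374920917110447592002770531761911681239903030468228649156768835956332597774248788576527273951232 := GC.Mem.gen (Qin3239.top.sub chk3244)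
theorem Q2_dvd : Nat.card (C.gen R 1761406937080374920917110447592002770531761911681239903030468228649156768835956332597774248788576527273951232) ∣ 4 := GC.card_ins (dvd_step (Q1_m0.pc (m := 2) (w := 0) (Qin3239.top.get (i := 359) (by decide +kernel)) Q1_m0.top chk3246 chk3247) Q1_dvd (n := 4) (by decide +kernel)) (by decide +kernel)
theorem Q3_m0 : C.Mem R (C.gen R 4109949519854208148806591044381339797907444460589559773737759200181365793950564776061473247173345230305886208) 4109949519854208148806591044381339797907444460589559773737759200181365793950564776061473247173345230305886208 := GC.Mem.gen (Qin3239.top.sub chk3248)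
theorem Q3_dvd : Nat.card (C.gen R 4109949519854208148806591044381339797907444460589559773737759200181365793950564776061473247173345230305886208) ∣ 8 := GC.card_ins (dvd_step (Q2_m0.pc (m := 2) (w := 0) (Qin3239.top.get (i := 360) (by decide +kernel)) Q2_m0.top chk3250 chk3251) Q2_dvd (n := 8) (by decide +kernel)) (by decide +kernel)
theorem Q4_m0 : C.Mem R (C.gen R 8807034685401874604585552237960013852658809558406199515152341143245783844179781662988871243942882636369756160) 8807034685401874604585552237960013852658809558406199515152341143245783844179781662988871243942882636369756160 := GC.Mem.gen (Qin3239.top.sub chk3252)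
theorem Q4_dvd : Nat.card (C.gen R 8807034685401874604585552237960013852658809558406199515152341143245783844179781662988871243942882636369756160) ∣ 16 := GC.card_ins (dvd_step (Q3_m0.pc (m := 2) (w := 0) (Qin3239.top.get (i := 361) (by decide +kernel)) Q3_m0.top chk3254 chk3255) Q3_dvd (n := 16) (by decide +kernel)) (by decide +kernel)
theorem Q5_m0 : C.Mem R (C.gen R 18201205016497207516143474625117361962161539754039478997981505029374619944638215436843667237481957448497496064) 18201205016497207516143474625117361962161539754039478997981505029374619944638215436843667237481957448497496064 := GC.Mem.gen (Qin3239.top.sub chk3256)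
theorem Q5_dvd : Nat.card (C.gen R 18201205016497207516143474625117361962161539754039478997981505029374619944638215436843667237481957448497496064) ∣ 32 := GC.card_ins (dvd_step (Q4_m0.pc (m := 2) (w := 0) (Qin3239.top.get (i := 362) (by decide +kernel)) Q4_m0.top chk3258 chk3259) Q4_dvd (n := 32) (by decide +kernel)) (by decide +kernel)
theorem Q6_m0 : C.Mem R (C.gen R 36989545678687873339259319399432058181167000145306037963639832801632292145555082984553259224560107072752975872) 36989545678687873339259319399432058181167000145306037963639832801632292145555082984553259224560107072752975872 := GC.Mem.gen (Qin3239.top.sub chk3260)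
theorem Q6_dvd : Nat.card (C.gen R 36989545678687873339259319399432058181167000145306037963639832801632292145555082984553259224560107072752975872) ∣ 64 := GC.card_ins (dvd_step (Q5_m0.pc (m := 2) (w := 0) (Qin3239.top.get (i := 363) (by decide +kernel)) Q5_m0.top chk3262 chk3263) Q5_dvd (n := 64) (by decide +kernel)) (by decide +kernel)
theorem Q7_m0 : C.Mem R (C.gen R 74566227003069204985491008948061450619177920927839155894956488346147636547388818079972443198716406321263935488) 74566227003069204985491008948061450619177920927839155894956488346147636547388818079972443198716406321263935488 := GC.Mem.gen (Qin3239.top.sub chk3264)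
theorem Q7_dvd : Nat.card (C.gen R 74566227003069204985491008948061450619177920927839155894956488346147636547388818079972443198716406321263935488) ∣ 128 := GC.card_ins (dvd_step (Q6_m0.pc (m := 2) (w := 0) (Qin3239.top.get (i := 364) (by decide +kernel)) Q6_m0.top chk3266 chk3267) Q6_dvd (n := 128) (by decide +kernel)) (by decide +kernel)
theorem Q8_m0 : C.Mem R (C.gen R 149719589651831868277954388045320235495199762492905391757589799435178325351056288270810811147029004818285854720) 149719589651831868277954388045320235495199762492905391757589799435178325351056288270810811147029004818285854720 := GC.Mem.gen (Qin3239.top.sub chk3268)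
theorem Q8_dvd : Nat.card (C.gen R 149719589651831868277954388045320235495199762492905391757589799435178325351056288270810811147029004818285854720) ∣ 256 := GC.card_ins (dvd_step (Q7_m0.pc (m := 2) (w := 0) (Qin3239.top.get (i := 365) (by decide +kernel)) Q7_m0.top chk3270 chk3271) Q7_dvd (n := 256) (by decide +kernel)) (by decide +kernel)
theorem Q9_m0 : C.Mem R (C.gen R 300026314949357194862881146239837805247243445623037863482856421613239702958391228652487547043654201812329693184) 300026314949357194862881146239837805247243445623037863482856421613239702958391228652487547043654201812329693184 := GC.Mem.gen (Qin3239.top.sub chk3272)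
theorem Q9_dvd : Nat.card (C.gen R 300026314949357194862881146239837805247243445623037863482856421613239702958391228652487547043654201812329693184) ∣ 512 := GC.card_ins (dvd_step (Q8_m0.pc (m := 2) (w := 0) (Qin3239.top.get (i := 366) (by decide +kernel)) Q8_m0.top chk3274 chk3275) Q8_dvd (n := 512) (by decide +kernel)) (by decide +kernel)
theorem Q10_m0 : C.Mem R (C.gen R 600639765544407848032734662628872944751330811883302806933389665969362458173061109415841018836904595800417370112) 600639765544407848032734662628872944751330811883302806933389665969362458173061109415841018836904595800417370112 := GC.Mem.gen (Qin3239.top.sub chk3276)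
theorem Q10_dvd : Nat.card (C.gen R 600639765544407848032734662628872944751330811883302806933389665969362458173061109415841018836904595800417370112) ∣ 1024 := GC.card_ins (dvd_step (Q9_m0.pc (m := 2) (w := 0) (Qin3239.top.get (i := 367) (by decide +kernel)) Q9_m0.top chk3278 chk3279) Q9_dvd (n := 1024) (by decide +kernel)) (by decide +kernel)
theorem Q11_m0 : C.Mem R (C.gen R 1201866666734509154372441695406943223759505544403832693834456154681607968602400870942547962423405383776592723968) 1201866666734509154372441695406943223759505544403832693834456154681607968602400870942547962423405383776592723968 := GC.Mem.gen (Qin3239.top.sub chk3280)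
theorem Q11_dvd : Nat.card (C.gen R 1201866666734509154372441695406943223759505544403832693834456154681607968602400870942547962423405383776592723968) ∣ 2048 := GC.card_ins (dvd_step (Q10_m0.pc (m := 2) (w := 0) (Qin3239.top.get (i := 368) (by decide +kernel)) Q10_m0.top chk3282 chk3283) Q10_dvd (n := 2048) (by decide +kernel)) (by decide +kernel)
theorem Q11_ub : Nat.card (C.gen R 1201866666734509154372441695406943223759505544403832693834456154681607968602400870942547962423405383776592723968) ≤ 2048 := le_of_dvd' Q11_dvd (by decide +kernel)
theorem nHQ : NormBy (C.gen R 67108862) (C.gen R 1201866666734509154372441695406943223759505544403832693834456154681607968602400870942547962423405383776592723968) := normBy_gen (L := [1, 2, 3, 4, 5, 6, 7, 8, 9, 10, 11, 12, 13, 14, 15, 16, 17, 18, 19, 20, 21, 22, 23, 24, 25]) (forall_cons (Q11_m0.conjA (H_s2_2550.get (i := 1) (by decide +kernel)).top (Qin3239.top.sub chk3280) chk3285) (forall_cons (Q11_m0.conjA (H_s2_2550.get (i := 2) (by decide +kernel)).top (Qin3239.top.sub chk3280) chk3287) (forall_cons (Q11_m0.conjA (H_s2_2550.get (i := 3) (by decide +kernel)).top (Qin3239.top.sub chk3280)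 chk3289) (forall_cons (Q11_m0.conjA (H_s2_2550.get (i := 4) (by decide +kernel)).top (Qin3239.top.sub chk3280) chk3291) (forall_cons (Q11_m0.conjA (H_s2_2550.get (i := 5) (by decide +kernel)).top (Qin3239.top.sub chk3280) chk3293) (forall_cons (Q11_m0.conjA (H_s2_2550.get (i := 6) (by decide +kernel)).top (Qin3239.top.sub chk3280) chk3295) (forall_cons (Q11_m0.conjA (H_s2_2550.get (i := 7) (by decide +kernel)).top (Qin3239.top.sub chk3280) chk3297) (forall_cons (Q11_m0.conjA (H_s2_2550.get (i := 8) (by decide +kernel)).top (Qin3239.top.sub chk3280) chk3299) (forall_cons (Q11_m0.conjA (H_s2_2550.get (i := 9) (by decide +kernel)).top (Qin3239.top.sub chk3280) chk3301) (forall_cons (Q11_m0.conjA (H_s2_2550.get (i := 10) (by decide +kernel)).top (Qin3239.top.sub chk3280) chk3303) (forall_cons (Q11_m0.conjA (H_s2_2550.get (i := 11) (by decide +kernel)).top (Qin3239.top.sub chk3280) chk3305) (forall_cons (Q11_m0.conjA (H_s2_2550.get (i := 12) (by decide +kernel)).top (Qin3239.top.sub chk3280) chk3307) (forall_cons (Q11_m0.conjA (H_s2_2550.get (i := 13) (by decide +kernel)).top (Qin3239.top.sub chk3280) chk3309) (forall_cons (Q11_m0.conjA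 (H_s2_2550.get (i := 14) (by decide +kernel)).top (Qin3239.top.sub chk3280) chk3311) (forall_cons (Q11_m0.conjA (H_s2_2550.get (i := 15) (by decide +kernel)).top (Qin3239.top.sub chk3280) chk3313) (forall_cons (Q11_m0.conjA (H_s2_2550.get (i := 16) (by decide +kernel)).top (Qin3239.top.sub chk3280) chk3315) (forall_cons (Q11_m0.conjA (H_s2_2550.get (i := 17) (by decide +kernel)).top (Qin3239.top.sub chk3280) chk3317) (forall_cons (Q11_m0.conjA (H_s2_2550.get (i := 18) (by decide +kernel)).top (Qin3239.top.sub chk3280) chk3319) (forall_cons (Q11_m0.conjA (H_s2_2550.get (i := 19) (by decide +kernel)).top (Qin3239.top.sub chk3280) chk3321) (forall_cons (Q11_m0.conjA (H_s2_2550.get (i := 20) (by decide +kernel)).top (Qin3239.top.sub chk3280) chk3323) (forall_cons (Q11_m0.conjA (H_s2_2550.get (i := 21) (by decide +kernel)).top (Qin3239.top.sub chk3280) chk3325) (forall_cons (Q11_m0.conjA (H_s2_2550.get (i := 22) (by decide +kernel)).top (Qin3239.top.sub chk3280) chk3327) (forall_cons (Q11_m0.conjA (H_s2_2550.get (i := 23) (by decide +kernel)).top (Qin3239.top.sub chk3280) chk3329) (forall_cons (Q11_m0.conjA (H_s2_2550.get (i :=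 24) (by decide +kernel)).top (Qin3239.top.sub chk3280) chk3331) (forall_cons (Q11_m0.conjA (H_s2_2550.get (i := 25) (by decide +kernel)).top (Qin3239.top.sub chk3280) chk3333) forall_nil))))))))))))))))))))))))) (by decide +kernel)
theorem Qab_c : ∀ y ∈ (C.gen R 1201866666734509154372441695406943223759505544403832693834456154681607968602400870942547962423405383776592723968), ∀ g ∈ (C.gen R 1201866666734509154372441695406943223759505544403832693834456154681607968602400870942547962423405383776592723968), g * y = y * g := comm_genL (L := [358, 359, 360, 361, 362, 363, 364, 365, 366, 367, 368]) (forall_cons (Q11_m0.top.commL (Q11_m0.get (i := 358) (by decide +kernel)).top chk3334) (forall_cons (Q11_m0.top.commL (Q11_m0.get (i := 359) (by decide +kernel)).top chk3335) (forall_cons (Q11_m0.top.commL (Q11_m0.get (i := 360) (by decide +kernel)).top chk3336) (forall_cons (Q11_m0.top.commL (Q11_m0.get (i := 361) (by decide +kernel)).top chk3337) (forall_cons (Q11_m0.top.commL (Q11_m0.get (i := 362) (by decide +kernel)).top chk3338) (forall_cons (Q11_m0.top.commL (Q11_m0.get (i := 363) (by decide +kernel)).top chk3339) (forall_cons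 (Q11_m0.top.commL (Q11_m0.get (i := 364) (by decide +kernel)).top chk3340) (forall_cons (Q11_m0.top.commL (Q11_m0.get (i := 365) (by decide +kernel)).top chk3341) (forall_cons (Q11_m0.top.commL (Q11_m0.get (i := 366) (by decide +kernel)).top chk3342) (forall_cons (Q11_m0.top.commL (Q11_m0.get (i := 367) (by decide +kernel)).top chk3343) (forall_cons (Q11_m0.top.commL (Q11_m0.get (i := 368) (by decide +kernel)).top chk3344) forall_nil))))))))))) (by decide +kernel)
theorem Qab_le : (C.gen R 1201866666734509154372441695406943223759505544403832693834456154681607968602400870942547962423405383776592723968) ≤ (C.gen R 1201866666734509154372441695406943223759505544403832693834456154681607968602400870942547962423405383776592723968) := (Q11_m0.sub (by decide +kernel)).gen_le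
theorem E0_m0 : C.Mem R (C.gen R 0) 0 := GC.Mem.gen (GC.Mem.zero ⊤)
theorem Ein3347 : C.Mem R (C.gen R 73382996732713577154704038880544508328377593071396057361463242903977676867346793214459070189550935541284864) 4924048907882575392380507570822544782411207903263777000799702219376033613468548925555840733898191049717051906064384 := N_m0.slp' chk3346
theorem E1_m0 : C.Mem R (C.gen R 587135645693458306972370149197334256843920637227079967676822742883052256278652110865924749596192175757983744) 587135645693458306972370149197334256843920637227079967676822742883052256278652110865924749596192175757983744 := GC.Mem.gen (Ein3347.top.sub chk3348)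
theorem E1_dvd : Nat.card (C.gen R 587135645693458306972370149197334256843920637227079967676822742883052256278652110865924749596192175757983744) ∣ 2 := GC.card_ins (dvd_step (E0_m0.pc (m := 2) (w := 0) (Ein3347.top.get (i := 358) (by decide +kernel)) E0_m0.top chk3350 chk3351) GC.card_gen_zero (n := 2) (by decide +kernel)) (by decide +kernel)
theorem E2_m0 : C.Mem R (C.gen R 1203040938025896070986386435705337892273193385678286853769809800167374073114958175164279811922597768128108691456) 1203040938025896070986386435705337892273193385678286853769809800167374073114958175164279811922597768128108691456 := GC.Mem.gen (Ein3347.top.sub chk3352)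
theorem E2_dvd : Nat.card (C.gen R 1203040938025896070986386435705337892273193385678286853769809800167374073114958175164279811922597768128108691456) ∣ 4 := GC.card_ins (dvd_step (E1_m0.pc (m := 2) (w := 358) (Ein3347.top.get (i := 369) (by decide +kernel)) E1_m0.top chk3354 chk3355) E1_dvd (n := 4) (by decide +kernel)) (by decide +kernel)
theorem E3_m0 : C.Mem R (C.gen R 3607948542786301296345214566817619008305892315760406401374075755016356114832317221271107586268600920032810106880) 3607948542786301296345214566817619008305892315760406401374075755016356114832317221271107586268600920032810106880 := GC.Mem.gen (Ein3347.top.sub chk3356)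
theorem E3_dvd : Nat.card (C.gen R 3607948542786301296345214566817619008305892315760406401374075755016356114832317221271107586268600920032810106880) ∣ 8 := GC.card_ins (dvd_step (E2_m0.pc (m := 2) (w := 358) (Ein3347.top.get (i := 370) (by decide +kernel)) E2_m0.top chk3358 chk3359) E2_dvd (n := 8) (by decide +kernel)) (by decide +kernel)
theorem E4_m0 : C.Mem R (C.gen R 8417763752307111747062870829042181240371290175924645496582607664714320198267035313484763134960607223842212937728) 8417763752307111747062870829042181240371290175924645496582607664714320198267035313484763134960607223842212937728 := GC.Mem.gen (Ein3347.top.sub chk3360)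
theorem E4_dvd : Nat.card (C.gen R 8417763752307111747062870829042181240371290175924645496582607664714320198267035313484763134960607223842212937728) ∣ 16 := GC.card_ins (dvd_step (E3_m0.pc (m := 2) (w := 358) (Ein3347.top.get (i := 371) (by decide +kernel)) E3_m0.top chk3362 chk3363) E3_dvd (n := 16) (by decide +kernel)) (by decide +kernel)
theorem E5_m0 : C.Mem R (C.gen R 18037394171348732648498183353491305704502085896253123686999671484110248365136471497912074232344619831461018599424) 18037394171348732648498183353491305704502085896253123686999671484110248365136471497912074232344619831461018599424 := GC.Mem.gen (Ein3347.top.sub chk3364)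
theorem E5_dvd : Nat.card (C.gen R 18037394171348732648498183353491305704502085896253123686999671484110248365136471497912074232344619831461018599424) ∣ 32 := GC.card_ins (dvd_step (E4_m0.pc (m := 2) (w := 0) (Ein3347.top.get (i := 372) (by decide +kernel)) E4_m0.top chk3366 chk3367) E4_dvd (n := 32) (by decide +kernel)) (by decide +kernel)
theorem E6_m0 : C.Mem R (C.gen R 37276655009431974451368808402389554632763677336910080067833799122902104698875343866766696427112645046698629922816) 37276655009431974451368808402389554632763677336910080067833799122902104698875343866766696427112645046698629922816 := GC.Mem.gen (Ein3347.top.sub chk3368)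
theorem E6_dvd : Nat.card (C.gen R 37276655009431974451368808402389554632763677336910080067833799122902104698875343866766696427112645046698629922816) ∣ 64 := GC.card_ins (dvd_step (E5_m0.pc (m := 2) (w := 358) (Ein3347.top.get (i := 373) (by decide +kernel)) E5_m0.top chk3370 chk3371) E5_dvd (n := 64) (by decide +kernel)) (by decide +kernel)
theorem E7_m0 : C.Mem R (C.gen R 75755176685598458057110058500186052489286860218223992829502054400485817366353088604475940816648695477173852569600) 75755176685598458057110058500186052489286860218223992829502054400485817366353088604475940816648695477173852569600 := GC.Mem.gen (Ein3347.top.sub chk3372)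
theorem E7_dvd : Nat.card (C.gen R 75755176685598458057110058500186052489286860218223992829502054400485817366353088604475940816648695477173852569600) ∣ 128 := GC.card_ins (dvd_step (E6_m0.pc (m := 2) (w := 0) (Ein3347.top.get (i := 374) (by decide +kernel)) E6_m0.top chk3374 chk3375) E6_dvd (n := 128) (by decide +kernel)) (by decide +kernel)
theorem E8_m0 : C.Mem R (C.gen R 152712220037931425268592558695779048202333225980851818352838564955653242701308578079894429595720796338124297863168) 152712220037931425268592558695779048202333225980851818352838564955653242701308578079894429595720796338124297863168 := GC.Mem.gen (Ein3347.top.sub chk3376)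
theorem E8_dvd : Nat.card (C.gen R 152712220037931425268592558695779048202333225980851818352838564955653242701308578079894429595720796338124297863168) ∣ 256 := GC.card_ins (dvd_step (E7_m0.pc (m := 2) (w := 0) (Ein3347.top.get (i := 375) (by decide +kernel)) E7_m0.top chk3378 chk3379) E7_dvd (n := 256) (by decide +kernel)) (by decide +kernel)
theorem E9_m0 : C.Mem R (C.gen R 306626306742597359691557559086965039628425957506107469399511586065988093371219557030731407153864998060025188450304) 306626306742597359691557559086965039628425957506107469399511586065988093371219557030731407153864998060025188450304 := GC.Mem.gen (Ein3347.top.sub chk3380)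
theorem E9_dvd : Nat.card (C.gen R 306626306742597359691557559086965039628425957506107469399511586065988093371219557030731407153864998060025188450304) ∣ 512 := GC.card_ins (dvd_step (E8_m0.pc (m := 2) (w := 0) (Ein3347.top.get (i := 376) (by decide +kernel)) E8_m0.top chk3382 chk3383) E8_dvd (n := 512) (by decide +kernel)) (by decide +kernel)
theorem E10_m0 : C.Mem R (C.gen R 614454480151929228537487559869337022480611420556618771492857628286657794711041514932405362270153401503826969624576) 614454480151929228537487559869337022480611420556618771492857628286657794711041514932405362270153401503826969624576 := GC.Mem.gen (Ein3347.top.sub chk3384)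
theorem E10_dvd : Nat.card (C.gen R 614454480151929228537487559869337022480611420556618771492857628286657794711041514932405362270153401503826969624576) ∣ 1024 := GC.card_ins (dvd_step (E9_m0.pc (m := 2) (w := 0) (Ein3347.top.get (i := 377) (by decide +kernel)) E9_m0.top chk3386 chk3387) E9_dvd (n := 1024) (by decide +kernel)) (by decide +kernel)
theorem E11_m0 : C.Mem R (C.gen R 1230110826970592966229347561434080988184982346657641375679549712727997197390685430735753272502730208391430531973120) 1230110826970592966229347561434080988184982346657641375679549712727997197390685430735753272502730208391430531973120 := GC.Mem.gen (Ein3347.top.sub chk3388)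
theorem E11_dvd : Nat.card (C.gen R 1230110826970592966229347561434080988184982346657641375679549712727997197390685430735753272502730208391430531973120) ∣ 2048 := GC.card_ins (dvd_step (E10_m0.pc (m := 2) (w := 0) (Ein3347.top.get (i := 378) (by decide +kernel)) E10_m0.top chk3390 chk3391) E10_dvd (n := 2048) (by decide +kernel)) (by decide +kernel)
theorem E12_m0 : C.Mem R (C.gen R 2461423520607920441613067564563568919593724198859686584052933881610676002749973262342449092967883822166637656670208) 2461423520607920441613067564563568919593724198859686584052933881610676002749973262342449092967883822166637656670208 := GC.Mem.gen (Ein3347.top.sub chk3392)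
theorem E12_dvd : Nat.card (C.gen R 2461423520607920441613067564563568919593724198859686584052933881610676002749973262342449092967883822166637656670208) ∣ 4096 := GC.card_ins (dvd_step (E11_m0.pc (m := 2) (w := 0) (Ein3347.top.get (i := 379) (by decide +kernel)) E11_m0.top chk3394 chk3395) E11_dvd (n := 4096) (by decide +kernel)) (by decide +kernel)
theorem E13_m0 : C.Mem R (C.gen R 4924048907882575392380507570822544782411207903263777000799702219376033613468548925555840733898191049717051906064384) 4924048907882575392380507570822544782411207903263777000799702219376033613468548925555840733898191049717051906064384 := GC.Mem.gen (Ein3347.top.sub chk3396)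
theorem E13_dvd : Nat.card (C.gen R 4924048907882575392380507570822544782411207903263777000799702219376033613468548925555840733898191049717051906064384) ∣ 8192 := GC.card_ins (dvd_step (E12_m0.pc (m := 2) (w := 0) (Ein3347.top.get (i := 380) (by decide +kernel)) E12_m0.top chk3398 chk3399) E12_dvd (n := 8192) (by decide +kernel)) (by decide +kernel)
theorem E13_ub : Nat.card (C.gen R 4924048907882575392380507570822544782411207903263777000799702219376033613468548925555840733898191049717051906064384) ≤ 8192 := le_of_dvd' E13_dvd (by decide +kernel)
theorem pt3400e : ∃ x, A0.Rep pt3400c x := act2_rep (n := 112) (d := 7) (by decide) (by decide) (c := 0xa10) (by decide +kernel)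
noncomputable def pt3400 := Classical.choose pt3400e
theorem pt3400r : A0.Rep pt3400c pt3400 := Classical.choose_spec pt3400e
theorem pt3401e : ∃ x, A0.Rep pt3401c x := act2_rep (n := 112) (d := 7) (by decide) (by decide) (c := 0x4c5) (by decide +kernel)
noncomputable def pt3401 := Classical.choose pt3401e
theorem pt3401r : A0.Rep pt3401c pt3401 := Classical.choose_spec pt3401e
theorem pt3402e : ∃ x, A0.Rep pt3402c x := act2_rep (n := 112) (d := 7) (by decide) (by decide) (c := 0xd4) (by decide +kernel)
noncomputable def pt3402 := Classical.choose pt3402e
theorem pt3402r : A0.Rep pt3402c pt3402 := Classical.choose_spec pt3402e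
theorem pt3403e : ∃ x, A0.Rep pt3403c x := act2_rep (n := 112) (d := 7) (by decide) (by decide) (c := 0xbd7) (by decide +kernel)
noncomputable def pt3403 := Classical.choose pt3403e
theorem pt3403r : A0.Rep pt3403c pt3403 := Classical.choose_spec pt3403e
theorem pt3404e : ∃ x, A0.Rep pt3404c x := act2_rep (n := 112) (d := 7) (by decide) (by decide) (c := 0x334) (by decide +kernel)
noncomputable def pt3404 := Classical.choose pt3404e
theorem pt3404r : A0.Rep pt3404c pt3404 := Classical.choose_spec pt3404e
theorem pt3405e : ∃ x, A0.Rep pt3405c x := act2_rep (n := 112) (d := 7) (by decide) (by decide) (c := 0xa3) (by decide +kernel)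
noncomputable def pt3405 := Classical.choose pt3405e
theorem pt3405r : A0.Rep pt3405c pt3405 := Classical.choose_spec pt3405e
theorem pt3406e : ∃ x, A0.Rep pt3406c x := act2_rep (n := 112) (d := 7) (by decide) (by decide) (c := 0xc25) (by decide +kernel)
noncomputable def pt3406 := Classical.choose pt3406e
theorem pt3406r : A0.Rep pt3406c pt3406 := Classical.choose_spec pt3406e
theorem E13_s0_3409 : C.Mem R (C.gen R 4924048907882575392380507570822544782411207903263777000799702219376033613468548925555840733898191049717051906064384) 315214847704489099189077948359453503497414154658179169510892512777811092564009082490443187491116901721069247329730560 := E13_m0.slp' chk3408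
theorem E13_c0i : C.Mem R (C.gen R 4924048907882575392380507570822544782411207903263777000799702219376033613468548925555840733898191049717051906064384) 310290798796606523796697440788630958715002946754915392510092810558435058950540533564887346757218710671352195423666176 := E13_s0_3409.sub chk3410
theorem E13_c0m : C.Mem R (C.gen R 310290798796606523796697440788630958715002946754915392510092810558435058950540533564887346757218710671352195423666176) 310290798796606523796697440788630958715002946754915392510092810558435058950540533564887346757218710671352195423666176 := E13_c0i.gen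
theorem fx3412 : C.gen R 310290798796606523796697440788630958715002946754915392510092810558435058950540533564887346757218710671352195423666176 ≤ stabilizer _ pt3400 := Act.fix_sound E13_c0i.top pt3400r chk3411
theorem cov3419 : Cov (C.gen R 4924048907882575392380507570822544782411207903263777000799702219376033613468548925555840733898191049717051906064384) (C.wds R [0]) pt3400 128 := Act.cov_of_seen (Act.pieces_sound E13_s0_3409 E13_s0_3409.top pt3400r chk3417) chk3418
theorem E13_c1i : C.Mem R (C.gen R 310290798796606523796697440788630958715002946754915392510092810558435058950540533564887346757218710671352195423666176) 305365548022057213895162560776113006989367979346107211676599273882904343729103382238460563475358096216251366924877824 := E13_c0m.sub chk3420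
theorem E13_c1m : C.Mem R (C.gen R 305365548022057213895162560776113006989367979346107211676599273882904343729103382238460563475358096216251366924877824) 305365548022057213895162560776113006989367979346107211676599273882904343729103382238460563475358096216251366924877824 := E13_c1i.gen
theorem fx3422 : C.gen R 305365548022057213895162560776113006989367979346107211676599273882904343729103382238460563475358096216251366924877824 ≤ stabilizer _ pt3401 := Act.fix_sound E13_c1i.top pt3401r chk3421
theorem cov3429 : Cov (C.gen R 310290798796606523796697440788630958715002946754915392510092810558435058950540533564887346757218710671352195423666176) (C.wds R [0]) pt3401 2 := Act.cov_of_seen (Act.pieces_sound E13_c0m E13_c0m.top pt3401r chk3427) chk3428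
theorem E13_c2i : C.Mem R (C.gen R 305365548022057213895162560776113006989367979346107211676599273882904343729103382238460563475358096216251366924877824) 295515046472958594092092800751077103538098044528490850009612200531842913286229079585606996911636867306049709927301120 := E13_c1m.sub chk3430
theorem E13_c2m : C.Mem R (C.gen R 295515046472958594092092800751077103538098044528490850009612200531842913286229079585606996911636867306049709927301120) 295515046472958594092092800751077103538098044528490850009612200531842913286229079585606996911636867306049709927301120 := E13_c2i.gen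
theorem fx3432 : C.gen R 295515046472958594092092800751077103538098044528490850009612200531842913286229079585606996911636867306049709927301120 ≤ stabilizer _ pt3402 := Act.fix_sound E13_c2i.top pt3402r chk3431
theorem cov3439 : Cov (C.gen R 305365548022057213895162560776113006989367979346107211676599273882904343729103382238460563475358096216251366924877824) (C.wds R [0]) pt3402 2 := Act.cov_of_seen (Act.pieces_sound E13_c1m E13_c1m.top pt3402r chk3437) chk3438
theorem E13_c3i : C.Mem R (C.gen R 295515046472958594092092800751077103538098044528490850009612200531842913286229079585606996911636867306049709927301120) 275814043374761354485953280701005296635558174893258126675638053829720052400480474279899863784194409485646395932147712 := E13_c2m.sub chk3440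
theorem E13_c3m : C.Mem R (C.gen R 275814043374761354485953280701005296635558174893258126675638053829720052400480474279899863784194409485646395932147712) 275814043374761354485953280701005296635558174893258126675638053829720052400480474279899863784194409485646395932147712 := E13_c3i.gen
theorem fx3442 : C.gen R 275814043374761354485953280701005296635558174893258126675638053829720052400480474279899863784194409485646395932147712 ≤ stabilizer _ pt3403 := Act.fix_sound E13_c3i.top pt3403r chk3441
theorem cov3449 : Cov (C.gen R 295515046472958594092092800751077103538098044528490850009612200531842913286229079585606996911636867306049709927301120) (C.wds R [0]) pt3403 2 := Act.cov_of_seen (Act.pieces_sound E13_c2m E13_c2m.top pt3403r chk3447) chk3448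
theorem E13_c4i : C.Mem R (C.gen R 275814043374761354485953280701005296635558174893258126675638053829720052400480474279899863784194409485646395932147712) 236412037178366875273674240600861682830478435622792680007689760425474330628983263668485597529309493844839767941840896 := E13_c3m.sub chk3450
theorem E13_c4m : C.Mem R (C.gen R 236412037178366875273674240600861682830478435622792680007689760425474330628983263668485597529309493844839767941840896) 236412037178366875273674240600861682830478435622792680007689760425474330628983263668485597529309493844839767941840896 := E13_c4i.gen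
theorem fx3452 : C.gen R 236412037178366875273674240600861682830478435622792680007689760425474330628983263668485597529309493844839767941840896 ≤ stabilizer _ pt3404 := Act.fix_sound E13_c4i.top pt3404r chk3451
theorem cov3459 : Cov (C.gen R 275814043374761354485953280701005296635558174893258126675638053829720052400480474279899863784194409485646395932147712) (C.wds R [0]) pt3404 2 := Act.cov_of_seen (Act.pieces_sound E13_c3m E13_c3m.top pt3404r chk3457) chk3458
theorem E13_c5i : C.Mem R (C.gen R 236412037178366875273674240600861682830478435622792680007689760425474330628983263668485597529309493844839767941840896) 157608024785577916849116160400574455220318957081861786671793173616982887085988842445657065019539662563226511961227264 := E13_c4m.sub chk3460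
theorem E13_c5m : C.Mem R (C.gen R 157608024785577916849116160400574455220318957081861786671793173616982887085988842445657065019539662563226511961227264) 157608024785577916849116160400574455220318957081861786671793173616982887085988842445657065019539662563226511961227264 := E13_c5i.gen
theorem fx3462 : C.gen R 157608024785577916849116160400574455220318957081861786671793173616982887085988842445657065019539662563226511961227264 ≤ stabilizer _ pt3405 := Act.fix_sound E13_c5i.top pt3405r chk3461
theorem cov3469 : Cov (C.gen R 236412037178366875273674240600861682830478435622792680007689760425474330628983263668485597529309493844839767941840896) (C.wds R [0]) pt3405 2 := Act.cov_of_seen (Act.pieces_sound E13_c4m E13_c4m.top pt3405r chk3467) chk3468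
theorem E13_c6i : C.Mem R (C.gen R 157608024785577916849116160400574455220318957081861786671793173616982887085988842445657065019539662563226511961227264) 0 := E13_c5m.sub chk3470
theorem E13_c6m : C.Mem R (C.gen R 0) 0 := E13_c6i.gen
theorem fx3472 : C.gen R 0 ≤ stabilizer _ pt3406 := Act.fix_sound E13_c6i.top pt3406r chk3471
theorem cov3479 : Cov (C.gen R 157608024785577916849116160400574455220318957081861786671793173616982887085988842445657065019539662563226511961227264) (C.wds R [0]) pt3406 2 := Act.cov_of_seen (Act.pieces_sound E13_c5m E13_c5m.top pt3406r chk3477) chk3478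
theorem E13_lb7 : 1 ≤ Nat.card (C.gen R 0) := Nat.card_pos
theorem E13_lo6 : 2 * Nat.card (C.gen R 0) ≤ Nat.card (C.gen R 157608024785577916849116160400574455220318957081861786671793173616982887085988842445657065019539662563226511961227264) := cov3479.low le_rfl (GC.wds_zero _) E13_c6i.gen_le fx3472
theorem E13_lb6 : 2 ≤ Nat.card (C.gen R 157608024785577916849116160400574455220318957081861786671793173616982887085988842445657065019539662563226511961227264) := low_step E13_lo6 E13_lb7 (by decide +kernel)
theorem E13_lo5 : 2 * Nat.card (C.gen R 157608024785577916849116160400574455220318957081861786671793173616982887085988842445657065019539662563226511961227264) ≤ Nat.card (C.gen R 236412037178366875273674240600861682830478435622792680007689760425474330628983263668485597529309493844839767941840896) := cov3469.low le_rfl (GC.wds_zero _) E13_c5i.gen_le fx3462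
theorem E13_lb5 : 4 ≤ Nat.card (C.gen R 236412037178366875273674240600861682830478435622792680007689760425474330628983263668485597529309493844839767941840896) := low_step E13_lo5 E13_lb6 (by decide +kernel)
theorem E13_lo4 : 2 * Nat.card (C.gen R 236412037178366875273674240600861682830478435622792680007689760425474330628983263668485597529309493844839767941840896) ≤ Nat.card (C.gen R 275814043374761354485953280701005296635558174893258126675638053829720052400480474279899863784194409485646395932147712) := cov3459.low le_rfl (GC.wds_zero _) E13_c4i.gen_le fx3452
theorem E13_lb4 : 8 ≤ Nat.card (C.gen R 275814043374761354485953280701005296635558174893258126675638053829720052400480474279899863784194409485646395932147712) := low_step E13_lo4 E13_lb5 (by decide +kernel)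
theorem E13_lo3 : 2 * Nat.card (C.gen R 275814043374761354485953280701005296635558174893258126675638053829720052400480474279899863784194409485646395932147712) ≤ Nat.card (C.gen R 295515046472958594092092800751077103538098044528490850009612200531842913286229079585606996911636867306049709927301120) := cov3449.low le_rfl (GC.wds_zero _) E13_c3i.gen_le fx3442
theorem E13_lb3 : 16 ≤ Nat.card (C.gen R 295515046472958594092092800751077103538098044528490850009612200531842913286229079585606996911636867306049709927301120) := low_step E13_lo3 E13_lb4 (by decide +kernel)
theorem E13_lo2 : 2 * Nat.card (C.gen R 295515046472958594092092800751077103538098044528490850009612200531842913286229079585606996911636867306049709927301120) ≤ Nat.card (C.gen R 305365548022057213895162560776113006989367979346107211676599273882904343729103382238460563475358096216251366924877824) := cov3439.low le_rfl (GC.wds_zero _) E13_c2i.gen_le fx3432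
theorem E13_lb2 : 32 ≤ Nat.card (C.gen R 305365548022057213895162560776113006989367979346107211676599273882904343729103382238460563475358096216251366924877824) := low_step E13_lo2 E13_lb3 (by decide +kernel)
theorem E13_lo1 : 2 * Nat.card (C.gen R 305365548022057213895162560776113006989367979346107211676599273882904343729103382238460563475358096216251366924877824) ≤ Nat.card (C.gen R 310290798796606523796697440788630958715002946754915392510092810558435058950540533564887346757218710671352195423666176) := cov3429.low le_rfl (GC.wds_zero _) E13_c1i.gen_le fx3422
theorem E13_lb1 : 64 ≤ Nat.card (C.gen R 310290798796606523796697440788630958715002946754915392510092810558435058950540533564887346757218710671352195423666176) := low_step E13_lo1 E13_lb2 (by decide +kernel)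
theorem E13_lo0 : 128 * Nat.card (C.gen R 310290798796606523796697440788630958715002946754915392510092810558435058950540533564887346757218710671352195423666176) ≤ Nat.card (C.gen R 4924048907882575392380507570822544782411207903263777000799702219376033613468548925555840733898191049717051906064384) := cov3419.low le_rfl (GC.wds_zero _) E13_c0i.gen_le fx3412
theorem E13_lb0 : 8192 ≤ Nat.card (C.gen R 4924048907882575392380507570822544782411207903263777000799702219376033613468548925555840733898191049717051906064384) := low_step E13_lo0 E13_lb1 (by decide +kernel)
theorem nCE : NormBy (C.gen R 100663294) (C.gen R 4924048907882575392380507570822544782411207903263777000799702219376033613468548925555840733898191049717051906064384) := normBy_gen (L := [1, 2, 3, 4, 5, 6, 7, 8, 9, 10, 11, 12, 13, 14, 15, 16, 17, 18, 19, 20, 21, 22, 23, 26, 24]) (forall_cons (E13_s0_3409.conjA (Cz_m1.get (i := 1) (by decide +kernel)).top (Ein3347.top.sub chk3396) chk3481) (forall_cons (E13_s0_3409.conjA (Cz_m1.get (i := 2) (by decide +kernel)).top (Ein3347.top.sub chk3396) chk3483) (forall_cons (E13_s0_3409.conjA (Cz_m1.get (i := 3) (by decide +kernel)).top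 (Ein3347.top.sub chk3396) chk3485) (forall_cons (E13_s0_3409.conjA (Cz_m1.get (i := 4) (by decide +kernel)).top (Ein3347.top.sub chk3396) chk3487) (forall_cons (E13_s0_3409.conjA (Cz_m1.get (i := 5) (by decide +kernel)).top (Ein3347.top.sub chk3396) chk3489) (forall_cons (E13_s0_3409.conjA (Cz_m1.get (i := 6) (by decide +kernel)).top (Ein3347.top.sub chk3396) chk3491) (forall_cons (E13_s0_3409.conjA (Cz_m1.get (i := 7) (by decide +kernel)).top (Ein3347.top.sub chk3396) chk3493) (forall_cons (E13_s0_3409.conjA (Cz_m1.get (i := 8) (by decide +kernel)).top (Ein3347.top.sub chk3396) chk3495) (forall_cons (E13_s0_3409.conjA (Cz_m1.get (i := 9) (by decide +kernel)).top (Ein3347.top.sub chk3396) chk3497) (forall_cons (E13_s0_3409.conjA (Cz_m1.get (i := 10) (by decide +kernel)).top (Ein3347.top.sub chk3396) chk3499) (forall_cons (E13_s0_3409.conjA (Cz_m1.get (i := 11) (by decide +kernel)).top (Ein3347.top.sub chk3396) chk3501) (forall_cons (E13_s0_3409.conjA (Cz_m1.get (i := 12) (by decide +kernel)).top (Ein3347.top.sub chk3396) chk3503) (forall_cons (E13_s0_3409.conjA (Cz_m1.get (i := 13) (by decide +kernel)).top (Ein3347.top.sub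 chk3396) chk3505) (forall_cons (E13_s0_3409.conjA (Cz_m1.get (i := 14) (by decide +kernel)).top (Ein3347.top.sub chk3396) chk3507) (forall_cons (E13_s0_3409.conjA (Cz_m1.get (i := 15) (by decide +kernel)).top (Ein3347.top.sub chk3396) chk3509) (forall_cons (E13_s0_3409.conjA (Cz_m1.get (i := 16) (by decide +kernel)).top (Ein3347.top.sub chk3396) chk3511) (forall_cons (E13_s0_3409.conjA (Cz_m1.get (i := 17) (by decide +kernel)).top (Ein3347.top.sub chk3396) chk3513) (forall_cons (E13_s0_3409.conjA (Cz_m1.get (i := 18) (by decide +kernel)).top (Ein3347.top.sub chk3396) chk3515) (forall_cons (E13_s0_3409.conjA (Cz_m1.get (i := 19) (by decide +kernel)).top (Ein3347.top.sub chk3396) chk3517) (forall_cons (E13_s0_3409.conjA (Cz_m1.get (i := 20) (by decide +kernel)).top (Ein3347.top.sub chk3396) chk3519) (forall_cons (E13_s0_3409.conjA (Cz_m1.get (i := 21) (by decide +kernel)).top (Ein3347.top.sub chk3396) chk3521) (forall_cons (E13_s0_3409.conjA (Cz_m1.get (i := 22) (by decide +kernel)).top (Ein3347.top.sub chk3396) chk3523) (forall_cons (E13_s0_3409.conjA (Cz_m1.get (i := 23) (by decide +kernel)).top (Ein3347.top.sub chk3396)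 chk3525) (forall_cons (E13_s0_3409.conjA (Cz_m1.get (i := 26) (by decide +kernel)).top (Ein3347.top.sub chk3396) chk3527) (forall_cons (E13_s0_3409.conjA (Cz_m1.get (i := 24) (by decide +kernel)).top (Ein3347.top.sub chk3396) chk3529) forall_nil))))))))))))))))))))))))) (by decide +kernel)
theorem nCN : NormBy (C.gen R 100663294) (C.gen R 73382996732713577154704038880544508328377593071396057361463242903977676867346793214459070189550935541284864) := normBy_gen (L := [1, 2, 3, 4, 5, 6, 7, 8, 9, 10, 11, 12, 13, 14, 15, 16, 17, 18, 19, 20, 21, 22, 23, 26, 24]) (forall_cons (N_m0.conjA (Cz_m1.get (i := 1) (by decide +kernel)).top Lb_c3i.top chk3531) (forall_cons (N_m0.conjA (Cz_m1.get (i := 2) (by decide +kernel)).top Lb_c3i.top chk3533) (forall_cons (N_m0.conjA (Cz_m1.get (i := 3) (by decide +kernel)).top Lb_c3i.top chk3535) (forall_cons (N_m0.conjA (Cz_m1.get (i := 4) (by decide +kernel)).top Lb_c3i.top chk3537) (forall_cons (N_m0.conjA (Cz_m1.get (i := 5) (by decide +kernel)).top Lb_c3i.top chk3539) (forall_cons (N_m0.conjA (Cz_m1.get (i := 6) (by decide +kernel)).top Lb_c3i.top chk3541) (forall_cons (N_m0.conjA (Cz_m1.get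 (i := 7) (by decide +kernel)).top Lb_c3i.top chk3543) (forall_cons (N_m0.conjA (Cz_m1.get (i := 8) (by decide +kernel)).top Lb_c3i.top chk3545) (forall_cons (N_m0.conjA (Cz_m1.get (i := 9) (by decide +kernel)).top Lb_c3i.top chk3547) (forall_cons (N_m0.conjA (Cz_m1.get (i := 10) (by decide +kernel)).top Lb_c3i.top chk3549) (forall_cons (N_m0.conjA (Cz_m1.get (i := 11) (by decide +kernel)).top Lb_c3i.top chk3551) (forall_cons (N_m0.conjA (Cz_m1.get (i := 12) (by decide +kernel)).top Lb_c3i.top chk3553) (forall_cons (N_m0.conjA (Cz_m1.get (i := 13) (by decide +kernel)).top Lb_c3i.top chk3555) (forall_cons (N_m0.conjA (Cz_m1.get (i := 14) (by decide +kernel)).top Lb_c3i.top chk3557) (forall_cons (N_m0.conjA (Cz_m1.get (i := 15) (by decide +kernel)).top Lb_c3i.top chk3559) (forall_cons (N_m0.conjA (Cz_m1.get (i := 16) (by decide +kernel)).top Lb_c3i.top chk3561) (forall_cons (N_m0.conjA (Cz_m1.get (i := 17) (by decide +kernel)).top Lb_c3i.top chk3563) (forall_cons (N_m0.conjA (Cz_m1.get (i := 18) (by decide +kernel)).top Lb_c3i.top chk3565) (forall_cons (N_m0.conjA (Cz_m1.get (i := 19) (by decide +kernel)).top Lb_c3i.top chk3567)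 (forall_cons (N_m0.conjA (Cz_m1.get (i := 20) (by decide +kernel)).top Lb_c3i.top chk3569) (forall_cons (N_m0.conjA (Cz_m1.get (i := 21) (by decide +kernel)).top Lb_c3i.top chk3571) (forall_cons (N_m0.conjA (Cz_m1.get (i := 22) (by decide +kernel)).top Lb_c3i.top chk3573) (forall_cons (N_m0.conjA (Cz_m1.get (i := 23) (by decide +kernel)).top Lb_c3i.top chk3575) (forall_cons (N_m0.conjA (Cz_m1.get (i := 26) (by decide +kernel)).top Lb_c3i.top chk3577) (forall_cons (N_m0.conjA (Cz_m1.get (i := 24) (by decide +kernel)).top Lb_c3i.top chk3579) forall_nil))))))))))))))))))))))))) (by decide +kernel)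
theorem E13_s1_3582 : C.Mem R (C.gen R 4924048907882575392380507570822544782411207903263777000799702219376033613468548925555840733898191049717051906064384) 1291124937841587628093450431629064241757909672655106212011496984435867656326812628712421805697520953294546202209781022720 := E13_s0_3409.slp' chk3581
theorem cardE : Nat.card (C.gen R 4924048907882575392380507570822544782411207903263777000799702219376033613468548925555840733898191049717051906064384) = 8192 := le_antisymm E13_ub E13_lb0
theorem hz : C.el (R 358) ^ 2 = 1 ∧ C.el (R 358) ≠ 1 := ((E13_s1_3582.get (i := 358) (by decide +kernel)).prime_dvd (p := 2) (by norm_num) chk3585).1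
theorem extra : Cfsg.IsExtraspecial 2 (C.gen R 4924048907882575392380507570822544782411207903263777000799702219376033613468548925555840733898191049717051906064384) := GC.extraspecial E13_s1_3582 (Ein3347.top.sub chk3396) (E13_s1_3582.get (i := 358) (by decide +kernel)) hz (E13_m0.top.commL (E13_s1_3582.get (i := 358) (by decide +kernel)).top chk3586) chk3583 chk3584 cardE (by decide +kernel)
theorem U0_m0 : C.Mem R (C.gen R 0) 0 := GC.Mem.gen (GC.Mem.zero ⊤)
theorem Uin3589 : C.Mem R (C.gen R 201326590) 9037874573304180063795717102010541560153970274902282294907307747892266677058944181203758736480482410025661101904616226816 := G_m3.slp' chk3588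
theorem U1_m0 : C.Mem R (C.gen R 1291124939043454294827959586001505937164852896414611756415329678270323811008420597314822676640068915717951585986373746688) 1291124939043454294827959586001505937164852896414611756415329678270323811008420597314822676640068915717951585986373746688 := GC.Mem.gen (Uin3589.top.sub chk3590)
theorem U1_dvd : Nat.card (C.gen R 1291124939043454294827959586001505937164852896414611756415329678270323811008420597314822676640068915717951585986373746688) ∣ 11 := GC.card_ins (dvd_step (U0_m0.pc (m := 11) (w := 0) (Uin3589.top.get (i := 399) (by decide +kernel)) U0_m0.top chk3592 chk3593) GC.card_gen_zero (n := 11) (by decide +kernel)) (by decide +kernel)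
theorem U2_m0 : C.Mem R (C.gen R 3873374817130362884483878758004517811494558689243835269245989034810971433025261791944468029920206747153854757959121240064) 3873374817130362884483878758004517811494558689243835269245989034810971433025261791944468029920206747153854757959121240064 := GC.Mem.gen (Uin3589.top.sub chk3594)
theorem U2_dvd : Nat.card (C.gen R 3873374817130362884483878758004517811494558689243835269245989034810971433025261791944468029920206747153854757959121240064) ∣ 121 := GC.card_ins (dvd_step (U1_m0.pc (m := 11) (w := 0) (Uin3589.top.get (i := 400) (by decide +kernel)) U1_m0.top chk3596 chk3597) U1_dvd (n := 121) (by decide +kernel)) (by decide +kernel)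
theorem U3_m0 : C.Mem R (C.gen R 9037874573304180063795717102010541560153970274902282294907307747892266677058944181203758736480482410025661101904616226816) 9037874573304180063795717102010541560153970274902282294907307747892266677058944181203758736480482410025661101904616226816 := GC.Mem.gen (Uin3589.top.sub chk3598)
theorem U3_dvd : Nat.card (C.gen R 9037874573304180063795717102010541560153970274902282294907307747892266677058944181203758736480482410025661101904616226816) ∣ 1331 := GC.card_ins (dvd_step (U2_m0.pc (m := 11) (w := 0) (Uin3589.top.get (i := 401) (by decide +kernel)) U2_m0.top chk3600 chk3601) U2_dvd (n := 1331) (by decide +kernel)) (by decide +kernel)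
theorem U3_ub : Nat.card (C.gen R 9037874573304180063795717102010541560153970274902282294907307747892266677058944181203758736480482410025661101904616226816) ≤ 1331 := le_of_dvd' U3_dvd (by decide +kernel)
theorem pt3602e : ∃ x, A0.Rep pt3602c x := act2_rep (n := 112) (d := 7) (by decide) (by decide) (c := 0x2c3c6f82c6abe5d9efd57d5cfce6) (by decide +kernel)
noncomputable def pt3602 := Classical.choose pt3602e
theorem pt3602r : A0.Rep pt3602c pt3602 := Classical.choose_spec pt3602e
theorem U3_s0_3605 : C.Mem R (C.gen R 9037874573304180063795717102010541560153970274902282294907307747892266677058944181203758736480482410025661101904616226816) 329236859456080845181129694430384013977037488585725997885909067958932571807147252315279782543217573508077654426525305405440 := U3_m0.slp' chk3604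
theorem U3_c0i : C.Mem R (C.gen R 9037874573304180063795717102010541560153970274902282294907307747892266677058944181203758736480482410025661101904616226816) 0 := U3_s0_3605.sub chk3606
theorem U3_c0m : C.Mem R (C.gen R 0) 0 := U3_c0i.gen
theorem fx3608 : C.gen R 0 ≤ stabilizer _ pt3602 := Act.fix_sound U3_c0i.top pt3602r chk3607
theorem cov3615 : Cov (C.gen R 9037874573304180063795717102010541560153970274902282294907307747892266677058944181203758736480482410025661101904616226816) (C.wds R [0]) pt3602 1331 := Act.cov_of_seen (Act.pieces_sound U3_s0_3605 U3_s0_3605.top pt3602r chk3613) chk3614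
theorem U3_lb1 : 1 ≤ Nat.card (C.gen R 0) := Nat.card_pos
theorem U3_lo0 : 1331 * Nat.card (C.gen R 0) ≤ Nat.card (C.gen R 9037874573304180063795717102010541560153970274902282294907307747892266677058944181203758736480482410025661101904616226816) := cov3615.low le_rfl (GC.wds_zero _) U3_c0i.gen_le fx3608
theorem U3_lb0 : 1331 ≤ Nat.card (C.gen R 9037874573304180063795717102010541560153970274902282294907307747892266677058944181203758736480482410025661101904616226816) := low_step U3_lo0 U3_lb1 (by decide +kernel)
theorem G_s3_3618 : C.Mem R (C.gen R 201326590) 4957919765926864492139364810245782798961695791868207433618284178737945045900962832415381998619110959869255441624690935726078 := G_m3.slp' chk3617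
theorem G_lb : 86775571046077562880 ≤ Nat.card (C.gen R 201326590) := Nat.le_of_dvd Nat.card_pos (lcm_step (lcm_step (lcm_step (lcm_step (lcm_step (dvd_of_sub (G_s3_3618.sub chk3619).gen_le H_ub H_lb0) (dvd_of_sub Uin3589.gen_le U3_ub U3_lb0) (n := 60669107896320) (by decide +kernel)) ((G_s3_3618.get (i := 407) (by decide +kernel)).prime_dvd (p := 29) (by norm_num) chk3620).2 (n := 1759404128993280) (by decide +kernel)) ((G_s3_3618.get (i := 408) (by decide +kernel)).prime_dvd (p := 31) (by norm_num) chk3621).2 (n := 54541527998791680) (by decide +kernel)) ((G_s3_3618.get (i := 409) (by decide +kernel)).prime_dvd (p := 37) (by norm_num) chk3622).2 (n := 2018036535955292160) (by decide +kernel)) ((G_s3_3618.get (i := 410) (by decide +kernel)).prime_dvd (p := 43) (by norm_num) chk3623).2 (n := 86775571046077562880) (by decide +kernel))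
theorem fx3625 : C.gen R 67108862 ≤ stabilizer _ pt2527 := Act.fix_sound (val3.sub chk882) pt2527r chk3624
theorem core (N : Subgroup _) (h : N ≤ (C.gen R 67108862)) (hN : NormBy (C.gen R 201326590) N) : N ≤ (C.gen R 0) := (le_next H_st9 (le_next H_st8 (le_next H_st7 (le_next H_st6 (le_next H_st5 (le_next H_st4 (le_next H_st3 (le_next H_st2 (le_next H_st1 (le_next H_st0 h (hN.fix (h.trans fx3625) pt2528g)) (hN.fix (h.trans fx3625) pt2530g)) (hN.fix (h.trans fx3625) pt2532g)) (hN.fix (h.trans fx3625) pt2534g)) (hN.fix (h.trans fx3625) pt2536g)) (hN.fix (h.trans fx3625) pt2538g)) (hN.fix (h.trans fx3625) pt2540g)) (hN.fix (h.trans fx3625) pt2542g)) (hN.fix (h.trans fx3625) pt2544g)) (hN.fix (h.trans fx3625) pt2546g))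
theorem G_s4_3628 : C.Mem R (C.gen R 201326590) 20823263016892830866985332203032287754843408183010956696449855265323684035572435132219923049172277796211444530225251535028222 := G_s3_3618.slp' chk3627
theorem ncl (N : Subgroup _) (hN : NormBy (C.gen R 201326590) N) (hz : C.el (R 410) ∈ N) : C.gen R 201326590 ≤ N := by
  have h0 := (GC.Mem.single (G_s4_3628.get (i := 410) (by decide +kernel)).top hz).lor' (G_s4_3628.nconj (GC.Mem.single (G_s4_3628.get (i := 410) (by decide +kernel)).top hz) hN (G_s4_3628.sub chk3629).top chk3631) (M'' := 18509567126126960770653628624917589115195331122999874139970166267683362154616717683105297892312027975732553936700654032519168) (by decide +kernel)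
  have h1 := G_s4_3628.ncop h0 hN chk3633
  exact h1.gen_le
theorem dich (N : Subgroup _) (h : N ≤ (C.gen R 201326590)) (hN : NormBy (C.gen R 201326590) N) : N ≤ (C.gen R 0) ∨ N = (C.gen R 201326590) :=
  normal_dichotomy (G_s4_3628.sub chk3635).gen_le G_max core (p := 43) (k := 1) (n := 173067389) (by norm_num)
    (eq_mul_of G_ub G_lb H_ub H_lb0 (by decide +kernel)) (by norm_num)
    (not_dvd_of G_ub G_lb (by decide +kernel)) (G_s4_3628.get (i := 410) (by decide +kernel)).el_mem ((G_s4_3628.get (i := 410) (by decide +kernel)).prime_dvd (by norm_num) chk3634).1.1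
    (fun N _ hN hz => ncl N hN hz) N h hN
theorem simple : IsSimpleGroup (C.gen R 201326590) := simple_of_dichotomy (ne_bot_of G_lb (by decide +kernel)) fun N h hN => GC.gen_zero (C := C) (R := R) ▸ dich N h hN
theorem cardG : Nat.card (C.gen R 201326590) = 86775571046077562880 := le_antisymm G_ub G_lb
theorem CH : (C.gen R 67108862) ⊓ centralizer {C.el (R 358)} = (C.gen R 33554430) := cent_of_max H_max (H_s2_2550.sub chk3636).gen_le (L_m0.top.commL (E13_s1_3582.get (i := 358) (by decide +kernel)).top chk3637) (H_s2_2550.get (i := 25) (by decide +kernel)).el_mem ((H_s2_2550.get (i := 25) (by decide +kernel)).top.not_comm (E13_s1_3582.get (i := 358) (by decide +kernel)).top chk3638)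
theorem CHu : Nat.card ((C.gen R 67108862) ⊓ centralizer {C.el (R 358)} : Subgroup _) ≤ 283115520 := CH ▸ L_ub
theorem pt3639e : ∃ x, A0.Rep pt3639c x := act2_rep (n := 112) (d := 7) (by decide) (by decide) (c := 0x2c3c6f82c6abe5d9efd57d5cfce6) (by decide +kernel)
noncomputable def pt3639 := Classical.choose pt3639e
theorem pt3639r : A0.Rep pt3639c pt3639 := Classical.choose_spec pt3639e
theorem val3642 : C.Mem R ⊤ 148076537009015686165229028999340712921562648983998993119761330141466897236933741464842383138496223805860431493605232260153344 := MC.mem_units (mc2 112) (can2_sound (by decide)) chk3641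
theorem U1x_m0 : C.Mem R (C.gen R 148076537009015686165229028999340712921562648983998993119761330141466897236933741464842383138496223805860431493605232260153344) 148076537009015686165229028999340712921562648983998993119761330141466897236933741464842383138496223805860431493605232260153344 := GC.Mem.gen val3642
theorem cX1 : {τ | τ ∈ (C.gen R 1201866666734509154372441695406943223759505544403832693834456154681607968602400870942547962423405383776592723968) ∧ (τ ≠ 1 ∧ ∀ u ∈ ([413, 414, 415] : List ℕ), τ * C.el (R u) = C.el (R u) * τ)}.ncard ≤ 7 := count_le (Act.count_pred (Act.pieces_sound Q11_m0 Q11_m0.top (Act.self_rep C) chk3652) chk3653 (ncommF_sound (A := A0) val3642 pt3639r chk3645)) Q11_ub (by decide +kernel)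
theorem cD1 : (DC1 (C.gen R 67108862) (C.el (R 27)) ∩ centralizer {C.el (R 358)}).ncard ≤ Nat.card ((C.gen R 67108862) ⊓ centralizer {C.el (R 358)} : Subgroup _) * 60 := cent_bound (cent_DC1 GT1_in1862.gen_le G_T1c (abel_X nHQ (Q11_m0.get (i := 358) (by decide +kernel)).el_mem hz.2 Qab_c (e := fun u => C.el (R u)) fun u hu => Q11_m0.conjA (G_s4_3628.get (i := 27) (by decide +kernel)).top val3642 chk3644 _ (U1x_m0.get ((allL_iff _ _).1 chk3645 u hu)).el_mem)) GT1_lb0 cX1 CHu (by decide +kernel)
theorem val3656 : C.Mem R ⊤ 1184612296072125489321832231994725703372501191871991944958090641131735177895469931718739065107969790446883451948841858081226752 := MC.mem_units (mc2 112) (can2_sound (by decide)) chk3655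
theorem U2x_m0 : C.Mem R (C.gen R 1184612296072125489321832231994725703372501191871991944958090641131735177895469931718739065107969790446883451948841858081226752) 1184612296072125489321832231994725703372501191871991944958090641131735177895469931718739065107969790446883451948841858081226752 := GC.Mem.gen val3656
theorem cX2 : {τ | τ ∈ (C.gen R 1201866666734509154372441695406943223759505544403832693834456154681607968602400870942547962423405383776592723968) ∧ (τ ≠ 1 ∧ ∀ u ∈ ([416, 417, 418] : List ℕ), τ * C.el (R u) = C.el (R u) * τ)}.ncard ≤ 0 := count_le (Act.count_pred (Act.pieces_sound Q11_m0 Q11_m0.top (Act.self_rep C) chk3666) chk3667 (ncommF_sound (A := A0) val3656 pt3639r chk3659)) Q11_ub (by decide +kernel)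
theorem cD2 : (DC1 (C.gen R 67108862) (C.el (R 173)) ∩ centralizer {C.el (R 358)}).ncard ≤ Nat.card ((C.gen R 67108862) ⊓ centralizer {C.el (R 358)} : Subgroup _) * 0 := cent_bound (cent_DC1 GT2_in2020.gen_le G_T2c (abel_X nHQ (Q11_m0.get (i := 358) (by decide +kernel)).el_mem hz.2 Qab_c (e := fun u => C.el (R u)) fun u hu => Q11_m0.conjA (G_s4_3628.get (i := 173) (by decide +kernel)).top val3656 chk3658 _ (U2x_m0.get ((allL_iff _ _).1 chk3659 u hu)).el_mem)) GT2_lb0 cX2 CHu (by decide +kernel)
theorem val3670 : C.Mem R ⊤ 9476898368577003914574657855957805626980009534975935559664725129053881423163759453749912520863758323575067615590734864649814016 := MC.mem_units (mc2 112) (can2_sound (by decide)) chk3669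
theorem U3x_m0 : C.Mem R (C.gen R 9476898368577003914574657855957805626980009534975935559664725129053881423163759453749912520863758323575067615590734864649814016) 9476898368577003914574657855957805626980009534975935559664725129053881423163759453749912520863758323575067615590734864649814016 := GC.Mem.gen val3670
theorem cX3 : {τ | τ ∈ (C.gen R 1201866666734509154372441695406943223759505544403832693834456154681607968602400870942547962423405383776592723968) ∧ (τ ≠ 1 ∧ ∀ u ∈ ([419, 420, 421] : List ℕ), τ * C.el (R u) = C.el (R u) * τ)}.ncard ≤ 0 := count_le (Act.count_pred (Act.pieces_sound Q11_m0 Q11_m0.top (Act.self_rep C) chk3680) chk3681 (ncommF_sound (A := A0) val3670 pt3639r chk3673)) Q11_ub (by decide +kernel)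
theorem cD3 : (DC1 (C.gen R 67108862) (C.el (R 174)) ∩ centralizer {C.el (R 358)}).ncard ≤ Nat.card ((C.gen R 67108862) ⊓ centralizer {C.el (R 358)} : Subgroup _) * 0 := cent_bound (cent_DC1 GT3_in2141.gen_le G_T3c (abel_X nHQ (Q11_m0.get (i := 358) (by decide +kernel)).el_mem hz.2 Qab_c (e := fun u => C.el (R u)) fun u hu => Q11_m0.conjA (G_s4_3628.get (i := 174) (by decide +kernel)).top val3670 chk3672 _ (U3x_m0.get ((allL_iff _ _).1 chk3673 u hu)).el_mem)) GT3_lb0 cX3 CHu (by decide +kernel)
theorem val3684 : C.Mem R ⊤ 75815186948616031316597262847662445015840076279807484477317801032431051385310075629999300166910066588600540924725878917198512128 := MC.mem_units (mc2 112) (can2_sound (by decide)) chk3683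
theorem U4x_m0 : C.Mem R (C.gen R 75815186948616031316597262847662445015840076279807484477317801032431051385310075629999300166910066588600540924725878917198512128) 75815186948616031316597262847662445015840076279807484477317801032431051385310075629999300166910066588600540924725878917198512128 := GC.Mem.gen val3684
theorem cX4 : {τ | τ ∈ (C.gen R 1201866666734509154372441695406943223759505544403832693834456154681607968602400870942547962423405383776592723968) ∧ (τ ≠ 1 ∧ ∀ u ∈ ([422, 423, 424] : List ℕ), τ * C.el (R u) = C.el (R u) * τ)}.ncard ≤ 1 := count_le (Act.count_pred (Act.pieces_sound Q11_m0 Q11_m0.top (Act.self_rep C) chk3694) chk3695 (ncommF_sound (A := A0) val3684 pt3639r chk3687)) Q11_ub (by decide +kernel)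
theorem cD4 : (DC1 (C.gen R 67108862) (C.el (R 175)) ∩ centralizer {C.el (R 358)}).ncard ≤ Nat.card ((C.gen R 67108862) ⊓ centralizer {C.el (R 358)} : Subgroup _) * 16 := cent_bound (cent_DC1 GT4_in2245.gen_le G_T4c (abel_X nHQ (Q11_m0.get (i := 358) (by decide +kernel)).el_mem hz.2 Qab_c (e := fun u => C.el (R u)) fun u hu => Q11_m0.conjA (G_s4_3628.get (i := 175) (by decide +kernel)).top val3684 chk3686 _ (U4x_m0.get ((allL_iff _ _).1 chk3687 u hu)).el_mem)) GT4_lb0 cX4 CHu (by decide +kernel)
theorem val3698 : C.Mem R ⊤ 606521495588928250532778102781299560126720610238459875818542408259448411082480605039994401335280532708804327397807031337588097024 := MC.mem_units (mc2 112) (can2_sound (by decide)) chk3697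
theorem U5x_m0 : C.Mem R (C.gen R 606521495588928250532778102781299560126720610238459875818542408259448411082480605039994401335280532708804327397807031337588097024) 606521495588928250532778102781299560126720610238459875818542408259448411082480605039994401335280532708804327397807031337588097024 := GC.Mem.gen val3698
theorem cX5 : {τ | τ ∈ (C.gen R 1201866666734509154372441695406943223759505544403832693834456154681607968602400870942547962423405383776592723968) ∧ (τ ≠ 1 ∧ ∀ u ∈ ([425, 426, 427] : List ℕ), τ * C.el (R u) = C.el (R u) * τ)}.ncard ≤ 0 := count_le (Act.count_pred (Act.pieces_sound Q11_m0 Q11_m0.top (Act.self_rep C) chk3708) chk3709 (ncommF_sound (A := A0) val3698 pt3639r chk3701)) Q11_ub (by decide +kernel)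
theorem cD5 : (DC1 (C.gen R 67108862) (C.el (R 176)) ∩ centralizer {C.el (R 358)}).ncard ≤ Nat.card ((C.gen R 67108862) ⊓ centralizer {C.el (R 358)} : Subgroup _) * 0 := cent_bound (cent_DC1 GT5_in2393.gen_le G_T5c (abel_X nHQ (Q11_m0.get (i := 358) (by decide +kernel)).el_mem hz.2 Qab_c (e := fun u => C.el (R u)) fun u hu => Q11_m0.conjA (G_s4_3628.get (i := 176) (by decide +kernel)).top val3698 chk3700 _ (U5x_m0.get ((allL_iff _ _).1 chk3701 u hu)).el_mem)) GT5_lb0 cX5 CHu (by decide +kernel)
theorem val3712 : C.Mem R ⊤ 4852171964711426004262224822250396481013764881907679006548339266075587288659844840319955210682244261670434619182456250700704776192 := MC.mem_units (mc2 112) (can2_sound (by decide)) chk3711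
theorem U6x_m0 : C.Mem R (C.gen R 4852171964711426004262224822250396481013764881907679006548339266075587288659844840319955210682244261670434619182456250700704776192) 4852171964711426004262224822250396481013764881907679006548339266075587288659844840319955210682244261670434619182456250700704776192 := GC.Mem.gen val3712
theorem cX6 : {τ | τ ∈ (C.gen R 1201866666734509154372441695406943223759505544403832693834456154681607968602400870942547962423405383776592723968) ∧ (τ ≠ 1 ∧ ∀ u ∈ ([428, 429, 430] : List ℕ), τ * C.el (R u) = C.el (R u) * τ)}.ncard ≤ 0 := count_le (Act.count_pred (Act.pieces_sound Q11_m0 Q11_m0.top (Act.self_rep C) chk3722) chk3723 (ncommF_sound (A := A0) val3712 pt3639r chk3715)) Q11_ub (by decide +kernel)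
theorem cD6 : (DC1 (C.gen R 67108862) (C.el (R 177)) ∩ centralizer {C.el (R 358)}).ncard ≤ Nat.card ((C.gen R 67108862) ⊓ centralizer {C.el (R 358)} : Subgroup _) * 0 := cent_bound (cent_DC1 GT6_in2464.gen_le G_T6c (abel_X nHQ (Q11_m0.get (i := 358) (by decide +kernel)).el_mem hz.2 Qab_c (e := fun u => C.el (R u)) fun u hu => Q11_m0.conjA (G_s4_3628.get (i := 177) (by decide +kernel)).top val3712 chk3714 _ (U6x_m0.get ((allL_iff _ _).1 chk3715 u hu)).el_mem)) GT6_lb0 cX6 CHu (by decide +kernel)
theorem Cin3726 : C.Mem R (C.gen R 201326590) 100663294 := G_s4_3628.slp' chk3725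
theorem CG : (C.gen R 201326590) ⊓ centralizer {C.el (R 358)} = (C.gen R 100663294) := cent_eq Cin3726.gen_le (Cz_m0.top.commL (E13_s1_3582.get (i := 358) (by decide +kernel)).top chk3727) (up_mul (GC.card_cent [(27, 60), (173, 0), (174, 0), (175, 16), (176, 0), (177, 0)] G_dc (forall_cons cD1 (forall_cons cD2 (forall_cons cD3 (forall_cons cD4 (forall_cons cD5 (forall_cons cD6 forall_nil)))))) (n := 77) (by decide +kernel)) CHu (n := 21799895040) (by decide +kernel)) Cz_lb
theorem cardM : Nat.card (C.gen R 83886078) = 10899947520 := le_antisymm M_ub M_lb
theorem cardC : Nat.card (C.gen R 100663294) = 21799895040 := le_antisymm Cz_ub Cz_lb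
theorem cardN : Nat.card (C.gen R 73382996732713577154704038880544508328377593071396057361463242903977676867346793214459070189550935541284864) = 24576 := le_antisymm Lb_ub4 Lb_lb4
theorem main : ∃ G : Subgroup (Matrix (Fin 112) (Fin 112) (ZMod 2))ˣ, (IsSimpleGroup G ∧ Nat.card G = 86775571046077562880) ∧
    ∃ z : G, orderOf z = 2 ∧ ∃ (Q N M : Subgroup (centralizer ({z} : Set G))), Q.Normal ∧ N.Normal ∧
      Q ≤ N ∧ N ≤ M ∧ Nat.card Q = 8192 ∧ Cfsg.IsExtraspecial 2 Q ∧ Nat.card N = 24576 ∧ M.index = 2 ∧
      ∃ (_ : (N.subgroupOf M).Normal), IsSimpleGroup (M ⧸ N.subgroupOf M) ∧ Nat.card (M ⧸ N.subgroupOf M) = 443520 :=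
  ⟨_, ⟨simple, cardG⟩, pack_cent ((G_s4_3628.sub chk3728).gen_le (Qin3239.gen_le (Q11_m0.get (i := 358) (by decide +kernel)).el_mem)) hz CG Ein3347.gen_le (M_s4_3213.sub chk3729).gen_le (Cz_m1.sub chk3730).gen_le nCE nCN extra cardE cardN
    (cardM.trans (by norm_num)) (by norm_num) (cardC.trans (by norm_num)) dichM⟩
end

end CfsgH6.J4
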