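/-
Integer vectors on the 24 points packed in 16-bit fields; matrix times vector by one
multiplication of natural numbers.
-/
import Cfsg.Agent.H5.Golay

set_option autoImplicit false
set_option linter.unusedSimpArgs false

namespace CfsgH6

open CfsgH5 Cfsg Finset

noncomputable section

/-- the `k`-th 16-bit digit -/
def dg (n k : ℕ) : ℕ := Nat.land (Nat.shiftRight n (Nat.mul 16 k)) 65535

/-- the number with given 16-bit digits -/
def ev (n : ℕ) (f : ℕ → ℕ) : ℕ := ∑ k ∈ range n, f k * 65536 ^ k

theorem dg_eq (n k : ℕ) : dg n k = n / 65536 ^ k % 65536 := by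
  show (n >>> (16 * k)) &&& (2 ^ 16 - 1) = _
  rw [Nat.and_two_pow_sub_one_eq_mod, Nat.shiftRight_eq_div_pow, pow_mul]; rfl

theorem dg_lt (n k : ℕ) : dg n k < 65536 := by rw [dg_eq]; exact Nat.mod_lt _ (by norm_num)

theorem ev_succ (n : ℕ) (f : ℕ → ℕ) : ev (n + 1) f = ev n f + f n * 65536 ^ n := sum_range_succ _ _

theorem ev_succ' (n : ℕ) (f : ℕ → ℕ) : ev (n + 1) f = f 0 + 65536 * ev n (fun k => f (k + 1)) := by
  unfold ev
  rw [sum_range_succ', mul_sum, add_comm]
  simp only [pow_zero, mul_one, pow_succ]
  congr 1
  exact sum_congr rfl fun k _ => by ring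

theorem ev_congr {n : ℕ} {f g : ℕ → ℕ} (h : ∀ k, k < n → f k = g k) : ev n f = ev n g :=
  sum_congr rfl fun k hk => by rw [h k (mem_range.1 hk)]

theorem ev_lt {n : ℕ} {f : ℕ → ℕ} (h : ∀ k, k < n → f k < 65536) : ev n f < 65536 ^ n := by
  induction n with
  | zero => simp [ev]
  | succ n ih =>
    have h1 := ih fun k hk => h k (by omega)
    have h2 : f n * 65536 ^ n ≤ 65535 * 65536 ^ n :=
      Nat.mul_le_mul_right _ (by have := h n (by omega); omega)
    rw [ev_succ, pow_succ]; omega

theorem dg_ev {n : ℕ} {f : ℕ → ℕ} (h : ∀ k, k < n → f k < 65536) (k : ℕ) :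
    dg (ev n f) k = if k < n then f k else 0 := by
  induction k generalizing n f with
  | zero =>
    cases n with
    | zero => simp [ev, dg_eq]
    | succ n =>
      rw [dg_eq, ev_succ']
      have := h 0 (by omega)
      simp only [pow_zero, Nat.div_one, Nat.zero_lt_succ, if_true]
      omega
  | succ k ih =>
    cases n with
    | zero => simp [ev, dg_eq]
    | succ n =>
      have h0 := h 0 (by omega)
      have := ih (n := n) (f := fun k => f (k + 1)) fun k hk => h (k + 1) (by omega)
      rw [dg_eq] at this
      rw [dg_eq, ev_succ', pow_succ', ← Nat.div_div_eq_div_mul,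
        show (f 0 + 65536 * ev n fun k => f (k + 1)) / 65536 = ev n fun k => f (k + 1) by omega, this]
      simp

theorem ev_dg {n m : ℕ} (h : m < 65536 ^ n) : ev n (dg m) = m := by
  induction n generalizing m with
  | zero => simp [ev] at *; omega
  | succ n ih =>
    have h1 : m / 65536 < 65536 ^ n := by
      rw [Nat.div_lt_iff_lt_mul (by norm_num), ← pow_succ]; exact h
    have h2 : (fun k => dg m (k + 1)) = dg (m / 65536) := by
      funext k; rw [dg_eq, dg_eq, pow_succ', Nat.div_div_eq_div_mul]
    rw [ev_succ', h2, ih h1, dg_eq]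
    simp only [pow_zero, Nat.div_one]
    omega

theorem dg_of_lt {n m : ℕ} (h : m < 65536 ^ n) {k : ℕ} (hk : n ≤ k) : dg m k = 0 := by
  rw [dg_eq, Nat.div_eq_of_lt (lt_of_lt_of_le h (Nat.pow_le_pow_right (by norm_num) hk))]

theorem eq_of_dg {n a b : ℕ} (ha : a < 65536 ^ n) (hb : b < 65536 ^ n)
    (h : ∀ k, k < n → dg a k = dg b k) : a = b := by
  rw [← ev_dg ha, ← ev_dg hb, ev_congr h]

theorem testBit_dg (n k j : ℕ) : (dg n k).testBit j = (decide (j < 16) && n.testBit (16 * k + j)) :=
  testBit_ap 16 n k j

theorem dg_land (a b k : ℕ) : dg (Nat.land a b) k = Nat.land (dg a k) (dg b k) := by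
  apply Nat.eq_of_testBit_eq
  intro j
  simp only [Nat.land_eq, Nat.testBit_and, testBit_dg]
  cases decide (j < 16) <;> simp

theorem dg_xor (a b k : ℕ) : dg (Nat.xor a b) k = Nat.xor (dg a k) (dg b k) := by
  apply Nat.eq_of_testBit_eq
  intro j
  simp only [Nat.xor_eq, Nat.testBit_xor, testBit_dg]
  cases decide (j < 16) <;> simp

theorem xor_lt_pow {n a b : ℕ} (ha : a < 65536 ^ n) (hb : b < 65536 ^ n) :
    Nat.xor a b < 65536 ^ n := by
  rw [show (65536 : ℕ) = 2 ^ 16 from rfl, ← pow_mul] at *
  exact Nat.xor_lt_two_pow ha hb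

theorem ev_mod {n : ℕ} (f : ℕ → ℕ) : ev n f ≡ ∑ k ∈ range n, f k [MOD 65535] := by
  unfold ev
  apply Nat.ModEq.sum
  intro k _
  have : 65536 ^ k ≡ 1 ^ k [MOD 65535] := Nat.ModEq.pow k (by decide)
  simpa using Nat.ModEq.mul_left (f k) this

theorem shift_ev (m : ℕ → ℕ) (hm : ∀ k, 601 ≤ k → m k = 0) {i : ℕ} (hi : i < 24) :
    65536 ^ i * ev 601 m = ev 625 fun p => if i ≤ p then m (p - i) else 0 := by
  unfold ev
  rw [← sum_range_add_sum_Ico _ (show i ≤ 625 by omega), sum_eq_zero (s := range i), zero_add,
    sum_Ico_eq_sum_range, mul_sum]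
  · rw [← sum_subset (s₁ := range 601) (s₂ := range (625 - i))]
    · exact sum_congr rfl fun k _ => by simp [pow_add]; ring
    · intro k hk; simp only [mem_range] at *; omega
    · intro k _ hk; simp only [mem_range, not_lt] at hk; simp [hm k hk]
  · intro k hk; rw [mem_range] at hk; simp [not_le.2 hk]

theorem ev_mul_ev (d m : ℕ → ℕ) (hm : ∀ k, 601 ≤ k → m k = 0) :
    ev 601 m * ev 24 d = ev 625 fun p => ∑ i ∈ range 24, d i * if i ≤ p then m (p - i) else 0 := by
  have : ev 601 m * ev 24 d = ∑ i ∈ range 24, d i * (65536 ^ i * ev 601 m) := by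
    rw [show ev 24 d = ∑ i ∈ range 24, d i * 65536 ^ i from rfl, mul_sum]
    exact sum_congr rfl fun i _ => by ring
  rw [this, sum_congr rfl fun i hi => by rw [shift_ev m hm (mem_range.1 hi)]]
  unfold ev
  simp only [mul_sum, sum_mul]
  rw [sum_comm]
  exact sum_congr rfl fun p _ => sum_congr rfl fun i _ => by ring

/-- all 24 digits equal to one -/
def ONES : ℕ := 0x100010001000100010001000100010001000100010001000100010001000100010001000100010001000100010001
/-- the mask of the digits `25, 50, …, 600` -/
def MASK : ℕ := 0xffff000000000000000000000000000000000000000000000000000000000000000000000000000000000000000000000000ffff000000000000000000000000000000000000000000000000000000000000000000000000000000000000000000000000ffff000000000000000000000000000000000000000000000000000000000000000000000000000000000000000000000000ffff000000000000000000000000000000000000000000000000000000000000000000000000000000000000000000000000ffff000000000000000000000000000000000000000000000000000000000000000000000000000000000000000000000000ffff00000000000000000000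0000000000000000000000000000000000000000000000000000000000000000000000000000ffff000000000000000000000000000000000000000000000000000000000000000000000000000000000000000000000000ffff000000000000000000000000000000000000000000000000000000000000000000000000000000000000000000000000ffff000000000000000000000000000000000000000000000000000000000000000000000000000000000000000000000000ffff000000000000000000000000000000000000000000000000000000000000000000000000000000000000000000000000ffff000000000000000000000000000000000000000000000000000000000000000000000000000000000000000000000000ffff000000000000000000000000000000000000000000000000000000000000000000000000000000000000000000000000ffff000000000000000000000000000000000000000000000000000000000000000000000000000000000000000000000000ffff000000000000000000000000000000000000000000000000000000000000000000000000000000000000000000000000ffff000000000000000000000000000000000000000000000000000000000000000000000000000000000000000000000000ffff00000000000000000000000000000000000000000000000000000000000000000000000000000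0000000000000000000ffff000000000000000000000000000000000000000000000000000000000000000000000000000000000000000000000000ffff000000000000000000000000000000000000000000000000000000000000000000000000000000000000000000000000ffff000000000000000000000000000000000000000000000000000000000000000000000000000000000000000000000000ffff000000000000000000000000000000000000000000000000000000000000000000000000000000000000000000000000ffff000000000000000000000000000000000000000000000000000000000000000000000000000000000000000000000000ffff000000000000000000000000000000000000000000000000000000000000000000000000000000000000000000000000ffff000000000000000000000000000000000000000000000000000000000000000000000000000000000000000000000000ffff0000000000000000000000000000000000000000000000000000000000000000000000000000000000000000000000000000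
/-- `65536 ^ 25 - 65536` -/
def MODK : ℕ := 0xffffffffffffffffffffffffffffffffffffffffffffffffffffffffffffffffffffffffffffffffffffffffffffffff0000

theorem ONES_eq : ONES = ∑ k ∈ range 24, 65536 ^ k := by decide +kernel
theorem MODK_eq : MODK = 65536 ^ 25 - 65536 := by decide +kernel
theorem MASK_lt : MASK < 65536 ^ 625 := by decide +kernel
theorem dg_MASK : ∀ p, p < 625 → dg MASK p = if p % 25 = 0 ∧ 0 < p then 65535 else 0 := by
  have : allLt 625 (fun p => Nat.beq (dg MASK p) (if p % 25 = 0 ∧ 0 < p then 65535 else 0)) = true := by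
    decide +kernel
  intro p hp
  exact (beq_true_iff _ _).1 ((allLt_iff _ _).1 this p hp)

/-- the raw product of a coded matrix with a coded vector -/
def kr (a n : ℕ) : ℕ := Nat.mod (Nat.land (Nat.mul a n) MASK) MODK

/-- a coded matrix has 601 digits, each at most 16 -/
def okMat (a : ℕ) : Bool :=
  band (Nat.blt a (Nat.pow 65536 601)) (allLt 601 fun k => Nat.ble (dg a k) 16)

theorem okMat_iff {a : ℕ} : okMat a = true ↔ a < 65536 ^ 601 ∧ ∀ k, k < 601 → dg a k ≤ 16 := by
  simp only [okMat, allLt_iff, band_eq, Bool.and_eq_true, blt_true_iff, ble_true_iff, Nat.pow_eq]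

theorem okMat_dg {a : ℕ} (ha : okMat a = true) (k : ℕ) : dg a k ≤ 16 := by
  rw [okMat_iff] at ha
  by_cases hk : k < 601
  · exact ha.2 k hk
  · rw [dg_of_lt ha.1 (not_lt.1 hk)]; omega

theorem kr_ev {a : ℕ} (ha : okMat a = true) {d : ℕ → ℕ} (hd : ∀ i, i < 24 → d i ≤ 31) :
    kr a (ev 24 d) = 65536 * ev 24 fun j => ∑ i ∈ range 24, d i * dg a (25 * j + 25 - i) := by
  have ha' := okMat_iff.1 ha
  set c : ℕ → ℕ := fun p => ∑ i ∈ range 24, d i * if i ≤ p then dg a (p - i) else 0 with hc
  have hcb : ∀ p, c p ≤ 11904 := fun p => by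
    calc c p ≤ ∑ _i ∈ range 24, 31 * 16 := sum_le_sum fun i hi =>
          Nat.mul_le_mul (hd i (mem_range.1 hi)) (by
            split_ifs
            · exact okMat_dg ha _
            · omega)
      _ = 11904 := by simp
  have hcl : ∀ p, p < 625 → c p < 65536 := fun p _ => by have := hcb p; omega
  have h1 : a * ev 24 d = ev 625 c := by
    nth_rewrite 1 [← ev_dg ha'.1]
    exact ev_mul_ev d (dg a) fun k hk => dg_of_lt ha'.1 hk
  have h2 : Nat.land (ev 625 c) MASK = ev 625 fun p => if p % 25 = 0 ∧ 0 < p then c p else 0 := by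
    apply eq_of_dg (n := 625)
    · exact lt_of_le_of_lt Nat.and_le_right MASK_lt
    · apply ev_lt; intro p hp; split_ifs; exacts [hcl p hp, by norm_num]
    · intro p hp
      rw [dg_land, dg_MASK p hp, dg_ev hcl, dg_ev, if_pos hp, if_pos hp]
      · split_ifs
        · exact (Nat.and_two_pow_sub_one_eq_mod _ 16).trans (Nat.mod_eq_of_lt (hcl p hp))
        · simp
      · intro p hp; split_ifs; exacts [hcl p hp, by norm_num]
  have h3 : (ev 625 fun p => if p % 25 = 0 ∧ 0 < p then c p else 0) =
      ∑ j ∈ range 24, c (25 * (j + 1)) * 65536 ^ (25 * (j + 1)) := by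
    unfold ev
    simp only [ite_mul, zero_mul]
    rw [← sum_filter]
    symm
    apply sum_nbij (fun j => 25 * (j + 1))
    · intro j hj; simp only [mem_range, mem_filter] at *; omega
    · intro j _ k _ h; simp only at h; omega
    · intro p hp
      simp only [coe_filter, mem_range, Set.mem_ofPred_eq, Set.mem_image, mem_coe] at *
      exact ⟨p / 25 - 1, by omega, by omega⟩
    · intro j _; rfl
  have h4 : ∑ j ∈ range 24, c (25 * (j + 1)) * 65536 ^ (25 * (j + 1)) ≡
      ∑ j ∈ range 24, c (25 * (j + 1)) * 65536 ^ (j + 1) [MOD MODK] := by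
    apply Nat.ModEq.sum
    intro j _
    apply Nat.ModEq.mul_left
    rw [pow_mul]
    exact Nat.ModEq.pow _ (by decide +kernel)
  have h5 : ∑ j ∈ range 24, c (25 * (j + 1)) * 65536 ^ (j + 1) =
      65536 * ev 24 fun j => ∑ i ∈ range 24, d i * dg a (25 * j + 25 - i) := by
    unfold ev
    rw [mul_sum]
    refine sum_congr rfl fun j _ => ?_
    have : c (25 * (j + 1)) = ∑ i ∈ range 24, d i * dg a (25 * j + 25 - i) :=
      sum_congr rfl fun i hi => by
        rw [mem_range] at hi
        rw [if_pos (by omega), show 25 * (j + 1) - i = 25 * j + 25 - i by omega]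
    rw [this, pow_succ]; ring
  have h6 : ∑ j ∈ range 24, c (25 * (j + 1)) * 65536 ^ (j + 1) < MODK := by
    calc _ ≤ ∑ j ∈ range 24, 11904 * 65536 ^ (j + 1) :=
          sum_le_sum fun j _ => Nat.mul_le_mul_right _ (hcb _)
      _ < MODK := by decide +kernel
  show Nat.land (a * ev 24 d) MASK % MODK = _
  rw [h1, h2, h3, h4, Nat.mod_eq_of_lt h6, h5]

/-! ### Vectors and matrices on the 24 points -/

/-- integer vectors on the 24 points -/
abbrev V : Type := GolayPt → ℤ

theorem sum_pt {M : Type*} [AddCommMonoid M] (f : GolayPt → M) :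
    ∑ i, f i = ∑ k ∈ range 24, f (pt k) := by
  symm
  apply sum_nbij pt
  · intro _ _; exact mem_univ _
  · intro j hj k hk h
    exact E24.dec_inj (mem_range.1 hj) (mem_range.1 hk) h
  · intro a _; exact ⟨pn a, mem_coe.2 (mem_range.2 (pn_lt a)), pt_pn a⟩
  · intro _ _; rfl

/-- the code of a vector with bias `β` -/
def encB (β : ℤ) (x : V) : ℕ := ev 24 fun k => (x (pt k) + β).toNat

/-- the code of a vector -/
def enc (x : V) : ℕ := encB 8 x

/-- the vector of a code, with bias `β` -/
def decB (β : ℤ) (n : ℕ) : V := fun i => (dg n (pn i) : ℤ) - β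

/-- the vector of a code -/
def dec (n : ℕ) : V := decB 8 n

/-- all coordinates are at most `b` in absolute value -/
def Bd (b : ℤ) (x : V) : Prop := ∀ i, -b ≤ x i ∧ x i ≤ b

theorem Bd.mono {b c : ℤ} {x : V} (h : Bd b x) (hbc : b ≤ c) : Bd c x :=
  fun i => by have := h i; omega

theorem cast_encB {β : ℤ} {x : V} (h : Bd β x) :
    (encB β x : ℤ) = ∑ k ∈ range 24, (x (pt k) + β) * 65536 ^ k := by
  unfold encB ev
  push_cast
  exact sum_congr rfl fun k _ => by rw [Int.toNat_of_nonneg (by have := h (pt k); omega)]

theorem encB_lt {β : ℤ} (hβ : β ≤ 30000) {x : V} (h : Bd β x) : encB β x < 65536 ^ 24 :=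
  ev_lt fun k _ => by have := h (pt k); omega

theorem dg_encB {β : ℤ} (hβ : β ≤ 30000) {x : V} (h : Bd β x) (i : GolayPt) :
    (dg (encB β x) (pn i) : ℤ) = x i + β := by
  rw [encB, dg_ev (fun k _ => by have := h (pt k); omega), if_pos (pn_lt i), pt_pn,
    Int.toNat_of_nonneg (by have := h i; omega)]

theorem decB_encB {β : ℤ} (hβ : β ≤ 30000) {x : V} (h : Bd β x) : decB β (encB β x) = x := by
  funext i; rw [decB, dg_encB hβ h]; ring

theorem encB_decB {β : ℤ} {n : ℕ} (h : n < 65536 ^ 24) : encB β (decB β n) = n := by
  nth_rewrite 2 [← ev_dg h]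
  exact ev_congr fun k hk => by simp [decB, pn_pt hk]

theorem encB_inj {β : ℤ} (hβ : β ≤ 30000) {x y : V} (hx : Bd β x) (hy : Bd β y)
    (h : encB β x = encB β y) : x = y := by
  rw [← decB_encB hβ hx, h, decB_encB hβ hy]

theorem dec_enc {x : V} (h : Bd 8 x) : dec (enc x) = x := decB_encB (by norm_num) h
theorem enc_dec {n : ℕ} (h : n < 65536 ^ 24) : enc (dec n) = n := encB_decB h
theorem enc_inj {x y : V} (hx : Bd 8 x) (hy : Bd 8 y) (h : enc x = enc y) : x = y :=
  encB_inj (by norm_num) hx hy h
theorem enc_lt {x : V} (h : Bd 8 x) : enc x < 65536 ^ 24 := encB_lt (by norm_num) h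
theorem dg_enc {x : V} (h : Bd 8 x) (i : GolayPt) : (dg (enc x) (pn i) : ℤ) = x i + 8 :=
  dg_encB (by norm_num) h i

theorem eq_enc {n : ℕ} {x : V} (hn : n < 65536 ^ 24) (h : ∀ i, (dg n (pn i) : ℤ) = x i + 8) :
    n = enc x := by
  rw [← enc_dec hn]; congr 1; funext i; simp [dec, decB, h]

/-- the matrix of a code -/
def matOf (a : ℕ) : Matrix GolayPt GolayPt ℤ := fun j i => (dg a (25 * pn j + 25 - pn i) : ℤ) - 8

theorem matOf_bd {a : ℕ} (ha : okMat a = true) (j i : GolayPt) : -8 ≤ matOf a j i ∧ matOf a j i ≤ 8 := by
  have := okMat_dg ha (25 * pn j + 25 - pn i)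
  unfold matOf; omega

theorem mulVec_bd {a : ℕ} (ha : okMat a = true) {x : V} (hx : Bd 8 x) :
    Bd 1536 ((matOf a).mulVec x) := by
  intro j
  have : |(matOf a).mulVec x j| ≤ 1536 := by
    calc _ ≤ ∑ i, |matOf a j i * x i| := abs_sum_le_sum_abs _ _
      _ ≤ ∑ _i : GolayPt, (8 : ℤ) * 8 := sum_le_sum fun i _ => by
          rw [abs_mul]
          exact mul_le_mul (abs_le.2 (matOf_bd ha j i)) (abs_le.2 (hx i)) (abs_nonneg _) (by norm_num)
      _ = 1536 := by simp
  exact abs_le.1 this

/-- the code of the zero vector -/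
def ZERO : ℕ := 0x800080008000800080008000800080008000800080008000800080008000800080008000800080008000800080008

theorem ZERO_eq : ZERO = ev 24 fun _ => 8 := by decide +kernel

/-- matrix times vector, before the final shift; `c` is the bias constant -/
def mvc (c a n : ℕ) : ℕ :=
  Nat.sub (Nat.add (kr a n) c) (Nat.add (Nat.mul (Nat.mod n 65535) 0x8000800080008000800080008000800080008000800080008000800080008000800080008000800080008000800080000) (kr a ZERO))

theorem mvc_enc {a : ℕ} (ha : okMat a = true) {x : V} (hx : Bd 8 x) (β : ℕ) (c : ℕ)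
    (hc : c = (β + 1536) * 65536 * ONES) (y : ℕ)
    (hy : (y : ℤ) = ∑ k ∈ range 24, ((matOf a).mulVec x (pt k) + β) * 65536 ^ k) :
    mvc c a (enc x) = 65536 * y := by
  set d : ℕ → ℕ := fun k => (x (pt k) + 8).toNat with hd
  have hdz : ∀ k, (d k : ℤ) = x (pt k) + 8 := fun k =>
    Int.toNat_of_nonneg (by have := hx (pt k); omega)
  have hd16 : ∀ k, d k ≤ 16 := fun k => by have := hx (pt k); have := hdz k; omega
  have h1 := kr_ev ha (d := d) fun i _ => (hd16 i).trans (by norm_num)
  have h2 := kr_ev ha (d := fun _ => 8) fun i _ => by norm_num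
  have h3 : ev 24 d % 65535 = ∑ k ∈ range 24, d k := by
    rw [ev_mod d, Nat.mod_eq_of_lt]
    calc _ ≤ ∑ _k ∈ range 24, 16 := sum_le_sum fun k _ => hd16 k
      _ < 65535 := by simp
  have h4 : (0x8000800080008000800080008000800080008000800080008000800080008000800080008000800080008000800080000 : ℕ) = 8 * 65536 * ONES := by decide +kernel
  show kr a (ev 24 d) + c - (ev 24 d % 65535 * _ + kr a ZERO) = _
  rw [ZERO_eq, h1, h2, h3, h4, hc, ONES_eq]
  apply Nat.sub_eq_of_eq_add
  apply Nat.cast_injective (R := ℤ)
  unfold ev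
  push_cast
  rw [hy]
  simp only [mul_sum, ← sum_add_distrib]
  refine sum_congr rfl fun j hj => ?_
  have h5 : (matOf a).mulVec x (pt j) =
      ∑ i ∈ range 24, ((dg a (25 * j + 25 - i) : ℤ) - 8) * x (pt i) := by
    rw [Matrix.mulVec, dotProduct, sum_pt]
    exact sum_congr rfl fun i hi => by
      rw [matOf, pn_pt (mem_range.1 hj), pn_pt (mem_range.1 hi)]
  have h6 : ∑ i ∈ range 24, (d i : ℤ) * dg a (25 * j + 25 - i) =
      (matOf a).mulVec x (pt j) + 8 * ∑ i ∈ range 24, (d i : ℤ) +
        ∑ i ∈ range 24, (8 : ℤ) * dg a (25 * j + 25 - i) - 1536 := by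
    rw [h5, mul_sum, ← sum_add_distrib, ← sum_add_distrib,
      show (1536 : ℤ) = ∑ _i ∈ range 24, 64 by simp, ← sum_sub_distrib]
    exact sum_congr rfl fun i _ => by rw [hdz]; ring
  rw [h6]; ring

/-- matrix times vector with bias 2048 -/
def mvraw (a n : ℕ) : ℕ := Nat.shiftRight (mvc 0xe000e000e000e000e000e000e000e000e000e000e000e000e000e000e000e000e000e000e000e000e000e000e000e000000 a n) 16

/-- one eighth of matrix times vector -/
def act (a n : ℕ) : ℕ := Nat.shiftRight (mvc 0x640064006400640064006400640064006400640064006400640064006400640064006400640064006400640064006400000 a n) 19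

theorem mvraw_enc {a : ℕ} (ha : okMat a = true) {x : V} (hx : Bd 8 x) :
    mvraw a (enc x) = encB 2048 ((matOf a).mulVec x) := by
  have := mvc_enc ha hx 2048 0xe000e000e000e000e000e000e000e000e000e000e000e000e000e000e000e000e000e000e000e000e000e000e000e000000 (by decide +kernel) _
    (cast_encB ((mulVec_bd ha hx).mono (by norm_num)))
  show _ >>> 16 = _
  rw [this, Nat.shiftRight_eq_div_pow]
  exact Nat.mul_div_cancel_left _ (by norm_num)

theorem act_enc {a : ℕ} (ha : okMat a = true) {x y : V} (hx : Bd 8 x) (hy : Bd 8 y)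
    (h : (matOf a).mulVec x = (8 : ℤ) • y) : act a (enc x) = enc y := by
  have := mvc_enc ha hx 64 0x640064006400640064006400640064006400640064006400640064006400640064006400640064006400640064006400000 (by decide +kernel) (8 * enc y) (by
    push_cast
    rw [enc, cast_encB hy, h, mul_sum]
    exact sum_congr rfl fun k _ => by simp; ring)
  show _ >>> 19 = _
  rw [this, Nat.shiftRight_eq_div_pow]; omega

end

end CfsgH6
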