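import Cfsg.Agent.H6.LyD2

set_option autoImplicit false
set_option maxRecDepth 100000
set_option linter.all false
set_option Elab.async false

namespace CfsgH6.Ly

open CfsgH5 CfsgH6 Subgroup MulAction Pointwise

noncomputable section

theorem chk5 : band (allL l4 fun e => band (P7.canF (force (hd e) R2)) (band (Nat.ble 1 (tl e)) (Nat.beq (powC P7.ops (force (hd e) R2) (tl e)) P7.ops.one))) (subM 8190 (insL l4 0)) = true := by decide +kernel
theorem chk10 : band (conjB (prodOps 197136 P.ops P7.ops) R 0 1 l9) (subM 0 (insL l9 0)) = true := by decide +kernel
theorem chk12 : subM 6 8190 = true := by decide +kernel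
theorem chk15 : band (Nat.ble 1 5) (band (subW 2 0) (Nat.beq (powC (prodOps 197136 P.ops P7.ops) (R 2) 5) (evalW (prodOps 197136 P.ops P7.ops) R 0))) = true := by decide +kernel
theorem chk18 : band (conjB (prodOps 197136 P.ops P7.ops) R 6 3 l17) (subM 6 (insL l17 0)) = true := by decide +kernel
theorem chk20 : subM 30 8190 = true := by decide +kernel
theorem chk23 : band (Nat.ble 1 5) (band (subW 14 0) (Nat.beq (powC (prodOps 197136 P.ops P7.ops) (R 4) 5) (evalW (prodOps 197136 P.ops P7.ops) R 0))) = true := by decide +kernel
theorem chk26 : band (conjB (prodOps 197136 P.ops P7.ops) R 30 5 l25) (subM 30 (insL l25 0)) = true := by decide +kernel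
theorem chk28 : subM 126 8190 = true := by decide +kernel
theorem chk31 : band (Nat.ble 1 5) (band (subW 62 0) (Nat.beq (powC (prodOps 197136 P.ops P7.ops) (R 6) 5) (evalW (prodOps 197136 P.ops P7.ops) R 0))) = true := by decide +kernel
theorem chk34 : band (conjB (prodOps 197136 P.ops P7.ops) R 126 7 l33) (subM 126 (insL l33 0)) = true := by decide +kernel
theorem chk36 : subM 510 8190 = true := by decide +kernel
theorem chk39 : band (Nat.ble 1 2) (band (subW 254 6603519558660) (Nat.beq (powC (prodOps 197136 P.ops P7.ops) (R 8) 2) (evalW (prodOps 197136 P.ops P7.ops) R 6603519558660))) = true := by decide +kernel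
theorem chk42 : band (conjB (prodOps 197136 P.ops P7.ops) R 510 9 l41) (subM 510 (insL l41 0)) = true := by decide +kernel
theorem chk44 : subM 2046 8190 = true := by decide +kernel
theorem chk47 : band (Nat.ble 1 2) (band (subW 1022 7983164033339421779823326944465785864) (Nat.beq (powC (prodOps 197136 P.ops P7.ops) (R 10) 2) (evalW (prodOps 197136 P.ops P7.ops) R 7983164033339421779823326944465785864))) = true := by decide +kernel
theorem chk50 : subM 2048 4094 = true := by decide +kernel
theorem chk78 : band (slp (prodOps 197136 P.ops P7.ops) R l77 57344) (subM 1040384 (insL l77 57344)) = true := by decide +kernel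
theorem chk81 : band (fixL (fun c v => P7.app (pr2 197136 c) v) (keyL P7.app (fun x => x) L7s 3) R [16, 17, 18, 19] pt74c) (subM 983040 (insL [16, 17, 18, 19] 0)) = true := by decide +kernel
theorem chk88 : cover 100 [0] (l86) 0 = true := by decide +kernel
theorem chk91 : band (fixL (fun c v => P7.app (pr2 197136 c) v) (keyL P7.app (fun x => x) L7s 3) R [18, 19] pt75c) (subM 786432 (insL [18, 19] 0)) = true := by decide +kernel
theorem chk98 : cover 25 [0] (l96) 0 = true := by decide +kernel
theorem chk101 : band (fixL (fun c v => P7.app (pr2 197136 c) v) (keyL P7.app (fun x => x) L7s 3) R [] pt76c) (subM 0 (insL [] 0)) = true := by decide +kernel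
theorem chk108 : cover 4 [0] (l106) 0 = true := by decide +kernel
theorem chk112 : band (fixL (fun c v => P7.app (pr2 197136 c) v) (keyL P7.app (fun x => x) L7s 3) R [13, 14, 15] pt49c) (subM 57344 (insL [13, 14, 15] 0)) = true := by decide +kernel
theorem chk120 : band (slp (prodOps 197136 P.ops P7.ops) R l119 3145728) (subM 68718428160 (insL l119 3145728)) = true := by decide +kernel
theorem chk123 : band (fixL (fun c v => P7.app (pr2 197136 c) v) (keyL P7.app (fun x => x) L7s 3) R [24, 25, 26, 27, 28, 29, 30, 31, 32, 33, 34, 35] pt117c) (subM 68702699520 (insL [24, 25, 26, 27, 28, 29, 30, 31, 32, 33, 34, 35] 0)) = true := by decide +kernel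
theorem chk130 : cover 125 [0] (l128) 0 = true := by decide +kernel
theorem chk133 : band (fixL (fun c v => P7.app (pr2 197136 c) v) (keyL P7.app (fun x => x) L7s 3) R [] pt118c) (subM 0 (insL [] 0)) = true := by decide +kernel
theorem chk140 : cover 400 [0] (l138) 0 = true := by decide +kernel
theorem chk145 : dcRel (prodOps 197136 P.ops P7.ops) R 2046 2048 11 11 l144 = true := by decide +kernel
theorem chk151 : cover 25 (List.map Prod.fst (l144)) (l149) 0 = true := by decide +kernel
theorem chk154 : inDC (prodOps 197136 P.ops P7.ops) R 2046 2048 (R 11) 0 11 = true := by decide +kernel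
theorem chk159 : subM 206158434304 206158438398 = true := by decide +kernel
theorem chk186 : band (slp (prodOps 197136 P.ops P7.ops) R l185 1924145348608) (subM 70093866270720 (insL l185 1924145348608)) = true := by decide +kernel
theorem chk189 : band (fixL (fun c v => P7.app (pr2 197136 c) v) (keyL P7.app (fun x => x) L7s 3) R [41, 42, 43, 44, 45] pt183c) (subM 68169720922112 (insL [41, 42, 43, 44, 45] 0)) = true := by decide +kernel
theorem chk196 : cover 100 [0] (l194) 0 = true := by decide +kernel
theorem chk199 : band (fixL (fun c v => P7.app (pr2 197136 c) v) (keyL P7.app (fun x => x) L7s 3) R [] pt184c) (subM 0 (insL [] 0)) = true := by decide +kernel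
theorem chk206 : cover 500 [0] (l204) 0 = true := by decide +kernel
theorem chk210 : band (fixL (fun c v => P7.app (pr2 197136 c) v) (keyL P7.app (fun x => x) L7s 3) R [38, 39, 40] pt155c) (subM 1924145348608 (insL [38, 39, 40] 0)) = true := by decide +kernel
theorem chk223 : band (slp (prodOps 197136 P.ops P7.ops) R l222 211106232532992) (subM 144044819331678208 (insL l222 211106232532992)) = true := by decide +kernel
theorem chk226 : band (fixL (fun c v => P7.app (pr2 197136 c) v) (keyL P7.app (fun x => x) L7s 3) R [49, 50, 51, 52, 53, 54, 55, 56] pt220c) (subM 143552238122434560 (insL [49, 50, 51, 52, 53, 54, 55, 56] 0)) = true := by decide +kernel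
theorem chk233 : cover 100 [0] (l231) 0 = true := by decide +kernel
theorem chk236 : band (fixL (fun c v => P7.app (pr2 197136 c) v) (keyL P7.app (fun x => x) L7s 3) R [] pt221c) (subM 0 (insL [] 0)) = true := by decide +kernel
theorem chk243 : cover 500 [0] (l241) 0 = true := by decide +kernel
theorem chk248 : dcRel (prodOps 197136 P.ops P7.ops) R 4094 206158434304 12 12 l247 = true := by decide +kernel
theorem chk254 : cover 30 (List.map Prod.fst (l247)) (l252) 0 = true := by decide +kernel
theorem chk258 : band (slp (prodOps 197136 P.ops P7.ops) R l257 4094) (subM 432345564227567616 (insL l257 4094)) = true := by decide +kernel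
theorem chk265 : subM 32281802128991715328 36749372959343247360 = true := by decide +kernel
theorem chk272 : band (pieces (fun c v => P7.app (pr2 197136 c) v) (keyL P7.app (fun x => x) L7s 3) tab270 R 36749372959343247360 [57, 58, 59, 60, 61, 62, 63, 64] pt260c l271) (allL l271 fun p => subW 36749372959343247360 p.2.1) = true := by decide +kernel
theorem chk275 : subM 0 32281802128991715328 = true := by decide +kernel
theorem chk282 : band (pieces (fun c v => P7.app (pr2 197136 c) v) (keyL P7.app (fun x => x) L7s 3) tab280 R 32281802128991715328 [62, 63, 64] pt261c l281) (allL l281 fun p => subW 32281802128991715328 p.2.1) = true := by decide +kernel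
theorem chk286 : band (conjA (prodOps 197136 P.ops P7.ops) R 4094 36 l285) (subM 432345564227567616 (insL l285 0)) = true := by decide +kernel
theorem chk293 : band (pieces (fun c v => P7.app (pr2 197136 c) v) (keyL P7.app (fun x => x) L7s 3) tab291 R 36749372959343247360 [57, 58, 59, 60, 61, 62, 63, 64] pt155c l292) (allL l292 fun p => subW 4094 p.2.1) = true := by decide +kernel
theorem chk296 : allL (List.map Prod.fst (l287)) (subW 4094) = true := by decide +kernel
theorem chk303 : band (slp (prodOps 197136 P.ops P7.ops) R l302 110680464442257309696) (subM 553402322211286548480 (insL l302 110680464442257309696)) = true := by decide +kernel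
theorem chk306 : band (fixL (fun c v => P7.app (pr2 197136 c) v) (keyL P7.app (fun x => x) L7s 3) R [67, 68] pt300c) (subM 442721857769029238784 (insL [67, 68] 0)) = true := by decide +kernel
theorem chk313 : cover 24 [0] (l311) 0 = true := by decide +kernel
theorem chk316 : band (fixL (fun c v => P7.app (pr2 197136 c) v) (keyL P7.app (fun x => x) L7s 3) R [] pt301c) (subM 0 (insL [] 0)) = true := by decide +kernel
theorem chk323 : cover 20 [0] (l321) 0 = true := by decide +kernel
theorem chk328 : dcRel (prodOps 197136 P.ops P7.ops) R 4094 206158434304 37 12 l327 = true := by decide +kernel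
theorem chk334 : cover 30 (List.map Prod.fst (l327)) (l332) 0 = true := by decide +kernel
theorem chk337 : inDC (prodOps 197136 P.ops P7.ops) R 4094 206158434304 (R 12) 0 12 = true := by decide +kernel
theorem chk340 : allL l338 (fun p => Nat.blt p.1 1024) = true := by decide +kernel
theorem chk346 : subW 8854437155586743214078 13207100005448 = true := by decide +kernel
theorem chk350 : band (slp (prodOps 197136 P.ops P7.ops) R l349 4094) (subM 2408406906263519058989054 (insL l349 4094)) = true := by decide +kernel
theorem chk353 : band (fixL (fun c v => P7.app (pr2 197136 c) v) (keyL P7.app (fun x => x) L7s 3) R [73, 74, 75, 76, 77, 78, 79, 80] pt345c) (subM 2408406906263519058984960 (insL [73, 74, 75, 76, 77, 78, 79, 80] 0)) = true := by decide +kernel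
theorem chk360 : cover 750 [0] (l358) 0 = true := by decide +kernel
theorem chk363 : band (fixL (fun c v => P7.app (pr2 197136 c) v) (keyL P7.app (fun x => x) L7s 3) R [] pt347c) (subM 0 (insL [] 0)) = true := by decide +kernel
theorem chk372 : cover 2000 [0] (l370) 0 = true := by decide +kernel
theorem chk383 : cover 3906 [0] (l381) 0 = true := by decide +kernel
theorem chk387 : subM 4094 8854437155586743214078 = true := by decide +kernel
theorem chk389 : subM 2417261343419105802199038 (Nat.lor 8854437155586743214078 2408406906263519058989054) = true := by decide +kernel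
theorem chk394 : band (slp (prodOps 197136 P.ops P7.ops) R l393 4835112982648364151611390) (subM 19342222818023914248085502 (insL l393 4835112982648364151611390)) = true := by decide +kernel
theorem chk398 : band (nconj (prodOps 197136 P.ops P7.ops) R 19342222818023914248085502 (ins 0 81) l397) (subM 14507109835375550096474112 (insL l397 (ins 0 81))) = true := by decide +kernel
theorem chk402 : band (ncop (prodOps 197136 P.ops P7.ops) R 19342222818023914248085502 16924961474604808445886464 l401) (subM 3968 (insL (l401.map Prod.fst) 16924961474604808445886464)) = true := by decide +kernel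
theorem chk405 : band (Nat.beq (powC (prodOps 197136 P.ops P7.ops) (R 81) 31) (prodOps 197136 P.ops P7.ops).one) (bnot (Nat.beq (R 81) (prodOps 197136 P.ops P7.ops).one)) = true := by decide +kernel
theorem chk408 : band (slp (prodOps 197136 P.ops P7.ops) R l407 19342222818023914248085502) (subM 4951759566845710947049283582 (insL l407 19342222818023914248085502)) = true := by decide +kernel
theorem chk412 : band (allL l411 fun e => band (P.canF (force (hd e) R1)) (band (Nat.ble 1 (tl e)) (Nat.beq (powC P.ops (force (hd e) R1) (tl e)) P.ops.one))) (subM 4951760157141521099596496896 (insL l411 0)) = true := by decide +kernel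
theorem chk416 : subM 9903519723987232046645780478 (Nat.lor 4951760157141521099596505086 4951759566845710947049283582) = true := by decide +kernel
theorem chk420 : subM 74276402357122816493947453440 79228161923968527440996737022 = true := by decide +kernel
theorem chk462 : band (slp (prodOps 197136 P.ops P7.ops) R l461 554597137599850363154807652352) (subM 40485591044789076510300958621696 (insL l461 554597137599850363154807652352)) = true := by decide +kernel
theorem chk465 : band (fixL (fun c v => P7.app (pr2 197136 c) v) (keyL P7.app (fun x => x) L7s 3) R [99, 100, 101, 102, 103, 104] pt458c) (subM 39930993907189226147146150969344 (insL [99, 100, 101, 102, 103, 104] 0)) = true := by decide +kernel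
theorem chk472 : cover 50 [0] (l470) 0 = true := by decide +kernel
theorem chk475 : band (fixL (fun c v => P7.app (pr2 197136 c) v) (keyL P7.app (fun x => x) L7s 3) R [104] pt459c) (subM 20282409603651670423947251286016 (insL [104] 0)) = true := by decide +kernel
theorem chk482 : cover 500 [0] (l480) 0 = true := by decide +kernel
theorem chk485 : band (fixL (fun c v => P7.app (pr2 197136 c) v) (keyL P7.app (fun x => x) L7s 3) R [] pt460c) (subM 0 (insL [] 0)) = true := by decide +kernel
theorem chk492 : cover 4 [0] (l490) 0 = true := by decide +kernel
theorem chk496 : band (fixL (fun c v => (appP 112 P7.app) (pr2 197136 c) v) (keyP 112 (keyL P7.app (fun x => x) L7s 3)) R [96, 97, 98] pt414c) (subM 554597137599850363154807652352 (insL [96, 97, 98] 0)) = true := by decide +kernel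
theorem chk524 : band (slp (prodOps 197136 P.ops P7.ops) R l523 283953734451123385935261518004224) (subM 2555583610060110473417353662038016 (insL l523 283953734451123385935261518004224)) = true := by decide +kernel
theorem chk527 : band (fixL (fun c v => P7.app (pr2 197136 c) v) (keyL P7.app (fun x => x) L7s 3) R [108, 109, 110] pt521c) (subM 2271629875608987087482092144033792 (insL [108, 109, 110] 0)) = true := by decide +kernel
theorem chk534 : cover 126 [0] (l532) 0 = true := by decide +kernel
theorem chk537 : band (fixL (fun c v => P7.app (pr2 197136 c) v) (keyL P7.app (fun x => x) L7s 3) R [] pt522c) (subM 0 (insL [] 0)) = true := by decide +kernel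
theorem chk544 : cover 8 [0] (l542) 0 = true := by decide +kernel
theorem chk549 : dcRel P.ops R1 4951759566845710947049283582 74276402357122816493947453440 93 92 l548 = true := by decide +kernel
theorem chk553 : dcRel P.ops R1 4951759566845710947049283582 74276402357122816493947453440 93 92 l552 = true := by decide +kernel
theorem chk557 : dcRel P.ops R1 4951759566845710947049283582 74276402357122816493947453440 93 92 l556 = true := by decide +kernel
theorem chk561 : dcRel P.ops R1 4951759566845710947049283582 74276402357122816493947453440 93 92 l560 = true := by decide +kernel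
theorem chk565 : dcRel P.ops R1 4951759566845710947049283582 74276402357122816493947453440 93 92 l564 = true := by decide +kernel
theorem chk569 : dcRel P.ops R1 4951759566845710947049283582 74276402357122816493947453440 93 92 l568 = true := by decide +kernel
theorem chk573 : dcRel P.ops R1 4951759566845710947049283582 74276402357122816493947453440 93 92 l572 = true := by decide +kernel
theorem chk577 : dcRel P.ops R1 4951759566845710947049283582 74276402357122816493947453440 93 92 l576 = true := by decide +kernel
theorem chk581 : dcRel P.ops R1 4951759566845710947049283582 74276402357122816493947453440 93 92 l580 = true := by decide +kernel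
theorem chk585 : dcRel P.ops R1 4951759566845710947049283582 74276402357122816493947453440 93 92 l584 = true := by decide +kernel
theorem chk589 : dcRel P.ops R1 4951759566845710947049283582 74276402357122816493947453440 93 92 l588 = true := by decide +kernel
theorem chk676 : band (pieces (fun c v => (appP 112 P7.app) (pr2 197136 c) v) (keyP 112 (keyL P7.app (fun x => x) L7s 3)) tab672 R 2555583610060110473417353662038016 [105, 106, 107, 108, 109, 110] pt414c l675) (allL l675 fun p => subW 4951759566845710947049283582 p.2.1) = true := by decide +kernel
theorem chk680 : band (pieces (fun c v => (appP 112 P7.app) (pr2 197136 c) v) (keyP 112 (keyL P7.app (fun x => x) L7s 3)) tab672 R 2555583610060110473417353662038016 [105, 106, 107, 108, 109, 110] pt414c l679) (allL l679 fun p => subW 4951759566845710947049283582 p.2.1) = true := by decide +kernel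
theorem chk684 : band (pieces (fun c v => (appP 112 P7.app) (pr2 197136 c) v) (keyP 112 (keyL P7.app (fun x => x) L7s 3)) tab672 R 2555583610060110473417353662038016 [105, 106, 107, 108, 109, 110] pt414c l683) (allL l683 fun p => subW 4951759566845710947049283582 p.2.1) = true := by decide +kernel
theorem chk688 : band (pieces (fun c v => (appP 112 P7.app) (pr2 197136 c) v) (keyP 112 (keyL P7.app (fun x => x) L7s 3)) tab672 R 2555583610060110473417353662038016 [105, 106, 107, 108, 109, 110] pt414c l687) (allL l687 fun p => subW 4951759566845710947049283582 p.2.1) = true := by decide +kernel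
theorem chk691 : cover 58590 (List.map Prod.fst (l548 ++ (l550 ++ (l552 ++ (l554 ++ (l556 ++ (l558 ++ (l560 ++ (l562 ++ (l564 ++ (l566 ++ (l568 ++ (l570 ++ (l572 ++ (l574 ++ (l576 ++ (l578 ++ (l580 ++ (l582 ++ (l584 ++ (l586 ++ (l588)))))))))))))))))))))) (l673 ++ (l675 ++ (l677 ++ (l679 ++ (l681 ++ (l683 ++ (l685 ++ (l687 ++ (l689))))))))) 0 = true := by decide +kernel
theorem chk695 : band (slp (prodOps 197136 P.ops P7.ops) R l694 4951759566845710947049283582) (subM 7788445287802241442795744493830144 (insL l694 4951759566845710947049283582)) = true := by decide +kernel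
end

end CfsgH6.Ly
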