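import Cfsg.Agent.H6.LyD2

set_option autoImplicit false
set_option maxRecDepth 100000
set_option linter.all false
set_option Elab.async false

namespace CfsgH6.Ly

open CfsgH5 CfsgH6 Subgroup MulAction Pointwise

noncomputable section

theorem chk700 : band (slp (prodOps 197136 P.ops P7.ops) R l699 7788445287802241442795744493830144) (subM 329710850516961554411686516905476096 (insL l699 7788445287802241442795744493830144)) = true := by decide +kernel
theorem chk710 : cover 378 [0] (l708) 0 = true := by decide +kernel
theorem chk720 : cover 16 [0] (l718) 0 = true := by decide +kernel
theorem chk729 : dcRel P.ops R1 4951759566845710947049283582 74276402357122816493947453440 94 92 l728 = true := by decide +kernel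
theorem chk790 : band (pieces (fun c v => (appP 112 P7.app) (pr2 197136 c) v) (keyP 112 (keyL P7.app (fun x => x) L7s 3)) tab784 R 329710850516961554411686516905476096 [111, 112, 113, 114, 115, 116, 117] pt414c l789) (allL l789 fun p => subW 4951759566845710947049283582 p.2.1) = true := by decide +kernel
theorem chk798 : band (pieces (fun c v => (appP 112 P7.app) (pr2 197136 c) v) (keyP 112 (keyL P7.app (fun x => x) L7s 3)) tab784 R 329710850516961554411686516905476096 [111, 112, 113, 114, 115, 116, 117] pt414c l797) (allL l797 fun p => subW 4951759566845710947049283582 p.2.1) = true := by decide +kernel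
theorem chk806 : band (pieces (fun c v => (appP 112 P7.app) (pr2 197136 c) v) (keyP 112 (keyL P7.app (fun x => x) L7s 3)) tab784 R 329710850516961554411686516905476096 [111, 112, 113, 114, 115, 116, 117] pt414c l805) (allL l805 fun p => subW 4951759566845710947049283582 p.2.1) = true := by decide +kernel
theorem chk838 : band (slp (prodOps 197136 P.ops P7.ops) R l837 4951759566845710947049283582) (subM 2326148992623602777581662355490603008 (insL l837 4951759566845710947049283582)) = true := by decide +kernel
theorem chk852 : band (pieces (fun c v => P7.app (pr2 197136 c) v) (keyL P7.app (fun x => x) L7s 3) tab850 R 20935340933612424998234961199415427072 [118, 119, 120, 121, 122, 123] pt840c l851) (allL l851 fun p => subW 20935340933612424998234961199415427072 p.2.1) = true := by decide +kernel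
theorem chk862 : band (pieces (fun c v => P7.app (pr2 197136 c) v) (keyL P7.app (fun x => x) L7s 3) tab860 R 18609191940988822220653298843924824064 [121, 122, 123] pt841c l861) (allL l861 fun p => subW 18609191940988822220653298843924824064 p.2.1) = true := by decide +kernel
theorem chk870 : dcRel P.ops R1 4951759566845710947049283582 74276402357122816493947453440 95 92 l869 = true := by decide +kernel
theorem chk878 : dcRel P.ops R1 4951759566845710947049283582 74276402357122816493947453440 95 92 l877 = true := by decide +kernel
theorem chk886 : dcRel P.ops R1 4951759566845710947049283582 74276402357122816493947453440 95 92 l885 = true := by decide +kernel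
theorem chk954 : band (pieces (fun c v => (appP 112 P7.app) (pr2 197136 c) v) (keyP 112 (keyL P7.app (fun x => x) L7s 3)) tab948 R 20935340933612424998234961199415427072 [118, 119, 120, 121, 122, 123] pt414c l953) (allL l953 fun p => subW 4951759566845710947049283582 p.2.1) = true := by decide +kernel
theorem chk962 : band (pieces (fun c v => (appP 112 P7.app) (pr2 197136 c) v) (keyP 112 (keyL P7.app (fun x => x) L7s 3)) tab948 R 20935340933612424998234961199415427072 [118, 119, 120, 121, 122, 123] pt414c l961) (allL l961 fun p => subW 4951759566845710947049283582 p.2.1) = true := by decide +kernel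
theorem chk969 : allL (List.map Prod.fst (l867 ++ (l869 ++ (l871 ++ (l873 ++ (l875 ++ (l877 ++ (l879 ++ (l881 ++ (l883 ++ (l885 ++ (l887)))))))))))) (subW 4951759566845710947049283582) = true := by decide +kernel
theorem chk979 : band (fixL (fun c v => P7.app (pr2 197136 c) v) (keyL P7.app (fun x => x) L7s 3) R [129, 130, 131, 132, 133, 134, 135, 136, 137, 138, 139] pt973c) (subM 1393116010174322069419055642825659057700864 (insL [129, 130, 131, 132, 133, 134, 135, 136, 137, 138, 139] 0)) = true := by decide +kernel
theorem chk989 : band (fixL (fun c v => P7.app (pr2 197136 c) v) (keyL P7.app (fun x => x) L7s 3) R [] pt974c) (subM 0 (insL [] 0)) = true := by decide +kernel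
theorem chk1003 : dcRel P.ops R1 4951759566845710947049283582 74276402357122816493947453440 92 92 l1002 = true := by decide +kernel
theorem chk1064 : band (pieces (fun c v => (appP 112 P7.app) (pr2 197136 c) v) (keyP 112 (keyL P7.app (fun x => x) L7s 3)) tab1058 R 1393775307260231387692015931127558108610560 [124, 125, 126, 127, 128, 129, 130, 131, 132, 133, 134, 135, 136, 137, 138, 139] pt414c l1063) (allL l1063 fun p => subW 4951759566845710947049283582 p.2.1) = true := by decide +kernel
theorem chk1071 : cover 58590 (List.map Prod.fst (l1002 ++ (l1004))) (l1059 ++ (l1061 ++ (l1063 ++ (l1065 ++ (l1067 ++ (l1069)))))) 0 = true := by decide +kernel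
theorem chk1077 : subM 74276402357122816493947453440 (insL ((l1075).map Prod.fst) 0) = true := by decide +kernel
theorem chk1093 : subM 1338044711911837388492143096358901690358824960 1425853896131051717111939987057454613788622848 = true := by decide +kernel
theorem chk1105 : subM 0 1338044711911837388492143096358901690358824960 = true := by decide +kernel
theorem chk1139 : band (pieces (fun c v => P7.app (pr2 197136 c) v) (fun x => x) tab1137 R 4951759566845710947049283582 [84, 85, 86, 87] pt1079c l1138) (allL l1138 fun p => subW 4951759566845710947049283582 p.2.1) = true := by decide +kernel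
theorem chk1169 : cover 15498 [0] (l1167) 0 = true := by decide +kernel
theorem chk1198 : bnot (Nat.beq pt1196c pt1079c) = true := by decide +kernel
theorem chk1204 : bnot (Nat.beq ((prodOps 197136 P.ops P7.ops).mul (R 91) (R 89)) ((prodOps 197136 P.ops P7.ops).mul (R 89) (R 91))) = true := by decide +kernel
theorem chk1217 : subM 11417981541647679048466287755595961091061972992 19981467697883438334816003572292931909358452736 = true := by decide +kernel
theorem chk1227 : subM 0 11417981541647679048466287755595961091061972992 = true := by decide +kernel
theorem chk1243 : band (pieces (fun c v => P7.app (pr2 197136 c) v) (fun x => x) tab1241 R 2853101588837011598170225956506949750171369472 [140, 141, 150] pt1205c l1242) (allL l1242 fun p => subW 2853101588837011598170225956506949750171369472 p.2.1) = true := by decide +kernel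
theorem chk1255 : cover 3144 [0] (l1253) 0 = true := by decide +kernel
theorem chk1264 : Nat.beq (CP.code pm1263) (R2 154) = true := by decide +kernel
theorem chk1272 : Nat.beq (CP.code pm1271) (R2 158) = true := by decide +kernel
theorem chk1280 : Nat.beq (CP.code pm1279) (R2 162) = true := by decide +kernel
theorem chk1288 : band (conjB (prodOps 197136 P.ops (ops2 11)) R 0 161 l1287) (subM 0 (insL l1287 0)) = true := by decide +kernel
theorem chk1293 : band (Nat.ble 1 2) (band (subW 2923003274661805836407369665432566039311865085952 161) (Nat.beq (powC (prodOps 197136 P.ops (ops2 11)) (R 162) 2) (evalW (prodOps 197136 P.ops (ops2 11)) R 161))) = true := by decide +kernel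
theorem chk1298 : subM 43845049119927087546110544981488490589677976289280 46745216431505598024420982071409864706807717429248 = true := by decide +kernel
end

end CfsgH6.Ly
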