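import Cfsg.Agent.H6.LyD2

set_option autoImplicit false
set_option maxRecDepth 100000
set_option linter.all false
set_option Elab.async false

namespace CfsgH6.Ly

open CfsgH5 CfsgH6 Subgroup MulAction Pointwise

noncomputable section

theorem chk702 : subM 290768624077950347197707794436325376 329710850516961554411686516905476096 = true := by decide +kernel
theorem chk712 : subM 0 290768624077950347197707794436325376 = true := by decide +kernel
theorem chk723 : band (conjA P.ops R1 4951759566845710947049283582 94 l722) (subM 7788445287802241442795744493830144 (insL l722 0)) = true := by decide +kernel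
theorem chk731 : dcRel P.ops R1 4951759566845710947049283582 74276402357122816493947453440 94 92 l730 = true := by decide +kernel
theorem chk792 : band (pieces (fun c v => (appP 112 P7.app) (pr2 197136 c) v) (keyP 112 (keyL P7.app (fun x => x) L7s 3)) tab784 R 329710850516961554411686516905476096 [111, 112, 113, 114, 115, 116, 117] pt414c l791) (allL l791 fun p => subW 4951759566845710947049283582 p.2.1) = true := by decide +kernel
theorem chk800 : band (pieces (fun c v => (appP 112 P7.app) (pr2 197136 c) v) (keyP 112 (keyL P7.app (fun x => x) L7s 3)) tab784 R 329710850516961554411686516905476096 [111, 112, 113, 114, 115, 116, 117] pt414c l799) (allL l799 fun p => subW 4951759566845710947049283582 p.2.1) = true := by decide +kernel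
theorem chk808 : band (pieces (fun c v => (appP 112 P7.app) (pr2 197136 c) v) (keyP 112 (keyL P7.app (fun x => x) L7s 3)) tab784 R 329710850516961554411686516905476096 [111, 112, 113, 114, 115, 116, 117] pt414c l807) (allL l807 fun p => subW 4951759566845710947049283582 p.2.1) = true := by decide +kernel
theorem chk843 : band (slp (prodOps 197136 P.ops P7.ops) R l842 2326148992623602777581662355490603008) (subM 20935340933612424998234961199415427072 (insL l842 2326148992623602777581662355490603008)) = true := by decide +kernel
theorem chk853 : cover 144 [0] (l851) 0 = true := by decide +kernel
theorem chk863 : cover 20 [0] (l861) 0 = true := by decide +kernel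
theorem chk872 : dcRel P.ops R1 4951759566845710947049283582 74276402357122816493947453440 95 92 l871 = true := by decide +kernel
theorem chk880 : dcRel P.ops R1 4951759566845710947049283582 74276402357122816493947453440 95 92 l879 = true := by decide +kernel
theorem chk888 : dcRel P.ops R1 4951759566845710947049283582 74276402357122816493947453440 95 92 l887 = true := by decide +kernel
theorem chk956 : band (pieces (fun c v => (appP 112 P7.app) (pr2 197136 c) v) (keyP 112 (keyL P7.app (fun x => x) L7s 3)) tab948 R 20935340933612424998234961199415427072 [118, 119, 120, 121, 122, 123] pt414c l955) (allL l955 fun p => subW 4951759566845710947049283582 p.2.1) = true := by decide +kernel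
theorem chk964 : band (pieces (fun c v => (appP 112 P7.app) (pr2 197136 c) v) (keyP 112 (keyL P7.app (fun x => x) L7s 3)) tab948 R 20935340933612424998234961199415427072 [118, 119, 120, 121, 122, 123] pt414c l963) (allL l963 fun p => subW 4951759566845710947049283582 p.2.1) = true := by decide +kernel
theorem chk971 : band (slp (prodOps 197136 P.ops P7.ops) R l970 4951759566845710947049283582) (subM 63802943797675961899382738893456539648 (insL l970 4951759566845710947049283582)) = true := by decide +kernel
theorem chk985 : band (pieces (fun c v => P7.app (pr2 197136 c) v) (keyL P7.app (fun x => x) L7s 3) tab983 R 1393775307260231387692015931127558108610560 [124, 125, 126, 127, 128, 129, 130, 131, 132, 133, 134, 135, 136, 137, 138, 139] pt973c l984) (allL l984 fun p => subW 1393775307260231387692015931127558108610560 p.2.1) = true := by decide +kernel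
theorem chk997 : band (pieces (fun c v => P7.app (pr2 197136 c) v) (keyL P7.app (fun x => x) L7s 3) tab995 R 1393116010174322069419055642825659057700864 [129, 130, 131, 132, 133, 134, 135, 136, 137, 138, 139] pt974c l996) (allL l996 fun p => subW 1393116010174322069419055642825659057700864 p.2.1) = true := by decide +kernel
theorem chk1005 : dcRel P.ops R1 4951759566845710947049283582 74276402357122816493947453440 92 92 l1004 = true := by decide +kernel
theorem chk1066 : band (pieces (fun c v => (appP 112 P7.app) (pr2 197136 c) v) (keyP 112 (keyL P7.app (fun x => x) L7s 3)) tab1058 R 1393775307260231387692015931127558108610560 [124, 125, 126, 127, 128, 129, 130, 131, 132, 133, 134, 135, 136, 137, 138, 139] pt414c l1065) (allL l1065 fun p => subW 4951759566845710947049283582 p.2.1) = true := by decide +kernel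
theorem chk1073 : allL (List.map Prod.fst (l1002 ++ (l1004))) (subW 4951759566845710947049283582) = true := by decide +kernel
theorem chk1078 : allL (l1075) (fun p => Nat.blt p.1 1024) = true := by decide +kernel
theorem chk1094 : band (fixL (fun c v => P7.app (pr2 197136 c) v) (fun x => x) R [146, 147, 148, 149] pt1088c) (subM 1338044711911837388492143096358901690358824960 (insL [146, 147, 148, 149] 0)) = true := by decide +kernel
theorem chk1106 : band (fixL (fun c v => P7.app (pr2 197136 c) v) (fun x => x) R [] pt1089c) (subM 0 (insL [] 0)) = true := by decide +kernel
theorem chk1140 : cover 15500 [0] (l1138) 0 = true := by decide +kernel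
theorem chk1194 : band (pieces (fun c v => P7.app (pr2 197136 c) v) (fun x => x) tab1192 R 4951759566845710947049283582 [84, 85, 86, 87] pt1079c l1193) (allL l1193 fun p => subW 4951759566845710947049283582 p.2.1) = true := by decide +kernel
theorem chk1199 : band (fixL (fun c v => P7.app (pr2 197136 c) v) (fun x => x) R [89] pt1079c) (subM 618970019642690137449562112 (insL [89] 0)) = true := by decide +kernel
theorem chk1207 : band (slp (prodOps 197136 P.ops P7.ops) R l1206 1425853896131051717111939987057454613788622848) (subM 2853101588837011598170225956506949750171369472 (insL l1206 1425853896131051717111939987057454613788622848)) = true := by decide +kernel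
theorem chk1218 : band (fixL (fun c v => P7.app (pr2 197136 c) v) (fun x => x) R [153] pt1212c) (subM 11417981541647679048466287755595961091061972992 (insL [153] 0)) = true := by decide +kernel
theorem chk1228 : band (fixL (fun c v => P7.app (pr2 197136 c) v) (fun x => x) R [] pt1213c) (subM 0 (insL [] 0)) = true := by decide +kernel
theorem chk1244 : cover 3150 [0] (l1242) 0 = true := by decide +kernel
theorem chk1256 : band (fixL (fun c v => P7.app (pr2 197136 c) v) (fun x => x) R [90] pt1079c) (subM 1237940039285380274899124224 (insL [90] 0)) = true := by decide +kernel
theorem chk1266 : Nat.beq (CP.code pm1265) (R2 155) = true := by decide +kernel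
theorem chk1274 : Nat.beq (CP.code pm1273) (R2 159) = true := by decide +kernel
theorem chk1282 : Nat.beq (CP.code pm1281) (R2 163) = true := by decide +kernel
theorem chk1289 : band (Nat.ble 1 2) (band (subW 0 0) (Nat.beq (powC (prodOps 197136 P.ops (ops2 11)) (R 161) 2) (evalW (prodOps 197136 P.ops (ops2 11)) R 0))) = true := by decide +kernel
theorem chk1294 : subM 20461022922632640854851587658027962275183055601664 46745216431505598024420982071409864706807717429248 = true := by decide +kernel
theorem chk1300 : band (conjB (prodOps 197136 P.ops (ops2 11)) R 20461022922632640854851587658027962275183055601664 164 l1299) (subM 20461022922632640854851587658027962275183055601664 (insL l1299 0)) = true := by decide +kernel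
end

end CfsgH6.Ly
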