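import Cfsg.Agent.H6.LyD2

set_option autoImplicit false
set_option maxRecDepth 100000
set_option linter.all false
set_option Elab.async false

namespace CfsgH6.Ly

open CfsgH5 CfsgH6 Subgroup MulAction Pointwise

noncomputable section

theorem chk703 : band (fixL (fun c v => P7.app (pr2 197136 c) v) (keyL P7.app (fun x => x) L7s 3) R [115, 116, 117] pt697c) (subM 290768624077950347197707794436325376 (insL [115, 116, 117] 0)) = true := by decide +kernel
theorem chk713 : band (fixL (fun c v => P7.app (pr2 197136 c) v) (keyL P7.app (fun x => x) L7s 3) R [] pt698c) (subM 0 (insL [] 0)) = true := by decide +kernel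
theorem chk725 : dcRel P.ops R1 4951759566845710947049283582 74276402357122816493947453440 94 92 l724 = true := by decide +kernel
theorem chk786 : band (pieces (fun c v => (appP 112 P7.app) (pr2 197136 c) v) (keyP 112 (keyL P7.app (fun x => x) L7s 3)) tab784 R 329710850516961554411686516905476096 [111, 112, 113, 114, 115, 116, 117] pt414c l785) (allL l785 fun p => subW 4951759566845710947049283582 p.2.1) = true := by decide +kernel
theorem chk794 : band (pieces (fun c v => (appP 112 P7.app) (pr2 197136 c) v) (keyP 112 (keyL P7.app (fun x => x) L7s 3)) tab784 R 329710850516961554411686516905476096 [111, 112, 113, 114, 115, 116, 117] pt414c l793) (allL l793 fun p => subW 4951759566845710947049283582 p.2.1) = true := by decide +kernel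
theorem chk802 : band (pieces (fun c v => (appP 112 P7.app) (pr2 197136 c) v) (keyP 112 (keyL P7.app (fun x => x) L7s 3)) tab784 R 329710850516961554411686516905476096 [111, 112, 113, 114, 115, 116, 117] pt414c l801) (allL l801 fun p => subW 4951759566845710947049283582 p.2.1) = true := by decide +kernel
theorem chk809 : cover 58590 (List.map Prod.fst (l724 ++ (l726 ++ (l728 ++ (l730))))) (l785 ++ (l787 ++ (l789 ++ (l791 ++ (l793 ++ (l795 ++ (l797 ++ (l799 ++ (l801 ++ (l803 ++ (l805 ++ (l807)))))))))))) 0 = true := by decide +kernel
theorem chk845 : subM 18609191940988822220653298843924824064 20935340933612424998234961199415427072 = true := by decide +kernel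
theorem chk855 : subM 0 18609191940988822220653298843924824064 = true := by decide +kernel
theorem chk866 : band (conjA P.ops R1 4951759566845710947049283582 95 l865) (subM 2326148992623602777581662355490603008 (insL l865 0)) = true := by decide +kernel
theorem chk874 : dcRel P.ops R1 4951759566845710947049283582 74276402357122816493947453440 95 92 l873 = true := by decide +kernel
theorem chk882 : dcRel P.ops R1 4951759566845710947049283582 74276402357122816493947453440 95 92 l881 = true := by decide +kernel
theorem chk950 : band (pieces (fun c v => (appP 112 P7.app) (pr2 197136 c) v) (keyP 112 (keyL P7.app (fun x => x) L7s 3)) tab948 R 20935340933612424998234961199415427072 [118, 119, 120, 121, 122, 123] pt414c l949) (allL l949 fun p => subW 4951759566845710947049283582 p.2.1) = true := by decide +kernel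
theorem chk958 : band (pieces (fun c v => (appP 112 P7.app) (pr2 197136 c) v) (keyP 112 (keyL P7.app (fun x => x) L7s 3)) tab948 R 20935340933612424998234961199415427072 [118, 119, 120, 121, 122, 123] pt414c l957) (allL l957 fun p => subW 4951759566845710947049283582 p.2.1) = true := by decide +kernel
theorem chk966 : band (pieces (fun c v => (appP 112 P7.app) (pr2 197136 c) v) (keyP 112 (keyL P7.app (fun x => x) L7s 3)) tab948 R 20935340933612424998234961199415427072 [118, 119, 120, 121, 122, 123] pt414c l965) (allL l965 fun p => subW 4951759566845710947049283582 p.2.1) = true := by decide +kernel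
theorem chk976 : band (slp (prodOps 197136 P.ops P7.ops) R l975 63802943797675961899382738893456539648) (subM 1393775307260231387692015931127558108610560 (insL l975 63802943797675961899382738893456539648)) = true := by decide +kernel
theorem chk986 : cover 150 [0] (l984) 0 = true := by decide +kernel
theorem chk998 : cover 2000 [0] (l996) 0 = true := by decide +kernel
theorem chk1060 : band (pieces (fun c v => (appP 112 P7.app) (pr2 197136 c) v) (keyP 112 (keyL P7.app (fun x => x) L7s 3)) tab1058 R 1393775307260231387692015931127558108610560 [124, 125, 126, 127, 128, 129, 130, 131, 132, 133, 134, 135, 136, 137, 138, 139] pt414c l1059) (allL l1059 fun p => subW 4951759566845710947049283582 p.2.1) = true := by decide +kernel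
theorem chk1068 : band (pieces (fun c v => (appP 112 P7.app) (pr2 197136 c) v) (keyP 112 (keyL P7.app (fun x => x) L7s 3)) tab1058 R 1393775307260231387692015931127558108610560 [124, 125, 126, 127, 128, 129, 130, 131, 132, 133, 134, 135, 136, 137, 138, 139] pt414c l1067) (allL l1067 fun p => subW 4951759566845710947049283582 p.2.1) = true := by decide +kernel
theorem chk1074 : inDC P.ops R1 4951759566845710947049283582 74276402357122816493947453440 (R1 92) 0 92 = true := by decide +kernel
theorem chk1086 : band (slp (prodOps 197136 P.ops P7.ops) R l1085 4951759566845710947049283582) (subM 4181389724724491839037947176121567782371328 (insL l1085 4951759566845710947049283582)) = true := by decide +kernel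
theorem chk1102 : band (pieces (fun c v => P7.app (pr2 197136 c) v) (fun x => x) tab1100 R 1425853896131051717111939987057454613788622848 [140, 141, 142, 143, 144, 145, 146, 147, 148, 149] pt1088c l1101) (allL l1101 fun p => subW 1425853896131051717111939987057454613788622848 p.2.1) = true := by decide +kernel
theorem chk1112 : band (pieces (fun c v => P7.app (pr2 197136 c) v) (fun x => x) tab1110 R 1338044711911837388492143096358901690358824960 [146, 147, 148, 149] pt1089c l1111) (allL l1111 fun p => subW 1338044711911837388492143096358901690358824960 p.2.1) = true := by decide +kernel
theorem chk1142 : band (fixL (fun c v => P7.app (pr2 197136 c) v) (fun x => x) R [140, 141] pt1079c) (subM 4181389724724491839037947176121567782371328 (insL [140, 141] 0)) = true := by decide +kernel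
theorem chk1195 : cover 15480 [0] (l1193) 0 = true := by decide +kernel
theorem chk1201 : band (commL (prodOps 197136 P.ops P7.ops) R 89 [140, 141]) (subM 4181389724724491839037947176121567782371328 (insL [140, 141] 0)) = true := by decide +kernel
theorem chk1210 : band (slp (prodOps 197136 P.ops P7.ops) R l1209 2853101588837011598170225956506949750171369472) (subM 8563486156235759286349715816696970818296479744 (insL l1209 2853101588837011598170225956506949750171369472)) = true := by decide +kernel
theorem chk1224 : band (pieces (fun c v => P7.app (pr2 197136 c) v) (fun x => x) tab1222 R 19981467697883438334816003572292931909358452736 [151, 152, 153] pt1212c l1223) (allL l1223 fun p => subW 19981467697883438334816003572292931909358452736 p.2.1) = true := by decide +kernel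
theorem chk1234 : band (pieces (fun c v => P7.app (pr2 197136 c) v) (fun x => x) tab1232 R 11417981541647679048466287755595961091061972992 [153] pt1213c l1233) (allL l1233 fun p => subW 11417981541647679048466287755595961091061972992 p.2.1) = true := by decide +kernel
theorem chk1246 : band (fixL (fun c v => P7.app (pr2 197136 c) v) (fun x => x) R [151, 152] pt1205c) (subM 8563486156235759286349715816696970818296479744 (insL [151, 152] 0)) = true := by decide +kernel
theorem chk1258 : band (fixL (fun c v => P7.app (pr2 197136 c) v) (fun x => x) R [90] pt1205c) (subM 1237940039285380274899124224 (insL [90] 0)) = true := by decide +kernel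
theorem chk1268 : Nat.beq (CP.code pm1267) (R2 156) = true := by decide +kernel
theorem chk1276 : Nat.beq (CP.code pm1275) (R2 160) = true := by decide +kernel
theorem chk1284 : Nat.beq (CP.code pm1283) (R2 164) = true := by decide +kernel
theorem chk1290 : subM 8769009823985417509222108996297698117935595257856 46745216431505598024420982071409864706807717429248 = true := by decide +kernel
theorem chk1296 : band (conjB (prodOps 197136 P.ops (ops2 11)) R 8769009823985417509222108996297698117935595257856 163 l1295) (subM 8769009823985417509222108996297698117935595257856 (insL l1295 0)) = true := by decide +kernel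
end

end CfsgH6.Ly
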