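import Cfsg.Agent.H6.LyD2

set_option autoImplicit false
set_option maxRecDepth 100000
set_option linter.all false
set_option Elab.async false

namespace CfsgH6.Ly

open CfsgH5 CfsgH6 Subgroup MulAction Pointwise

noncomputable section

theorem chk709 : band (pieces (fun c v => P7.app (pr2 197136 c) v) (keyL P7.app (fun x => x) L7s 3) tab707 R 329710850516961554411686516905476096 [111, 112, 113, 114, 115, 116, 117] pt697c l708) (allL l708 fun p => subW 329710850516961554411686516905476096 p.2.1) = true := by decide +kernel
theorem chk719 : band (pieces (fun c v => P7.app (pr2 197136 c) v) (keyL P7.app (fun x => x) L7s 3) tab717 R 290768624077950347197707794436325376 [115, 116, 117] pt698c l718) (allL l718 fun p => subW 290768624077950347197707794436325376 p.2.1) = true := by decide +kernel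
theorem chk727 : dcRel P.ops R1 4951759566845710947049283582 74276402357122816493947453440 94 92 l726 = true := by decide +kernel
theorem chk788 : band (pieces (fun c v => (appP 112 P7.app) (pr2 197136 c) v) (keyP 112 (keyL P7.app (fun x => x) L7s 3)) tab784 R 329710850516961554411686516905476096 [111, 112, 113, 114, 115, 116, 117] pt414c l787) (allL l787 fun p => subW 4951759566845710947049283582 p.2.1) = true := by decide +kernel
theorem chk796 : band (pieces (fun c v => (appP 112 P7.app) (pr2 197136 c) v) (keyP 112 (keyL P7.app (fun x => x) L7s 3)) tab784 R 329710850516961554411686516905476096 [111, 112, 113, 114, 115, 116, 117] pt414c l795) (allL l795 fun p => subW 4951759566845710947049283582 p.2.1) = true := by decide +kernel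
theorem chk804 : band (pieces (fun c v => (appP 112 P7.app) (pr2 197136 c) v) (keyP 112 (keyL P7.app (fun x => x) L7s 3)) tab784 R 329710850516961554411686516905476096 [111, 112, 113, 114, 115, 116, 117] pt414c l803) (allL l803 fun p => subW 4951759566845710947049283582 p.2.1) = true := by decide +kernel
theorem chk811 : allL (List.map Prod.fst (l724 ++ (l726 ++ (l728 ++ (l730))))) (subW 4951759566845710947049283582) = true := by decide +kernel
theorem chk846 : band (fixL (fun c v => P7.app (pr2 197136 c) v) (keyL P7.app (fun x => x) L7s 3) R [121, 122, 123] pt840c) (subM 18609191940988822220653298843924824064 (insL [121, 122, 123] 0)) = true := by decide +kernel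
theorem chk856 : band (fixL (fun c v => P7.app (pr2 197136 c) v) (keyL P7.app (fun x => x) L7s 3) R [] pt841c) (subM 0 (insL [] 0)) = true := by decide +kernel
theorem chk868 : dcRel P.ops R1 4951759566845710947049283582 74276402357122816493947453440 95 92 l867 = true := by decide +kernel
theorem chk876 : dcRel P.ops R1 4951759566845710947049283582 74276402357122816493947453440 95 92 l875 = true := by decide +kernel
theorem chk884 : dcRel P.ops R1 4951759566845710947049283582 74276402357122816493947453440 95 92 l883 = true := by decide +kernel
theorem chk952 : band (pieces (fun c v => (appP 112 P7.app) (pr2 197136 c) v) (keyP 112 (keyL P7.app (fun x => x) L7s 3)) tab948 R 20935340933612424998234961199415427072 [118, 119, 120, 121, 122, 123] pt414c l951) (allL l951 fun p => subW 4951759566845710947049283582 p.2.1) = true := by decide +kernel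
theorem chk960 : band (pieces (fun c v => (appP 112 P7.app) (pr2 197136 c) v) (keyP 112 (keyL P7.app (fun x => x) L7s 3)) tab948 R 20935340933612424998234961199415427072 [118, 119, 120, 121, 122, 123] pt414c l959) (allL l959 fun p => subW 4951759566845710947049283582 p.2.1) = true := by decide +kernel
theorem chk967 : cover 58590 (List.map Prod.fst (l867 ++ (l869 ++ (l871 ++ (l873 ++ (l875 ++ (l877 ++ (l879 ++ (l881 ++ (l883 ++ (l885 ++ (l887)))))))))))) (l949 ++ (l951 ++ (l953 ++ (l955 ++ (l957 ++ (l959 ++ (l961 ++ (l963 ++ (l965))))))))) 0 = true := by decide +kernel
theorem chk978 : subM 1393116010174322069419055642825659057700864 1393775307260231387692015931127558108610560 = true := by decide +kernel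
theorem chk988 : subM 0 1393116010174322069419055642825659057700864 = true := by decide +kernel
theorem chk1001 : band (conjA P.ops R1 4951759566845710947049283582 92 l1000) (subM 63802943797675961899382738893456539648 (insL l1000 0)) = true := by decide +kernel
theorem chk1062 : band (pieces (fun c v => (appP 112 P7.app) (pr2 197136 c) v) (keyP 112 (keyL P7.app (fun x => x) L7s 3)) tab1058 R 1393775307260231387692015931127558108610560 [124, 125, 126, 127, 128, 129, 130, 131, 132, 133, 134, 135, 136, 137, 138, 139] pt414c l1061) (allL l1061 fun p => subW 4951759566845710947049283582 p.2.1) = true := by decide +kernel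
theorem chk1070 : band (pieces (fun c v => (appP 112 P7.app) (pr2 197136 c) v) (keyP 112 (keyL P7.app (fun x => x) L7s 3)) tab1058 R 1393775307260231387692015931127558108610560 [124, 125, 126, 127, 128, 129, 130, 131, 132, 133, 134, 135, 136, 137, 138, 139] pt414c l1069) (allL l1069 fun p => subW 4951759566845710947049283582 p.2.1) = true := by decide +kernel
theorem chk1076 : maxChk P.ops R1 4951759566845710947049283582 4951760157141521099596505086 l1075 = true := by decide +kernel
theorem chk1091 : band (slp (prodOps 197136 P.ops P7.ops) R l1090 4181389724724491839037947176121567782371328) (subM 1425853896131051717111939987057454613788622848 (insL l1090 4181389724724491839037947176121567782371328)) = true := by decide +kernel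
theorem chk1103 : cover 3024 [0] (l1101) 0 = true := by decide +kernel
theorem chk1113 : cover 125 [0] (l1111) 0 = true := by decide +kernel
theorem chk1168 : band (pieces (fun c v => P7.app (pr2 197136 c) v) (fun x => x) tab1166 R 4951759566845710947049283582 [84, 85, 86, 87] pt1079c l1167) (allL l1167 fun p => subW 4951759566845710947049283582 p.2.1) = true := by decide +kernel
theorem chk1197 : subW 4951759566845710947049283582 91 = true := by decide +kernel
theorem chk1202 : band (fixL (fun c v => P7.app (pr2 197136 c) v) (fun x => x) R [89] pt1196c) (subM 618970019642690137449562112 (insL [89] 0)) = true := by decide +kernel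
theorem chk1215 : band (slp (prodOps 197136 P.ops P7.ops) R l1214 8563486156235759286349715816696970818296479744) (subM 19981467697883438334816003572292931909358452736 (insL l1214 8563486156235759286349715816696970818296479744)) = true := by decide +kernel
theorem chk1225 : cover 24 [0] (l1223) 0 = true := by decide +kernel
theorem chk1235 : cover 5 [0] (l1233) 0 = true := by decide +kernel
theorem chk1254 : band (pieces (fun c v => P7.app (pr2 197136 c) v) (fun x => x) tab1252 R 2853101588837011598170225956506949750171369472 [140, 141, 150] pt1205c l1253) (allL l1253 fun p => subW 2853101588837011598170225956506949750171369472 p.2.1) = true := by decide +kernel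
theorem chk1261 : band (allL l1260 fun e => band (P.canF (force (hd e) R1)) (band (Nat.ble 1 (tl e)) (Nat.beq (powC P.ops (force (hd e) R1) (tl e)) P.ops.one))) (subM 46745216431505598024420982071409864706807717429248 (insL l1260 0)) = true := by decide +kernel
theorem chk1270 : Nat.beq (CP.code pm1269) (R2 157) = true := by decide +kernel
theorem chk1278 : Nat.beq (CP.code pm1277) (R2 161) = true := by decide +kernel
theorem chk1286 : subM 2923003274661805836407369665432566039311865085952 46745216431505598024420982071409864706807717429248 = true := by decide +kernel
theorem chk1292 : band (conjB (prodOps 197136 P.ops (ops2 11)) R 2923003274661805836407369665432566039311865085952 162 l1291) (subM 2923003274661805836407369665432566039311865085952 (insL l1291 0)) = true := by decide +kernel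
theorem chk1297 : band (Nat.ble 1 2) (band (subW 8769009823985417509222108996297698117935595257856 161) (Nat.beq (powC (prodOps 197136 P.ops (ops2 11)) (R 163) 2) (evalW (prodOps 197136 P.ops (ops2 11)) R 161))) = true := by decide +kernel
end

end CfsgH6.Ly
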