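import Cfsg.Agent.H6.LyJ0
import Cfsg.Agent.H6.LyJ1
import Cfsg.Agent.H6.LyJ2
import Cfsg.Agent.H6.LyJ3
import Cfsg.Agent.H6.LyJ4
import Cfsg.Agent.H6.LyJ5
import Cfsg.Agent.H6.LyJ6
import Cfsg.Agent.H6.LyJ7
import Cfsg.Agent.H6.LyJ8
import Cfsg.Agent.H6.LyJ9
import Cfsg.Agent.H6.LyJ10
import Cfsg.Agent.H6.LyJ11
import Cfsg.Agent.H6.LyJ12
import Cfsg.Agent.H6.LyJ13
import Cfsg.Agent.H6.LyJ14

set_option autoImplicit false
set_option maxRecDepth 100000
set_option linter.all false
set_option Elab.async false

namespace CfsgH6.Ly

open CfsgH5 CfsgH6 Subgroup MulAction Pointwise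

noncomputable section

theorem B0_m0 : CD.Mem R (CD.gen R 0) 0 := GC.Mem.gen (GC.Mem.zero ⊤)
theorem val3 : C1.Mem R1 ⊤ 8190 := MC.mem_units (PP.mc P_ok) (PP.canF_sound P_ok) chk2
theorem val6 : C7.Mem R2 ⊤ 8190 := MC.mem_units (PP.mc P7_ok) (PP.canF_sound P7_ok) chk5
theorem valp7 : CD.Mem R ⊤ 8190 := (GC.mem_prod val3 val6).top
theorem B1_m0 : CD.Mem R (CD.gen R 2) 2 := GC.Mem.gen (valp7.sub chk8)
theorem B1_dvd : Nat.card (CD.gen R 2) ∣ 5 := GC.card_ins (dvd_step (B0_m0.pc (m := 5) (w := 0) (valp7.get (i := 1) (by decide +kernel)) B0_m0.top chk10 chk11) GC.card_gen_zero (n := 5) (by decide +kernel)) (by decide +kernel)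
theorem B2_m0 : CD.Mem R (CD.gen R 6) 6 := GC.Mem.gen (valp7.sub chk12)
theorem B2_dvd : Nat.card (CD.gen R 6) ∣ 25 := GC.card_ins (dvd_step (B1_m0.pc (m := 5) (w := 0) (valp7.get (i := 2) (by decide +kernel)) B1_m0.top chk14 chk15) B1_dvd (n := 25) (by decide +kernel)) (by decide +kernel)
theorem B3_m0 : CD.Mem R (CD.gen R 14) 14 := GC.Mem.gen (valp7.sub chk16)
theorem B3_dvd : Nat.card (CD.gen R 14) ∣ 125 := GC.card_ins (dvd_step (B2_m0.pc (m := 5) (w := 0) (valp7.get (i := 3) (by decide +kernel)) B2_m0.top chk18 chk19) B2_dvd (n := 125) (by decide +kernel)) (by decide +kernel)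
theorem B4_m0 : CD.Mem R (CD.gen R 30) 30 := GC.Mem.gen (valp7.sub chk20)
theorem B4_dvd : Nat.card (CD.gen R 30) ∣ 625 := GC.card_ins (dvd_step (B3_m0.pc (m := 5) (w := 0) (valp7.get (i := 4) (by decide +kernel)) B3_m0.top chk22 chk23) B3_dvd (n := 625) (by decide +kernel)) (by decide +kernel)
theorem B5_m0 : CD.Mem R (CD.gen R 62) 62 := GC.Mem.gen (valp7.sub chk24)
theorem B5_dvd : Nat.card (CD.gen R 62) ∣ 3125 := GC.card_ins (dvd_step (B4_m0.pc (m := 5) (w := 1) (valp7.get (i := 5) (by decide +kernel)) B4_m0.top chk26 chk27) B4_dvd (n := 3125) (by decide +kernel)) (by decide +kernel)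
theorem B6_m0 : CD.Mem R (CD.gen R 126) 126 := GC.Mem.gen (valp7.sub chk28)
theorem B6_dvd : Nat.card (CD.gen R 126) ∣ 15625 := GC.card_ins (dvd_step (B5_m0.pc (m := 5) (w := 0) (valp7.get (i := 6) (by decide +kernel)) B5_m0.top chk30 chk31) B5_dvd (n := 15625) (by decide +kernel)) (by decide +kernel)
theorem B7_m0 : CD.Mem R (CD.gen R 254) 254 := GC.Mem.gen (valp7.sub chk32)
theorem B7_dvd : Nat.card (CD.gen R 254) ∣ 31250 := GC.card_ins (dvd_step (B6_m0.pc (m := 2) (w := 0) (valp7.get (i := 7) (by decide +kernel)) B6_m0.top chk34 chk35) B6_dvd (n := 31250) (by decide +kernel)) (by decide +kernel)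
theorem B8_m0 : CD.Mem R (CD.gen R 510) 510 := GC.Mem.gen (valp7.sub chk36)
theorem B8_dvd : Nat.card (CD.gen R 510) ∣ 62500 := GC.card_ins (dvd_step (B7_m0.pc (m := 2) (w := 6603519558660) (valp7.get (i := 8) (by decide +kernel)) B7_m0.top chk38 chk39) B7_dvd (n := 62500) (by decide +kernel)) (by decide +kernel)
theorem B9_m0 : CD.Mem R (CD.gen R 1022) 1022 := GC.Mem.gen (valp7.sub chk40)
theorem B9_dvd : Nat.card (CD.gen R 1022) ∣ 125000 := GC.card_ins (dvd_step (B8_m0.pc (m := 2) (w := 7) (valp7.get (i := 9) (by decide +kernel)) B8_m0.top chk42 chk43) B8_dvd (n := 125000) (by decide +kernel)) (by decide +kernel)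
theorem B10_m0 : CD.Mem R (CD.gen R 2046) 2046 := GC.Mem.gen (valp7.sub chk44)
theorem B10_dvd : Nat.card (CD.gen R 2046) ∣ 250000 := GC.card_ins (dvd_step (B9_m0.pc (m := 2) (w := 7983164033339421779823326944465785864) (valp7.get (i := 10) (by decide +kernel)) B9_m0.top chk46 chk47) B9_dvd (n := 250000) (by decide +kernel)) (by decide +kernel)
theorem B10_ub : Nat.card (CD.gen R 2046) ≤ 250000 := le_of_dvd' B10_dvd (by decide +kernel)
theorem pt49e : ∃ x, DL.Rep pt49c x := via_rep _ _ ((PP.exists_vec P7_ok (c := 0x4000300020001000200010002) (by decide +kernel)).elim fun x hx => ⟨_, x, hx, rfl⟩)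
noncomputable def pt49 := Classical.choose pt49e
theorem pt49r : DL.Rep pt49c pt49 := Classical.choose_spec pt49e
theorem Pa_m0 : CD.Mem R (CD.gen R 4094) 4094 := GC.Mem.gen (valp7.sub chk48)
theorem Pa_I : CD.Mem R (CD.gen R 4094) 2048 := Pa_m0.sub chk50
theorem PaK_in73 : CD.Mem R (CD.gen R 2046) 57344 := B10_m0.slp' chk72
theorem PaK_m0 : CD.Mem R (CD.gen R 57344) 57344 := GC.Mem.gen PaK_in73.top
theorem pt74e : ∃ x, DL.Rep pt74c x := via_rep _ _ ((PP.exists_vec P7_ok (c := 0x1000100030004000000020001) (by decide +kernel)).elim fun x hx => ⟨_, x, hx, rfl⟩)
noncomputable def pt74 := Classical.choose pt74e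
theorem pt74r : DL.Rep pt74c pt74 := Classical.choose_spec pt74e
theorem pt75e : ∃ x, DL.Rep pt75c x := via_rep _ _ ((PP.exists_vec P7_ok (c := 0x3000000020004000400020001) (by decide +kernel)).elim fun x hx => ⟨_, x, hx, rfl⟩)
noncomputable def pt75 := Classical.choose pt75e
theorem pt75r : DL.Rep pt75c pt75 := Classical.choose_spec pt75e
theorem pt76e : ∃ x, DL.Rep pt76c x := via_rep _ _ ((PP.exists_vec P7_ok (c := 0x2000400020003000300010003) (by decide +kernel)).elim fun x hx => ⟨_, x, hx, rfl⟩)
noncomputable def pt76 := Classical.choose pt76e
theorem pt76r : DL.Rep pt76c pt76 := Classical.choose_spec pt76e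
theorem PaK_s0_79 : CD.Mem R (CD.gen R 57344) 1040384 := PaK_m0.slp' chk78
theorem PaK_c0i : CD.Mem R (CD.gen R 57344) 983040 := PaK_s0_79.sub chk80
theorem PaK_c0m : CD.Mem R (CD.gen R 983040) 983040 := PaK_c0i.gen
theorem fx82 : CD.gen R 983040 ≤ stabilizer _ pt74 := Act.fix_sound PaK_c0i.top pt74r chk81
theorem cov89 : Cov (CD.gen R 57344) (CD.wds R [0]) pt74 100 := Act.cov_of_seen (Act.pieces_sound PaK_s0_79 PaK_s0_79.top pt74r chk87) chk88
theorem PaK_c1i : CD.Mem R (CD.gen R 983040) 786432 := PaK_c0m.sub chk90
theorem PaK_c1m : CD.Mem R (CD.gen R 786432) 786432 := PaK_c1i.gen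
theorem fx92 : CD.gen R 786432 ≤ stabilizer _ pt75 := Act.fix_sound PaK_c1i.top pt75r chk91
theorem cov99 : Cov (CD.gen R 983040) (CD.wds R [0]) pt75 25 := Act.cov_of_seen (Act.pieces_sound PaK_c0m PaK_c0m.top pt75r chk97) chk98
theorem PaK_c2i : CD.Mem R (CD.gen R 786432) 0 := PaK_c1m.sub chk100
theorem PaK_c2m : CD.Mem R (CD.gen R 0) 0 := PaK_c2i.gen
theorem fx102 : CD.gen R 0 ≤ stabilizer _ pt76 := Act.fix_sound PaK_c2i.top pt76r chk101
theorem cov109 : Cov (CD.gen R 786432) (CD.wds R [0]) pt76 4 := Act.cov_of_seen (Act.pieces_sound PaK_c1m PaK_c1m.top pt76r chk107) chk108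
theorem PaK_lb3 : 1 ≤ Nat.card (CD.gen R 0) := Nat.card_pos
theorem PaK_lo2 : 4 * Nat.card (CD.gen R 0) ≤ Nat.card (CD.gen R 786432) := cov109.low le_rfl (GC.wds_zero _) PaK_c2i.gen_le fx102
theorem PaK_lb2 : 4 ≤ Nat.card (CD.gen R 786432) := low_step PaK_lo2 PaK_lb3 (by decide +kernel)
theorem PaK_lo1 : 25 * Nat.card (CD.gen R 786432) ≤ Nat.card (CD.gen R 983040) := cov99.low le_rfl (GC.wds_zero _) PaK_c1i.gen_le fx92
theorem PaK_lb1 : 100 ≤ Nat.card (CD.gen R 983040) := low_step PaK_lo1 PaK_lb2 (by decide +kernel)
theorem PaK_lo0 : 100 * Nat.card (CD.gen R 983040) ≤ Nat.card (CD.gen R 57344) := cov89.low le_rfl (GC.wds_zero _) PaK_c0i.gen_le fx82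
theorem PaK_lb0 : 10000 ≤ Nat.card (CD.gen R 57344) := low_step PaK_lo0 PaK_lb1 (by decide +kernel)
theorem fx113 : CD.gen R 57344 ≤ stabilizer _ pt49 := Act.fix_sound PaK_in73.top pt49r chk112
theorem Pa_Kc : ∀ κ ∈ (CD.gen R 57344), (CD.el (R 11))⁻¹ * κ * CD.el (R 11) ∈ (CD.gen R 2046) := B10_m0.conjB (Pa_m0.get (i := 11) (by decide +kernel)).top PaK_in73.top chk111
theorem PaT1_in116 : CD.Mem R (CD.gen R 2046) 3145728 := B10_m0.slp' chk115
theorem PaT1_m0 : CD.Mem R (CD.gen R 3145728) 3145728 := GC.Mem.gen PaT1_in116.top
theorem pt117e : ∃ x, DL.Rep pt117c x := via_rep _ _ ((PP.exists_vec P7_ok (c := 0x2000300040004000300030000) (by decide +kernel)).elim fun x hx => ⟨_, x, hx, rfl⟩)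
noncomputable def pt117 := Classical.choose pt117e
theorem pt117r : DL.Rep pt117c pt117 := Classical.choose_spec pt117e
theorem pt118e : ∃ x, DL.Rep pt118c x := via_rep _ _ ((PP.exists_vec P7_ok (c := 0x2000400020003000300010003) (by decide +kernel)).elim fun x hx => ⟨_, x, hx, rfl⟩)
noncomputable def pt118 := Classical.choose pt118e
theorem pt118r : DL.Rep pt118c pt118 := Classical.choose_spec pt118e
theorem PaT1_s0_121 : CD.Mem R (CD.gen R 3145728) 68718428160 := PaT1_m0.slp' chk120
theorem PaT1_c0i : CD.Mem R (CD.gen R 3145728) 68702699520 := PaT1_s0_121.sub chk122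
theorem PaT1_c0m : CD.Mem R (CD.gen R 68702699520) 68702699520 := PaT1_c0i.gen
theorem fx124 : CD.gen R 68702699520 ≤ stabilizer _ pt117 := Act.fix_sound PaT1_c0i.top pt117r chk123
theorem cov131 : Cov (CD.gen R 3145728) (CD.wds R [0]) pt117 125 := Act.cov_of_seen (Act.pieces_sound PaT1_s0_121 PaT1_s0_121.top pt117r chk129) chk130
theorem PaT1_c1i : CD.Mem R (CD.gen R 68702699520) 0 := PaT1_c0m.sub chk132
theorem PaT1_c1m : CD.Mem R (CD.gen R 0) 0 := PaT1_c1i.gen
theorem fx134 : CD.gen R 0 ≤ stabilizer _ pt118 := Act.fix_sound PaT1_c1i.top pt118r chk133
theorem cov141 : Cov (CD.gen R 68702699520) (CD.wds R [0]) pt118 400 := Act.cov_of_seen (Act.pieces_sound PaT1_c0m PaT1_c0m.top pt118r chk139) chk140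
theorem PaT1_lb2 : 1 ≤ Nat.card (CD.gen R 0) := Nat.card_pos
theorem PaT1_lo1 : 400 * Nat.card (CD.gen R 0) ≤ Nat.card (CD.gen R 68702699520) := cov141.low le_rfl (GC.wds_zero _) PaT1_c1i.gen_le fx134
theorem PaT1_lb1 : 400 ≤ Nat.card (CD.gen R 68702699520) := low_step PaT1_lo1 PaT1_lb2 (by decide +kernel)
theorem PaT1_lo0 : 125 * Nat.card (CD.gen R 68702699520) ≤ Nat.card (CD.gen R 3145728) := cov131.low le_rfl (GC.wds_zero _) PaT1_c0i.gen_le fx124
theorem PaT1_lb0 : 50000 ≤ Nat.card (CD.gen R 3145728) := low_step PaT1_lo0 PaT1_lb1 (by decide +kernel)
theorem Pa_T1c : ∀ τ ∈ (CD.gen R 3145728), CD.el (R 11) * τ * (CD.el (R 11))⁻¹ ∈ (CD.gen R 2046) := B10_m0.conjA (Pa_I.get (i := 11) (by decide +kernel)).top PaT1_in116.top chk143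
theorem cov152 : Cov (CD.gen R 3145728) (CD.wds R (List.map Prod.fst (l144))) pt49 25 := Act.cov_of_seen (Act.pieces_sound PaT1_s0_121 B10_m0.top pt49r chk150) chk151
theorem Pa_T1d : Dec (CD.gen R 2046) (CD.gen R 3145728) (CD.wds R (List.map Prod.fst (l144))) (CD.gen R 57344) := cov152.dec PaT1_in116.gen_le (GC.wds_sub B10_m0 chk153) PaK_in73.gen_le fx113 (up_low B10_ub PaK_lb0 (by decide +kernel))
theorem Pa_T1p : ∀ x ∈ DC1 (CD.gen R 2046) (CD.el (R 11)), x * CD.el (R 11) ∈ DCs (CD.gen R 2046) (CD.els R 2048) := GC.dc_piece' Pa_T1d Pa_T1c Pa_Kc (B10_m0.dcRel Pa_I.top (Pa_I.get (i := 11) (by decide +kernel)).top (Pa_m0.get (i := 11) (by decide +kernel)).top chk145)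
theorem Pa_T1u : Nat.card (CD.gen R 2046) ≤ 5 * Nat.card (CD.gen R 3145728) := up_low B10_ub PaT1_lb0 (by decide +kernel)
theorem Pa_T1n : (DC1 (CD.gen R 2046) (CD.el (R 11))).ncard ≤ Nat.card (CD.gen R 2046) * 5 := ncard_DC1 PaT1_in116.gen_le Pa_T1c Pa_T1u
theorem Pa_dc : ∀ x ∈ (CD.gen R 4094), x ∈ DCs (CD.gen R 2046) (CD.els R 2048) := GC.dc_gen (MU := 2048) B10_m0 (by decide +kernel) (GC.forall_els (L := [11]) (forall_cons ⟨B10_m0.inDC' Pa_I.top (Pa_m0.get (i := 11) (by decide +kernel)).top chk154, GC.forall_els (L := [11]) (forall_cons Pa_T1p forall_nil) (by decide +kernel)⟩ forall_nil) (by decide +kernel))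
theorem Pa_cs : ∀ p ∈ ([(11, 5)] : List (ℕ × ℕ)), (DC1 (CD.gen R 2046) (CD.el (R p.1))).ncard ≤ Nat.card (CD.gen R 2046) * p.2 := (forall_cons Pa_T1n forall_nil)
theorem Pa_ix : Nat.card (CD.gen R 4094) ≤ 6 * Nat.card (CD.gen R 2046) := GC.card_dc [(11, 5)] Pa_dc Pa_cs (by decide +kernel)
theorem Pa_ub : Nat.card (CD.gen R 4094) ≤ 1500000 := up_mul Pa_ix B10_ub (by decide +kernel)
theorem pt155e : ∃ x, DL.Rep pt155c x := via_rep _ _ ((PP.exists_vec P7_ok (c := 0x1000100030001000300020003) (by decide +kernel)).elim fun x hx => ⟨_, x, hx, rfl⟩)
noncomputable def pt155 := Classical.choose pt155e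
theorem pt155r : DL.Rep pt155c pt155 := Classical.choose_spec pt155e
theorem D_m0 : CD.Mem R (CD.gen R 8190) 8190 := GC.Mem.gen valp7
theorem D_s0_158 : CD.Mem R (CD.gen R 8190) 206158438398 := D_m0.slp' chk157
theorem D_I : CD.Mem R (CD.gen R 8190) 206158434304 := D_s0_158.sub chk159
theorem DK_in182 : CD.Mem R (CD.gen R 4094) 1924145348608 := Pa_m0.slp' chk181
theorem DK_m0 : CD.Mem R (CD.gen R 1924145348608) 1924145348608 := GC.Mem.gen DK_in182.top
theorem pt183e : ∃ x, DL.Rep pt183c x := via_rep _ _ ((PP.exists_vec P7_ok (c := 0x2000200030000000400020003) (by decide +kernel)).elim fun x hx => ⟨_, x, hx, rfl⟩)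
noncomputable def pt183 := Classical.choose pt183e
theorem pt183r : DL.Rep pt183c pt183 := Classical.choose_spec pt183e
theorem pt184e : ∃ x, DL.Rep pt184c x := via_rep _ _ ((PP.exists_vec P7_ok (c := 0x2000400020003000300010003) (by decide +kernel)).elim fun x hx => ⟨_, x, hx, rfl⟩)
noncomputable def pt184 := Classical.choose pt184e
theorem pt184r : DL.Rep pt184c pt184 := Classical.choose_spec pt184e
theorem DK_s0_187 : CD.Mem R (CD.gen R 1924145348608) 70093866270720 := DK_m0.slp' chk186
theorem DK_c0i : CD.Mem R (CD.gen R 1924145348608) 68169720922112 := DK_s0_187.sub chk188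
theorem DK_c0m : CD.Mem R (CD.gen R 68169720922112) 68169720922112 := DK_c0i.gen
theorem fx190 : CD.gen R 68169720922112 ≤ stabilizer _ pt183 := Act.fix_sound DK_c0i.top pt183r chk189
theorem cov197 : Cov (CD.gen R 1924145348608) (CD.wds R [0]) pt183 100 := Act.cov_of_seen (Act.pieces_sound DK_s0_187 DK_s0_187.top pt183r chk195) chk196
theorem DK_c1i : CD.Mem R (CD.gen R 68169720922112) 0 := DK_c0m.sub chk198
theorem DK_c1m : CD.Mem R (CD.gen R 0) 0 := DK_c1i.gen
theorem fx200 : CD.gen R 0 ≤ stabilizer _ pt184 := Act.fix_sound DK_c1i.top pt184r chk199
theorem cov207 : Cov (CD.gen R 68169720922112) (CD.wds R [0]) pt184 500 := Act.cov_of_seen (Act.pieces_sound DK_c0m DK_c0m.top pt184r chk205) chk206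
theorem DK_lb2 : 1 ≤ Nat.card (CD.gen R 0) := Nat.card_pos
theorem DK_lo1 : 500 * Nat.card (CD.gen R 0) ≤ Nat.card (CD.gen R 68169720922112) := cov207.low le_rfl (GC.wds_zero _) DK_c1i.gen_le fx200
theorem DK_lb1 : 500 ≤ Nat.card (CD.gen R 68169720922112) := low_step DK_lo1 DK_lb2 (by decide +kernel)
theorem DK_lo0 : 100 * Nat.card (CD.gen R 68169720922112) ≤ Nat.card (CD.gen R 1924145348608) := cov197.low le_rfl (GC.wds_zero _) DK_c0i.gen_le fx190
theorem DK_lb0 : 50000 ≤ Nat.card (CD.gen R 1924145348608) := low_step DK_lo0 DK_lb1 (by decide +kernel)
theorem fx211 : CD.gen R 1924145348608 ≤ stabilizer _ pt155 := Act.fix_sound DK_in182.top pt155r chk210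
theorem D_Kc : ∀ κ ∈ (CD.gen R 1924145348608), (CD.el (R 12))⁻¹ * κ * CD.el (R 12) ∈ (CD.gen R 4094) := Pa_m0.conjB (D_m0.get (i := 12) (by decide +kernel)).top DK_in182.top chk209
theorem DT1_in219 : CD.Mem R (CD.gen R 4094) 211106232532992 := Pa_m0.slp' chk218
theorem DT1_m0 : CD.Mem R (CD.gen R 211106232532992) 211106232532992 := GC.Mem.gen DT1_in219.top
theorem pt220e : ∃ x, DL.Rep pt220c x := via_rep _ _ ((PP.exists_vec P7_ok (c := 0x2000300040004000300030000) (by decide +kernel)).elim fun x hx => ⟨_, x, hx, rfl⟩)
noncomputable def pt220 := Classical.choose pt220e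
theorem pt220r : DL.Rep pt220c pt220 := Classical.choose_spec pt220e
theorem pt221e : ∃ x, DL.Rep pt221c x := via_rep _ _ ((PP.exists_vec P7_ok (c := 0x2000400020003000300010003) (by decide +kernel)).elim fun x hx => ⟨_, x, hx, rfl⟩)
noncomputable def pt221 := Classical.choose pt221e
theorem pt221r : DL.Rep pt221c pt221 := Classical.choose_spec pt221e
theorem DT1_s0_224 : CD.Mem R (CD.gen R 211106232532992) 144044819331678208 := DT1_m0.slp' chk223
theorem DT1_c0i : CD.Mem R (CD.gen R 211106232532992) 143552238122434560 := DT1_s0_224.sub chk225
theorem DT1_c0m : CD.Mem R (CD.gen R 143552238122434560) 143552238122434560 := DT1_c0i.gen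
theorem fx227 : CD.gen R 143552238122434560 ≤ stabilizer _ pt220 := Act.fix_sound DT1_c0i.top pt220r chk226
theorem cov234 : Cov (CD.gen R 211106232532992) (CD.wds R [0]) pt220 100 := Act.cov_of_seen (Act.pieces_sound DT1_s0_224 DT1_s0_224.top pt220r chk232) chk233
theorem DT1_c1i : CD.Mem R (CD.gen R 143552238122434560) 0 := DT1_c0m.sub chk235
theorem DT1_c1m : CD.Mem R (CD.gen R 0) 0 := DT1_c1i.gen
theorem fx237 : CD.gen R 0 ≤ stabilizer _ pt221 := Act.fix_sound DT1_c1i.top pt221r chk236
theorem cov244 : Cov (CD.gen R 143552238122434560) (CD.wds R [0]) pt221 500 := Act.cov_of_seen (Act.pieces_sound DT1_c0m DT1_c0m.top pt221r chk242) chk243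
theorem DT1_lb2 : 1 ≤ Nat.card (CD.gen R 0) := Nat.card_pos
theorem DT1_lo1 : 500 * Nat.card (CD.gen R 0) ≤ Nat.card (CD.gen R 143552238122434560) := cov244.low le_rfl (GC.wds_zero _) DT1_c1i.gen_le fx237
theorem DT1_lb1 : 500 ≤ Nat.card (CD.gen R 143552238122434560) := low_step DT1_lo1 DT1_lb2 (by decide +kernel)
theorem DT1_lo0 : 100 * Nat.card (CD.gen R 143552238122434560) ≤ Nat.card (CD.gen R 211106232532992) := cov234.low le_rfl (GC.wds_zero _) DT1_c0i.gen_le fx227
theorem DT1_lb0 : 50000 ≤ Nat.card (CD.gen R 211106232532992) := low_step DT1_lo0 DT1_lb1 (by decide +kernel)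
theorem D_T1c : ∀ τ ∈ (CD.gen R 211106232532992), CD.el (R 12) * τ * (CD.el (R 12))⁻¹ ∈ (CD.gen R 4094) := Pa_m0.conjA (D_I.get (i := 12) (by decide +kernel)).top DT1_in219.top chk246
theorem cov255 : Cov (CD.gen R 211106232532992) (CD.wds R (List.map Prod.fst (l247))) pt155 30 := Act.cov_of_seen (Act.pieces_sound DT1_s0_224 Pa_m0.top pt155r chk253) chk254
theorem D_T1d : Dec (CD.gen R 4094) (CD.gen R 211106232532992) (CD.wds R (List.map Prod.fst (l247))) (CD.gen R 1924145348608) := cov255.dec DT1_in219.gen_le (GC.wds_sub Pa_m0 chk256) DK_in182.gen_le fx211 (up_low Pa_ub DK_lb0 (by decide +kernel))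
theorem D_T1p : ∀ x ∈ DC1 (CD.gen R 4094) (CD.el (R 12)), x * CD.el (R 12) ∈ DCs (CD.gen R 4094) (CD.els R 206158434304) := GC.dc_piece' D_T1d D_T1c D_Kc (Pa_m0.dcRel D_I.top (D_I.get (i := 12) (by decide +kernel)).top (D_m0.get (i := 12) (by decide +kernel)).top chk248)
theorem D_T1u : Nat.card (CD.gen R 4094) ≤ 30 * Nat.card (CD.gen R 211106232532992) := up_low Pa_ub DT1_lb0 (by decide +kernel)
theorem D_T1n : (DC1 (CD.gen R 4094) (CD.el (R 12))).ncard ≤ Nat.card (CD.gen R 4094) * 30 := ncard_DC1 DT1_in219.gen_le D_T1c D_T1u
theorem DT2_in259 : CD.Mem R (CD.gen R 4094) 432345564227567616 := Pa_m0.slp' chk258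
theorem DT2_m0 : CD.Mem R (CD.gen R 432345564227567616) 432345564227567616 := GC.Mem.gen DT2_in259.top
theorem pt260e : ∃ x, DL.Rep pt260c x := via_rep _ _ ((PP.exists_vec P7_ok (c := 0x2000300040004000300030000) (by decide +kernel)).elim fun x hx => ⟨_, x, hx, rfl⟩)
noncomputable def pt260 := Classical.choose pt260e
theorem pt260r : DL.Rep pt260c pt260 := Classical.choose_spec pt260e
theorem pt261e : ∃ x, DL.Rep pt261c x := via_rep _ _ ((PP.exists_vec P7_ok (c := 0x2000400020003000300010003) (by decide +kernel)).elim fun x hx => ⟨_, x, hx, rfl⟩)
noncomputable def pt261 := Classical.choose pt261e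
theorem pt261r : DL.Rep pt261c pt261 := Classical.choose_spec pt261e
theorem DT2_s0_264 : CD.Mem R (CD.gen R 432345564227567616) 36749372959343247360 := DT2_m0.slp' chk263
theorem DT2_c0i : CD.Mem R (CD.gen R 432345564227567616) 32281802128991715328 := DT2_s0_264.sub chk265
theorem DT2_c0m : CD.Mem R (CD.gen R 32281802128991715328) 32281802128991715328 := DT2_c0i.gen
theorem fx267 : CD.gen R 32281802128991715328 ≤ stabilizer _ pt260 := Act.fix_sound DT2_c0i.top pt260r chk266
theorem cov274 : Cov (CD.gen R 432345564227567616) (CD.wds R [0]) pt260 100 := Act.cov_of_seen (Act.pieces_sound DT2_s0_264 DT2_s0_264.top pt260r chk272) chk273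
theorem DT2_c1i : CD.Mem R (CD.gen R 32281802128991715328) 0 := DT2_c0m.sub chk275
theorem DT2_c1m : CD.Mem R (CD.gen R 0) 0 := DT2_c1i.gen
theorem fx277 : CD.gen R 0 ≤ stabilizer _ pt261 := Act.fix_sound DT2_c1i.top pt261r chk276
theorem cov284 : Cov (CD.gen R 32281802128991715328) (CD.wds R [0]) pt261 20 := Act.cov_of_seen (Act.pieces_sound DT2_c0m DT2_c0m.top pt261r chk282) chk283
theorem DT2_lb2 : 1 ≤ Nat.card (CD.gen R 0) := Nat.card_pos
theorem DT2_lo1 : 20 * Nat.card (CD.gen R 0) ≤ Nat.card (CD.gen R 32281802128991715328) := cov284.low le_rfl (GC.wds_zero _) DT2_c1i.gen_le fx277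
theorem DT2_lb1 : 20 ≤ Nat.card (CD.gen R 32281802128991715328) := low_step DT2_lo1 DT2_lb2 (by decide +kernel)
theorem DT2_lo0 : 100 * Nat.card (CD.gen R 32281802128991715328) ≤ Nat.card (CD.gen R 432345564227567616) := cov274.low le_rfl (GC.wds_zero _) DT2_c0i.gen_le fx267
theorem DT2_lb0 : 2000 ≤ Nat.card (CD.gen R 432345564227567616) := low_step DT2_lo0 DT2_lb1 (by decide +kernel)
theorem D_T2c : ∀ τ ∈ (CD.gen R 432345564227567616), CD.el (R 36) * τ * (CD.el (R 36))⁻¹ ∈ (CD.gen R 4094) := Pa_m0.conjA (D_I.get (i := 36) (by decide +kernel)).top DT2_in259.top chk286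
theorem cov295 : Cov (CD.gen R 432345564227567616) (CD.wds R (List.map Prod.fst (l287))) pt155 30 := Act.cov_of_seen (Act.pieces_sound DT2_s0_264 Pa_m0.top pt155r chk293) chk294
theorem D_T2d : Dec (CD.gen R 4094) (CD.gen R 432345564227567616) (CD.wds R (List.map Prod.fst (l287))) (CD.gen R 1924145348608) := cov295.dec DT2_in259.gen_le (GC.wds_sub Pa_m0 chk296) DK_in182.gen_le fx211 (up_low Pa_ub DK_lb0 (by decide +kernel))
theorem D_T2p : ∀ x ∈ DC1 (CD.gen R 4094) (CD.el (R 36)), x * CD.el (R 12) ∈ DCs (CD.gen R 4094) (CD.els R 206158434304) := GC.dc_piece' D_T2d D_T2c D_Kc (Pa_m0.dcRel D_I.top (D_I.get (i := 36) (by decide +kernel)).top (D_m0.get (i := 12) (by decide +kernel)).top chk288)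
theorem D_T2u : Nat.card (CD.gen R 4094) ≤ 750 * Nat.card (CD.gen R 432345564227567616) := up_low Pa_ub DT2_lb0 (by decide +kernel)
theorem D_T2n : (DC1 (CD.gen R 4094) (CD.el (R 36))).ncard ≤ Nat.card (CD.gen R 4094) * 750 := ncard_DC1 DT2_in259.gen_le D_T2c D_T2u
theorem DT3_in299 : CD.Mem R (CD.gen R 4094) 110680464442257309696 := Pa_m0.slp' chk298
theorem DT3_m0 : CD.Mem R (CD.gen R 110680464442257309696) 110680464442257309696 := GC.Mem.gen DT3_in299.top
theorem pt300e : ∃ x, DL.Rep pt300c x := via_rep _ _ ((PP.exists_vec P7_ok (c := 0x3000200040002000400040003) (by decide +kernel)).elim fun x hx => ⟨_, x, hx, rfl⟩)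
noncomputable def pt300 := Classical.choose pt300e
theorem pt300r : DL.Rep pt300c pt300 := Classical.choose_spec pt300e
theorem pt301e : ∃ x, DL.Rep pt301c x := via_rep _ _ ((PP.exists_vec P7_ok (c := 0x2000400020003000300010003) (by decide +kernel)).elim fun x hx => ⟨_, x, hx, rfl⟩)
noncomputable def pt301 := Classical.choose pt301e
theorem pt301r : DL.Rep pt301c pt301 := Classical.choose_spec pt301e
theorem DT3_s0_304 : CD.Mem R (CD.gen R 110680464442257309696) 553402322211286548480 := DT3_m0.slp' chk303
theorem DT3_c0i : CD.Mem R (CD.gen R 110680464442257309696) 442721857769029238784 := DT3_s0_304.sub chk305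
theorem DT3_c0m : CD.Mem R (CD.gen R 442721857769029238784) 442721857769029238784 := DT3_c0i.gen
theorem fx307 : CD.gen R 442721857769029238784 ≤ stabilizer _ pt300 := Act.fix_sound DT3_c0i.top pt300r chk306
theorem cov314 : Cov (CD.gen R 110680464442257309696) (CD.wds R [0]) pt300 24 := Act.cov_of_seen (Act.pieces_sound DT3_s0_304 DT3_s0_304.top pt300r chk312) chk313
theorem DT3_c1i : CD.Mem R (CD.gen R 442721857769029238784) 0 := DT3_c0m.sub chk315
theorem DT3_c1m : CD.Mem R (CD.gen R 0) 0 := DT3_c1i.gen
theorem fx317 : CD.gen R 0 ≤ stabilizer _ pt301 := Act.fix_sound DT3_c1i.top pt301r chk316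
theorem cov324 : Cov (CD.gen R 442721857769029238784) (CD.wds R [0]) pt301 20 := Act.cov_of_seen (Act.pieces_sound DT3_c0m DT3_c0m.top pt301r chk322) chk323
theorem DT3_lb2 : 1 ≤ Nat.card (CD.gen R 0) := Nat.card_pos
theorem DT3_lo1 : 20 * Nat.card (CD.gen R 0) ≤ Nat.card (CD.gen R 442721857769029238784) := cov324.low le_rfl (GC.wds_zero _) DT3_c1i.gen_le fx317
theorem DT3_lb1 : 20 ≤ Nat.card (CD.gen R 442721857769029238784) := low_step DT3_lo1 DT3_lb2 (by decide +kernel)
theorem DT3_lo0 : 24 * Nat.card (CD.gen R 442721857769029238784) ≤ Nat.card (CD.gen R 110680464442257309696) := cov314.low le_rfl (GC.wds_zero _) DT3_c0i.gen_le fx307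
theorem DT3_lb0 : 480 ≤ Nat.card (CD.gen R 110680464442257309696) := low_step DT3_lo0 DT3_lb1 (by decide +kernel)
theorem D_T3c : ∀ τ ∈ (CD.gen R 110680464442257309696), CD.el (R 37) * τ * (CD.el (R 37))⁻¹ ∈ (CD.gen R 4094) := Pa_m0.conjA (D_I.get (i := 37) (by decide +kernel)).top DT3_in299.top chk326
theorem cov335 : Cov (CD.gen R 110680464442257309696) (CD.wds R (List.map Prod.fst (l327))) pt155 30 := Act.cov_of_seen (Act.pieces_sound DT3_s0_304 Pa_m0.top pt155r chk333) chk334
theorem D_T3d : Dec (CD.gen R 4094) (CD.gen R 110680464442257309696) (CD.wds R (List.map Prod.fst (l327))) (CD.gen R 1924145348608) := cov335.dec DT3_in299.gen_le (GC.wds_sub Pa_m0 chk336) DK_in182.gen_le fx211 (up_low Pa_ub DK_lb0 (by decide +kernel))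
theorem D_T3p : ∀ x ∈ DC1 (CD.gen R 4094) (CD.el (R 37)), x * CD.el (R 12) ∈ DCs (CD.gen R 4094) (CD.els R 206158434304) := GC.dc_piece' D_T3d D_T3c D_Kc (Pa_m0.dcRel D_I.top (D_I.get (i := 37) (by decide +kernel)).top (D_m0.get (i := 12) (by decide +kernel)).top chk328)
theorem D_T3u : Nat.card (CD.gen R 4094) ≤ 3125 * Nat.card (CD.gen R 110680464442257309696) := up_low Pa_ub DT3_lb0 (by decide +kernel)
theorem D_T3n : (DC1 (CD.gen R 4094) (CD.el (R 37))).ncard ≤ Nat.card (CD.gen R 4094) * 3125 := ncard_DC1 DT3_in299.gen_le D_T3c D_T3u
theorem D_dc : ∀ x ∈ (CD.gen R 8190), x ∈ DCs (CD.gen R 4094) (CD.els R 206158434304) := GC.dc_gen (MU := 4096) Pa_m0 (by decide +kernel) (GC.forall_els (L := [12]) (forall_cons ⟨Pa_m0.inDC' D_I.top (D_m0.get (i := 12) (by decide +kernel)).top chk337, GC.forall_els (L := [12, 36, 37]) (forall_cons D_T1p (forall_cons D_T2p (forall_cons D_T3p forall_nil))) (by decide +kernel)⟩ forall_nil) (by decide +kernel))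
theorem D_cs : ∀ p ∈ ([(12, 30), (36, 750), (37, 3125)] : List (ℕ × ℕ)), (DC1 (CD.gen R 4094) (CD.el (R p.1))).ncard ≤ Nat.card (CD.gen R 4094) * p.2 := (forall_cons D_T1n (forall_cons D_T2n (forall_cons D_T3n forall_nil)))
theorem D_ix : Nat.card (CD.gen R 8190) ≤ 3906 * Nat.card (CD.gen R 4094) := GC.card_dc [(12, 30), (36, 750), (37, 3125)] D_dc D_cs (by decide +kernel)
theorem D_ub : Nat.card (CD.gen R 8190) ≤ 5859000000 := up_mul D_ix Pa_ub (by decide +kernel)
theorem D_max : ∀ L, (CD.gen R 4094) ≤ L → L ≤ (CD.gen R 8190) → L = (CD.gen R 4094) ∨ L = (CD.gen R 8190) := maximal_of_DCs D_dc (Pa_m0.maxChk D_I.top chk339 chk340)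
theorem pt341e : ∃ x, DL.Rep pt341c x := via_rep _ _ ((PP.exists_vec P7_ok (c := 0x4000200030000000300010004) (by decide +kernel)).elim fun x hx => ⟨_, x, hx, rfl⟩)
noncomputable def pt341 := Classical.choose pt341e
theorem pt341r : DL.Rep pt341c pt341 := Classical.choose_spec pt341e
theorem D_s1_344 : CD.Mem R (CD.gen R 8190) 8854437155586743214078 := D_s0_158.slp' chk343
noncomputable def pt345 := CD.wd R 13207100005448 • pt341
theorem pt345r : DL.Rep pt345c pt345 := Act.appW_ok D_s1_344 chk346 pt341r
theorem pt345g : CD.wd R 13207100005448 ∈ (CD.gen R 8190) := D_s1_344.wd_mem chk346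
noncomputable def pt347 := CD.wd R 81142936000076872 • pt341
theorem pt347r : DL.Rep pt347c pt347 := Act.appW_ok D_s1_344 chk348 pt341r
theorem pt347g : CD.wd R 81142936000076872 ∈ (CD.gen R 8190) := D_s1_344.wd_mem chk348
theorem Pa_s0_351 : CD.Mem R (CD.gen R 4094) 2408406906263519058989054 := Pa_m0.slp' chk350
theorem Pa_c0i : CD.Mem R (CD.gen R 4094) 2408406906263519058984960 := Pa_s0_351.sub chk352
theorem Pa_c0m : CD.Mem R (CD.gen R 2408406906263519058984960) 2408406906263519058984960 := Pa_c0i.gen
theorem fx354 : CD.gen R 2408406906263519058984960 ≤ stabilizer _ pt345 := Act.fix_sound Pa_c0i.top pt345r chk353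
theorem cov361 : Cov (CD.gen R 4094) (CD.wds R [0]) pt345 750 := Act.cov_of_seen (Act.pieces_sound Pa_s0_351 Pa_s0_351.top pt345r chk359) chk360
theorem Pa_c1i : CD.Mem R (CD.gen R 2408406906263519058984960) 0 := Pa_c0m.sub chk362
theorem Pa_c1m : CD.Mem R (CD.gen R 0) 0 := Pa_c1i.gen
theorem fx364 : CD.gen R 0 ≤ stabilizer _ pt347 := Act.fix_sound Pa_c1i.top pt347r chk363
theorem cov373 : Cov (CD.gen R 2408406906263519058984960) (CD.wds R [0]) pt347 2000 := Act.cov_of_seen (Act.pieces_sound Pa_c0m Pa_c0m.top pt347r chk371) chk372
theorem Pa_lb2 : 1 ≤ Nat.card (CD.gen R 0) := Nat.card_pos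
theorem Pa_lo1 : 2000 * Nat.card (CD.gen R 0) ≤ Nat.card (CD.gen R 2408406906263519058984960) := cov373.low le_rfl (GC.wds_zero _) Pa_c1i.gen_le fx364
theorem Pa_lb1 : 2000 ≤ Nat.card (CD.gen R 2408406906263519058984960) := low_step Pa_lo1 Pa_lb2 (by decide +kernel)
theorem Pa_lo0 : 750 * Nat.card (CD.gen R 2408406906263519058984960) ≤ Nat.card (CD.gen R 4094) := cov361.low le_rfl (GC.wds_zero _) Pa_c0i.gen_le fx354
theorem Pa_lb0 : 1500000 ≤ Nat.card (CD.gen R 4094) := low_step Pa_lo0 Pa_lb1 (by decide +kernel)
theorem Pa_st0 : (CD.gen R 4094) ⊓ stabilizer _ pt345 = (CD.gen R 2408406906263519058984960) ∧ (orbit (CD.gen R 4094) pt345).ncard = 750 := cov361.stab le_rfl (GC.wds_zero _) Pa_c0i.gen_le fx354 (up_low Pa_ub Pa_lb1 (by decide +kernel))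
theorem Pa_ub1 : Nat.card (CD.gen R 2408406906263519058984960) ≤ 2000 := up_step Pa_lo0 Pa_ub (by decide +kernel)
theorem Pa_st1 : (CD.gen R 2408406906263519058984960) ⊓ stabilizer _ pt347 = (CD.gen R 0) ∧ (orbit (CD.gen R 2408406906263519058984960) pt347).ncard = 2000 := cov373.stab le_rfl (GC.wds_zero _) Pa_c1i.gen_le fx364 (up_low Pa_ub1 Pa_lb2 (by decide +kernel))
theorem Pa_ub2 : Nat.card (CD.gen R 0) ≤ 1 := up_step Pa_lo1 Pa_ub1 (by decide +kernel)
theorem cov384 : Cov (CD.gen R 8190) (CD.wds R [0]) pt341 3906 := Act.cov_of_seen (Act.pieces_sound D_s1_344 D_s1_344.top pt341r chk382) chk383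
theorem fx386 : CD.gen R 4094 ≤ stabilizer _ pt341 := Act.fix_sound (valp7.sub chk48) pt341r chk385
theorem D_cov : Cov (CD.gen R 8190) (CD.wds R [0]) pt341 3906 := cov384
theorem D_lo : 3906 * Nat.card (CD.gen R 4094) ≤ Nat.card (CD.gen R 8190) := cov384.low le_rfl (GC.wds_zero _) (D_s1_344.sub chk387).gen_le fx386
theorem D_lb : 5859000000 ≤ Nat.card (CD.gen R 8190) := low_step D_lo Pa_lb0 (by decide +kernel)
theorem coreD (N : Subgroup _) (h : N ≤ (CD.gen R 4094)) (hN : NormBy (CD.gen R 8190) N) : N ≤ (CD.gen R 0) := (le_next Pa_st1 (le_next Pa_st0 h (hN.fix (h.trans fx386) pt345g)) (hN.fix (h.trans fx386) pt347g))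
theorem D_m3 : CD.Mem R (CD.gen R 8190) 2417261343419105802199038 := D_s1_344.lor' (Pa_s0_351.mono (D_s1_344.sub chk388).gen_le) chk389
theorem D_s3_392 : CD.Mem R (CD.gen R 8190) 4835112982648364151611390 := D_m3.slp' chk391
theorem D_s4_395 : CD.Mem R (CD.gen R 8190) 19342222818023914248085502 := D_s3_392.slp' chk394
theorem nclD (N : Subgroup _) (hN : NormBy (CD.gen R 8190) N) (hz : CD.el (R 81) ∈ N) : CD.gen R 8190 ≤ N := by
  have h0 := (GC.Mem.single (D_s4_395.get (i := 81) (by decide +kernel)).top hz).lor' (D_s4_395.nconj (GC.Mem.single (D_s4_395.get (i := 81) (by decide +kernel)).top hz) hN (D_s4_395.sub chk396).top chk398) (M'' := 16924961474604808445886464) (by decide +kernel)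
  have h1 := D_s4_395.ncop h0 hN chk400
  have h2 := h1.lor' (D_s4_395.ncop h0 hN chk402) (M'' := 4094) (by decide +kernel)
  have h3 := h2.lor' (D_s4_395.ncop h0 hN chk404) (M'' := 8190) (by decide +kernel)
  exact h3.gen_le
theorem dichD (N : Subgroup _) (h : N ≤ (CD.gen R 8190)) (hN : NormBy (CD.gen R 8190) N) : N ≤ (CD.gen R 0) ∨ N = (CD.gen R 8190) :=
  normal_dichotomy (D_s4_395.sub chk406).gen_le D_max coreD (p := 31) (k := 1) (n := 3906) (by norm_num)
    (eq_mul_of D_ub D_lb Pa_ub Pa_lb0 (by decide +kernel)) (by norm_num)
    (not_dvd_of D_ub D_lb (by decide +kernel)) (D_s4_395.get (i := 81) (by decide +kernel)).el_mem ((D_s4_395.get (i := 81) (by decide +kernel)).prime_dvd (by norm_num) chk405).1.1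
    (fun N _ hN hz => nclD N hN hz) N h hN
theorem simpleD : IsSimpleGroup (CD.gen R 8190) := simple_of_dichotomy (ne_bot_of D_lb (by decide +kernel)) fun N h hN => GC.gen_zero (C := CD) (R := R) ▸ dichD N h hN
theorem D_s5_409 : CD.Mem R (CD.gen R 8190) 4951759566845710947049283582 := D_s4_395.slp' chk408
theorem H_m0 : C1.Mem R1 (C1.gen R1 8190) 8190 := GC.Mem.gen (D_m0.map hD1).top
theorem H_map : (C1.gen R1 8190) = (CD.gen R 8190).map (MonoidHom.fst _ _) := D_m0.gen_map hD1
theorem H_ub : Nat.card (C1.gen R1 8190) ≤ 5859000000 := H_map ▸ (card_map_le _ _).trans D_ub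
theorem H_inj : Nat.card (CD.gen R 8190) ≤ Nat.card (C1.gen R1 8190) := H_map ▸ card_le_map_of_simple _ simpleD (not_le_ker hD1 (D_s5_409.get (i := 12) (by decide +kernel)) chk410)
theorem H_lb : 5859000000 ≤ Nat.card (C1.gen R1 8190) := D_lb.trans H_inj
theorem simpleH : IsSimpleGroup (C1.gen R1 8190) := H_map ▸ simple_map _ simpleD (H_map ▸ H_inj)
theorem val413 : C1.Mem R1 ⊤ 4951760157141521099596496896 := MC.mem_units (PP.mc P_ok) (PP.canF_sound P_ok) chk412
theorem vG : C1.Mem R1 ⊤ 4951760157141521099596505086 := (D_m0.map hD1).top.lor' val413 (by decide +kernel)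
theorem pt414e : ∃ x, DU.Rep pt414c x := via_rep _ _ (Act.upair_rep hB7 ((PP.exists_vec P7_ok (c := 0x1000200010002000200010000) (by decide +kernel)).elim fun x hx => ⟨_, x, hx, rfl⟩) ((PP.exists_vec P7_ok (c := 0x2000000010001000200040002) (by decide +kernel)).elim fun x hx => ⟨_, x, hx, rfl⟩) (by decide +kernel))
noncomputable def pt414 := Classical.choose pt414e
theorem pt414r : DU.Rep pt414c pt414 := Classical.choose_spec pt414e
theorem H_y1 : C1.Mem R1 (C1.gen R1 8190) 4951759566845710947049283582 := H_m0.lor' (H_map ▸ D_s5_409.map hD1) (by decide +kernel)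
theorem G_m0 : C1.Mem R1 (C1.gen R1 4951760157141521099596505086) 4951760157141521099596505086 := GC.Mem.gen vG
theorem G_m1 : C1.Mem R1 (C1.gen R1 4951760157141521099596505086) 9903519723987232046645780478 := G_m0.lor' (H_y1.mono (G_m0.sub chk415).gen_le) chk416
theorem G_s1_419 : C1.Mem R1 (C1.gen R1 4951760157141521099596505086) 79228161923968527440996737022 := G_m1.slp' chk418
theorem G_I : C1.Mem R1 (C1.gen R1 4951760157141521099596505086) 74276402357122816493947453440 := G_s1_419.sub chk420
theorem GK_in457 : CD.Mem R (CD.gen R 8190) 554597137599850363154807652352 := D_s5_409.slp' chk456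
theorem GK_m0 : CD.Mem R (CD.gen R 554597137599850363154807652352) 554597137599850363154807652352 := GC.Mem.gen GK_in457.top
theorem pt458e : ∃ x, DL.Rep pt458c x := via_rep _ _ ((PP.exists_vec P7_ok (c := 0x4000000020003000300000003) (by decide +kernel)).elim fun x hx => ⟨_, x, hx, rfl⟩)
noncomputable def pt458 := Classical.choose pt458e
theorem pt458r : DL.Rep pt458c pt458 := Classical.choose_spec pt458e
theorem pt459e : ∃ x, DL.Rep pt459c x := via_rep _ _ ((PP.exists_vec P7_ok (c := 0x2000400020003000300010003) (by decide +kernel)).elim fun x hx => ⟨_, x, hx, rfl⟩)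
noncomputable def pt459 := Classical.choose pt459e
theorem pt459r : DL.Rep pt459c pt459 := Classical.choose_spec pt459e
theorem pt460e : ∃ x, DL.Rep pt460c x := via_rep _ _ ((PP.exists_vec P7_ok (c := 0x2000300040004000300030000) (by decide +kernel)).elim fun x hx => ⟨_, x, hx, rfl⟩)
noncomputable def pt460 := Classical.choose pt460e
theorem pt460r : DL.Rep pt460c pt460 := Classical.choose_spec pt460e
theorem GK_s0_463 : CD.Mem R (CD.gen R 554597137599850363154807652352) 40485591044789076510300958621696 := GK_m0.slp' chk462
theorem GK_c0i : CD.Mem R (CD.gen R 554597137599850363154807652352) 39930993907189226147146150969344 := GK_s0_463.sub chk464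
theorem GK_c0m : CD.Mem R (CD.gen R 39930993907189226147146150969344) 39930993907189226147146150969344 := GK_c0i.gen
theorem fx466 : CD.gen R 39930993907189226147146150969344 ≤ stabilizer _ pt458 := Act.fix_sound GK_c0i.top pt458r chk465
theorem cov473 : Cov (CD.gen R 554597137599850363154807652352) (CD.wds R [0]) pt458 50 := Act.cov_of_seen (Act.pieces_sound GK_s0_463 GK_s0_463.top pt458r chk471) chk472
theorem GK_c1i : CD.Mem R (CD.gen R 39930993907189226147146150969344) 20282409603651670423947251286016 := GK_c0m.sub chk474
theorem GK_c1m : CD.Mem R (CD.gen R 20282409603651670423947251286016) 20282409603651670423947251286016 := GK_c1i.gen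
theorem fx476 : CD.gen R 20282409603651670423947251286016 ≤ stabilizer _ pt459 := Act.fix_sound GK_c1i.top pt459r chk475
theorem cov483 : Cov (CD.gen R 39930993907189226147146150969344) (CD.wds R [0]) pt459 500 := Act.cov_of_seen (Act.pieces_sound GK_c0m GK_c0m.top pt459r chk481) chk482
theorem GK_c2i : CD.Mem R (CD.gen R 20282409603651670423947251286016) 0 := GK_c1m.sub chk484
theorem GK_c2m : CD.Mem R (CD.gen R 0) 0 := GK_c2i.gen
theorem fx486 : CD.gen R 0 ≤ stabilizer _ pt460 := Act.fix_sound GK_c2i.top pt460r chk485
theorem cov493 : Cov (CD.gen R 20282409603651670423947251286016) (CD.wds R [0]) pt460 4 := Act.cov_of_seen (Act.pieces_sound GK_c1m GK_c1m.top pt460r chk491) chk492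
theorem GK_lb3 : 1 ≤ Nat.card (CD.gen R 0) := Nat.card_pos
theorem GK_lo2 : 4 * Nat.card (CD.gen R 0) ≤ Nat.card (CD.gen R 20282409603651670423947251286016) := cov493.low le_rfl (GC.wds_zero _) GK_c2i.gen_le fx486
theorem GK_lb2 : 4 ≤ Nat.card (CD.gen R 20282409603651670423947251286016) := low_step GK_lo2 GK_lb3 (by decide +kernel)
theorem GK_lo1 : 500 * Nat.card (CD.gen R 20282409603651670423947251286016) ≤ Nat.card (CD.gen R 39930993907189226147146150969344) := cov483.low le_rfl (GC.wds_zero _) GK_c1i.gen_le fx476
theorem GK_lb1 : 2000 ≤ Nat.card (CD.gen R 39930993907189226147146150969344) := low_step GK_lo1 GK_lb2 (by decide +kernel)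
theorem GK_lo0 : 50 * Nat.card (CD.gen R 39930993907189226147146150969344) ≤ Nat.card (CD.gen R 554597137599850363154807652352) := cov473.low le_rfl (GC.wds_zero _) GK_c0i.gen_le fx466
theorem GK_lb0 : 100000 ≤ Nat.card (CD.gen R 554597137599850363154807652352) := low_step GK_lo0 GK_lb1 (by decide +kernel)
theorem fx497 : CD.gen R 554597137599850363154807652352 ≤ stabilizer _ pt414 := Act.fix_sound GK_in457.top pt414r chk496
theorem G_Kc : ∀ κ ∈ (C1.gen R1 554597137599850363154807652352), (C1.el (R1 92))⁻¹ * κ * C1.el (R1 92) ∈ (C1.gen R1 8190) := H_y1.conjB (G_m1.get (i := 92) (by decide +kernel)).top (GK_m0.map hD1).top chk495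
theorem GT1_in520 : CD.Mem R (CD.gen R 8190) 283953734451123385935261518004224 := D_s5_409.slp' chk519
theorem GT1_m0 : CD.Mem R (CD.gen R 283953734451123385935261518004224) 283953734451123385935261518004224 := GC.Mem.gen GT1_in520.top
theorem pt521e : ∃ x, DL.Rep pt521c x := via_rep _ _ ((PP.exists_vec P7_ok (c := 0x3000400040003000100030001) (by decide +kernel)).elim fun x hx => ⟨_, x, hx, rfl⟩)
noncomputable def pt521 := Classical.choose pt521e
theorem pt521r : DL.Rep pt521c pt521 := Classical.choose_spec pt521e
theorem pt522e : ∃ x, DL.Rep pt522c x := via_rep _ _ ((PP.exists_vec P7_ok (c := 0x2000400020003000300010003) (by decide +kernel)).elim fun x hx => ⟨_, x, hx, rfl⟩)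
noncomputable def pt522 := Classical.choose pt522e
theorem pt522r : DL.Rep pt522c pt522 := Classical.choose_spec pt522e
theorem GT1_s0_525 : CD.Mem R (CD.gen R 283953734451123385935261518004224) 2555583610060110473417353662038016 := GT1_m0.slp' chk524
theorem GT1_c0i : CD.Mem R (CD.gen R 283953734451123385935261518004224) 2271629875608987087482092144033792 := GT1_s0_525.sub chk526
theorem GT1_c0m : CD.Mem R (CD.gen R 2271629875608987087482092144033792) 2271629875608987087482092144033792 := GT1_c0i.gen
theorem fx528 : CD.gen R 2271629875608987087482092144033792 ≤ stabilizer _ pt521 := Act.fix_sound GT1_c0i.top pt521r chk527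
theorem cov535 : Cov (CD.gen R 283953734451123385935261518004224) (CD.wds R [0]) pt521 126 := Act.cov_of_seen (Act.pieces_sound GT1_s0_525 GT1_s0_525.top pt521r chk533) chk534
theorem GT1_c1i : CD.Mem R (CD.gen R 2271629875608987087482092144033792) 0 := GT1_c0m.sub chk536
theorem GT1_c1m : CD.Mem R (CD.gen R 0) 0 := GT1_c1i.gen
theorem fx538 : CD.gen R 0 ≤ stabilizer _ pt522 := Act.fix_sound GT1_c1i.top pt522r chk537
theorem cov545 : Cov (CD.gen R 2271629875608987087482092144033792) (CD.wds R [0]) pt522 8 := Act.cov_of_seen (Act.pieces_sound GT1_c0m GT1_c0m.top pt522r chk543) chk544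
theorem GT1_lb2 : 1 ≤ Nat.card (CD.gen R 0) := Nat.card_pos
theorem GT1_lo1 : 8 * Nat.card (CD.gen R 0) ≤ Nat.card (CD.gen R 2271629875608987087482092144033792) := cov545.low le_rfl (GC.wds_zero _) GT1_c1i.gen_le fx538
theorem GT1_lb1 : 8 ≤ Nat.card (CD.gen R 2271629875608987087482092144033792) := low_step GT1_lo1 GT1_lb2 (by decide +kernel)
theorem GT1_lo0 : 126 * Nat.card (CD.gen R 2271629875608987087482092144033792) ≤ Nat.card (CD.gen R 283953734451123385935261518004224) := cov535.low le_rfl (GC.wds_zero _) GT1_c0i.gen_le fx528
theorem GT1_lb0 : 1008 ≤ Nat.card (CD.gen R 283953734451123385935261518004224) := low_step GT1_lo0 GT1_lb1 (by decide +kernel)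
theorem G_T1c : ∀ τ ∈ (C1.gen R1 283953734451123385935261518004224), C1.el (R1 93) * τ * (C1.el (R1 93))⁻¹ ∈ (C1.gen R1 8190) := H_y1.conjA (G_I.get (i := 93) (by decide +kernel)).top (GT1_m0.map hD1).top chk547
theorem cov692 : Cov (CD.gen R 283953734451123385935261518004224) (CD.wds R (List.map Prod.fst (l548 ++ (l550 ++ (l552 ++ (l554 ++ (l556 ++ (l558 ++ (l560 ++ (l562 ++ (l564 ++ (l566 ++ (l568 ++ (l570 ++ (l572 ++ (l574 ++ (l576 ++ (l578 ++ (l580 ++ (l582 ++ (l584 ++ (l586 ++ (l588))))))))))))))))))))))) pt414 58590 := Act.cov_of_seen (forall_app (Act.pieces_sound GT1_s0_525 D_s5_409.top pt414r chk674) (forall_app (Act.pieces_sound GT1_s0_525 D_s5_409.top pt414r chk676) (forall_app (Act.pieces_sound GT1_s0_525 D_s5_409.top pt414r chk678) (forall_app (Act.pieces_sound GT1_s0_525 D_s5_409.top pt414r chk680) (forall_app (Act.pieces_sound GT1_s0_525 D_s5_409.top pt414r chk682) (forall_app (Act.pieces_sound GT1_s0_525 D_s5_409.top pt414r chk684) (forall_app (Act.pieces_sound GT1_s0_525 D_s5_409.top pt414r chk686) (forall_app (Act.pieces_sound GT1_s0_525 D_s5_409.top pt414r chk688) (Act.pieces_sound GT1_s0_525 D_s5_409.top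 pt414r chk690))))))))) chk691
theorem G_T1e : Dec (CD.gen R 8190) (CD.gen R 283953734451123385935261518004224) (CD.wds R (List.map Prod.fst (l548 ++ (l550 ++ (l552 ++ (l554 ++ (l556 ++ (l558 ++ (l560 ++ (l562 ++ (l564 ++ (l566 ++ (l568 ++ (l570 ++ (l572 ++ (l574 ++ (l576 ++ (l578 ++ (l580 ++ (l582 ++ (l584 ++ (l586 ++ (l588))))))))))))))))))))))) (CD.gen R 554597137599850363154807652352) := cov692.dec GT1_in520.gen_le (GC.wds_sub D_s5_409 chk693) GK_in457.gen_le fx497 (up_low D_ub GK_lb0 (by decide +kernel))
theorem G_T1d : Dec (C1.gen R1 8190) (C1.gen R1 283953734451123385935261518004224) (C1.wds R1 (List.map Prod.fst (l548 ++ (l550 ++ (l552 ++ (l554 ++ (l556 ++ (l558 ++ (l560 ++ (l562 ++ (l564 ++ (l566 ++ (l568 ++ (l570 ++ (l572 ++ (l574 ++ (l576 ++ (l578 ++ (l580 ++ (l582 ++ (l584 ++ (l586 ++ (l588))))))))))))))))))))))) (C1.gen R1 554597137599850363154807652352) := GC.dec_map hD1 D_m0.top GT1_m0.top GK_m0.top D_s5_409.top chk693 G_T1e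
theorem G_T1p : ∀ x ∈ DC1 (C1.gen R1 8190) (C1.el (R1 93)), x * C1.el (R1 92) ∈ DCs (C1.gen R1 8190) (C1.els R1 74276402357122816493947453440) := GC.dc_piece' G_T1d G_T1c G_Kc (forall_app (H_y1.dcRel G_I.top (G_I.get (i := 93) (by decide +kernel)).top (G_m1.get (i := 92) (by decide +kernel)).top chk549) (forall_app (H_y1.dcRel G_I.top (G_I.get (i := 93) (by decide +kernel)).top (G_m1.get (i := 92) (by decide +kernel)).top chk551) (forall_app (H_y1.dcRel G_I.top (G_I.get (i := 93) (by decide +kernel)).top (G_m1.get (i := 92) (by decide +kernel)).top chk553) (forall_app (H_y1.dcRel G_I.top (G_I.get (i := 93) (by decide +kernel)).top (G_m1.get (i := 92) (by decide +kernel)).top chk555) (forall_app (H_y1.dcRel G_I.top (G_I.get (i := 93) (by decide +kernel)).top (G_m1.get (i := 92) (by decide +kernel)).top chk557) (forall_app (H_y1.dcRel G_I.top (G_I.get (i := 93) (by decide +kernel)).top (G_m1.get (i := 92) (by decide +kernel)).top chk559) (forall_app (H_y1.dcRel G_I.top (G_I.get (i := 93) (by decide +kernel)).top (G_m1.get (i := 92) (by decide +kernel)).top chk561) (forall_app (H_y1.dcRel G_I.top (G_I.get (i := 93) (by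 decide +kernel)).top (G_m1.get (i := 92) (by decide +kernel)).top chk563) (forall_app (H_y1.dcRel G_I.top (G_I.get (i := 93) (by decide +kernel)).top (G_m1.get (i := 92) (by decide +kernel)).top chk565) (forall_app (H_y1.dcRel G_I.top (G_I.get (i := 93) (by decide +kernel)).top (G_m1.get (i := 92) (by decide +kernel)).top chk567) (forall_app (H_y1.dcRel G_I.top (G_I.get (i := 93) (by decide +kernel)).top (G_m1.get (i := 92) (by decide +kernel)).top chk569) (forall_app (H_y1.dcRel G_I.top (G_I.get (i := 93) (by decide +kernel)).top (G_m1.get (i := 92) (by decide +kernel)).top chk571) (forall_app (H_y1.dcRel G_I.top (G_I.get (i := 93) (by decide +kernel)).top (G_m1.get (i := 92) (by decide +kernel)).top chk573) (forall_app (H_y1.dcRel G_I.top (G_I.get (i := 93) (by decide +kernel)).top (G_m1.get (i := 92) (by decide +kernel)).top chk575) (forall_app (H_y1.dcRel G_I.top (G_I.get (i := 93) (by decide +kernel)).top (G_m1.get (i := 92) (by decide +kernel)).top chk577) (forall_app (H_y1.dcRel G_I.top (G_I.get (i := 93) (by decide +kernel)).top (G_m1.get (i := 92) (by decide +kernel)).top chk579) (forall_app (H_y1.dcRel G_I.top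 (G_I.get (i := 93) (by decide +kernel)).top (G_m1.get (i := 92) (by decide +kernel)).top chk581) (forall_app (H_y1.dcRel G_I.top (G_I.get (i := 93) (by decide +kernel)).top (G_m1.get (i := 92) (by decide +kernel)).top chk583) (forall_app (H_y1.dcRel G_I.top (G_I.get (i := 93) (by decide +kernel)).top (G_m1.get (i := 92) (by decide +kernel)).top chk585) (forall_app (H_y1.dcRel G_I.top (G_I.get (i := 93) (by decide +kernel)).top (G_m1.get (i := 92) (by decide +kernel)).top chk587) (H_y1.dcRel G_I.top (G_I.get (i := 93) (by decide +kernel)).top (G_m1.get (i := 92) (by decide +kernel)).top chk589)))))))))))))))))))))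
theorem G_T1u : Nat.card (CD.gen R 8190) ≤ 5812500 * Nat.card (CD.gen R 283953734451123385935261518004224) := up_low D_ub GT1_lb0 (by decide +kernel)
theorem G_T1n : (DC1 (C1.gen R1 8190) (C1.el (R1 93))).ncard ≤ Nat.card (C1.gen R1 8190) * 5812500 := ncard_DC1_map _ H_map (GT1_m0.gen_map hD1) GT1_in520.gen_le G_T1c G_T1u
theorem GT2_in696 : CD.Mem R (CD.gen R 8190) 7788445287802241442795744493830144 := D_s5_409.slp' chk695
theorem GT2_m0 : CD.Mem R (CD.gen R 7788445287802241442795744493830144) 7788445287802241442795744493830144 := GC.Mem.gen GT2_in696.top
theorem pt697e : ∃ x, DL.Rep pt697c x := via_rep _ _ ((PP.exists_vec P7_ok (c := 0x1000200000002000100020001) (by decide +kernel)).elim fun x hx => ⟨_, x, hx, rfl⟩)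
noncomputable def pt697 := Classical.choose pt697e
theorem pt697r : DL.Rep pt697c pt697 := Classical.choose_spec pt697e
theorem pt698e : ∃ x, DL.Rep pt698c x := via_rep _ _ ((PP.exists_vec P7_ok (c := 0x2000400020003000300010003) (by decide +kernel)).elim fun x hx => ⟨_, x, hx, rfl⟩)
noncomputable def pt698 := Classical.choose pt698e
theorem pt698r : DL.Rep pt698c pt698 := Classical.choose_spec pt698e
theorem GT2_s0_701 : CD.Mem R (CD.gen R 7788445287802241442795744493830144) 329710850516961554411686516905476096 := GT2_m0.slp' chk700
theorem GT2_c0i : CD.Mem R (CD.gen R 7788445287802241442795744493830144) 290768624077950347197707794436325376 := GT2_s0_701.sub chk702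
theorem GT2_c0m : CD.Mem R (CD.gen R 290768624077950347197707794436325376) 290768624077950347197707794436325376 := GT2_c0i.gen
theorem fx704 : CD.gen R 290768624077950347197707794436325376 ≤ stabilizer _ pt697 := Act.fix_sound GT2_c0i.top pt697r chk703
theorem cov711 : Cov (CD.gen R 7788445287802241442795744493830144) (CD.wds R [0]) pt697 378 := Act.cov_of_seen (Act.pieces_sound GT2_s0_701 GT2_s0_701.top pt697r chk709) chk710
theorem GT2_c1i : CD.Mem R (CD.gen R 290768624077950347197707794436325376) 0 := GT2_c0m.sub chk712
theorem GT2_c1m : CD.Mem R (CD.gen R 0) 0 := GT2_c1i.gen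
theorem fx714 : CD.gen R 0 ≤ stabilizer _ pt698 := Act.fix_sound GT2_c1i.top pt698r chk713
theorem cov721 : Cov (CD.gen R 290768624077950347197707794436325376) (CD.wds R [0]) pt698 16 := Act.cov_of_seen (Act.pieces_sound GT2_c0m GT2_c0m.top pt698r chk719) chk720
theorem GT2_lb2 : 1 ≤ Nat.card (CD.gen R 0) := Nat.card_pos
theorem GT2_lo1 : 16 * Nat.card (CD.gen R 0) ≤ Nat.card (CD.gen R 290768624077950347197707794436325376) := cov721.low le_rfl (GC.wds_zero _) GT2_c1i.gen_le fx714
theorem GT2_lb1 : 16 ≤ Nat.card (CD.gen R 290768624077950347197707794436325376) := low_step GT2_lo1 GT2_lb2 (by decide +kernel)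
theorem GT2_lo0 : 378 * Nat.card (CD.gen R 290768624077950347197707794436325376) ≤ Nat.card (CD.gen R 7788445287802241442795744493830144) := cov711.low le_rfl (GC.wds_zero _) GT2_c0i.gen_le fx704
theorem GT2_lb0 : 6048 ≤ Nat.card (CD.gen R 7788445287802241442795744493830144) := low_step GT2_lo0 GT2_lb1 (by decide +kernel)
theorem G_T2c : ∀ τ ∈ (C1.gen R1 7788445287802241442795744493830144), C1.el (R1 94) * τ * (C1.el (R1 94))⁻¹ ∈ (C1.gen R1 8190) := H_y1.conjA (G_I.get (i := 94) (by decide +kernel)).top (GT2_m0.map hD1).top chk723
theorem cov810 : Cov (CD.gen R 7788445287802241442795744493830144) (CD.wds R (List.map Prod.fst (l724 ++ (l726 ++ (l728 ++ (l730)))))) pt414 58590 := Act.cov_of_seen (forall_app (Act.pieces_sound GT2_s0_701 D_s5_409.top pt414r chk786) (forall_app (Act.pieces_sound GT2_s0_701 D_s5_409.top pt414r chk788) (forall_app (Act.pieces_sound GT2_s0_701 D_s5_409.top pt414r chk790) (forall_app (Act.pieces_sound GT2_s0_701 D_s5_409.top pt414r chk792) (forall_app (Act.pieces_sound GT2_s0_701 D_s5_409.top pt414r chk794) (forall_app (Act.pieces_sound GT2_s0_701 D_s5_409.top pt414r chk796) (forall_app (Act.pieces_sound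 GT2_s0_701 D_s5_409.top pt414r chk798) (forall_app (Act.pieces_sound GT2_s0_701 D_s5_409.top pt414r chk800) (forall_app (Act.pieces_sound GT2_s0_701 D_s5_409.top pt414r chk802) (forall_app (Act.pieces_sound GT2_s0_701 D_s5_409.top pt414r chk804) (forall_app (Act.pieces_sound GT2_s0_701 D_s5_409.top pt414r chk806) (Act.pieces_sound GT2_s0_701 D_s5_409.top pt414r chk808)))))))))))) chk809
theorem G_T2e : Dec (CD.gen R 8190) (CD.gen R 7788445287802241442795744493830144) (CD.wds R (List.map Prod.fst (l724 ++ (l726 ++ (l728 ++ (l730)))))) (CD.gen R 554597137599850363154807652352) := cov810.dec GT2_in696.gen_le (GC.wds_sub D_s5_409 chk811) GK_in457.gen_le fx497 (up_low D_ub GK_lb0 (by decide +kernel))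
theorem G_T2d : Dec (C1.gen R1 8190) (C1.gen R1 7788445287802241442795744493830144) (C1.wds R1 (List.map Prod.fst (l724 ++ (l726 ++ (l728 ++ (l730)))))) (C1.gen R1 554597137599850363154807652352) := GC.dec_map hD1 D_m0.top GT2_m0.top GK_m0.top D_s5_409.top chk811 G_T2e
theorem G_T2p : ∀ x ∈ DC1 (C1.gen R1 8190) (C1.el (R1 94)), x * C1.el (R1 92) ∈ DCs (C1.gen R1 8190) (C1.els R1 74276402357122816493947453440) := GC.dc_piece' G_T2d G_T2c G_Kc (forall_app (H_y1.dcRel G_I.top (G_I.get (i := 94) (by decide +kernel)).top (G_m1.get (i := 92) (by decide +kernel)).top chk725) (forall_app (H_y1.dcRel G_I.top (G_I.get (i := 94) (by decide +kernel)).top (G_m1.get (i := 92) (by decide +kernel)).top chk727) (forall_app (H_y1.dcRel G_I.top (G_I.get (i := 94) (by decide +kernel)).top (G_m1.get (i := 92) (by decide +kernel)).top chk729) (H_y1.dcRel G_I.top (G_I.get (i := 94) (by decide +kernel)).top (G_m1.get (i := 92) (by decide +kernel)).top chk731))))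
theorem G_T2u : Nat.card (CD.gen R 8190) ≤ 968750 * Nat.card (CD.gen R 7788445287802241442795744493830144) := up_low D_ub GT2_lb0 (by decide +kernel)
theorem G_T2n : (DC1 (C1.gen R1 8190) (C1.el (R1 94))).ncard ≤ Nat.card (C1.gen R1 8190) * 968750 := ncard_DC1_map _ H_map (GT2_m0.gen_map hD1) GT2_in696.gen_le G_T2c G_T2u
theorem GT3_in839 : CD.Mem R (CD.gen R 8190) 2326148992623602777581662355490603008 := D_s5_409.slp' chk838
theorem GT3_m0 : CD.Mem R (CD.gen R 2326148992623602777581662355490603008) 2326148992623602777581662355490603008 := GC.Mem.gen GT3_in839.top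
theorem pt840e : ∃ x, DL.Rep pt840c x := via_rep _ _ ((PP.exists_vec P7_ok (c := 0x4000400020001000000040002) (by decide +kernel)).elim fun x hx => ⟨_, x, hx, rfl⟩)
noncomputable def pt840 := Classical.choose pt840e
theorem pt840r : DL.Rep pt840c pt840 := Classical.choose_spec pt840e
theorem pt841e : ∃ x, DL.Rep pt841c x := via_rep _ _ ((PP.exists_vec P7_ok (c := 0x2000400020003000300010003) (by decide +kernel)).elim fun x hx => ⟨_, x, hx, rfl⟩)
noncomputable def pt841 := Classical.choose pt841e
theorem pt841r : DL.Rep pt841c pt841 := Classical.choose_spec pt841e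
theorem GT3_s0_844 : CD.Mem R (CD.gen R 2326148992623602777581662355490603008) 20935340933612424998234961199415427072 := GT3_m0.slp' chk843
theorem GT3_c0i : CD.Mem R (CD.gen R 2326148992623602777581662355490603008) 18609191940988822220653298843924824064 := GT3_s0_844.sub chk845
theorem GT3_c0m : CD.Mem R (CD.gen R 18609191940988822220653298843924824064) 18609191940988822220653298843924824064 := GT3_c0i.gen
theorem fx847 : CD.gen R 18609191940988822220653298843924824064 ≤ stabilizer _ pt840 := Act.fix_sound GT3_c0i.top pt840r chk846
theorem cov854 : Cov (CD.gen R 2326148992623602777581662355490603008) (CD.wds R [0]) pt840 144 := Act.cov_of_seen (Act.pieces_sound GT3_s0_844 GT3_s0_844.top pt840r chk852) chk853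
theorem GT3_c1i : CD.Mem R (CD.gen R 18609191940988822220653298843924824064) 0 := GT3_c0m.sub chk855
theorem GT3_c1m : CD.Mem R (CD.gen R 0) 0 := GT3_c1i.gen
theorem fx857 : CD.gen R 0 ≤ stabilizer _ pt841 := Act.fix_sound GT3_c1i.top pt841r chk856
theorem cov864 : Cov (CD.gen R 18609191940988822220653298843924824064) (CD.wds R [0]) pt841 20 := Act.cov_of_seen (Act.pieces_sound GT3_c0m GT3_c0m.top pt841r chk862) chk863
theorem GT3_lb2 : 1 ≤ Nat.card (CD.gen R 0) := Nat.card_pos
theorem GT3_lo1 : 20 * Nat.card (CD.gen R 0) ≤ Nat.card (CD.gen R 18609191940988822220653298843924824064) := cov864.low le_rfl (GC.wds_zero _) GT3_c1i.gen_le fx857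
theorem GT3_lb1 : 20 ≤ Nat.card (CD.gen R 18609191940988822220653298843924824064) := low_step GT3_lo1 GT3_lb2 (by decide +kernel)
theorem GT3_lo0 : 144 * Nat.card (CD.gen R 18609191940988822220653298843924824064) ≤ Nat.card (CD.gen R 2326148992623602777581662355490603008) := cov854.low le_rfl (GC.wds_zero _) GT3_c0i.gen_le fx847
theorem GT3_lb0 : 2880 ≤ Nat.card (CD.gen R 2326148992623602777581662355490603008) := low_step GT3_lo0 GT3_lb1 (by decide +kernel)
theorem G_T3c : ∀ τ ∈ (C1.gen R1 2326148992623602777581662355490603008), C1.el (R1 95) * τ * (C1.el (R1 95))⁻¹ ∈ (C1.gen R1 8190) := H_y1.conjA (G_I.get (i := 95) (by decide +kernel)).top (GT3_m0.map hD1).top chk866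
theorem cov968 : Cov (CD.gen R 2326148992623602777581662355490603008) (CD.wds R (List.map Prod.fst (l867 ++ (l869 ++ (l871 ++ (l873 ++ (l875 ++ (l877 ++ (l879 ++ (l881 ++ (l883 ++ (l885 ++ (l887))))))))))))) pt414 58590 := Act.cov_of_seen (forall_app (Act.pieces_sound GT3_s0_844 D_s5_409.top pt414r chk950) (forall_app (Act.pieces_sound GT3_s0_844 D_s5_409.top pt414r chk952) (forall_app (Act.pieces_sound GT3_s0_844 D_s5_409.top pt414r chk954) (forall_app (Act.pieces_sound GT3_s0_844 D_s5_409.top pt414r chk956) (forall_app (Act.pieces_sound GT3_s0_844 D_s5_409.top pt414r chk958) (forall_app (Act.pieces_sound GT3_s0_844 D_s5_409.top pt414r chk960) (forall_app (Act.pieces_sound GT3_s0_844 D_s5_409.top pt414r chk962) (forall_app (Act.pieces_sound GT3_s0_844 D_s5_409.top pt414r chk964) (Act.pieces_sound GT3_s0_844 D_s5_409.top pt414r chk966))))))))) chk967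
theorem G_T3e : Dec (CD.gen R 8190) (CD.gen R 2326148992623602777581662355490603008) (CD.wds R (List.map Prod.fst (l867 ++ (l869 ++ (l871 ++ (l873 ++ (l875 ++ (l877 ++ (l879 ++ (l881 ++ (l883 ++ (l885 ++ (l887))))))))))))) (CD.gen R 554597137599850363154807652352) := cov968.dec GT3_in839.gen_le (GC.wds_sub D_s5_409 chk969) GK_in457.gen_le fx497 (up_low D_ub GK_lb0 (by decide +kernel))
theorem G_T3d : Dec (C1.gen R1 8190) (C1.gen R1 2326148992623602777581662355490603008) (C1.wds R1 (List.map Prod.fst (l867 ++ (l869 ++ (l871 ++ (l873 ++ (l875 ++ (l877 ++ (l879 ++ (l881 ++ (l883 ++ (l885 ++ (l887))))))))))))) (C1.gen R1 554597137599850363154807652352) := GC.dec_map hD1 D_m0.top GT3_m0.top GK_m0.top D_s5_409.top chk969 G_T3e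
theorem G_T3p : ∀ x ∈ DC1 (C1.gen R1 8190) (C1.el (R1 95)), x * C1.el (R1 92) ∈ DCs (C1.gen R1 8190) (C1.els R1 74276402357122816493947453440) := GC.dc_piece' G_T3d G_T3c G_Kc (forall_app (H_y1.dcRel G_I.top (G_I.get (i := 95) (by decide +kernel)).top (G_m1.get (i := 92) (by decide +kernel)).top chk868) (forall_app (H_y1.dcRel G_I.top (G_I.get (i := 95) (by decide +kernel)).top (G_m1.get (i := 92) (by decide +kernel)).top chk870) (forall_app (H_y1.dcRel G_I.top (G_I.get (i := 95) (by decide +kernel)).top (G_m1.get (i := 92) (by decide +kernel)).top chk872) (forall_app (H_y1.dcRel G_I.top (G_I.get (i := 95) (by decide +kernel)).top (G_m1.get (i := 92) (by decide +kernel)).top chk874) (forall_app (H_y1.dcRel G_I.top (G_I.get (i := 95) (by decide +kernel)).top (G_m1.get (i := 92) (by decide +kernel)).top chk876) (forall_app (H_y1.dcRel G_I.top (G_I.get (i := 95) (by decide +kernel)).top (G_m1.get (i := 92) (by decide +kernel)).top chk878) (forall_app (H_y1.dcRel G_I.top (G_I.get (i := 95) (by decide +kernel)).top (G_m1.get (i := 92) (by decide +kernel)).top chk880) (forall_app (H_y1.dcRel G_I.top (G_I.get (i := 95) (by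 decide +kernel)).top (G_m1.get (i := 92) (by decide +kernel)).top chk882) (forall_app (H_y1.dcRel G_I.top (G_I.get (i := 95) (by decide +kernel)).top (G_m1.get (i := 92) (by decide +kernel)).top chk884) (forall_app (H_y1.dcRel G_I.top (G_I.get (i := 95) (by decide +kernel)).top (G_m1.get (i := 92) (by decide +kernel)).top chk886) (H_y1.dcRel G_I.top (G_I.get (i := 95) (by decide +kernel)).top (G_m1.get (i := 92) (by decide +kernel)).top chk888)))))))))))
theorem G_T3u : Nat.card (CD.gen R 8190) ≤ 2034375 * Nat.card (CD.gen R 2326148992623602777581662355490603008) := up_low D_ub GT3_lb0 (by decide +kernel)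
theorem G_T3n : (DC1 (C1.gen R1 8190) (C1.el (R1 95))).ncard ≤ Nat.card (C1.gen R1 8190) * 2034375 := ncard_DC1_map _ H_map (GT3_m0.gen_map hD1) GT3_in839.gen_le G_T3c G_T3u
theorem GT4_in972 : CD.Mem R (CD.gen R 8190) 63802943797675961899382738893456539648 := D_s5_409.slp' chk971
theorem GT4_m0 : CD.Mem R (CD.gen R 63802943797675961899382738893456539648) 63802943797675961899382738893456539648 := GC.Mem.gen GT4_in972.top
theorem pt973e : ∃ x, DL.Rep pt973c x := via_rep _ _ ((PP.exists_vec P7_ok (c := 0x2000100040001000300020001) (by decide +kernel)).elim fun x hx => ⟨_, x, hx, rfl⟩)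
noncomputable def pt973 := Classical.choose pt973e
theorem pt973r : DL.Rep pt973c pt973 := Classical.choose_spec pt973e
theorem pt974e : ∃ x, DL.Rep pt974c x := via_rep _ _ ((PP.exists_vec P7_ok (c := 0x2000400020003000300010003) (by decide +kernel)).elim fun x hx => ⟨_, x, hx, rfl⟩)
noncomputable def pt974 := Classical.choose pt974e
theorem pt974r : DL.Rep pt974c pt974 := Classical.choose_spec pt974e
theorem GT4_s0_977 : CD.Mem R (CD.gen R 63802943797675961899382738893456539648) 1393775307260231387692015931127558108610560 := GT4_m0.slp' chk976
theorem GT4_c0i : CD.Mem R (CD.gen R 63802943797675961899382738893456539648) 1393116010174322069419055642825659057700864 := GT4_s0_977.sub chk978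
theorem GT4_c0m : CD.Mem R (CD.gen R 1393116010174322069419055642825659057700864) 1393116010174322069419055642825659057700864 := GT4_c0i.gen
theorem fx980 : CD.gen R 1393116010174322069419055642825659057700864 ≤ stabilizer _ pt973 := Act.fix_sound GT4_c0i.top pt973r chk979
theorem cov987 : Cov (CD.gen R 63802943797675961899382738893456539648) (CD.wds R [0]) pt973 150 := Act.cov_of_seen (Act.pieces_sound GT4_s0_977 GT4_s0_977.top pt973r chk985) chk986
theorem GT4_c1i : CD.Mem R (CD.gen R 1393116010174322069419055642825659057700864) 0 := GT4_c0m.sub chk988
theorem GT4_c1m : CD.Mem R (CD.gen R 0) 0 := GT4_c1i.gen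
theorem fx990 : CD.gen R 0 ≤ stabilizer _ pt974 := Act.fix_sound GT4_c1i.top pt974r chk989
theorem cov999 : Cov (CD.gen R 1393116010174322069419055642825659057700864) (CD.wds R [0]) pt974 2000 := Act.cov_of_seen (Act.pieces_sound GT4_c0m GT4_c0m.top pt974r chk997) chk998
theorem GT4_lb2 : 1 ≤ Nat.card (CD.gen R 0) := Nat.card_pos
theorem GT4_lo1 : 2000 * Nat.card (CD.gen R 0) ≤ Nat.card (CD.gen R 1393116010174322069419055642825659057700864) := cov999.low le_rfl (GC.wds_zero _) GT4_c1i.gen_le fx990
theorem GT4_lb1 : 2000 ≤ Nat.card (CD.gen R 1393116010174322069419055642825659057700864) := low_step GT4_lo1 GT4_lb2 (by decide +kernel)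
theorem GT4_lo0 : 150 * Nat.card (CD.gen R 1393116010174322069419055642825659057700864) ≤ Nat.card (CD.gen R 63802943797675961899382738893456539648) := cov987.low le_rfl (GC.wds_zero _) GT4_c0i.gen_le fx980
theorem GT4_lb0 : 300000 ≤ Nat.card (CD.gen R 63802943797675961899382738893456539648) := low_step GT4_lo0 GT4_lb1 (by decide +kernel)
theorem G_T4c : ∀ τ ∈ (C1.gen R1 63802943797675961899382738893456539648), C1.el (R1 92) * τ * (C1.el (R1 92))⁻¹ ∈ (C1.gen R1 8190) := H_y1.conjA (G_I.get (i := 92) (by decide +kernel)).top (GT4_m0.map hD1).top chk1001
theorem cov1072 : Cov (CD.gen R 63802943797675961899382738893456539648) (CD.wds R (List.map Prod.fst (l1002 ++ (l1004)))) pt414 58590 := Act.cov_of_seen (forall_app (Act.pieces_sound GT4_s0_977 D_s5_409.top pt414r chk1060) (forall_app (Act.pieces_sound GT4_s0_977 D_s5_409.top pt414r chk1062) (forall_app (Act.pieces_sound GT4_s0_977 D_s5_409.top pt414r chk1064) (forall_app (Act.pieces_sound GT4_s0_977 D_s5_409.top pt414r chk1066) (forall_app (Act.pieces_sound GT4_s0_977 D_s5_409.top pt414r chk1068) (Act.pieces_sound GT4_s0_977 D_s5_409.top pt414r chk1070)))))) chk1071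
theorem G_T4e : Dec (CD.gen R 8190) (CD.gen R 63802943797675961899382738893456539648) (CD.wds R (List.map Prod.fst (l1002 ++ (l1004)))) (CD.gen R 554597137599850363154807652352) := cov1072.dec GT4_in972.gen_le (GC.wds_sub D_s5_409 chk1073) GK_in457.gen_le fx497 (up_low D_ub GK_lb0 (by decide +kernel))
theorem G_T4d : Dec (C1.gen R1 8190) (C1.gen R1 63802943797675961899382738893456539648) (C1.wds R1 (List.map Prod.fst (l1002 ++ (l1004)))) (C1.gen R1 554597137599850363154807652352) := GC.dec_map hD1 D_m0.top GT4_m0.top GK_m0.top D_s5_409.top chk1073 G_T4e
theorem G_T4p : ∀ x ∈ DC1 (C1.gen R1 8190) (C1.el (R1 92)), x * C1.el (R1 92) ∈ DCs (C1.gen R1 8190) (C1.els R1 74276402357122816493947453440) := GC.dc_piece' G_T4d G_T4c G_Kc (forall_app (H_y1.dcRel G_I.top (G_I.get (i := 92) (by decide +kernel)).top (G_m1.get (i := 92) (by decide +kernel)).top chk1003) (H_y1.dcRel G_I.top (G_I.get (i := 92) (by decide +kernel)).top (G_m1.get (i := 92) (by decide +kernel)).top chk1005))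
theorem G_T4u : Nat.card (CD.gen R 8190) ≤ 19530 * Nat.card (CD.gen R 63802943797675961899382738893456539648) := up_low D_ub GT4_lb0 (by decide +kernel)
theorem G_T4n : (DC1 (C1.gen R1 8190) (C1.el (R1 92))).ncard ≤ Nat.card (C1.gen R1 8190) * 19530 := ncard_DC1_map _ H_map (GT4_m0.gen_map hD1) GT4_in972.gen_le G_T4c G_T4u
theorem G_dc : ∀ x ∈ (C1.gen R1 4951760157141521099596505086), x ∈ DCs (C1.gen R1 8190) (C1.els R1 74276402357122816493947453440) := GC.dc_gen (MU := 4951760157141521099596496896) H_y1 (by decide +kernel) (GC.forall_els (L := [92]) (forall_cons ⟨H_y1.inDC' G_I.top (G_m1.get (i := 92) (by decide +kernel)).top chk1074, GC.forall_els (L := [93, 94, 95, 92]) (forall_cons G_T1p (forall_cons G_T2p (forall_cons G_T3p (forall_cons G_T4p forall_nil)))) (by decide +kernel)⟩ forall_nil) (by decide +kernel))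
theorem G_cs : ∀ p ∈ ([(93, 5812500), (94, 968750), (95, 2034375), (92, 19530)] : List (ℕ × ℕ)), (DC1 (C1.gen R1 8190) (C1.el (R1 p.1))).ncard ≤ Nat.card (C1.gen R1 8190) * p.2 := (forall_cons G_T1n (forall_cons G_T2n (forall_cons G_T3n (forall_cons G_T4n forall_nil))))
theorem G_ix : Nat.card (C1.gen R1 4951760157141521099596505086) ≤ 8835156 * Nat.card (C1.gen R1 8190) := GC.card_dc [(93, 5812500), (94, 968750), (95, 2034375), (92, 19530)] G_dc G_cs (by decide +kernel)
theorem G_ub : Nat.card (C1.gen R1 4951760157141521099596505086) ≤ 51765179004000000 := up_mul G_ix H_ub (by decide +kernel)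
theorem G_max : ∀ L, (C1.gen R1 8190) ≤ L → L ≤ (C1.gen R1 4951760157141521099596505086) → L = (C1.gen R1 8190) ∨ L = (C1.gen R1 4951760157141521099596505086) := maximal_of_DCs G_dc (H_y1.maxChk G_I.top (band_intro chk1076 chk1077) chk1078)
theorem pt1079e : ∃ x, DV.Rep pt1079c x := via_rep _ _ (PP.exists_vec P7_ok (c := 0x100020001) (by decide +kernel))
noncomputable def pt1079 := Classical.choose pt1079e
theorem pt1079r : DV.Rep pt1079c pt1079 := Classical.choose_spec pt1079e
theorem Su_in1087 : CD.Mem R (CD.gen R 8190) 4181389724724491839037947176121567782371328 := D_s5_409.slp' chk1086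
theorem Su_m0 : CD.Mem R (CD.gen R 4181389724724491839037947176121567782371328) 4181389724724491839037947176121567782371328 := GC.Mem.gen Su_in1087.top
theorem pt1088e : ∃ x, DV.Rep pt1088c x := via_rep _ _ (PP.exists_vec P7_ok (c := 0x4000200030004000400040004) (by decide +kernel))
noncomputable def pt1088 := Classical.choose pt1088e
theorem pt1088r : DV.Rep pt1088c pt1088 := Classical.choose_spec pt1088e
theorem pt1089e : ∃ x, DV.Rep pt1089c x := via_rep _ _ (PP.exists_vec P7_ok (c := 0x2000400020003000300010003) (by decide +kernel))
noncomputable def pt1089 := Classical.choose pt1089e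
theorem pt1089r : DV.Rep pt1089c pt1089 := Classical.choose_spec pt1089e
theorem Su_s0_1092 : CD.Mem R (CD.gen R 4181389724724491839037947176121567782371328) 1425853896131051717111939987057454613788622848 := Su_m0.slp' chk1091
theorem Su_c0i : CD.Mem R (CD.gen R 4181389724724491839037947176121567782371328) 1338044711911837388492143096358901690358824960 := Su_s0_1092.sub chk1093
theorem Su_c0m : CD.Mem R (CD.gen R 1338044711911837388492143096358901690358824960) 1338044711911837388492143096358901690358824960 := Su_c0i.gen
theorem fx1095 : CD.gen R 1338044711911837388492143096358901690358824960 ≤ stabilizer _ pt1088 := Act.fix_sound Su_c0i.top pt1088r chk1094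
theorem cov1104 : Cov (CD.gen R 4181389724724491839037947176121567782371328) (CD.wds R [0]) pt1088 3024 := Act.cov_of_seen (Act.pieces_sound Su_s0_1092 Su_s0_1092.top pt1088r chk1102) chk1103
theorem Su_c1i : CD.Mem R (CD.gen R 1338044711911837388492143096358901690358824960) 0 := Su_c0m.sub chk1105
theorem Su_c1m : CD.Mem R (CD.gen R 0) 0 := Su_c1i.gen
theorem fx1107 : CD.gen R 0 ≤ stabilizer _ pt1089 := Act.fix_sound Su_c1i.top pt1089r chk1106
theorem cov1114 : Cov (CD.gen R 1338044711911837388492143096358901690358824960) (CD.wds R [0]) pt1089 125 := Act.cov_of_seen (Act.pieces_sound Su_c0m Su_c0m.top pt1089r chk1112) chk1113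
theorem Su_lb2 : 1 ≤ Nat.card (CD.gen R 0) := Nat.card_pos
theorem Su_lo1 : 125 * Nat.card (CD.gen R 0) ≤ Nat.card (CD.gen R 1338044711911837388492143096358901690358824960) := cov1114.low le_rfl (GC.wds_zero _) Su_c1i.gen_le fx1107
theorem Su_lb1 : 125 ≤ Nat.card (CD.gen R 1338044711911837388492143096358901690358824960) := low_step Su_lo1 Su_lb2 (by decide +kernel)
theorem Su_lo0 : 3024 * Nat.card (CD.gen R 1338044711911837388492143096358901690358824960) ≤ Nat.card (CD.gen R 4181389724724491839037947176121567782371328) := cov1104.low le_rfl (GC.wds_zero _) Su_c0i.gen_le fx1095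
theorem Su_lb0 : 378000 ≤ Nat.card (CD.gen R 4181389724724491839037947176121567782371328) := low_step Su_lo0 Su_lb1 (by decide +kernel)
theorem cov1141 : Cov (CD.gen R 8190) (CD.wds R [0]) pt1079 15500 := Act.cov_of_seen (Act.pieces_sound D_s5_409 D_s5_409.top pt1079r chk1139) chk1140
theorem fx1143 : CD.gen R 4181389724724491839037947176121567782371328 ≤ stabilizer _ pt1079 := Act.fix_sound Su_in1087.top pt1079r chk1142
theorem Su_st : (CD.gen R 8190) ⊓ stabilizer _ pt1079 = (CD.gen R 4181389724724491839037947176121567782371328) ∧ (orbit (CD.gen R 8190) pt1079).ncard = 15500 := cov1141.stab le_rfl (GC.wds_zero _) Su_in1087.gen_le fx1143 (up_low D_ub Su_lb0 (by decide +kernel))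
theorem Su_ub : Nat.card (CD.gen R 4181389724724491839037947176121567782371328) ≤ 378000 := up_step (cov1141.low le_rfl (GC.wds_zero _) Su_in1087.gen_le fx1143) D_ub (by decide +kernel)
noncomputable def pt1196 := CD.wd R 91 • pt1079
theorem pt1196r : DV.Rep pt1196c pt1196 := Act.appW_ok D_s5_409 chk1197 pt1079r
theorem pt1196g : CD.wd R 91 ∈ (CD.gen R 8190) := D_s5_409.wd_mem chk1197
theorem fx1200 : CD.gen R 618970019642690137449562112 ≤ stabilizer _ pt1079 := Act.fix_sound (D_s5_409.sub (M' := 618970019642690137449562112) (by decide +kernel)).top pt1079r chk1199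
theorem fx1203 : CD.gen R 618970019642690137449562112 ≤ stabilizer _ pt1196 := Act.fix_sound (D_s5_409.sub (M' := 618970019642690137449562112) (by decide +kernel)).top pt1196r chk1202
theorem CDx : Nat.card ((CD.gen R 8190) ⊓ centralizer {CD.el (R 89)} : Subgroup _) ≤ 378000 := (card_le_of_le (cent_two Su_st (mem_of_gen1 fx1200 (x := 89) (by decide +kernel)) (Act.count_fix (Act.pieces_sound D_s5_409 D_s5_409.top pt1079r chk1168) chk1169 (D_s5_409.get (i := 89) (by decide +kernel)).top) (by decide +kernel) (Su_m0.top.commL (D_s5_409.get (i := 89) (by decide +kernel)).top chk1201) pt1196g (Act.ne_of pt1196r pt1079r chk1198) (mem_of_gen1 fx1203 (x := 89) (by decide +kernel)) (by simpa [GC.wd] using ((D_s5_409.get (i := 91) (by decide +kernel)).top.not_comm (D_s5_409.get (i := 89) (by decide +kernel)).top chk1204)))).trans Su_ub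
theorem pt1205e : ∃ x, DV.Rep pt1205c x := via_rep _ _ (PP.exists_vec P7_ok (c := 0x200000003) (by decide +kernel))
noncomputable def pt1205 := Classical.choose pt1205e
theorem pt1205r : DV.Rep pt1205c pt1205 := Classical.choose_spec pt1205e
theorem Su_s1_1208 : CD.Mem R (CD.gen R 4181389724724491839037947176121567782371328) 2853101588837011598170225956506949750171369472 := Su_s0_1092.slp' chk1207
theorem Sw_in1211 : CD.Mem R (CD.gen R 4181389724724491839037947176121567782371328) 8563486156235759286349715816696970818296479744 := Su_s1_1208.slp' chk1210
theorem Sw_m0 : CD.Mem R (CD.gen R 8563486156235759286349715816696970818296479744) 8563486156235759286349715816696970818296479744 := GC.Mem.gen Sw_in1211.top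
theorem pt1212e : ∃ x, DV.Rep pt1212c x := via_rep _ _ (PP.exists_vec P7_ok (c := 0x2000300040004000300030000) (by decide +kernel))
noncomputable def pt1212 := Classical.choose pt1212e
theorem pt1212r : DV.Rep pt1212c pt1212 := Classical.choose_spec pt1212e
theorem pt1213e : ∃ x, DV.Rep pt1213c x := via_rep _ _ (PP.exists_vec P7_ok (c := 0x2000400020003000300010003) (by decide +kernel))
noncomputable def pt1213 := Classical.choose pt1213e
theorem pt1213r : DV.Rep pt1213c pt1213 := Classical.choose_spec pt1213e
theorem Sw_s0_1216 : CD.Mem R (CD.gen R 8563486156235759286349715816696970818296479744) 19981467697883438334816003572292931909358452736 := Sw_m0.slp' chk1215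
theorem Sw_c0i : CD.Mem R (CD.gen R 8563486156235759286349715816696970818296479744) 11417981541647679048466287755595961091061972992 := Sw_s0_1216.sub chk1217
theorem Sw_c0m : CD.Mem R (CD.gen R 11417981541647679048466287755595961091061972992) 11417981541647679048466287755595961091061972992 := Sw_c0i.gen
theorem fx1219 : CD.gen R 11417981541647679048466287755595961091061972992 ≤ stabilizer _ pt1212 := Act.fix_sound Sw_c0i.top pt1212r chk1218
theorem cov1226 : Cov (CD.gen R 8563486156235759286349715816696970818296479744) (CD.wds R [0]) pt1212 24 := Act.cov_of_seen (Act.pieces_sound Sw_s0_1216 Sw_s0_1216.top pt1212r chk1224) chk1225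
theorem Sw_c1i : CD.Mem R (CD.gen R 11417981541647679048466287755595961091061972992) 0 := Sw_c0m.sub chk1227
theorem Sw_c1m : CD.Mem R (CD.gen R 0) 0 := Sw_c1i.gen
theorem fx1229 : CD.gen R 0 ≤ stabilizer _ pt1213 := Act.fix_sound Sw_c1i.top pt1213r chk1228
theorem cov1236 : Cov (CD.gen R 11417981541647679048466287755595961091061972992) (CD.wds R [0]) pt1213 5 := Act.cov_of_seen (Act.pieces_sound Sw_c0m Sw_c0m.top pt1213r chk1234) chk1235
theorem Sw_lb2 : 1 ≤ Nat.card (CD.gen R 0) := Nat.card_pos
theorem Sw_lo1 : 5 * Nat.card (CD.gen R 0) ≤ Nat.card (CD.gen R 11417981541647679048466287755595961091061972992) := cov1236.low le_rfl (GC.wds_zero _) Sw_c1i.gen_le fx1229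
theorem Sw_lb1 : 5 ≤ Nat.card (CD.gen R 11417981541647679048466287755595961091061972992) := low_step Sw_lo1 Sw_lb2 (by decide +kernel)
theorem Sw_lo0 : 24 * Nat.card (CD.gen R 11417981541647679048466287755595961091061972992) ≤ Nat.card (CD.gen R 8563486156235759286349715816696970818296479744) := cov1226.low le_rfl (GC.wds_zero _) Sw_c0i.gen_le fx1219
theorem Sw_lb0 : 120 ≤ Nat.card (CD.gen R 8563486156235759286349715816696970818296479744) := low_step Sw_lo0 Sw_lb1 (by decide +kernel)
theorem cov1245 : Cov (CD.gen R 4181389724724491839037947176121567782371328) (CD.wds R [0]) pt1205 3150 := Act.cov_of_seen (Act.pieces_sound Su_s1_1208 Su_s1_1208.top pt1205r chk1243) chk1244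
theorem fx1247 : CD.gen R 8563486156235759286349715816696970818296479744 ≤ stabilizer _ pt1205 := Act.fix_sound Sw_in1211.top pt1205r chk1246
theorem Sw_st : (CD.gen R 4181389724724491839037947176121567782371328) ⊓ stabilizer _ pt1205 = (CD.gen R 8563486156235759286349715816696970818296479744) ∧ (orbit (CD.gen R 4181389724724491839037947176121567782371328) pt1205).ncard = 3150 := cov1245.stab le_rfl (GC.wds_zero _) Sw_in1211.gen_le fx1247 (up_low Su_ub Sw_lb0 (by decide +kernel))
theorem Sw_ub : Nat.card (CD.gen R 8563486156235759286349715816696970818296479744) ≤ 120 := up_step (cov1245.low le_rfl (GC.wds_zero _) Sw_in1211.gen_le fx1247) Su_ub (by decide +kernel)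
theorem fx1257 : CD.gen R 1237940039285380274899124224 ≤ stabilizer _ pt1079 := Act.fix_sound (D_s5_409.sub (M' := 1237940039285380274899124224) (by decide +kernel)).top pt1079r chk1256
theorem fx1259 : CD.gen R 1237940039285380274899124224 ≤ stabilizer _ pt1205 := Act.fix_sound (D_s5_409.sub (M' := 1237940039285380274899124224) (by decide +kernel)).top pt1205r chk1258
theorem CDz : Nat.card ((CD.gen R 8190) ⊓ centralizer {CD.el (R 90)} : Subgroup _) ≤ 14400 := up_mul (cent_fix Su_st (mem_of_gen1 fx1257 (x := 90) (by decide +kernel)) (Act.count_fix (Act.pieces_sound D_s5_409 D_s5_409.top pt1079r chk1194) chk1195 (D_s5_409.get (i := 90) (by decide +kernel)).top) (k := 20) (by decide +kernel)) (up_mul (cent_fix Sw_st (mem_of_gen1 fx1259 (x := 90) (by decide +kernel)) (Act.count_fix (Act.pieces_sound Su_s1_1208 Su_s1_1208.top pt1205r chk1254) chk1255 (D_s5_409.get (i := 90) (by decide +kernel)).top) (k := 6) (by decide +kernel)) ((card_le_of_le inf_le_left).trans Sw_ub) (n := 720) (by decide +kernel)) (by decide +kernel)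
theorem ex : C1.el (R1 89) = MonoidHom.fst _ _ (CD.el (R 89)) := (D_s5_409.get (i := 89) (by decide +kernel)).el_map hD1
theorem CHx : Nat.card ((C1.gen R1 8190) ⊓ centralizer {C1.el (R1 89)} : Subgroup _) ≤ 378000 := by
  rw [ex, H_map]; exact (cent_map _ (H_map ▸ H_inj) (D_s5_409.get (i := 89) (by decide +kernel)).el_mem).trans CDx
theorem ez : C1.el (R1 90) = MonoidHom.fst _ _ (CD.el (R 90)) := (D_s5_409.get (i := 90) (by decide +kernel)).el_map hD1
theorem CHz : Nat.card ((C1.gen R1 8190) ⊓ centralizer {C1.el (R1 90)} : Subgroup _) ≤ 14400 := by
  rw [ez, H_map]; exact (cent_map _ (H_map ▸ H_inj) (D_s5_409.get (i := 90) (by decide +kernel)).el_mem).trans CDz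
theorem Q0_m0 : CA.Mem R (CA.gen R 0) 0 := GC.Mem.gen (GC.Mem.zero ⊤)
theorem val1262 : C1.Mem R1 ⊤ 46745216431505598024420982071409864706807717429248 := MC.mem_units (PP.mc P_ok) (PP.canF_sound P_ok) chk1261
theorem val1285 : CP.Mem R2 ⊤ 46745216431505598024420982071409864706807717429248 := (GC.Mem.ins' pm1283 chk1284 (GC.Mem.ins' pm1281 chk1282 (GC.Mem.ins' pm1279 chk1280 (GC.Mem.ins' pm1277 chk1278 (GC.Mem.ins' pm1275 chk1276 (GC.Mem.ins' pm1273 chk1274 (GC.Mem.ins' pm1271 chk1272 (GC.Mem.ins' pm1269 chk1270 (GC.Mem.ins' pm1267 chk1268 (GC.Mem.ins' pm1265 chk1266 (GC.Mem.ins' pm1263 chk1264 (GC.Mem.zero ⊤)))))))))))).sub (by decide +kernel)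
theorem vA : CA.Mem R ⊤ 46745216431505598024420982071409864706807717429248 := (GC.mem_prod val1262 val1285).top
theorem Q1_m0 : CA.Mem R (CA.gen R 2923003274661805836407369665432566039311865085952) 2923003274661805836407369665432566039311865085952 := GC.Mem.gen (vA.sub chk1286)
theorem Q1_dvd : Nat.card (CA.gen R 2923003274661805836407369665432566039311865085952) ∣ 2 := GC.card_ins (dvd_step (Q0_m0.pc (m := 2) (w := 0) (vA.get (i := 161) (by decide +kernel)) Q0_m0.top chk1288 chk1289) GC.card_gen_zero (n := 2) (by decide +kernel)) (by decide +kernel)
theorem Q2_m0 : CA.Mem R (CA.gen R 8769009823985417509222108996297698117935595257856) 8769009823985417509222108996297698117935595257856 := GC.Mem.gen (vA.sub chk1290)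
theorem Q2_dvd : Nat.card (CA.gen R 8769009823985417509222108996297698117935595257856) ∣ 4 := GC.card_ins (dvd_step (Q1_m0.pc (m := 2) (w := 161) (vA.get (i := 162) (by decide +kernel)) Q1_m0.top chk1292 chk1293) Q1_dvd (n := 4) (by decide +kernel)) (by decide +kernel)
theorem Q3_m0 : CA.Mem R (CA.gen R 20461022922632640854851587658027962275183055601664) 20461022922632640854851587658027962275183055601664 := GC.Mem.gen (vA.sub chk1294)
theorem Q3_dvd : Nat.card (CA.gen R 20461022922632640854851587658027962275183055601664) ∣ 8 := GC.card_ins (dvd_step (Q2_m0.pc (m := 2) (w := 161) (vA.get (i := 163) (by decide +kernel)) Q2_m0.top chk1296 chk1297) Q2_dvd (n := 8) (by decide +kernel)) (by decide +kernel)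
theorem Q4_m0 : CA.Mem R (CA.gen R 43845049119927087546110544981488490589677976289280) 43845049119927087546110544981488490589677976289280 := GC.Mem.gen (vA.sub chk1298)
theorem Q4_dvd : Nat.card (CA.gen R 43845049119927087546110544981488490589677976289280) ∣ 24 := GC.card_ins (dvd_step (Q3_m0.pc (m := 3) (w := 0) (vA.get (i := 164) (by decide +kernel)) Q3_m0.top chk1300 chk1301) Q3_dvd (n := 24) (by decide +kernel)) (by decide +kernel)
theorem Q4_ub : Nat.card (CA.gen R 43845049119927087546110544981488490589677976289280) ≤ 24 := le_of_dvd' Q4_dvd (by decide +kernel)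
theorem pt1303e : ∃ x, AP.Rep pt1303c x := via_rep _ _ (via_rep _ _ (act2_rep (n := 11) (d := 4) (by decide) (by decide) (c := 0x80) (by decide +kernel)))
noncomputable def pt1303 := Classical.choose pt1303e
theorem pt1303r : AP.Rep pt1303c pt1303 := Classical.choose_spec pt1303e
theorem A6_m0 : CA.Mem R (CA.gen R 45306550757257990464314229814204773609333908832256) 45306550757257990464314229814204773609333908832256 := GC.Mem.gen (vA.sub chk1302)
theorem A6_I : CA.Mem R (CA.gen R 45306550757257990464314229814204773609333908832256) 1461501637330902918203684832716283019655932542976 := A6_m0.sub chk1304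
theorem A6K_in1311 : CA.Mem R (CA.gen R 43845049119927087546110544981488490589677976289280) 46768052394588893382517914646921056628989841375232 := Q4_m0.slp' chk1310
theorem A6K_m0 : CA.Mem R (CA.gen R 46768052394588893382517914646921056628989841375232) 46768052394588893382517914646921056628989841375232 := GC.Mem.gen A6K_in1311.top
theorem pt1312e : ∃ x, AP.Rep pt1312c x := via_rep _ _ (via_rep _ _ (act2_rep (n := 11) (d := 4) (by decide) (by decide) (c := 0x100) (by decide +kernel)))
noncomputable def pt1312 := Classical.choose pt1312e
theorem pt1312r : AP.Rep pt1312c pt1312 := Classical.choose_spec pt1312e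
theorem pt1313e : ∃ x, AV.Rep pt1313c x := via_rep _ _ (PP.exists_vec P_ok (c := 0x400010004000300000004000400020003000200040002000400030001000400040001000000010004000100010003000400040004000200000003000000030002000300040001000000040003000000020004000200010003000300010003000000040003000400030004000200020001000400030004000200000002000100000004000300000002000300010001000200010004000300030001000400000003000100030000000400000000000000020000000400010002000300000004000300030000000300000001000300030003000300000002000000040001) (by decide +kernel))
noncomputable def pt1313 := Classical.choose pt1313e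
theorem pt1313r : AV.Rep pt1313c pt1313 := Classical.choose_spec pt1313e
theorem A6K_s0_1316 : CA.Mem R (CA.gen R 46768052394588893382517914646921056628989841375232) 140304157183766680147553743940763169886969524125696 := A6K_m0.slp' chk1315
theorem A6K_c0i : CA.Mem R (CA.gen R 46768052394588893382517914646921056628989841375232) 93536104789177786765035829293842113257979682750464 := A6K_s0_1316.sub chk1317
theorem A6K_c0m : CA.Mem R (CA.gen R 93536104789177786765035829293842113257979682750464) 93536104789177786765035829293842113257979682750464 := A6K_c0i.gen
theorem fx1319 : CA.gen R 93536104789177786765035829293842113257979682750464 ≤ stabilizer _ pt1312 := Act.fix_sound A6K_c0i.top pt1312r chk1318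
theorem cov1326 : Cov (CA.gen R 46768052394588893382517914646921056628989841375232) (CA.wds R [0]) pt1312 3 := Act.cov_of_seen (Act.pieces_sound A6K_s0_1316 A6K_s0_1316.top pt1312r chk1324) chk1325
theorem A6K_c1i : CA.Mem R (CA.gen R 93536104789177786765035829293842113257979682750464) 0 := A6K_c0m.sub chk1327
theorem A6K_c1m : CA.Mem R (CA.gen R 0) 0 := A6K_c1i.gen
theorem fx1329 : CA.gen R 0 ≤ stabilizer _ pt1313 := Act.fix_sound A6K_c1i.top pt1313r chk1328
theorem cov1336 : Cov (CA.gen R 93536104789177786765035829293842113257979682750464) (CA.wds R [0]) pt1313 2 := Act.cov_of_seen (Act.pieces_sound A6K_c0m A6K_c0m.top pt1313r chk1334) chk1335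
theorem A6K_lb2 : 1 ≤ Nat.card (CA.gen R 0) := Nat.card_pos
theorem A6K_lo1 : 2 * Nat.card (CA.gen R 0) ≤ Nat.card (CA.gen R 93536104789177786765035829293842113257979682750464) := cov1336.low le_rfl (GC.wds_zero _) A6K_c1i.gen_le fx1329
theorem A6K_lb1 : 2 ≤ Nat.card (CA.gen R 93536104789177786765035829293842113257979682750464) := low_step A6K_lo1 A6K_lb2 (by decide +kernel)
theorem A6K_lo0 : 3 * Nat.card (CA.gen R 93536104789177786765035829293842113257979682750464) ≤ Nat.card (CA.gen R 46768052394588893382517914646921056628989841375232) := cov1326.low le_rfl (GC.wds_zero _) A6K_c0i.gen_le fx1319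
theorem A6K_lb0 : 6 ≤ Nat.card (CA.gen R 46768052394588893382517914646921056628989841375232) := low_step A6K_lo0 A6K_lb1 (by decide +kernel)
theorem fx1340 : CA.gen R 46768052394588893382517914646921056628989841375232 ≤ stabilizer _ pt1303 := Act.fix_sound A6K_in1311.top pt1303r chk1339
theorem A6_Kc : ∀ κ ∈ (CA.gen R 46768052394588893382517914646921056628989841375232), (CA.el (R 160))⁻¹ * κ * CA.el (R 160) ∈ (CA.gen R 43845049119927087546110544981488490589677976289280) := Q4_m0.conjB (A6_m0.get (i := 160) (by decide +kernel)).top A6K_in1311.top chk1338
theorem A6T1_in1347 : CA.Mem R (CA.gen R 43845049119927087546110544981488490589677976289280) 187072209578355573530071658587684226515959365500928 := Q4_m0.slp' chk1346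
theorem A6T1_m0 : CA.Mem R (CA.gen R 187072209578355573530071658587684226515959365500928) 187072209578355573530071658587684226515959365500928 := GC.Mem.gen A6T1_in1347.top
theorem pt1348e : ∃ x, AP.Rep pt1348c x := via_rep _ _ (via_rep _ _ (act2_rep (n := 11) (d := 4) (by decide) (by decide) (c := 0x80) (by decide +kernel)))
noncomputable def pt1348 := Classical.choose pt1348e
theorem pt1348r : AP.Rep pt1348c pt1348 := Classical.choose_spec pt1348e
theorem pt1349e : ∃ x, AV.Rep pt1349c x := via_rep _ _ (PP.exists_vec P_ok (c := 0x400010004000300000004000400020003000200040002000400030001000400040001000000010004000100010003000400040004000200000003000000030002000300040001000000040003000000020004000200010003000300010003000000040003000400030004000200020001000400030004000200000002000100000004000300000002000300010001000200010004000300030001000400000003000100030000000400000000000000020000000400010002000300000004000300030000000300000001000300030003000300000002000000040001) (by decide +kernel))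
noncomputable def pt1349 := Classical.choose pt1349e
theorem pt1349r : AV.Rep pt1349c pt1349 := Classical.choose_spec pt1349e
theorem A6T1_s0_1352 : CA.Mem R (CA.gen R 187072209578355573530071658587684226515959365500928) 561216628735066720590214975763052679547878096502784 := A6T1_m0.slp' chk1351
theorem A6T1_c0i : CA.Mem R (CA.gen R 187072209578355573530071658587684226515959365500928) 374144419156711147060143317175368453031918731001856 := A6T1_s0_1352.sub chk1353
theorem A6T1_c0m : CA.Mem R (CA.gen R 374144419156711147060143317175368453031918731001856) 374144419156711147060143317175368453031918731001856 := A6T1_c0i.gen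
theorem fx1355 : CA.gen R 374144419156711147060143317175368453031918731001856 ≤ stabilizer _ pt1348 := Act.fix_sound A6T1_c0i.top pt1348r chk1354
theorem cov1362 : Cov (CA.gen R 187072209578355573530071658587684226515959365500928) (CA.wds R [0]) pt1348 3 := Act.cov_of_seen (Act.pieces_sound A6T1_s0_1352 A6T1_s0_1352.top pt1348r chk1360) chk1361
theorem A6T1_c1i : CA.Mem R (CA.gen R 374144419156711147060143317175368453031918731001856) 0 := A6T1_c0m.sub chk1363
theorem A6T1_c1m : CA.Mem R (CA.gen R 0) 0 := A6T1_c1i.gen
theorem fx1365 : CA.gen R 0 ≤ stabilizer _ pt1349 := Act.fix_sound A6T1_c1i.top pt1349r chk1364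
theorem cov1372 : Cov (CA.gen R 374144419156711147060143317175368453031918731001856) (CA.wds R [0]) pt1349 2 := Act.cov_of_seen (Act.pieces_sound A6T1_c0m A6T1_c0m.top pt1349r chk1370) chk1371
theorem A6T1_lb2 : 1 ≤ Nat.card (CA.gen R 0) := Nat.card_pos
theorem A6T1_lo1 : 2 * Nat.card (CA.gen R 0) ≤ Nat.card (CA.gen R 374144419156711147060143317175368453031918731001856) := cov1372.low le_rfl (GC.wds_zero _) A6T1_c1i.gen_le fx1365
theorem A6T1_lb1 : 2 ≤ Nat.card (CA.gen R 374144419156711147060143317175368453031918731001856) := low_step A6T1_lo1 A6T1_lb2 (by decide +kernel)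
theorem A6T1_lo0 : 3 * Nat.card (CA.gen R 374144419156711147060143317175368453031918731001856) ≤ Nat.card (CA.gen R 187072209578355573530071658587684226515959365500928) := cov1362.low le_rfl (GC.wds_zero _) A6T1_c0i.gen_le fx1355
theorem A6T1_lb0 : 6 ≤ Nat.card (CA.gen R 187072209578355573530071658587684226515959365500928) := low_step A6T1_lo0 A6T1_lb1 (by decide +kernel)
theorem A6_T1c : ∀ τ ∈ (CA.gen R 187072209578355573530071658587684226515959365500928), CA.el (R 160) * τ * (CA.el (R 160))⁻¹ ∈ (CA.gen R 43845049119927087546110544981488490589677976289280) := Q4_m0.conjA (A6_I.get (i := 160) (by decide +kernel)).top A6T1_in1347.top chk1374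
theorem cov1383 : Cov (CA.gen R 187072209578355573530071658587684226515959365500928) (CA.wds R (List.map Prod.fst (l1375))) pt1303 4 := Act.cov_of_seen (Act.pieces_sound A6T1_s0_1352 Q4_m0.top pt1303r chk1381) chk1382
theorem A6_T1d : Dec (CA.gen R 43845049119927087546110544981488490589677976289280) (CA.gen R 187072209578355573530071658587684226515959365500928) (CA.wds R (List.map Prod.fst (l1375))) (CA.gen R 46768052394588893382517914646921056628989841375232) := cov1383.dec A6T1_in1347.gen_le (GC.wds_sub Q4_m0 chk1384) A6K_in1311.gen_le fx1340 (up_low Q4_ub A6K_lb0 (by decide +kernel))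
theorem A6_T1p : ∀ x ∈ DC1 (CA.gen R 43845049119927087546110544981488490589677976289280) (CA.el (R 160)), x * CA.el (R 160) ∈ DCs (CA.gen R 43845049119927087546110544981488490589677976289280) (CA.els R 1461501637330902918203684832716283019655932542976) := GC.dc_piece' A6_T1d A6_T1c A6_Kc (Q4_m0.dcRel A6_I.top (A6_I.get (i := 160) (by decide +kernel)).top (A6_m0.get (i := 160) (by decide +kernel)).top chk1376)
theorem A6_T1u : Nat.card (CA.gen R 43845049119927087546110544981488490589677976289280) ≤ 4 * Nat.card (CA.gen R 187072209578355573530071658587684226515959365500928) := up_low Q4_ub A6T1_lb0 (by decide +kernel)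
theorem A6_T1n : (DC1 (CA.gen R 43845049119927087546110544981488490589677976289280) (CA.el (R 160))).ncard ≤ Nat.card (CA.gen R 43845049119927087546110544981488490589677976289280) * 4 := ncard_DC1 A6T1_in1347.gen_le A6_T1c A6_T1u
theorem A6_dc : ∀ x ∈ (CA.gen R 45306550757257990464314229814204773609333908832256), x ∈ DCs (CA.gen R 43845049119927087546110544981488490589677976289280) (CA.els R 1461501637330902918203684832716283019655932542976) := GC.dc_gen (MU := 1461501637330902918203684832716283019655932542976) Q4_m0 (by decide +kernel) (GC.forall_els (L := [160]) (forall_cons ⟨Q4_m0.inDC' A6_I.top (A6_m0.get (i := 160) (by decide +kernel)).top chk1385, GC.forall_els (L := [160]) (forall_cons A6_T1p forall_nil) (by decide +kernel)⟩ forall_nil) (by decide +kernel))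
theorem A6_cs : ∀ p ∈ ([(160, 4)] : List (ℕ × ℕ)), (DC1 (CA.gen R 43845049119927087546110544981488490589677976289280) (CA.el (R p.1))).ncard ≤ Nat.card (CA.gen R 43845049119927087546110544981488490589677976289280) * p.2 := (forall_cons A6_T1n forall_nil)
theorem A6_ix : Nat.card (CA.gen R 45306550757257990464314229814204773609333908832256) ≤ 5 * Nat.card (CA.gen R 43845049119927087546110544981488490589677976289280) := GC.card_dc [(160, 4)] A6_dc A6_cs (by decide +kernel)
theorem A6_ub : Nat.card (CA.gen R 45306550757257990464314229814204773609333908832256) ≤ 120 := up_mul A6_ix Q4_ub (by decide +kernel)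
theorem pt1387e : ∃ x, AP.Rep pt1387c x := via_rep _ _ (via_rep _ _ (act2_rep (n := 11) (d := 4) (by decide) (by decide) (c := 0x40) (by decide +kernel)))
noncomputable def pt1387 := Classical.choose pt1387e
theorem pt1387r : AP.Rep pt1387c pt1387 := Classical.choose_spec pt1387e
theorem A5_m0 : CA.Mem R (CA.gen R 46037301575923441923416072230562915119161875103744) 46037301575923441923416072230562915119161875103744 := GC.Mem.gen (vA.sub chk1386)
theorem A5_I : CA.Mem R (CA.gen R 46037301575923441923416072230562915119161875103744) 730750818665451459101842416358141509827966271488 := A5_m0.sub chk1388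
theorem A5K_in1407 : CA.Mem R (CA.gen R 45306550757257990464314229814204773609333908832256) 2244866514940266882360859903052210718191512386011136 := A6_m0.slp' chk1406
theorem A5K_m0 : CA.Mem R (CA.gen R 2244866514940266882360859903052210718191512386011136) 2244866514940266882360859903052210718191512386011136 := GC.Mem.gen A5K_in1407.top
theorem pt1408e : ∃ x, AP.Rep pt1408c x := via_rep _ _ (via_rep _ _ (act2_rep (n := 11) (d := 4) (by decide) (by decide) (c := 0x100) (by decide +kernel)))
noncomputable def pt1408 := Classical.choose pt1408e
theorem pt1408r : AP.Rep pt1408c pt1408 := Classical.choose_spec pt1408e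
theorem pt1409e : ∃ x, AP.Rep pt1409c x := via_rep _ _ (via_rep _ _ (act2_rep (n := 11) (d := 4) (by decide) (by decide) (c := 0x80) (by decide +kernel)))
noncomputable def pt1409 := Classical.choose pt1409e
theorem pt1409r : AP.Rep pt1409c pt1409 := Classical.choose_spec pt1409e
theorem pt1410e : ∃ x, AV.Rep pt1410c x := via_rep _ _ (PP.exists_vec P_ok (c := 0x400010004000300000004000400020003000200040002000400030001000400040001000000010004000100010003000400040004000200000003000000030002000300040001000000040003000000020004000200010003000300010003000000040003000400030004000200020001000400030004000200000002000100000004000300000002000300010001000200010004000300030001000400000003000100030000000400000000000000020000000400010002000300000004000300030000000300000001000300030003000300000002000000040001) (by decide +kernel))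
noncomputable def pt1410 := Classical.choose pt1410e
theorem pt1410r : AV.Rep pt1410c pt1410 := Classical.choose_spec pt1410e
theorem A5K_s0_1413 : CA.Mem R (CA.gen R 2244866514940266882360859903052210718191512386011136) 11224332574701334411804299515261053590957561930055680 := A5K_m0.slp' chk1412
theorem A5K_c0i : CA.Mem R (CA.gen R 2244866514940266882360859903052210718191512386011136) 8979466059761067529443439612208842872766049544044544 := A5K_s0_1413.sub chk1414
theorem A5K_c0m : CA.Mem R (CA.gen R 8979466059761067529443439612208842872766049544044544) 8979466059761067529443439612208842872766049544044544 := A5K_c0i.gen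
theorem fx1416 : CA.gen R 8979466059761067529443439612208842872766049544044544 ≤ stabilizer _ pt1408 := Act.fix_sound A5K_c0i.top pt1408r chk1415
theorem cov1423 : Cov (CA.gen R 2244866514940266882360859903052210718191512386011136) (CA.wds R [0]) pt1408 4 := Act.cov_of_seen (Act.pieces_sound A5K_s0_1413 A5K_s0_1413.top pt1408r chk1421) chk1422
theorem A5K_c1i : CA.Mem R (CA.gen R 8979466059761067529443439612208842872766049544044544) 5986310706507378352962293074805895248510699696029696 := A5K_c0m.sub chk1424
theorem A5K_c1m : CA.Mem R (CA.gen R 5986310706507378352962293074805895248510699696029696) 5986310706507378352962293074805895248510699696029696 := A5K_c1i.gen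
theorem fx1426 : CA.gen R 5986310706507378352962293074805895248510699696029696 ≤ stabilizer _ pt1409 := Act.fix_sound A5K_c1i.top pt1409r chk1425
theorem cov1433 : Cov (CA.gen R 8979466059761067529443439612208842872766049544044544) (CA.wds R [0]) pt1409 3 := Act.cov_of_seen (Act.pieces_sound A5K_c0m A5K_c0m.top pt1409r chk1431) chk1432
theorem A5K_c2i : CA.Mem R (CA.gen R 5986310706507378352962293074805895248510699696029696) 0 := A5K_c1m.sub chk1434
theorem A5K_c2m : CA.Mem R (CA.gen R 0) 0 := A5K_c2i.gen
theorem fx1436 : CA.gen R 0 ≤ stabilizer _ pt1410 := Act.fix_sound A5K_c2i.top pt1410r chk1435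
theorem cov1443 : Cov (CA.gen R 5986310706507378352962293074805895248510699696029696) (CA.wds R [0]) pt1410 2 := Act.cov_of_seen (Act.pieces_sound A5K_c1m A5K_c1m.top pt1410r chk1441) chk1442
theorem A5K_lb3 : 1 ≤ Nat.card (CA.gen R 0) := Nat.card_pos
theorem A5K_lo2 : 2 * Nat.card (CA.gen R 0) ≤ Nat.card (CA.gen R 5986310706507378352962293074805895248510699696029696) := cov1443.low le_rfl (GC.wds_zero _) A5K_c2i.gen_le fx1436
theorem A5K_lb2 : 2 ≤ Nat.card (CA.gen R 5986310706507378352962293074805895248510699696029696) := low_step A5K_lo2 A5K_lb3 (by decide +kernel)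
theorem A5K_lo1 : 3 * Nat.card (CA.gen R 5986310706507378352962293074805895248510699696029696) ≤ Nat.card (CA.gen R 8979466059761067529443439612208842872766049544044544) := cov1433.low le_rfl (GC.wds_zero _) A5K_c1i.gen_le fx1426
theorem A5K_lb1 : 6 ≤ Nat.card (CA.gen R 8979466059761067529443439612208842872766049544044544) := low_step A5K_lo1 A5K_lb2 (by decide +kernel)
theorem A5K_lo0 : 4 * Nat.card (CA.gen R 8979466059761067529443439612208842872766049544044544) ≤ Nat.card (CA.gen R 2244866514940266882360859903052210718191512386011136) := cov1423.low le_rfl (GC.wds_zero _) A5K_c0i.gen_le fx1416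
theorem A5K_lb0 : 24 ≤ Nat.card (CA.gen R 2244866514940266882360859903052210718191512386011136) := low_step A5K_lo0 A5K_lb1 (by decide +kernel)
theorem fx1447 : CA.gen R 2244866514940266882360859903052210718191512386011136 ≤ stabilizer _ pt1387 := Act.fix_sound A5K_in1407.top pt1387r chk1446
theorem A5_Kc : ∀ κ ∈ (CA.gen R 2244866514940266882360859903052210718191512386011136), (CA.el (R 159))⁻¹ * κ * CA.el (R 159) ∈ (CA.gen R 45306550757257990464314229814204773609333908832256) := A6_m0.conjB (A5_m0.get (i := 159) (by decide +kernel)).top A5K_in1407.top chk1445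
theorem A5T1_in1466 : CA.Mem R (CA.gen R 45306550757257990464314229814204773609333908832256) 35917864239044270117773758448835371491064198176178176 := A6_m0.slp' chk1465
theorem A5T1_m0 : CA.Mem R (CA.gen R 35917864239044270117773758448835371491064198176178176) 35917864239044270117773758448835371491064198176178176 := GC.Mem.gen A5T1_in1466.top
theorem pt1467e : ∃ x, AP.Rep pt1467c x := via_rep _ _ (via_rep _ _ (act2_rep (n := 11) (d := 4) (by decide) (by decide) (c := 0x100) (by decide +kernel)))
noncomputable def pt1467 := Classical.choose pt1467e
theorem pt1467r : AP.Rep pt1467c pt1467 := Classical.choose_spec pt1467e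
theorem pt1468e : ∃ x, AP.Rep pt1468c x := via_rep _ _ (via_rep _ _ (act2_rep (n := 11) (d := 4) (by decide) (by decide) (c := 0x80) (by decide +kernel)))
noncomputable def pt1468 := Classical.choose pt1468e
theorem pt1468r : AP.Rep pt1468c pt1468 := Classical.choose_spec pt1468e
theorem pt1469e : ∃ x, AV.Rep pt1469c x := via_rep _ _ (PP.exists_vec P_ok (c := 0x400010004000300000004000400020003000200040002000400030001000400040001000000010004000100010003000400040004000200000003000000030002000300040001000000040003000000020004000200010003000300010003000000040003000400030004000200020001000400030004000200000002000100000004000300000002000300010001000200010004000300030001000400000003000100030000000400000000000000020000000400010002000300000004000300030000000300000001000300030003000300000002000000040001) (by decide +kernel))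
noncomputable def pt1469 := Classical.choose pt1469e
theorem pt1469r : AV.Rep pt1469c pt1469 := Classical.choose_spec pt1469e
theorem A5T1_s0_1472 : CA.Mem R (CA.gen R 35917864239044270117773758448835371491064198176178176) 179589321195221350588868792244176857455320990880890880 := A5T1_m0.slp' chk1471
theorem A5T1_c0i : CA.Mem R (CA.gen R 35917864239044270117773758448835371491064198176178176) 143671456956177080471095033795341485964256792704712704 := A5T1_s0_1472.sub chk1473
theorem A5T1_c0m : CA.Mem R (CA.gen R 143671456956177080471095033795341485964256792704712704) 143671456956177080471095033795341485964256792704712704 := A5T1_c0i.gen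
theorem fx1475 : CA.gen R 143671456956177080471095033795341485964256792704712704 ≤ stabilizer _ pt1467 := Act.fix_sound A5T1_c0i.top pt1467r chk1474
theorem cov1482 : Cov (CA.gen R 35917864239044270117773758448835371491064198176178176) (CA.wds R [0]) pt1467 4 := Act.cov_of_seen (Act.pieces_sound A5T1_s0_1472 A5T1_s0_1472.top pt1467r chk1480) chk1481
theorem A5T1_c1i : CA.Mem R (CA.gen R 143671456956177080471095033795341485964256792704712704) 95780971304118053647396689196894323976171195136475136 := A5T1_c0m.sub chk1483
theorem A5T1_c1m : CA.Mem R (CA.gen R 95780971304118053647396689196894323976171195136475136) 95780971304118053647396689196894323976171195136475136 := A5T1_c1i.gen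
theorem fx1485 : CA.gen R 95780971304118053647396689196894323976171195136475136 ≤ stabilizer _ pt1468 := Act.fix_sound A5T1_c1i.top pt1468r chk1484
theorem cov1492 : Cov (CA.gen R 143671456956177080471095033795341485964256792704712704) (CA.wds R [0]) pt1468 3 := Act.cov_of_seen (Act.pieces_sound A5T1_c0m A5T1_c0m.top pt1468r chk1490) chk1491
theorem A5T1_c2i : CA.Mem R (CA.gen R 95780971304118053647396689196894323976171195136475136) 0 := A5T1_c1m.sub chk1493
theorem A5T1_c2m : CA.Mem R (CA.gen R 0) 0 := A5T1_c2i.gen
theorem fx1495 : CA.gen R 0 ≤ stabilizer _ pt1469 := Act.fix_sound A5T1_c2i.top pt1469r chk1494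
theorem cov1502 : Cov (CA.gen R 95780971304118053647396689196894323976171195136475136) (CA.wds R [0]) pt1469 2 := Act.cov_of_seen (Act.pieces_sound A5T1_c1m A5T1_c1m.top pt1469r chk1500) chk1501
theorem A5T1_lb3 : 1 ≤ Nat.card (CA.gen R 0) := Nat.card_pos
theorem A5T1_lo2 : 2 * Nat.card (CA.gen R 0) ≤ Nat.card (CA.gen R 95780971304118053647396689196894323976171195136475136) := cov1502.low le_rfl (GC.wds_zero _) A5T1_c2i.gen_le fx1495
theorem A5T1_lb2 : 2 ≤ Nat.card (CA.gen R 95780971304118053647396689196894323976171195136475136) := low_step A5T1_lo2 A5T1_lb3 (by decide +kernel)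
theorem A5T1_lo1 : 3 * Nat.card (CA.gen R 95780971304118053647396689196894323976171195136475136) ≤ Nat.card (CA.gen R 143671456956177080471095033795341485964256792704712704) := cov1492.low le_rfl (GC.wds_zero _) A5T1_c1i.gen_le fx1485
theorem A5T1_lb1 : 6 ≤ Nat.card (CA.gen R 143671456956177080471095033795341485964256792704712704) := low_step A5T1_lo1 A5T1_lb2 (by decide +kernel)
theorem A5T1_lo0 : 4 * Nat.card (CA.gen R 143671456956177080471095033795341485964256792704712704) ≤ Nat.card (CA.gen R 35917864239044270117773758448835371491064198176178176) := cov1482.low le_rfl (GC.wds_zero _) A5T1_c0i.gen_le fx1475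
theorem A5T1_lb0 : 24 ≤ Nat.card (CA.gen R 35917864239044270117773758448835371491064198176178176) := low_step A5T1_lo0 A5T1_lb1 (by decide +kernel)
theorem A5_T1c : ∀ τ ∈ (CA.gen R 35917864239044270117773758448835371491064198176178176), CA.el (R 159) * τ * (CA.el (R 159))⁻¹ ∈ (CA.gen R 45306550757257990464314229814204773609333908832256) := A6_m0.conjA (A5_I.get (i := 159) (by decide +kernel)).top A5T1_in1466.top chk1504
theorem cov1513 : Cov (CA.gen R 35917864239044270117773758448835371491064198176178176) (CA.wds R (List.map Prod.fst (l1505))) pt1387 5 := Act.cov_of_seen (Act.pieces_sound A5T1_s0_1472 A6_m0.top pt1387r chk1511) chk1512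
theorem A5_T1d : Dec (CA.gen R 45306550757257990464314229814204773609333908832256) (CA.gen R 35917864239044270117773758448835371491064198176178176) (CA.wds R (List.map Prod.fst (l1505))) (CA.gen R 2244866514940266882360859903052210718191512386011136) := cov1513.dec A5T1_in1466.gen_le (GC.wds_sub A6_m0 chk1514) A5K_in1407.gen_le fx1447 (up_low A6_ub A5K_lb0 (by decide +kernel))
theorem A5_T1p : ∀ x ∈ DC1 (CA.gen R 45306550757257990464314229814204773609333908832256) (CA.el (R 159)), x * CA.el (R 159) ∈ DCs (CA.gen R 45306550757257990464314229814204773609333908832256) (CA.els R 730750818665451459101842416358141509827966271488) := GC.dc_piece' A5_T1d A5_T1c A5_Kc (A6_m0.dcRel A5_I.top (A5_I.get (i := 159) (by decide +kernel)).top (A5_m0.get (i := 159) (by decide +kernel)).top chk1506)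
theorem A5_T1u : Nat.card (CA.gen R 45306550757257990464314229814204773609333908832256) ≤ 5 * Nat.card (CA.gen R 35917864239044270117773758448835371491064198176178176) := up_low A6_ub A5T1_lb0 (by decide +kernel)
theorem A5_T1n : (DC1 (CA.gen R 45306550757257990464314229814204773609333908832256) (CA.el (R 159))).ncard ≤ Nat.card (CA.gen R 45306550757257990464314229814204773609333908832256) * 5 := ncard_DC1 A5T1_in1466.gen_le A5_T1c A5_T1u
theorem A5_dc : ∀ x ∈ (CA.gen R 46037301575923441923416072230562915119161875103744), x ∈ DCs (CA.gen R 45306550757257990464314229814204773609333908832256) (CA.els R 730750818665451459101842416358141509827966271488) := GC.dc_gen (MU := 730750818665451459101842416358141509827966271488) A6_m0 (by decide +kernel) (GC.forall_els (L := [159]) (forall_cons ⟨A6_m0.inDC' A5_I.top (A5_m0.get (i := 159) (by decide +kernel)).top chk1515, GC.forall_els (L := [159]) (forall_cons A5_T1p forall_nil) (by decide +kernel)⟩ forall_nil) (by decide +kernel))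
theorem A5_cs : ∀ p ∈ ([(159, 5)] : List (ℕ × ℕ)), (DC1 (CA.gen R 45306550757257990464314229814204773609333908832256) (CA.el (R p.1))).ncard ≤ Nat.card (CA.gen R 45306550757257990464314229814204773609333908832256) * p.2 := (forall_cons A5_T1n forall_nil)
theorem A5_ix : Nat.card (CA.gen R 46037301575923441923416072230562915119161875103744) ≤ 6 * Nat.card (CA.gen R 45306550757257990464314229814204773609333908832256) := GC.card_dc [(159, 5)] A5_dc A5_cs (by decide +kernel)
theorem A5_ub : Nat.card (CA.gen R 46037301575923441923416072230562915119161875103744) ≤ 720 := up_mul A5_ix A6_ub (by decide +kernel)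
theorem pt1517e : ∃ x, AP.Rep pt1517c x := via_rep _ _ (via_rep _ _ (act2_rep (n := 11) (d := 4) (by decide) (by decide) (c := 0x20) (by decide +kernel)))
noncomputable def pt1517 := Classical.choose pt1517e
theorem pt1517r : AP.Rep pt1517c pt1517 := Classical.choose_spec pt1517e
theorem A4_m0 : CA.Mem R (CA.gen R 46402676985256167652966993438741985874075858239488) 46402676985256167652966993438741985874075858239488 := GC.Mem.gen (vA.sub chk1516)
theorem A4_I : CA.Mem R (CA.gen R 46402676985256167652966993438741985874075858239488) 365375409332725729550921208179070754913983135744 := A4_m0.sub chk1518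
theorem A4K_in1526 : CA.Mem R (CA.gen R 46037301575923441923416072230562915119161875103744) 574685827824708321884380135181365943857027170818850816 := A5_m0.slp' chk1525
theorem A4K_m0 : CA.Mem R (CA.gen R 574685827824708321884380135181365943857027170818850816) 574685827824708321884380135181365943857027170818850816 := GC.Mem.gen A4K_in1526.top
theorem pt1527e : ∃ x, AP.Rep pt1527c x := via_rep _ _ (via_rep _ _ (act2_rep (n := 11) (d := 4) (by decide) (by decide) (c := 0x40) (by decide +kernel)))
noncomputable def pt1527 := Classical.choose pt1527e
theorem pt1527r : AP.Rep pt1527c pt1527 := Classical.choose_spec pt1527e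
theorem pt1528e : ∃ x, AP.Rep pt1528c x := via_rep _ _ (via_rep _ _ (act2_rep (n := 11) (d := 4) (by decide) (by decide) (c := 0x80) (by decide +kernel)))
noncomputable def pt1528 := Classical.choose pt1528e
theorem pt1528r : AP.Rep pt1528c pt1528 := Classical.choose_spec pt1528e
theorem pt1529e : ∃ x, AP.Rep pt1529c x := via_rep _ _ (via_rep _ _ (act2_rep (n := 11) (d := 4) (by decide) (by decide) (c := 0x100) (by decide +kernel)))
noncomputable def pt1529 := Classical.choose pt1529e
theorem pt1529r : AP.Rep pt1529c pt1529 := Classical.choose_spec pt1529e
theorem pt1530e : ∃ x, AV.Rep pt1530c x := via_rep _ _ (PP.exists_vec P_ok (c := 0x400010004000300000004000400020003000200040002000400030001000400040001000000010004000100010003000400040004000200000003000000030002000300040001000000040003000000020004000200010003000300010003000000040003000400030004000200020001000400030004000200000002000100000004000300000002000300010001000200010004000300030001000400000003000100030000000400000000000000020000000400010002000300000004000300030000000300000001000300030003000300000002000000040001) (by decide +kernel))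
noncomputable def pt1530 := Classical.choose pt1530e
theorem pt1530r : AV.Rep pt1530c pt1530 := Classical.choose_spec pt1530e
theorem A4K_s0_1533 : CA.Mem R (CA.gen R 574685827824708321884380135181365943857027170818850816) 5938420220855319326138594730207448086522614098461458432 := A4K_m0.slp' chk1532
theorem A4K_c0i : CA.Mem R (CA.gen R 574685827824708321884380135181365943857027170818850816) 5363734393030611004254214595026082142665586927642607616 := A4K_s0_1533.sub chk1534
theorem A4K_c0m : CA.Mem R (CA.gen R 5363734393030611004254214595026082142665586927642607616) 5363734393030611004254214595026082142665586927642607616 := A4K_c0i.gen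
theorem fx1536 : CA.gen R 5363734393030611004254214595026082142665586927642607616 ≤ stabilizer _ pt1527 := Act.fix_sound A4K_c0i.top pt1527r chk1535
theorem cov1543 : Cov (CA.gen R 574685827824708321884380135181365943857027170818850816) (CA.wds R [0]) pt1527 5 := Act.cov_of_seen (Act.pieces_sound A4K_s0_1533 A4K_s0_1533.top pt1527r chk1541) chk1542
theorem A4K_c1i : CA.Mem R (CA.gen R 5363734393030611004254214595026082142665586927642607616) 4597486622597666575075041081450927550856217366550806528 := A4K_c0m.sub chk1544
theorem A4K_c1m : CA.Mem R (CA.gen R 4597486622597666575075041081450927550856217366550806528) 4597486622597666575075041081450927550856217366550806528 := A4K_c1i.gen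
theorem fx1546 : CA.gen R 4597486622597666575075041081450927550856217366550806528 ≤ stabilizer _ pt1528 := Act.fix_sound A4K_c1i.top pt1528r chk1545
theorem cov1553 : Cov (CA.gen R 5363734393030611004254214595026082142665586927642607616) (CA.wds R [0]) pt1528 4 := Act.cov_of_seen (Act.pieces_sound A4K_c0m A4K_c0m.top pt1528r chk1551) chk1552
theorem A4K_c2i : CA.Mem R (CA.gen R 4597486622597666575075041081450927550856217366550806528) 3064991081731777716716694054300618367237478244367204352 := A4K_c1m.sub chk1554
theorem A4K_c2m : CA.Mem R (CA.gen R 3064991081731777716716694054300618367237478244367204352) 3064991081731777716716694054300618367237478244367204352 := A4K_c2i.gen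
theorem fx1556 : CA.gen R 3064991081731777716716694054300618367237478244367204352 ≤ stabilizer _ pt1529 := Act.fix_sound A4K_c2i.top pt1529r chk1555
theorem cov1563 : Cov (CA.gen R 4597486622597666575075041081450927550856217366550806528) (CA.wds R [0]) pt1529 3 := Act.cov_of_seen (Act.pieces_sound A4K_c1m A4K_c1m.top pt1529r chk1561) chk1562
theorem A4K_c3i : CA.Mem R (CA.gen R 3064991081731777716716694054300618367237478244367204352) 0 := A4K_c2m.sub chk1564
theorem A4K_c3m : CA.Mem R (CA.gen R 0) 0 := A4K_c3i.gen
theorem fx1566 : CA.gen R 0 ≤ stabilizer _ pt1530 := Act.fix_sound A4K_c3i.top pt1530r chk1565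
theorem cov1573 : Cov (CA.gen R 3064991081731777716716694054300618367237478244367204352) (CA.wds R [0]) pt1530 2 := Act.cov_of_seen (Act.pieces_sound A4K_c2m A4K_c2m.top pt1530r chk1571) chk1572
theorem A4K_lb4 : 1 ≤ Nat.card (CA.gen R 0) := Nat.card_pos
theorem A4K_lo3 : 2 * Nat.card (CA.gen R 0) ≤ Nat.card (CA.gen R 3064991081731777716716694054300618367237478244367204352) := cov1573.low le_rfl (GC.wds_zero _) A4K_c3i.gen_le fx1566
theorem A4K_lb3 : 2 ≤ Nat.card (CA.gen R 3064991081731777716716694054300618367237478244367204352) := low_step A4K_lo3 A4K_lb4 (by decide +kernel)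
theorem A4K_lo2 : 3 * Nat.card (CA.gen R 3064991081731777716716694054300618367237478244367204352) ≤ Nat.card (CA.gen R 4597486622597666575075041081450927550856217366550806528) := cov1563.low le_rfl (GC.wds_zero _) A4K_c2i.gen_le fx1556
theorem A4K_lb2 : 6 ≤ Nat.card (CA.gen R 4597486622597666575075041081450927550856217366550806528) := low_step A4K_lo2 A4K_lb3 (by decide +kernel)
theorem A4K_lo1 : 4 * Nat.card (CA.gen R 4597486622597666575075041081450927550856217366550806528) ≤ Nat.card (CA.gen R 5363734393030611004254214595026082142665586927642607616) := cov1553.low le_rfl (GC.wds_zero _) A4K_c1i.gen_le fx1546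
theorem A4K_lb1 : 24 ≤ Nat.card (CA.gen R 5363734393030611004254214595026082142665586927642607616) := low_step A4K_lo1 A4K_lb2 (by decide +kernel)
theorem A4K_lo0 : 5 * Nat.card (CA.gen R 5363734393030611004254214595026082142665586927642607616) ≤ Nat.card (CA.gen R 574685827824708321884380135181365943857027170818850816) := cov1543.low le_rfl (GC.wds_zero _) A4K_c0i.gen_le fx1536
theorem A4K_lb0 : 120 ≤ Nat.card (CA.gen R 574685827824708321884380135181365943857027170818850816) := low_step A4K_lo0 A4K_lb1 (by decide +kernel)
theorem fx1577 : CA.gen R 574685827824708321884380135181365943857027170818850816 ≤ stabilizer _ pt1517 := Act.fix_sound A4K_in1526.top pt1517r chk1576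
theorem A4_Kc : ∀ κ ∈ (CA.gen R 574685827824708321884380135181365943857027170818850816), (CA.el (R 158))⁻¹ * κ * CA.el (R 158) ∈ (CA.gen R 46037301575923441923416072230562915119161875103744) := A5_m0.conjB (A4_m0.get (i := 158) (by decide +kernel)).top A4K_in1526.top chk1575
theorem A4T1_in1585 : CA.Mem R (CA.gen R 46037301575923441923416072230562915119161875103744) 18389946490390666300300164325803710203424869466203226112 := A5_m0.slp' chk1584
theorem A4T1_m0 : CA.Mem R (CA.gen R 18389946490390666300300164325803710203424869466203226112) 18389946490390666300300164325803710203424869466203226112 := GC.Mem.gen A4T1_in1585.top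
theorem pt1586e : ∃ x, AP.Rep pt1586c x := via_rep _ _ (via_rep _ _ (act2_rep (n := 11) (d := 4) (by decide) (by decide) (c := 0x40) (by decide +kernel)))
noncomputable def pt1586 := Classical.choose pt1586e
theorem pt1586r : AP.Rep pt1586c pt1586 := Classical.choose_spec pt1586e
theorem pt1587e : ∃ x, AP.Rep pt1587c x := via_rep _ _ (via_rep _ _ (act2_rep (n := 11) (d := 4) (by decide) (by decide) (c := 0x20) (by decide +kernel)))
noncomputable def pt1587 := Classical.choose pt1587e
theorem pt1587r : AP.Rep pt1587c pt1587 := Classical.choose_spec pt1587e
theorem pt1588e : ∃ x, AP.Rep pt1588c x := via_rep _ _ (via_rep _ _ (act2_rep (n := 11) (d := 4) (by decide) (by decide) (c := 0x100) (by decide +kernel)))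
noncomputable def pt1588 := Classical.choose pt1588e
theorem pt1588r : AP.Rep pt1588c pt1588 := Classical.choose_spec pt1588e
theorem pt1589e : ∃ x, AV.Rep pt1589c x := via_rep _ _ (PP.exists_vec P_ok (c := 0x400010004000300000004000400020003000200040002000400030001000400040001000000010004000100010003000400040004000200000003000000030002000300040001000000040003000000020004000200010003000300010003000000040003000400030004000200020001000400030004000200000002000100000004000300000002000300010001000200010004000300030001000400000003000100030000000400000000000000020000000400010002000300000004000300030000000300000001000300030003000300000002000000040001) (by decide +kernel))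
noncomputable def pt1589 := Classical.choose pt1589e
theorem pt1589r : AV.Rep pt1589c pt1589 := Classical.choose_spec pt1589e
theorem A4T1_s0_1592 : CA.Mem R (CA.gen R 18389946490390666300300164325803710203424869466203226112) 386188876298203992306303450841877914271922258790267748352 := A4T1_m0.slp' chk1591
theorem A4T1_c0i : CA.Mem R (CA.gen R 18389946490390666300300164325803710203424869466203226112) 367798929807813326006003286516074204068497389324064522240 := A4T1_s0_1592.sub chk1593
theorem A4T1_c0m : CA.Mem R (CA.gen R 367798929807813326006003286516074204068497389324064522240) 367798929807813326006003286516074204068497389324064522240 := A4T1_c0i.gen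
theorem fx1595 : CA.gen R 367798929807813326006003286516074204068497389324064522240 ≤ stabilizer _ pt1586 := Act.fix_sound A4T1_c0i.top pt1586r chk1594
theorem cov1602 : Cov (CA.gen R 18389946490390666300300164325803710203424869466203226112) (CA.wds R [0]) pt1586 5 := Act.cov_of_seen (Act.pieces_sound A4T1_s0_1592 A4T1_s0_1592.top pt1586r chk1600) chk1601
theorem A4T1_c1i : CA.Mem R (CA.gen R 367798929807813326006003286516074204068497389324064522240) 294239143846250660804802629212859363254797911459251617792 := A4T1_c0m.sub chk1603
theorem A4T1_c1m : CA.Mem R (CA.gen R 294239143846250660804802629212859363254797911459251617792) 294239143846250660804802629212859363254797911459251617792 := A4T1_c1i.gen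
theorem fx1605 : CA.gen R 294239143846250660804802629212859363254797911459251617792 ≤ stabilizer _ pt1587 := Act.fix_sound A4T1_c1i.top pt1587r chk1604
theorem cov1612 : Cov (CA.gen R 367798929807813326006003286516074204068497389324064522240) (CA.wds R [0]) pt1587 4 := Act.cov_of_seen (Act.pieces_sound A4T1_c0m A4T1_c0m.top pt1587r chk1610) chk1611
theorem A4T1_c2i : CA.Mem R (CA.gen R 294239143846250660804802629212859363254797911459251617792) 196159429230833773869868419475239575503198607639501078528 := A4T1_c1m.sub chk1613
theorem A4T1_c2m : CA.Mem R (CA.gen R 196159429230833773869868419475239575503198607639501078528) 196159429230833773869868419475239575503198607639501078528 := A4T1_c2i.gen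
theorem fx1615 : CA.gen R 196159429230833773869868419475239575503198607639501078528 ≤ stabilizer _ pt1588 := Act.fix_sound A4T1_c2i.top pt1588r chk1614
theorem cov1622 : Cov (CA.gen R 294239143846250660804802629212859363254797911459251617792) (CA.wds R [0]) pt1588 3 := Act.cov_of_seen (Act.pieces_sound A4T1_c1m A4T1_c1m.top pt1588r chk1620) chk1621
theorem A4T1_c3i : CA.Mem R (CA.gen R 196159429230833773869868419475239575503198607639501078528) 0 := A4T1_c2m.sub chk1623
theorem A4T1_c3m : CA.Mem R (CA.gen R 0) 0 := A4T1_c3i.gen
theorem fx1625 : CA.gen R 0 ≤ stabilizer _ pt1589 := Act.fix_sound A4T1_c3i.top pt1589r chk1624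
theorem cov1632 : Cov (CA.gen R 196159429230833773869868419475239575503198607639501078528) (CA.wds R [0]) pt1589 2 := Act.cov_of_seen (Act.pieces_sound A4T1_c2m A4T1_c2m.top pt1589r chk1630) chk1631
theorem A4T1_lb4 : 1 ≤ Nat.card (CA.gen R 0) := Nat.card_pos
theorem A4T1_lo3 : 2 * Nat.card (CA.gen R 0) ≤ Nat.card (CA.gen R 196159429230833773869868419475239575503198607639501078528) := cov1632.low le_rfl (GC.wds_zero _) A4T1_c3i.gen_le fx1625
theorem A4T1_lb3 : 2 ≤ Nat.card (CA.gen R 196159429230833773869868419475239575503198607639501078528) := low_step A4T1_lo3 A4T1_lb4 (by decide +kernel)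
theorem A4T1_lo2 : 3 * Nat.card (CA.gen R 196159429230833773869868419475239575503198607639501078528) ≤ Nat.card (CA.gen R 294239143846250660804802629212859363254797911459251617792) := cov1622.low le_rfl (GC.wds_zero _) A4T1_c2i.gen_le fx1615
theorem A4T1_lb2 : 6 ≤ Nat.card (CA.gen R 294239143846250660804802629212859363254797911459251617792) := low_step A4T1_lo2 A4T1_lb3 (by decide +kernel)
theorem A4T1_lo1 : 4 * Nat.card (CA.gen R 294239143846250660804802629212859363254797911459251617792) ≤ Nat.card (CA.gen R 367798929807813326006003286516074204068497389324064522240) := cov1612.low le_rfl (GC.wds_zero _) A4T1_c1i.gen_le fx1605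
theorem A4T1_lb1 : 24 ≤ Nat.card (CA.gen R 367798929807813326006003286516074204068497389324064522240) := low_step A4T1_lo1 A4T1_lb2 (by decide +kernel)
theorem A4T1_lo0 : 5 * Nat.card (CA.gen R 367798929807813326006003286516074204068497389324064522240) ≤ Nat.card (CA.gen R 18389946490390666300300164325803710203424869466203226112) := cov1602.low le_rfl (GC.wds_zero _) A4T1_c0i.gen_le fx1595
theorem A4T1_lb0 : 120 ≤ Nat.card (CA.gen R 18389946490390666300300164325803710203424869466203226112) := low_step A4T1_lo0 A4T1_lb1 (by decide +kernel)
theorem A4_T1c : ∀ τ ∈ (CA.gen R 18389946490390666300300164325803710203424869466203226112), CA.el (R 158) * τ * (CA.el (R 158))⁻¹ ∈ (CA.gen R 46037301575923441923416072230562915119161875103744) := A5_m0.conjA (A4_I.get (i := 158) (by decide +kernel)).top A4T1_in1585.top chk1634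
theorem cov1643 : Cov (CA.gen R 18389946490390666300300164325803710203424869466203226112) (CA.wds R (List.map Prod.fst (l1635))) pt1517 6 := Act.cov_of_seen (Act.pieces_sound A4T1_s0_1592 A5_m0.top pt1517r chk1641) chk1642
theorem A4_T1d : Dec (CA.gen R 46037301575923441923416072230562915119161875103744) (CA.gen R 18389946490390666300300164325803710203424869466203226112) (CA.wds R (List.map Prod.fst (l1635))) (CA.gen R 574685827824708321884380135181365943857027170818850816) := cov1643.dec A4T1_in1585.gen_le (GC.wds_sub A5_m0 chk1644) A4K_in1526.gen_le fx1577 (up_low A5_ub A4K_lb0 (by decide +kernel))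
theorem A4_T1p : ∀ x ∈ DC1 (CA.gen R 46037301575923441923416072230562915119161875103744) (CA.el (R 158)), x * CA.el (R 158) ∈ DCs (CA.gen R 46037301575923441923416072230562915119161875103744) (CA.els R 365375409332725729550921208179070754913983135744) := GC.dc_piece' A4_T1d A4_T1c A4_Kc (A5_m0.dcRel A4_I.top (A4_I.get (i := 158) (by decide +kernel)).top (A4_m0.get (i := 158) (by decide +kernel)).top chk1636)
theorem A4_T1u : Nat.card (CA.gen R 46037301575923441923416072230562915119161875103744) ≤ 6 * Nat.card (CA.gen R 18389946490390666300300164325803710203424869466203226112) := up_low A5_ub A4T1_lb0 (by decide +kernel)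
theorem A4_T1n : (DC1 (CA.gen R 46037301575923441923416072230562915119161875103744) (CA.el (R 158))).ncard ≤ Nat.card (CA.gen R 46037301575923441923416072230562915119161875103744) * 6 := ncard_DC1 A4T1_in1585.gen_le A4_T1c A4_T1u
theorem A4_dc : ∀ x ∈ (CA.gen R 46402676985256167652966993438741985874075858239488), x ∈ DCs (CA.gen R 46037301575923441923416072230562915119161875103744) (CA.els R 365375409332725729550921208179070754913983135744) := GC.dc_gen (MU := 365375409332725729550921208179070754913983135744) A5_m0 (by decide +kernel) (GC.forall_els (L := [158]) (forall_cons ⟨A5_m0.inDC' A4_I.top (A4_m0.get (i := 158) (by decide +kernel)).top chk1645, GC.forall_els (L := [158]) (forall_cons A4_T1p forall_nil) (by decide +kernel)⟩ forall_nil) (by decide +kernel))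
theorem A4_cs : ∀ p ∈ ([(158, 6)] : List (ℕ × ℕ)), (DC1 (CA.gen R 46037301575923441923416072230562915119161875103744) (CA.el (R p.1))).ncard ≤ Nat.card (CA.gen R 46037301575923441923416072230562915119161875103744) * p.2 := (forall_cons A4_T1n forall_nil)
theorem A4_ix : Nat.card (CA.gen R 46402676985256167652966993438741985874075858239488) ≤ 7 * Nat.card (CA.gen R 46037301575923441923416072230562915119161875103744) := GC.card_dc [(158, 6)] A4_dc A4_cs (by decide +kernel)
theorem A4_ub : Nat.card (CA.gen R 46402676985256167652966993438741985874075858239488) ≤ 5040 := up_mul A4_ix A5_ub (by decide +kernel)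
theorem pt1647e : ∃ x, AP.Rep pt1647c x := via_rep _ _ (via_rep _ _ (act2_rep (n := 11) (d := 4) (by decide) (by decide) (c := 0x10) (by decide +kernel)))
noncomputable def pt1647 := Classical.choose pt1647e
theorem pt1647r : AP.Rep pt1647c pt1647 := Classical.choose_spec pt1647e
theorem A3_m0 : CA.Mem R (CA.gen R 46585364689922530517742454042831521251532849807360) 46585364689922530517742454042831521251532849807360 := GC.Mem.gen (vA.sub chk1646)
theorem A3_I : CA.Mem R (CA.gen R 46585364689922530517742454042831521251532849807360) 182687704666362864775460604089535377456991567872 := A3_m0.sub chk1648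
theorem A3K_in1651 : CA.Mem R (CA.gen R 46402676985256167652966993438741985874075858239488) 1176956575385002643219210516851437453019191645837006471168 := A4_m0.slp' chk1650
theorem A3K_m0 : CA.Mem R (CA.gen R 1176956575385002643219210516851437453019191645837006471168) 1176956575385002643219210516851437453019191645837006471168 := GC.Mem.gen A3K_in1651.top
theorem pt1652e : ∃ x, AP.Rep pt1652c x := via_rep _ _ (via_rep _ _ (act2_rep (n := 11) (d := 4) (by decide) (by decide) (c := 0x20) (by decide +kernel)))
noncomputable def pt1652 := Classical.choose pt1652e
theorem pt1652r : AP.Rep pt1652c pt1652 := Classical.choose_spec pt1652e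
theorem pt1653e : ∃ x, AP.Rep pt1653c x := via_rep _ _ (via_rep _ _ (act2_rep (n := 11) (d := 4) (by decide) (by decide) (c := 0x80) (by decide +kernel)))
noncomputable def pt1653 := Classical.choose pt1653e
theorem pt1653r : AP.Rep pt1653c pt1653 := Classical.choose_spec pt1653e
theorem pt1654e : ∃ x, AP.Rep pt1654c x := via_rep _ _ (via_rep _ _ (act2_rep (n := 11) (d := 4) (by decide) (by decide) (c := 0x40) (by decide +kernel)))
noncomputable def pt1654 := Classical.choose pt1654e
theorem pt1654r : AP.Rep pt1654c pt1654 := Classical.choose_spec pt1654e
theorem pt1655e : ∃ x, AP.Rep pt1655c x := via_rep _ _ (via_rep _ _ (act2_rep (n := 11) (d := 4) (by decide) (by decide) (c := 0x100) (by decide +kernel)))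
noncomputable def pt1655 := Classical.choose pt1655e
theorem pt1655r : AP.Rep pt1655c pt1655 := Classical.choose_spec pt1655e
theorem pt1656e : ∃ x, AV.Rep pt1656c x := via_rep _ _ (PP.exists_vec P_ok (c := 0x400010004000300000004000400020003000200040002000400030001000400040001000000010004000100010003000400040004000200000003000000030002000300040001000000040003000000020004000200010003000300010003000000040003000400030004000200020001000400030004000200000002000100000004000300000002000300010001000200010004000300030001000400000003000100030000000400000000000000020000000400010002000300000004000300030000000300000001000300030003000300000002000000040001) (by decide +kernel))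
noncomputable def pt1656 := Classical.choose pt1656e
theorem pt1656r : AV.Rep pt1656c pt1656 := Classical.choose_spec pt1656e
theorem A3K_s0_1659 : CA.Mem R (CA.gen R 1176956575385002643219210516851437453019191645837006471168) 24716088083085055507603420853880186513403024562577135894528 := A3K_m0.slp' chk1658
theorem A3K_c0i : CA.Mem R (CA.gen R 1176956575385002643219210516851437453019191645837006471168) 23539131507700052864384210337028749060383832916740129423360 := A3K_s0_1659.sub chk1660
theorem A3K_c0m : CA.Mem R (CA.gen R 23539131507700052864384210337028749060383832916740129423360) 23539131507700052864384210337028749060383832916740129423360 := A3K_c0i.gen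
theorem fx1662 : CA.gen R 23539131507700052864384210337028749060383832916740129423360 ≤ stabilizer _ pt1652 := Act.fix_sound A3K_c0i.top pt1652r chk1661
theorem cov1669 : Cov (CA.gen R 1176956575385002643219210516851437453019191645837006471168) (CA.wds R [0]) pt1652 6 := Act.cov_of_seen (Act.pieces_sound A3K_s0_1659 A3K_s0_1659.top pt1652r chk1667) chk1668
theorem A3K_c1i : CA.Mem R (CA.gen R 23539131507700052864384210337028749060383832916740129423360) 21969856073853382673425262981226832456358244055624120795136 := A3K_c0m.sub chk1670
theorem A3K_c1m : CA.Mem R (CA.gen R 21969856073853382673425262981226832456358244055624120795136) 21969856073853382673425262981226832456358244055624120795136 := A3K_c1i.gen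
theorem fx1672 : CA.gen R 21969856073853382673425262981226832456358244055624120795136 ≤ stabilizer _ pt1653 := Act.fix_sound A3K_c1i.top pt1653r chk1671
theorem cov1679 : Cov (CA.gen R 23539131507700052864384210337028749060383832916740129423360) (CA.wds R [0]) pt1653 5 := Act.cov_of_seen (Act.pieces_sound A3K_c0m A3K_c0m.top pt1653r chk1677) chk1678
theorem A3K_c2i : CA.Mem R (CA.gen R 21969856073853382673425262981226832456358244055624120795136) 18831305206160042291507368269622999248307066333392103538688 := A3K_c1m.sub chk1680
theorem A3K_c2m : CA.Mem R (CA.gen R 18831305206160042291507368269622999248307066333392103538688) 18831305206160042291507368269622999248307066333392103538688 := A3K_c2i.gen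
theorem fx1682 : CA.gen R 18831305206160042291507368269622999248307066333392103538688 ≤ stabilizer _ pt1654 := Act.fix_sound A3K_c2i.top pt1654r chk1681
theorem cov1689 : Cov (CA.gen R 21969856073853382673425262981226832456358244055624120795136) (CA.wds R [0]) pt1654 4 := Act.cov_of_seen (Act.pieces_sound A3K_c1m A3K_c1m.top pt1654r chk1687) chk1688
theorem A3K_c3i : CA.Mem R (CA.gen R 18831305206160042291507368269622999248307066333392103538688) 12554203470773361527671578846415332832204710888928069025792 := A3K_c2m.sub chk1690
theorem A3K_c3m : CA.Mem R (CA.gen R 12554203470773361527671578846415332832204710888928069025792) 12554203470773361527671578846415332832204710888928069025792 := A3K_c3i.gen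
theorem fx1692 : CA.gen R 12554203470773361527671578846415332832204710888928069025792 ≤ stabilizer _ pt1655 := Act.fix_sound A3K_c3i.top pt1655r chk1691
theorem cov1699 : Cov (CA.gen R 18831305206160042291507368269622999248307066333392103538688) (CA.wds R [0]) pt1655 3 := Act.cov_of_seen (Act.pieces_sound A3K_c2m A3K_c2m.top pt1655r chk1697) chk1698
theorem A3K_c4i : CA.Mem R (CA.gen R 12554203470773361527671578846415332832204710888928069025792) 0 := A3K_c3m.sub chk1700
theorem A3K_c4m : CA.Mem R (CA.gen R 0) 0 := A3K_c4i.gen
theorem fx1702 : CA.gen R 0 ≤ stabilizer _ pt1656 := Act.fix_sound A3K_c4i.top pt1656r chk1701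
theorem cov1709 : Cov (CA.gen R 12554203470773361527671578846415332832204710888928069025792) (CA.wds R [0]) pt1656 2 := Act.cov_of_seen (Act.pieces_sound A3K_c3m A3K_c3m.top pt1656r chk1707) chk1708
theorem A3K_lb5 : 1 ≤ Nat.card (CA.gen R 0) := Nat.card_pos
theorem A3K_lo4 : 2 * Nat.card (CA.gen R 0) ≤ Nat.card (CA.gen R 12554203470773361527671578846415332832204710888928069025792) := cov1709.low le_rfl (GC.wds_zero _) A3K_c4i.gen_le fx1702
theorem A3K_lb4 : 2 ≤ Nat.card (CA.gen R 12554203470773361527671578846415332832204710888928069025792) := low_step A3K_lo4 A3K_lb5 (by decide +kernel)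
theorem A3K_lo3 : 3 * Nat.card (CA.gen R 12554203470773361527671578846415332832204710888928069025792) ≤ Nat.card (CA.gen R 18831305206160042291507368269622999248307066333392103538688) := cov1699.low le_rfl (GC.wds_zero _) A3K_c3i.gen_le fx1692
theorem A3K_lb3 : 6 ≤ Nat.card (CA.gen R 18831305206160042291507368269622999248307066333392103538688) := low_step A3K_lo3 A3K_lb4 (by decide +kernel)
theorem A3K_lo2 : 4 * Nat.card (CA.gen R 18831305206160042291507368269622999248307066333392103538688) ≤ Nat.card (CA.gen R 21969856073853382673425262981226832456358244055624120795136) := cov1689.low le_rfl (GC.wds_zero _) A3K_c2i.gen_le fx1682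
theorem A3K_lb2 : 24 ≤ Nat.card (CA.gen R 21969856073853382673425262981226832456358244055624120795136) := low_step A3K_lo2 A3K_lb3 (by decide +kernel)
theorem A3K_lo1 : 5 * Nat.card (CA.gen R 21969856073853382673425262981226832456358244055624120795136) ≤ Nat.card (CA.gen R 23539131507700052864384210337028749060383832916740129423360) := cov1679.low le_rfl (GC.wds_zero _) A3K_c1i.gen_le fx1672
theorem A3K_lb1 : 120 ≤ Nat.card (CA.gen R 23539131507700052864384210337028749060383832916740129423360) := low_step A3K_lo1 A3K_lb2 (by decide +kernel)
theorem A3K_lo0 : 6 * Nat.card (CA.gen R 23539131507700052864384210337028749060383832916740129423360) ≤ Nat.card (CA.gen R 1176956575385002643219210516851437453019191645837006471168) := cov1669.low le_rfl (GC.wds_zero _) A3K_c0i.gen_le fx1662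
theorem A3K_lb0 : 720 ≤ Nat.card (CA.gen R 1176956575385002643219210516851437453019191645837006471168) := low_step A3K_lo0 A3K_lb1 (by decide +kernel)
theorem fx1713 : CA.gen R 1176956575385002643219210516851437453019191645837006471168 ≤ stabilizer _ pt1647 := Act.fix_sound A3K_in1651.top pt1647r chk1712
theorem A3_Kc : ∀ κ ∈ (CA.gen R 1176956575385002643219210516851437453019191645837006471168), (CA.el (R 157))⁻¹ * κ * CA.el (R 157) ∈ (CA.gen R 46402676985256167652966993438741985874075858239488) := A4_m0.conjB (A3_m0.get (i := 157) (by decide +kernel)).top A3K_in1651.top chk1711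
theorem A3T1_in1716 : CA.Mem R (CA.gen R 46402676985256167652966993438741985874075858239488) 75325220824640169166029473078491996993228265333568414154752 := A4_m0.slp' chk1715
theorem A3T1_m0 : CA.Mem R (CA.gen R 75325220824640169166029473078491996993228265333568414154752) 75325220824640169166029473078491996993228265333568414154752 := GC.Mem.gen A3T1_in1716.top
theorem pt1717e : ∃ x, AP.Rep pt1717c x := via_rep _ _ (via_rep _ _ (act2_rep (n := 11) (d := 4) (by decide) (by decide) (c := 0x10) (by decide +kernel)))
noncomputable def pt1717 := Classical.choose pt1717e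
theorem pt1717r : AP.Rep pt1717c pt1717 := Classical.choose_spec pt1717e
theorem pt1718e : ∃ x, AP.Rep pt1718c x := via_rep _ _ (via_rep _ _ (act2_rep (n := 11) (d := 4) (by decide) (by decide) (c := 0x40) (by decide +kernel)))
noncomputable def pt1718 := Classical.choose pt1718e
theorem pt1718r : AP.Rep pt1718c pt1718 := Classical.choose_spec pt1718e
theorem pt1719e : ∃ x, AP.Rep pt1719c x := via_rep _ _ (via_rep _ _ (act2_rep (n := 11) (d := 4) (by decide) (by decide) (c := 0x20) (by decide +kernel)))
noncomputable def pt1719 := Classical.choose pt1719e
theorem pt1719r : AP.Rep pt1719c pt1719 := Classical.choose_spec pt1719e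
theorem pt1720e : ∃ x, AP.Rep pt1720c x := via_rep _ _ (via_rep _ _ (act2_rep (n := 11) (d := 4) (by decide) (by decide) (c := 0x80) (by decide +kernel)))
noncomputable def pt1720 := Classical.choose pt1720e
theorem pt1720r : AP.Rep pt1720c pt1720 := Classical.choose_spec pt1720e
theorem pt1721e : ∃ x, AV.Rep pt1721c x := via_rep _ _ (PP.exists_vec P_ok (c := 0x400010004000300000004000400020003000200040002000400030001000400040001000000010004000100010003000400040004000200000003000000030002000300040001000000040003000000020004000200010003000300010003000000040003000400030004000200020001000400030004000200000002000100000004000300000002000300010001000200010004000300030001000400000003000100030000000400000000000000020000000400010002000300000004000300030000000300000001000300030003000300000002000000040001) (by decide +kernel))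
noncomputable def pt1721 := Classical.choose pt1721e
theorem pt1721r : AV.Rep pt1721c pt1721 := Classical.choose_spec pt1721e
theorem A3T1_s0_1724 : CA.Mem R (CA.gen R 75325220824640169166029473078491996993228265333568414154752) 1581829637317443552486618934648331936857793572004936697249792 := A3T1_m0.slp' chk1723
theorem A3T1_c0i : CA.Mem R (CA.gen R 75325220824640169166029473078491996993228265333568414154752) 1506504416492803383320589461569839939864565306671368283095040 := A3T1_s0_1724.sub chk1725
theorem A3T1_c0m : CA.Mem R (CA.gen R 1506504416492803383320589461569839939864565306671368283095040) 1506504416492803383320589461569839939864565306671368283095040 := A3T1_c0i.gen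
theorem fx1727 : CA.gen R 1506504416492803383320589461569839939864565306671368283095040 ≤ stabilizer _ pt1717 := Act.fix_sound A3T1_c0i.top pt1717r chk1726
theorem cov1734 : Cov (CA.gen R 75325220824640169166029473078491996993228265333568414154752) (CA.wds R [0]) pt1717 6 := Act.cov_of_seen (Act.pieces_sound A3T1_s0_1724 A3T1_s0_1724.top pt1717r chk1732) chk1733
theorem A3T1_c1i : CA.Mem R (CA.gen R 1506504416492803383320589461569839939864565306671368283095040) 1406070788726616491099216830798517277206927619559943730888704 := A3T1_c0m.sub chk1735
theorem A3T1_c1m : CA.Mem R (CA.gen R 1406070788726616491099216830798517277206927619559943730888704) 1406070788726616491099216830798517277206927619559943730888704 := A3T1_c1i.gen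
theorem fx1737 : CA.gen R 1406070788726616491099216830798517277206927619559943730888704 ≤ stabilizer _ pt1718 := Act.fix_sound A3T1_c1i.top pt1718r chk1736
theorem cov1744 : Cov (CA.gen R 1506504416492803383320589461569839939864565306671368283095040) (CA.wds R [0]) pt1718 5 := Act.cov_of_seen (Act.pieces_sound A3T1_c0m A3T1_c0m.top pt1718r chk1742) chk1743
theorem A3T1_c2i : CA.Mem R (CA.gen R 1406070788726616491099216830798517277206927619559943730888704) 1205203533194242706656471569255871951891652245337094626476032 := A3T1_c1m.sub chk1745
theorem A3T1_c2m : CA.Mem R (CA.gen R 1205203533194242706656471569255871951891652245337094626476032) 1205203533194242706656471569255871951891652245337094626476032 := A3T1_c2i.gen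
theorem fx1747 : CA.gen R 1205203533194242706656471569255871951891652245337094626476032 ≤ stabilizer _ pt1719 := Act.fix_sound A3T1_c2i.top pt1719r chk1746
theorem cov1754 : Cov (CA.gen R 1406070788726616491099216830798517277206927619559943730888704) (CA.wds R [0]) pt1719 4 := Act.cov_of_seen (Act.pieces_sound A3T1_c1m A3T1_c1m.top pt1719r chk1752) chk1753
theorem A3T1_c3i : CA.Mem R (CA.gen R 1205203533194242706656471569255871951891652245337094626476032) 803469022129495137770981046170581301261101496891396417650688 := A3T1_c2m.sub chk1755
theorem A3T1_c3m : CA.Mem R (CA.gen R 803469022129495137770981046170581301261101496891396417650688) 803469022129495137770981046170581301261101496891396417650688 := A3T1_c3i.gen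
theorem fx1757 : CA.gen R 803469022129495137770981046170581301261101496891396417650688 ≤ stabilizer _ pt1720 := Act.fix_sound A3T1_c3i.top pt1720r chk1756
theorem cov1764 : Cov (CA.gen R 1205203533194242706656471569255871951891652245337094626476032) (CA.wds R [0]) pt1720 3 := Act.cov_of_seen (Act.pieces_sound A3T1_c2m A3T1_c2m.top pt1720r chk1762) chk1763
theorem A3T1_c4i : CA.Mem R (CA.gen R 803469022129495137770981046170581301261101496891396417650688) 0 := A3T1_c3m.sub chk1765
theorem A3T1_c4m : CA.Mem R (CA.gen R 0) 0 := A3T1_c4i.gen
theorem fx1767 : CA.gen R 0 ≤ stabilizer _ pt1721 := Act.fix_sound A3T1_c4i.top pt1721r chk1766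
theorem cov1774 : Cov (CA.gen R 803469022129495137770981046170581301261101496891396417650688) (CA.wds R [0]) pt1721 2 := Act.cov_of_seen (Act.pieces_sound A3T1_c3m A3T1_c3m.top pt1721r chk1772) chk1773
theorem A3T1_lb5 : 1 ≤ Nat.card (CA.gen R 0) := Nat.card_pos
theorem A3T1_lo4 : 2 * Nat.card (CA.gen R 0) ≤ Nat.card (CA.gen R 803469022129495137770981046170581301261101496891396417650688) := cov1774.low le_rfl (GC.wds_zero _) A3T1_c4i.gen_le fx1767
theorem A3T1_lb4 : 2 ≤ Nat.card (CA.gen R 803469022129495137770981046170581301261101496891396417650688) := low_step A3T1_lo4 A3T1_lb5 (by decide +kernel)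
theorem A3T1_lo3 : 3 * Nat.card (CA.gen R 803469022129495137770981046170581301261101496891396417650688) ≤ Nat.card (CA.gen R 1205203533194242706656471569255871951891652245337094626476032) := cov1764.low le_rfl (GC.wds_zero _) A3T1_c3i.gen_le fx1757
theorem A3T1_lb3 : 6 ≤ Nat.card (CA.gen R 1205203533194242706656471569255871951891652245337094626476032) := low_step A3T1_lo3 A3T1_lb4 (by decide +kernel)
theorem A3T1_lo2 : 4 * Nat.card (CA.gen R 1205203533194242706656471569255871951891652245337094626476032) ≤ Nat.card (CA.gen R 1406070788726616491099216830798517277206927619559943730888704) := cov1754.low le_rfl (GC.wds_zero _) A3T1_c2i.gen_le fx1747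
theorem A3T1_lb2 : 24 ≤ Nat.card (CA.gen R 1406070788726616491099216830798517277206927619559943730888704) := low_step A3T1_lo2 A3T1_lb3 (by decide +kernel)
theorem A3T1_lo1 : 5 * Nat.card (CA.gen R 1406070788726616491099216830798517277206927619559943730888704) ≤ Nat.card (CA.gen R 1506504416492803383320589461569839939864565306671368283095040) := cov1744.low le_rfl (GC.wds_zero _) A3T1_c1i.gen_le fx1737
theorem A3T1_lb1 : 120 ≤ Nat.card (CA.gen R 1506504416492803383320589461569839939864565306671368283095040) := low_step A3T1_lo1 A3T1_lb2 (by decide +kernel)
theorem A3T1_lo0 : 6 * Nat.card (CA.gen R 1506504416492803383320589461569839939864565306671368283095040) ≤ Nat.card (CA.gen R 75325220824640169166029473078491996993228265333568414154752) := cov1734.low le_rfl (GC.wds_zero _) A3T1_c0i.gen_le fx1727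
theorem A3T1_lb0 : 720 ≤ Nat.card (CA.gen R 75325220824640169166029473078491996993228265333568414154752) := low_step A3T1_lo0 A3T1_lb1 (by decide +kernel)
theorem A3_T1c : ∀ τ ∈ (CA.gen R 75325220824640169166029473078491996993228265333568414154752), CA.el (R 157) * τ * (CA.el (R 157))⁻¹ ∈ (CA.gen R 46402676985256167652966993438741985874075858239488) := A4_m0.conjA (A3_I.get (i := 157) (by decide +kernel)).top A3T1_in1716.top chk1776
theorem cov1785 : Cov (CA.gen R 75325220824640169166029473078491996993228265333568414154752) (CA.wds R (List.map Prod.fst (l1777))) pt1647 7 := Act.cov_of_seen (Act.pieces_sound A3T1_s0_1724 A4_m0.top pt1647r chk1783) chk1784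
theorem A3_T1d : Dec (CA.gen R 46402676985256167652966993438741985874075858239488) (CA.gen R 75325220824640169166029473078491996993228265333568414154752) (CA.wds R (List.map Prod.fst (l1777))) (CA.gen R 1176956575385002643219210516851437453019191645837006471168) := cov1785.dec A3T1_in1716.gen_le (GC.wds_sub A4_m0 chk1786) A3K_in1651.gen_le fx1713 (up_low A4_ub A3K_lb0 (by decide +kernel))
theorem A3_T1p : ∀ x ∈ DC1 (CA.gen R 46402676985256167652966993438741985874075858239488) (CA.el (R 157)), x * CA.el (R 157) ∈ DCs (CA.gen R 46402676985256167652966993438741985874075858239488) (CA.els R 182687704666362864775460604089535377456991567872) := GC.dc_piece' A3_T1d A3_T1c A3_Kc (A4_m0.dcRel A3_I.top (A3_I.get (i := 157) (by decide +kernel)).top (A3_m0.get (i := 157) (by decide +kernel)).top chk1778)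
theorem A3_T1u : Nat.card (CA.gen R 46402676985256167652966993438741985874075858239488) ≤ 7 * Nat.card (CA.gen R 75325220824640169166029473078491996993228265333568414154752) := up_low A4_ub A3T1_lb0 (by decide +kernel)
theorem A3_T1n : (DC1 (CA.gen R 46402676985256167652966993438741985874075858239488) (CA.el (R 157))).ncard ≤ Nat.card (CA.gen R 46402676985256167652966993438741985874075858239488) * 7 := ncard_DC1 A3T1_in1716.gen_le A3_T1c A3_T1u
theorem A3_dc : ∀ x ∈ (CA.gen R 46585364689922530517742454042831521251532849807360), x ∈ DCs (CA.gen R 46402676985256167652966993438741985874075858239488) (CA.els R 182687704666362864775460604089535377456991567872) := GC.dc_gen (MU := 182687704666362864775460604089535377456991567872) A4_m0 (by decide +kernel) (GC.forall_els (L := [157]) (forall_cons ⟨A4_m0.inDC' A3_I.top (A3_m0.get (i := 157) (by decide +kernel)).top chk1787, GC.forall_els (L := [157]) (forall_cons A3_T1p forall_nil) (by decide +kernel)⟩ forall_nil) (by decide +kernel))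
theorem A3_cs : ∀ p ∈ ([(157, 7)] : List (ℕ × ℕ)), (DC1 (CA.gen R 46402676985256167652966993438741985874075858239488) (CA.el (R p.1))).ncard ≤ Nat.card (CA.gen R 46402676985256167652966993438741985874075858239488) * p.2 := (forall_cons A3_T1n forall_nil)
theorem A3_ix : Nat.card (CA.gen R 46585364689922530517742454042831521251532849807360) ≤ 8 * Nat.card (CA.gen R 46402676985256167652966993438741985874075858239488) := GC.card_dc [(157, 7)] A3_dc A3_cs (by decide +kernel)
theorem A3_ub : Nat.card (CA.gen R 46585364689922530517742454042831521251532849807360) ≤ 40320 := up_mul A3_ix A4_ub (by decide +kernel)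
theorem pt1789e : ∃ x, AP.Rep pt1789c x := via_rep _ _ (via_rep _ _ (act2_rep (n := 11) (d := 4) (by decide) (by decide) (c := 0x8) (by decide +kernel)))
noncomputable def pt1789 := Classical.choose pt1789e
theorem pt1789r : AP.Rep pt1789c pt1789 := Classical.choose_spec pt1789e
theorem A2_m0 : CA.Mem R (CA.gen R 46676708542255711950130184344876288940261345591296) 46676708542255711950130184344876288940261345591296 := GC.Mem.gen (vA.sub chk1788)
theorem A2_I : CA.Mem R (CA.gen R 46676708542255711950130184344876288940261345591296) 91343852333181432387730302044767688728495783936 := A2_m0.sub chk1790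
theorem A2K_in1793 : CA.Mem R (CA.gen R 46585364689922530517742454042831521251532849807360) 4820814132776970826625886277023487807566608981348378505904128 := A3_m0.slp' chk1792
theorem A2K_m0 : CA.Mem R (CA.gen R 4820814132776970826625886277023487807566608981348378505904128) 4820814132776970826625886277023487807566608981348378505904128 := GC.Mem.gen A2K_in1793.top
theorem pt1794e : ∃ x, AP.Rep pt1794c x := via_rep _ _ (via_rep _ _ (act2_rep (n := 11) (d := 4) (by decide) (by decide) (c := 0x10) (by decide +kernel)))
noncomputable def pt1794 := Classical.choose pt1794e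
theorem pt1794r : AP.Rep pt1794c pt1794 := Classical.choose_spec pt1794e
theorem pt1795e : ∃ x, AP.Rep pt1795c x := via_rep _ _ (via_rep _ _ (act2_rep (n := 11) (d := 4) (by decide) (by decide) (c := 0x20) (by decide +kernel)))
noncomputable def pt1795 := Classical.choose pt1795e
theorem pt1795r : AP.Rep pt1795c pt1795 := Classical.choose_spec pt1795e
theorem pt1796e : ∃ x, AP.Rep pt1796c x := via_rep _ _ (via_rep _ _ (act2_rep (n := 11) (d := 4) (by decide) (by decide) (c := 0x80) (by decide +kernel)))
noncomputable def pt1796 := Classical.choose pt1796e
theorem pt1796r : AP.Rep pt1796c pt1796 := Classical.choose_spec pt1796e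
theorem pt1797e : ∃ x, AP.Rep pt1797c x := via_rep _ _ (via_rep _ _ (act2_rep (n := 11) (d := 4) (by decide) (by decide) (c := 0x40) (by decide +kernel)))
noncomputable def pt1797 := Classical.choose pt1797e
theorem pt1797r : AP.Rep pt1797c pt1797 := Classical.choose_spec pt1797e
theorem pt1798e : ∃ x, AP.Rep pt1798c x := via_rep _ _ (via_rep _ _ (act2_rep (n := 11) (d := 4) (by decide) (by decide) (c := 0x100) (by decide +kernel)))
noncomputable def pt1798 := Classical.choose pt1798e
theorem pt1798r : AP.Rep pt1798c pt1798 := Classical.choose_spec pt1798e
theorem pt1799e : ∃ x, AV.Rep pt1799c x := via_rep _ _ (PP.exists_vec P_ok (c := 0x400010004000300000004000400020003000200040002000400030001000400040001000000010004000100010003000400040004000200000003000000030002000300040001000000040003000000020004000200010003000300010003000000040003000400030004000200020001000400030004000200000002000100000004000300000002000300010001000200010004000300030001000400000003000100030000000400000000000000020000000400010002000300000004000300030000000300000001000300030003000300000002000000040001) (by decide +kernel))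
noncomputable def pt1799 := Classical.choose pt1799e
theorem pt1799r : AV.Rep pt1799c pt1799 := Classical.choose_spec pt1799e
theorem A2K_s0_1802 : CA.Mem R (CA.gen R 4820814132776970826625886277023487807566608981348378505904128) 204081131620891764993829185727327650520319780210414690083274752 := A2K_m0.slp' chk1801
theorem A2K_c0i : CA.Mem R (CA.gen R 4820814132776970826625886277023487807566608981348378505904128) 199260317488114794167203299450304162712753171229066311577370624 := A2K_s0_1802.sub chk1803
theorem A2K_c0m : CA.Mem R (CA.gen R 199260317488114794167203299450304162712753171229066311577370624) 199260317488114794167203299450304162712753171229066311577370624 := A2K_c0i.gen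
theorem fx1805 : CA.gen R 199260317488114794167203299450304162712753171229066311577370624 ≤ stabilizer _ pt1794 := Act.fix_sound A2K_c0i.top pt1794r chk1804
theorem cov1812 : Cov (CA.gen R 4820814132776970826625886277023487807566608981348378505904128) (CA.wds R [0]) pt1794 7 := Act.cov_of_seen (Act.pieces_sound A2K_s0_1802 A2K_s0_1802.top pt1794r chk1810) chk1811
theorem A2K_c1i : CA.Mem R (CA.gen R 199260317488114794167203299450304162712753171229066311577370624) 192832565311078833065035451080939512302664359253935140236165120 := A2K_c0m.sub chk1813
theorem A2K_c1m : CA.Mem R (CA.gen R 192832565311078833065035451080939512302664359253935140236165120) 192832565311078833065035451080939512302664359253935140236165120 := A2K_c1i.gen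
theorem fx1815 : CA.gen R 192832565311078833065035451080939512302664359253935140236165120 ≤ stabilizer _ pt1795 := Act.fix_sound A2K_c1i.top pt1795r chk1814
theorem cov1822 : Cov (CA.gen R 199260317488114794167203299450304162712753171229066311577370624) (CA.wds R [0]) pt1795 6 := Act.cov_of_seen (Act.pieces_sound A2K_c0m A2K_c0m.top pt1795r chk1820) chk1821
theorem A2K_c2i : CA.Mem R (CA.gen R 192832565311078833065035451080939512302664359253935140236165120) 179977060957006910860699754342210211482486735303672797553754112 := A2K_c1m.sub chk1823
theorem A2K_c2m : CA.Mem R (CA.gen R 179977060957006910860699754342210211482486735303672797553754112) 179977060957006910860699754342210211482486735303672797553754112 := A2K_c2i.gen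
theorem fx1825 : CA.gen R 179977060957006910860699754342210211482486735303672797553754112 ≤ stabilizer _ pt1796 := Act.fix_sound A2K_c2i.top pt1796r chk1824
theorem cov1832 : Cov (CA.gen R 192832565311078833065035451080939512302664359253935140236165120) (CA.wds R [0]) pt1796 5 := Act.cov_of_seen (Act.pieces_sound A2K_c1m A2K_c1m.top pt1796r chk1830) chk1831
theorem A2K_c3i : CA.Mem R (CA.gen R 179977060957006910860699754342210211482486735303672797553754112) 154266052248863066452028360864751609842131487403148112188932096 := A2K_c2m.sub chk1833
theorem A2K_c3m : CA.Mem R (CA.gen R 154266052248863066452028360864751609842131487403148112188932096) 154266052248863066452028360864751609842131487403148112188932096 := A2K_c3i.gen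
theorem fx1835 : CA.gen R 154266052248863066452028360864751609842131487403148112188932096 ≤ stabilizer _ pt1797 := Act.fix_sound A2K_c3i.top pt1797r chk1834
theorem cov1842 : Cov (CA.gen R 179977060957006910860699754342210211482486735303672797553754112) (CA.wds R [0]) pt1797 4 := Act.cov_of_seen (Act.pieces_sound A2K_c2m A2K_c2m.top pt1797r chk1840) chk1841
theorem A2K_c4i : CA.Mem R (CA.gen R 154266052248863066452028360864751609842131487403148112188932096) 102844034832575377634685573909834406561420991602098741459288064 := A2K_c3m.sub chk1843
theorem A2K_c4m : CA.Mem R (CA.gen R 102844034832575377634685573909834406561420991602098741459288064) 102844034832575377634685573909834406561420991602098741459288064 := A2K_c4i.gen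
theorem fx1845 : CA.gen R 102844034832575377634685573909834406561420991602098741459288064 ≤ stabilizer _ pt1798 := Act.fix_sound A2K_c4i.top pt1798r chk1844
theorem cov1852 : Cov (CA.gen R 154266052248863066452028360864751609842131487403148112188932096) (CA.wds R [0]) pt1798 3 := Act.cov_of_seen (Act.pieces_sound A2K_c3m A2K_c3m.top pt1798r chk1850) chk1851
theorem A2K_c5i : CA.Mem R (CA.gen R 102844034832575377634685573909834406561420991602098741459288064) 0 := A2K_c4m.sub chk1853
theorem A2K_c5m : CA.Mem R (CA.gen R 0) 0 := A2K_c5i.gen
theorem fx1855 : CA.gen R 0 ≤ stabilizer _ pt1799 := Act.fix_sound A2K_c5i.top pt1799r chk1854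
theorem cov1862 : Cov (CA.gen R 102844034832575377634685573909834406561420991602098741459288064) (CA.wds R [0]) pt1799 2 := Act.cov_of_seen (Act.pieces_sound A2K_c4m A2K_c4m.top pt1799r chk1860) chk1861
theorem A2K_lb6 : 1 ≤ Nat.card (CA.gen R 0) := Nat.card_pos
theorem A2K_lo5 : 2 * Nat.card (CA.gen R 0) ≤ Nat.card (CA.gen R 102844034832575377634685573909834406561420991602098741459288064) := cov1862.low le_rfl (GC.wds_zero _) A2K_c5i.gen_le fx1855
theorem A2K_lb5 : 2 ≤ Nat.card (CA.gen R 102844034832575377634685573909834406561420991602098741459288064) := low_step A2K_lo5 A2K_lb6 (by decide +kernel)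
theorem A2K_lo4 : 3 * Nat.card (CA.gen R 102844034832575377634685573909834406561420991602098741459288064) ≤ Nat.card (CA.gen R 154266052248863066452028360864751609842131487403148112188932096) := cov1852.low le_rfl (GC.wds_zero _) A2K_c4i.gen_le fx1845
theorem A2K_lb4 : 6 ≤ Nat.card (CA.gen R 154266052248863066452028360864751609842131487403148112188932096) := low_step A2K_lo4 A2K_lb5 (by decide +kernel)
theorem A2K_lo3 : 4 * Nat.card (CA.gen R 154266052248863066452028360864751609842131487403148112188932096) ≤ Nat.card (CA.gen R 179977060957006910860699754342210211482486735303672797553754112) := cov1842.low le_rfl (GC.wds_zero _) A2K_c3i.gen_le fx1835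
theorem A2K_lb3 : 24 ≤ Nat.card (CA.gen R 179977060957006910860699754342210211482486735303672797553754112) := low_step A2K_lo3 A2K_lb4 (by decide +kernel)
theorem A2K_lo2 : 5 * Nat.card (CA.gen R 179977060957006910860699754342210211482486735303672797553754112) ≤ Nat.card (CA.gen R 192832565311078833065035451080939512302664359253935140236165120) := cov1832.low le_rfl (GC.wds_zero _) A2K_c2i.gen_le fx1825
theorem A2K_lb2 : 120 ≤ Nat.card (CA.gen R 192832565311078833065035451080939512302664359253935140236165120) := low_step A2K_lo2 A2K_lb3 (by decide +kernel)
theorem A2K_lo1 : 6 * Nat.card (CA.gen R 192832565311078833065035451080939512302664359253935140236165120) ≤ Nat.card (CA.gen R 199260317488114794167203299450304162712753171229066311577370624) := cov1822.low le_rfl (GC.wds_zero _) A2K_c1i.gen_le fx1815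
theorem A2K_lb1 : 720 ≤ Nat.card (CA.gen R 199260317488114794167203299450304162712753171229066311577370624) := low_step A2K_lo1 A2K_lb2 (by decide +kernel)
theorem A2K_lo0 : 7 * Nat.card (CA.gen R 199260317488114794167203299450304162712753171229066311577370624) ≤ Nat.card (CA.gen R 4820814132776970826625886277023487807566608981348378505904128) := cov1812.low le_rfl (GC.wds_zero _) A2K_c0i.gen_le fx1805
theorem A2K_lb0 : 5040 ≤ Nat.card (CA.gen R 4820814132776970826625886277023487807566608981348378505904128) := low_step A2K_lo0 A2K_lb1 (by decide +kernel)
theorem fx1866 : CA.gen R 4820814132776970826625886277023487807566608981348378505904128 ≤ stabilizer _ pt1789 := Act.fix_sound A2K_in1793.top pt1789r chk1865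
theorem A2_Kc : ∀ κ ∈ (CA.gen R 4820814132776970826625886277023487807566608981348378505904128), (CA.el (R 156))⁻¹ * κ * CA.el (R 156) ∈ (CA.gen R 46585364689922530517742454042831521251532849807360) := A3_m0.conjB (A2_m0.get (i := 156) (by decide +kernel)).top A2K_in1793.top chk1864
theorem A2T1_in1869 : CA.Mem R (CA.gen R 46585364689922530517742454042831521251532849807360) 617064208995452265808113443459006439368525949612592448755728384 := A3_m0.slp' chk1868
theorem A2T1_m0 : CA.Mem R (CA.gen R 617064208995452265808113443459006439368525949612592448755728384) 617064208995452265808113443459006439368525949612592448755728384 := GC.Mem.gen A2T1_in1869.top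
theorem pt1870e : ∃ x, AP.Rep pt1870c x := via_rep _ _ (via_rep _ _ (act2_rep (n := 11) (d := 4) (by decide) (by decide) (c := 0x8) (by decide +kernel)))
noncomputable def pt1870 := Classical.choose pt1870e
theorem pt1870r : AP.Rep pt1870c pt1870 := Classical.choose_spec pt1870e
theorem pt1871e : ∃ x, AP.Rep pt1871c x := via_rep _ _ (via_rep _ _ (act2_rep (n := 11) (d := 4) (by decide) (by decide) (c := 0x10) (by decide +kernel)))
noncomputable def pt1871 := Classical.choose pt1871e
theorem pt1871r : AP.Rep pt1871c pt1871 := Classical.choose_spec pt1871e
theorem pt1872e : ∃ x, AP.Rep pt1872c x := via_rep _ _ (via_rep _ _ (act2_rep (n := 11) (d := 4) (by decide) (by decide) (c := 0x20) (by decide +kernel)))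
noncomputable def pt1872 := Classical.choose pt1872e
theorem pt1872r : AP.Rep pt1872c pt1872 := Classical.choose_spec pt1872e
theorem pt1873e : ∃ x, AP.Rep pt1873c x := via_rep _ _ (via_rep _ _ (act2_rep (n := 11) (d := 4) (by decide) (by decide) (c := 0x40) (by decide +kernel)))
noncomputable def pt1873 := Classical.choose pt1873e
theorem pt1873r : AP.Rep pt1873c pt1873 := Classical.choose_spec pt1873e
theorem pt1874e : ∃ x, AP.Rep pt1874c x := via_rep _ _ (via_rep _ _ (act2_rep (n := 11) (d := 4) (by decide) (by decide) (c := 0x80) (by decide +kernel)))
noncomputable def pt1874 := Classical.choose pt1874e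
theorem pt1874r : AP.Rep pt1874c pt1874 := Classical.choose_spec pt1874e
theorem pt1875e : ∃ x, AV.Rep pt1875c x := via_rep _ _ (PP.exists_vec P_ok (c := 0x400010004000300000004000400020003000200040002000400030001000400040001000000010004000100010003000400040004000200000003000000030002000300040001000000040003000000020004000200010003000300010003000000040003000400030004000200020001000400030004000200000002000100000004000300000002000300010001000200010004000300030001000400000003000100030000000400000000000000020000000400010002000300000004000300030000000300000001000300030003000300000002000000040001) (by decide +kernel))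
noncomputable def pt1875 := Classical.choose pt1875e
theorem pt1875r : AV.Rep pt1875c pt1875 := Classical.choose_spec pt1875e
theorem A2T1_s0_1878 : CA.Mem R (CA.gen R 617064208995452265808113443459006439368525949612592448755728384) 105106603598892035942648656535850763505772253417344913771392401408 := A2T1_m0.slp' chk1877
theorem A2T1_c0i : CA.Mem R (CA.gen R 617064208995452265808113443459006439368525949612592448755728384) 104489539389896583676840543092391757066403727467732321322636673024 := A2T1_s0_1878.sub chk1879
theorem A2T1_c0m : CA.Mem R (CA.gen R 104489539389896583676840543092391757066403727467732321322636673024) 104489539389896583676840543092391757066403727467732321322636673024 := A2T1_c0i.gen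
theorem fx1881 : CA.gen R 104489539389896583676840543092391757066403727467732321322636673024 ≤ stabilizer _ pt1870 := Act.fix_sound A2T1_c0i.top pt1870r chk1880
theorem cov1888 : Cov (CA.gen R 617064208995452265808113443459006439368525949612592448755728384) (CA.wds R [0]) pt1870 7 := Act.cov_of_seen (Act.pieces_sound A2T1_s0_1878 A2T1_s0_1878.top pt1870r chk1886) chk1887
theorem A2T1_c1i : CA.Mem R (CA.gen R 104489539389896583676840543092391757066403727467732321322636673024) 102021282553914774613608089318555731308929623669281951527613759488 := A2T1_c0m.sub chk1889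
theorem A2T1_c1m : CA.Mem R (CA.gen R 102021282553914774613608089318555731308929623669281951527613759488) 102021282553914774613608089318555731308929623669281951527613759488 := A2T1_c1i.gen
theorem fx1891 : CA.gen R 102021282553914774613608089318555731308929623669281951527613759488 ≤ stabilizer _ pt1871 := Act.fix_sound A2T1_c1i.top pt1871r chk1890
theorem cov1898 : Cov (CA.gen R 104489539389896583676840543092391757066403727467732321322636673024) (CA.wds R [0]) pt1871 6 := Act.cov_of_seen (Act.pieces_sound A2T1_c0m A2T1_c0m.top pt1871r chk1896) chk1897
theorem A2T1_c2i : CA.Mem R (CA.gen R 102021282553914774613608089318555731308929623669281951527613759488) 92148255209987538360678274223211628279033208475480472347522105344 := A2T1_c1m.sub chk1899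
theorem A2T1_c2m : CA.Mem R (CA.gen R 92148255209987538360678274223211628279033208475480472347522105344) 92148255209987538360678274223211628279033208475480472347522105344 := A2T1_c2i.gen
theorem fx1901 : CA.gen R 92148255209987538360678274223211628279033208475480472347522105344 ≤ stabilizer _ pt1872 := Act.fix_sound A2T1_c2i.top pt1872r chk1900
theorem cov1908 : Cov (CA.gen R 102021282553914774613608089318555731308929623669281951527613759488) (CA.wds R [0]) pt1872 5 := Act.cov_of_seen (Act.pieces_sound A2T1_c1m A2T1_c1m.top pt1872r chk1906) chk1907
theorem A2T1_c3i : CA.Mem R (CA.gen R 92148255209987538360678274223211628279033208475480472347522105344) 78984218751417890023438520762752824239171321550411833440733233152 := A2T1_c2m.sub chk1909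
theorem A2T1_c3m : CA.Mem R (CA.gen R 78984218751417890023438520762752824239171321550411833440733233152) 78984218751417890023438520762752824239171321550411833440733233152 := A2T1_c3i.gen
theorem fx1911 : CA.gen R 78984218751417890023438520762752824239171321550411833440733233152 ≤ stabilizer _ pt1873 := Act.fix_sound A2T1_c3i.top pt1873r chk1910
theorem cov1918 : Cov (CA.gen R 92148255209987538360678274223211628279033208475480472347522105344) (CA.wds R [0]) pt1873 4 := Act.cov_of_seen (Act.pieces_sound A2T1_c2m A2T1_c2m.top pt1873r chk1916) chk1917
theorem A2T1_c4i : CA.Mem R (CA.gen R 78984218751417890023438520762752824239171321550411833440733233152) 52656145834278593348959013841835216159447547700274555627155488768 := A2T1_c3m.sub chk1919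
theorem A2T1_c4m : CA.Mem R (CA.gen R 52656145834278593348959013841835216159447547700274555627155488768) 52656145834278593348959013841835216159447547700274555627155488768 := A2T1_c4i.gen
theorem fx1921 : CA.gen R 52656145834278593348959013841835216159447547700274555627155488768 ≤ stabilizer _ pt1874 := Act.fix_sound A2T1_c4i.top pt1874r chk1920
theorem cov1928 : Cov (CA.gen R 78984218751417890023438520762752824239171321550411833440733233152) (CA.wds R [0]) pt1874 3 := Act.cov_of_seen (Act.pieces_sound A2T1_c3m A2T1_c3m.top pt1874r chk1926) chk1927
theorem A2T1_c5i : CA.Mem R (CA.gen R 52656145834278593348959013841835216159447547700274555627155488768) 0 := A2T1_c4m.sub chk1929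
theorem A2T1_c5m : CA.Mem R (CA.gen R 0) 0 := A2T1_c5i.gen
theorem fx1931 : CA.gen R 0 ≤ stabilizer _ pt1875 := Act.fix_sound A2T1_c5i.top pt1875r chk1930
theorem cov1938 : Cov (CA.gen R 52656145834278593348959013841835216159447547700274555627155488768) (CA.wds R [0]) pt1875 2 := Act.cov_of_seen (Act.pieces_sound A2T1_c4m A2T1_c4m.top pt1875r chk1936) chk1937
theorem A2T1_lb6 : 1 ≤ Nat.card (CA.gen R 0) := Nat.card_pos
theorem A2T1_lo5 : 2 * Nat.card (CA.gen R 0) ≤ Nat.card (CA.gen R 52656145834278593348959013841835216159447547700274555627155488768) := cov1938.low le_rfl (GC.wds_zero _) A2T1_c5i.gen_le fx1931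
theorem A2T1_lb5 : 2 ≤ Nat.card (CA.gen R 52656145834278593348959013841835216159447547700274555627155488768) := low_step A2T1_lo5 A2T1_lb6 (by decide +kernel)
theorem A2T1_lo4 : 3 * Nat.card (CA.gen R 52656145834278593348959013841835216159447547700274555627155488768) ≤ Nat.card (CA.gen R 78984218751417890023438520762752824239171321550411833440733233152) := cov1928.low le_rfl (GC.wds_zero _) A2T1_c4i.gen_le fx1921
theorem A2T1_lb4 : 6 ≤ Nat.card (CA.gen R 78984218751417890023438520762752824239171321550411833440733233152) := low_step A2T1_lo4 A2T1_lb5 (by decide +kernel)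
theorem A2T1_lo3 : 4 * Nat.card (CA.gen R 78984218751417890023438520762752824239171321550411833440733233152) ≤ Nat.card (CA.gen R 92148255209987538360678274223211628279033208475480472347522105344) := cov1918.low le_rfl (GC.wds_zero _) A2T1_c3i.gen_le fx1911
theorem A2T1_lb3 : 24 ≤ Nat.card (CA.gen R 92148255209987538360678274223211628279033208475480472347522105344) := low_step A2T1_lo3 A2T1_lb4 (by decide +kernel)
theorem A2T1_lo2 : 5 * Nat.card (CA.gen R 92148255209987538360678274223211628279033208475480472347522105344) ≤ Nat.card (CA.gen R 102021282553914774613608089318555731308929623669281951527613759488) := cov1908.low le_rfl (GC.wds_zero _) A2T1_c2i.gen_le fx1901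
theorem A2T1_lb2 : 120 ≤ Nat.card (CA.gen R 102021282553914774613608089318555731308929623669281951527613759488) := low_step A2T1_lo2 A2T1_lb3 (by decide +kernel)
theorem A2T1_lo1 : 6 * Nat.card (CA.gen R 102021282553914774613608089318555731308929623669281951527613759488) ≤ Nat.card (CA.gen R 104489539389896583676840543092391757066403727467732321322636673024) := cov1898.low le_rfl (GC.wds_zero _) A2T1_c1i.gen_le fx1891
theorem A2T1_lb1 : 720 ≤ Nat.card (CA.gen R 104489539389896583676840543092391757066403727467732321322636673024) := low_step A2T1_lo1 A2T1_lb2 (by decide +kernel)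
theorem A2T1_lo0 : 7 * Nat.card (CA.gen R 104489539389896583676840543092391757066403727467732321322636673024) ≤ Nat.card (CA.gen R 617064208995452265808113443459006439368525949612592448755728384) := cov1888.low le_rfl (GC.wds_zero _) A2T1_c0i.gen_le fx1881
theorem A2T1_lb0 : 5040 ≤ Nat.card (CA.gen R 617064208995452265808113443459006439368525949612592448755728384) := low_step A2T1_lo0 A2T1_lb1 (by decide +kernel)
theorem A2_T1c : ∀ τ ∈ (CA.gen R 617064208995452265808113443459006439368525949612592448755728384), CA.el (R 156) * τ * (CA.el (R 156))⁻¹ ∈ (CA.gen R 46585364689922530517742454042831521251532849807360) := A3_m0.conjA (A2_I.get (i := 156) (by decide +kernel)).top A2T1_in1869.top chk1940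
theorem cov1949 : Cov (CA.gen R 617064208995452265808113443459006439368525949612592448755728384) (CA.wds R (List.map Prod.fst (l1941))) pt1789 8 := Act.cov_of_seen (Act.pieces_sound A2T1_s0_1878 A3_m0.top pt1789r chk1947) chk1948
theorem A2_T1d : Dec (CA.gen R 46585364689922530517742454042831521251532849807360) (CA.gen R 617064208995452265808113443459006439368525949612592448755728384) (CA.wds R (List.map Prod.fst (l1941))) (CA.gen R 4820814132776970826625886277023487807566608981348378505904128) := cov1949.dec A2T1_in1869.gen_le (GC.wds_sub A3_m0 chk1950) A2K_in1793.gen_le fx1866 (up_low A3_ub A2K_lb0 (by decide +kernel))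
theorem A2_T1p : ∀ x ∈ DC1 (CA.gen R 46585364689922530517742454042831521251532849807360) (CA.el (R 156)), x * CA.el (R 156) ∈ DCs (CA.gen R 46585364689922530517742454042831521251532849807360) (CA.els R 91343852333181432387730302044767688728495783936) := GC.dc_piece' A2_T1d A2_T1c A2_Kc (A3_m0.dcRel A2_I.top (A2_I.get (i := 156) (by decide +kernel)).top (A2_m0.get (i := 156) (by decide +kernel)).top chk1942)
theorem A2_T1u : Nat.card (CA.gen R 46585364689922530517742454042831521251532849807360) ≤ 8 * Nat.card (CA.gen R 617064208995452265808113443459006439368525949612592448755728384) := up_low A3_ub A2T1_lb0 (by decide +kernel)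
theorem A2_T1n : (DC1 (CA.gen R 46585364689922530517742454042831521251532849807360) (CA.el (R 156))).ncard ≤ Nat.card (CA.gen R 46585364689922530517742454042831521251532849807360) * 8 := ncard_DC1 A2T1_in1869.gen_le A2_T1c A2_T1u
theorem A2_dc : ∀ x ∈ (CA.gen R 46676708542255711950130184344876288940261345591296), x ∈ DCs (CA.gen R 46585364689922530517742454042831521251532849807360) (CA.els R 91343852333181432387730302044767688728495783936) := GC.dc_gen (MU := 91343852333181432387730302044767688728495783936) A3_m0 (by decide +kernel) (GC.forall_els (L := [156]) (forall_cons ⟨A3_m0.inDC' A2_I.top (A2_m0.get (i := 156) (by decide +kernel)).top chk1951, GC.forall_els (L := [156]) (forall_cons A2_T1p forall_nil) (by decide +kernel)⟩ forall_nil) (by decide +kernel))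
theorem A2_cs : ∀ p ∈ ([(156, 8)] : List (ℕ × ℕ)), (DC1 (CA.gen R 46585364689922530517742454042831521251532849807360) (CA.el (R p.1))).ncard ≤ Nat.card (CA.gen R 46585364689922530517742454042831521251532849807360) * p.2 := (forall_cons A2_T1n forall_nil)
theorem A2_ix : Nat.card (CA.gen R 46676708542255711950130184344876288940261345591296) ≤ 9 * Nat.card (CA.gen R 46585364689922530517742454042831521251532849807360) := GC.card_dc [(156, 8)] A2_dc A2_cs (by decide +kernel)
theorem A2_ub : Nat.card (CA.gen R 46676708542255711950130184344876288940261345591296) ≤ 362880 := up_mul A2_ix A3_ub (by decide +kernel)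
theorem pt1953e : ∃ x, AP.Rep pt1953c x := via_rep _ _ (via_rep _ _ (act2_rep (n := 11) (d := 4) (by decide) (by decide) (c := 0x4) (by decide +kernel)))
noncomputable def pt1953 := Classical.choose pt1953e
theorem pt1953r : AP.Rep pt1953c pt1953 := Classical.choose_spec pt1953e
theorem A1_m0 : CA.Mem R (CA.gen R 46722380468422302666324049495898672784625593483264) 46722380468422302666324049495898672784625593483264 := GC.Mem.gen (vA.sub chk1952)
theorem A1_I : CA.Mem R (CA.gen R 46722380468422302666324049495898672784625593483264) 45671926166590716193865151022383844364247891968 := A1_m0.sub chk1954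
theorem A1K_in1964 : CA.Mem R (CA.gen R 46676708542255711950130184344876288940261345591296) 315936875005671560093754083051011296956685286201647333762932932608 := A2_m0.slp' chk1963
theorem A1K_m0 : CA.Mem R (CA.gen R 315936875005671560093754083051011296956685286201647333762932932608) 315936875005671560093754083051011296956685286201647333762932932608 := GC.Mem.gen A1K_in1964.top
theorem pt1965e : ∃ x, AP.Rep pt1965c x := via_rep _ _ (via_rep _ _ (act2_rep (n := 11) (d := 4) (by decide) (by decide) (c := 0x10) (by decide +kernel)))
noncomputable def pt1965 := Classical.choose pt1965e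
theorem pt1965r : AP.Rep pt1965c pt1965 := Classical.choose_spec pt1965e
theorem pt1966e : ∃ x, AP.Rep pt1966c x := via_rep _ _ (via_rep _ _ (act2_rep (n := 11) (d := 4) (by decide) (by decide) (c := 0x8) (by decide +kernel)))
noncomputable def pt1966 := Classical.choose pt1966e
theorem pt1966r : AP.Rep pt1966c pt1966 := Classical.choose_spec pt1966e
theorem pt1967e : ∃ x, AP.Rep pt1967c x := via_rep _ _ (via_rep _ _ (act2_rep (n := 11) (d := 4) (by decide) (by decide) (c := 0x20) (by decide +kernel)))
noncomputable def pt1967 := Classical.choose pt1967e
theorem pt1967r : AP.Rep pt1967c pt1967 := Classical.choose_spec pt1967e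
theorem pt1968e : ∃ x, AP.Rep pt1968c x := via_rep _ _ (via_rep _ _ (act2_rep (n := 11) (d := 4) (by decide) (by decide) (c := 0x40) (by decide +kernel)))
noncomputable def pt1968 := Classical.choose pt1968e
theorem pt1968r : AP.Rep pt1968c pt1968 := Classical.choose_spec pt1968e
theorem pt1969e : ∃ x, AP.Rep pt1969c x := via_rep _ _ (via_rep _ _ (act2_rep (n := 11) (d := 4) (by decide) (by decide) (c := 0x80) (by decide +kernel)))
noncomputable def pt1969 := Classical.choose pt1969e
theorem pt1969r : AP.Rep pt1969c pt1969 := Classical.choose_spec pt1969e
theorem pt1970e : ∃ x, AP.Rep pt1970c x := via_rep _ _ (via_rep _ _ (act2_rep (n := 11) (d := 4) (by decide) (by decide) (c := 0x100) (by decide +kernel)))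
noncomputable def pt1970 := Classical.choose pt1970e
theorem pt1970r : AP.Rep pt1970c pt1970 := Classical.choose_spec pt1970e
theorem pt1971e : ∃ x, AV.Rep pt1971c x := via_rep _ _ (PP.exists_vec P_ok (c := 0x400010004000300000004000400020003000200040002000400030001000400040001000000010004000100010003000400040004000200000003000000030002000300040001000000040003000000020004000200010003000300010003000000040003000400030004000200020001000400030004000200000002000100000004000300000002000300010001000200010004000300030001000400000003000100030000000400000000000000020000000400010002000300000004000300030000000300000001000300030003000300000002000000040001) (by decide +kernel))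
noncomputable def pt1971 := Classical.choose pt1971e
theorem pt1971r : AV.Rep pt1971c pt1971 := Classical.choose_spec pt1971e
theorem A1K_s0_1974 : CA.Mem R (CA.gen R 315936875005671560093754083051011296956685286201647333762932932608) 53814581042632722402636112146355590914955393749680595850952909520896 := A1K_m0.slp' chk1973
theorem A1K_c0i : CA.Mem R (CA.gen R 315936875005671560093754083051011296956685286201647333762932932608) 53498644167627050842542358063304579617998708463478948517189976588288 := A1K_s0_1974.sub chk1975
theorem A1K_c0m : CA.Mem R (CA.gen R 53498644167627050842542358063304579617998708463478948517189976588288) 53498644167627050842542358063304579617998708463478948517189976588288 := A1K_c0i.gen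
theorem fx1977 : CA.gen R 53498644167627050842542358063304579617998708463478948517189976588288 ≤ stabilizer _ pt1965 := Act.fix_sound A1K_c0i.top pt1965r chk1976
theorem cov1984 : Cov (CA.gen R 315936875005671560093754083051011296956685286201647333762932932608) (CA.wds R [0]) pt1965 8 := Act.cov_of_seen (Act.pieces_sound A1K_s0_1974 A1K_s0_1974.top pt1965r chk1982) chk1983
theorem A1K_c1i : CA.Mem R (CA.gen R 53498644167627050842542358063304579617998708463478948517189976588288) 53077395000952822095750685952569897888723128081876752072172732678144 := A1K_c0m.sub chk1985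
theorem A1K_c1m : CA.Mem R (CA.gen R 53077395000952822095750685952569897888723128081876752072172732678144) 53077395000952822095750685952569897888723128081876752072172732678144 := A1K_c1i.gen
theorem fx1987 : CA.gen R 53077395000952822095750685952569897888723128081876752072172732678144 ≤ stabilizer _ pt1966 := Act.fix_sound A1K_c1i.top pt1966r chk1986
theorem cov1994 : Cov (CA.gen R 53498644167627050842542358063304579617998708463478948517189976588288) (CA.wds R [0]) pt1966 7 := Act.cov_of_seen (Act.pieces_sound A1K_c0m A1K_c0m.top pt1966r chk1992) chk1993
theorem A1K_c2i : CA.Mem R (CA.gen R 53077395000952822095750685952569897888723128081876752072172732678144) 50549900000907449615000653288161807513069645792263573402069269217280 := A1K_c1m.sub chk1995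
theorem A1K_c2m : CA.Mem R (CA.gen R 50549900000907449615000653288161807513069645792263573402069269217280) 50549900000907449615000653288161807513069645792263573402069269217280 := A1K_c2i.gen
theorem fx1997 : CA.gen R 50549900000907449615000653288161807513069645792263573402069269217280 ≤ stabilizer _ pt1967 := Act.fix_sound A1K_c2i.top pt1967r chk1996
theorem cov2004 : Cov (CA.gen R 53077395000952822095750685952569897888723128081876752072172732678144) (CA.wds R [0]) pt1967 6 := Act.cov_of_seen (Act.pieces_sound A1K_c1m A1K_c1m.top pt1967r chk2002) chk2003
theorem A1K_c3i : CA.Mem R (CA.gen R 50549900000907449615000653288161807513069645792263573402069269217280) 47179906667513619640667276402284353678865002739446001841931317936128 := A1K_c2m.sub chk2005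
theorem A1K_c3m : CA.Mem R (CA.gen R 47179906667513619640667276402284353678865002739446001841931317936128) 47179906667513619640667276402284353678865002739446001841931317936128 := A1K_c3i.gen
theorem fx2007 : CA.gen R 47179906667513619640667276402284353678865002739446001841931317936128 ≤ stabilizer _ pt1968 := Act.fix_sound A1K_c3i.top pt1968r chk2006
theorem cov2014 : Cov (CA.gen R 50549900000907449615000653288161807513069645792263573402069269217280) (CA.wds R [0]) pt1968 5 := Act.cov_of_seen (Act.pieces_sound A1K_c2m A1K_c2m.top pt1968r chk2012) chk2013
theorem A1K_c4i : CA.Mem R (CA.gen R 47179906667513619640667276402284353678865002739446001841931317936128) 40439920000725959692000522630529446010455716633810858721655415373824 := A1K_c3m.sub chk2015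
theorem A1K_c4m : CA.Mem R (CA.gen R 40439920000725959692000522630529446010455716633810858721655415373824) 40439920000725959692000522630529446010455716633810858721655415373824 := A1K_c4i.gen
theorem fx2017 : CA.gen R 40439920000725959692000522630529446010455716633810858721655415373824 ≤ stabilizer _ pt1969 := Act.fix_sound A1K_c4i.top pt1969r chk2016
theorem cov2024 : Cov (CA.gen R 47179906667513619640667276402284353678865002739446001841931317936128) (CA.wds R [0]) pt1969 4 := Act.cov_of_seen (Act.pieces_sound A1K_c3m A1K_c3m.top pt1969r chk2022) chk2023
theorem A1K_c5i : CA.Mem R (CA.gen R 40439920000725959692000522630529446010455716633810858721655415373824) 26959946667150639794667015087019630673637144422540572481103610249216 := A1K_c4m.sub chk2025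
theorem A1K_c5m : CA.Mem R (CA.gen R 26959946667150639794667015087019630673637144422540572481103610249216) 26959946667150639794667015087019630673637144422540572481103610249216 := A1K_c5i.gen
theorem fx2027 : CA.gen R 26959946667150639794667015087019630673637144422540572481103610249216 ≤ stabilizer _ pt1970 := Act.fix_sound A1K_c5i.top pt1970r chk2026
theorem cov2034 : Cov (CA.gen R 40439920000725959692000522630529446010455716633810858721655415373824) (CA.wds R [0]) pt1970 3 := Act.cov_of_seen (Act.pieces_sound A1K_c4m A1K_c4m.top pt1970r chk2032) chk2033
theorem A1K_c6i : CA.Mem R (CA.gen R 26959946667150639794667015087019630673637144422540572481103610249216) 0 := A1K_c5m.sub chk2035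
theorem A1K_c6m : CA.Mem R (CA.gen R 0) 0 := A1K_c6i.gen
theorem fx2037 : CA.gen R 0 ≤ stabilizer _ pt1971 := Act.fix_sound A1K_c6i.top pt1971r chk2036
theorem cov2044 : Cov (CA.gen R 26959946667150639794667015087019630673637144422540572481103610249216) (CA.wds R [0]) pt1971 2 := Act.cov_of_seen (Act.pieces_sound A1K_c5m A1K_c5m.top pt1971r chk2042) chk2043
theorem A1K_lb7 : 1 ≤ Nat.card (CA.gen R 0) := Nat.card_pos
theorem A1K_lo6 : 2 * Nat.card (CA.gen R 0) ≤ Nat.card (CA.gen R 26959946667150639794667015087019630673637144422540572481103610249216) := cov2044.low le_rfl (GC.wds_zero _) A1K_c6i.gen_le fx2037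
theorem A1K_lb6 : 2 ≤ Nat.card (CA.gen R 26959946667150639794667015087019630673637144422540572481103610249216) := low_step A1K_lo6 A1K_lb7 (by decide +kernel)
theorem A1K_lo5 : 3 * Nat.card (CA.gen R 26959946667150639794667015087019630673637144422540572481103610249216) ≤ Nat.card (CA.gen R 40439920000725959692000522630529446010455716633810858721655415373824) := cov2034.low le_rfl (GC.wds_zero _) A1K_c5i.gen_le fx2027
theorem A1K_lb5 : 6 ≤ Nat.card (CA.gen R 40439920000725959692000522630529446010455716633810858721655415373824) := low_step A1K_lo5 A1K_lb6 (by decide +kernel)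
theorem A1K_lo4 : 4 * Nat.card (CA.gen R 40439920000725959692000522630529446010455716633810858721655415373824) ≤ Nat.card (CA.gen R 47179906667513619640667276402284353678865002739446001841931317936128) := cov2024.low le_rfl (GC.wds_zero _) A1K_c4i.gen_le fx2017
theorem A1K_lb4 : 24 ≤ Nat.card (CA.gen R 47179906667513619640667276402284353678865002739446001841931317936128) := low_step A1K_lo4 A1K_lb5 (by decide +kernel)
theorem A1K_lo3 : 5 * Nat.card (CA.gen R 47179906667513619640667276402284353678865002739446001841931317936128) ≤ Nat.card (CA.gen R 50549900000907449615000653288161807513069645792263573402069269217280) := cov2014.low le_rfl (GC.wds_zero _) A1K_c3i.gen_le fx2007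
theorem A1K_lb3 : 120 ≤ Nat.card (CA.gen R 50549900000907449615000653288161807513069645792263573402069269217280) := low_step A1K_lo3 A1K_lb4 (by decide +kernel)
theorem A1K_lo2 : 6 * Nat.card (CA.gen R 50549900000907449615000653288161807513069645792263573402069269217280) ≤ Nat.card (CA.gen R 53077395000952822095750685952569897888723128081876752072172732678144) := cov2004.low le_rfl (GC.wds_zero _) A1K_c2i.gen_le fx1997
theorem A1K_lb2 : 720 ≤ Nat.card (CA.gen R 53077395000952822095750685952569897888723128081876752072172732678144) := low_step A1K_lo2 A1K_lb3 (by decide +kernel)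
theorem A1K_lo1 : 7 * Nat.card (CA.gen R 53077395000952822095750685952569897888723128081876752072172732678144) ≤ Nat.card (CA.gen R 53498644167627050842542358063304579617998708463478948517189976588288) := cov1994.low le_rfl (GC.wds_zero _) A1K_c1i.gen_le fx1987
theorem A1K_lb1 : 5040 ≤ Nat.card (CA.gen R 53498644167627050842542358063304579617998708463478948517189976588288) := low_step A1K_lo1 A1K_lb2 (by decide +kernel)
theorem A1K_lo0 : 8 * Nat.card (CA.gen R 53498644167627050842542358063304579617998708463478948517189976588288) ≤ Nat.card (CA.gen R 315936875005671560093754083051011296956685286201647333762932932608) := cov1984.low le_rfl (GC.wds_zero _) A1K_c0i.gen_le fx1977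
theorem A1K_lb0 : 40320 ≤ Nat.card (CA.gen R 315936875005671560093754083051011296956685286201647333762932932608) := low_step A1K_lo0 A1K_lb1 (by decide +kernel)
theorem fx2048 : CA.gen R 315936875005671560093754083051011296956685286201647333762932932608 ≤ stabilizer _ pt1953 := Act.fix_sound A1K_in1964.top pt1953r chk2047
theorem A1_Kc : ∀ κ ∈ (CA.gen R 315936875005671560093754083051011296956685286201647333762932932608), (CA.el (R 155))⁻¹ * κ * CA.el (R 155) ∈ (CA.gen R 46676708542255711950130184344876288940261345591296) := A2_m0.conjB (A1_m0.get (i := 155) (by decide +kernel)).top A1K_in1964.top chk2046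
theorem A1T1_in2073 : CA.Mem R (CA.gen R 46676708542255711950130184344876288940261345591296) 161759680002903838768002090522117784041822866535243434886621661495296 := A2_m0.slp' chk2072
theorem A1T1_m0 : CA.Mem R (CA.gen R 161759680002903838768002090522117784041822866535243434886621661495296) 161759680002903838768002090522117784041822866535243434886621661495296 := GC.Mem.gen A1T1_in2073.top
theorem pt2074e : ∃ x, AP.Rep pt2074c x := via_rep _ _ (via_rep _ _ (act2_rep (n := 11) (d := 4) (by decide) (by decide) (c := 0x4) (by decide +kernel)))
noncomputable def pt2074 := Classical.choose pt2074e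
theorem pt2074r : AP.Rep pt2074c pt2074 := Classical.choose_spec pt2074e
theorem pt2075e : ∃ x, AP.Rep pt2075c x := via_rep _ _ (via_rep _ _ (act2_rep (n := 11) (d := 4) (by decide) (by decide) (c := 0x8) (by decide +kernel)))
noncomputable def pt2075 := Classical.choose pt2075e
theorem pt2075r : AP.Rep pt2075c pt2075 := Classical.choose_spec pt2075e
theorem pt2076e : ∃ x, AP.Rep pt2076c x := via_rep _ _ (via_rep _ _ (act2_rep (n := 11) (d := 4) (by decide) (by decide) (c := 0x40) (by decide +kernel)))
noncomputable def pt2076 := Classical.choose pt2076e
theorem pt2076r : AP.Rep pt2076c pt2076 := Classical.choose_spec pt2076e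
theorem pt2077e : ∃ x, AP.Rep pt2077c x := via_rep _ _ (via_rep _ _ (act2_rep (n := 11) (d := 4) (by decide) (by decide) (c := 0x10) (by decide +kernel)))
noncomputable def pt2077 := Classical.choose pt2077e
theorem pt2077r : AP.Rep pt2077c pt2077 := Classical.choose_spec pt2077e
theorem pt2078e : ∃ x, AP.Rep pt2078c x := via_rep _ _ (via_rep _ _ (act2_rep (n := 11) (d := 4) (by decide) (by decide) (c := 0x80) (by decide +kernel)))
noncomputable def pt2078 := Classical.choose pt2078e
theorem pt2078r : AP.Rep pt2078c pt2078 := Classical.choose_spec pt2078e
theorem pt2079e : ∃ x, AP.Rep pt2079c x := via_rep _ _ (via_rep _ _ (act2_rep (n := 11) (d := 4) (by decide) (by decide) (c := 0x100) (by decide +kernel)))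
noncomputable def pt2079 := Classical.choose pt2079e
theorem pt2079r : AP.Rep pt2079c pt2079 := Classical.choose_spec pt2079e
theorem pt2080e : ∃ x, AV.Rep pt2080c x := via_rep _ _ (PP.exists_vec P_ok (c := 0x400010004000300000004000400020003000200040002000400030001000400040001000000010004000100010003000400040004000200000003000000030002000300040001000000040003000000020004000200010003000300010003000000040003000400030004000200020001000400030004000200000002000100000004000300000002000300010001000200010004000300030001000400000003000100030000000400000000000000020000000400010002000300000004000300030000000300000001000300030003000300000002000000040001) (by decide +kernel))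
noncomputable def pt2080 := Classical.choose pt2080e
theorem pt2080r : AV.Rep pt2080c pt2080 := Classical.choose_spec pt2080e
theorem A1T1_s0_2083 : CA.Mem R (CA.gen R 161759680002903838768002090522117784041822866535243434886621661495296) 27553065493827953870149689418934062548457161599836465075687889674698752 := A1T1_m0.slp' chk2082
theorem A1T1_c0i : CA.Mem R (CA.gen R 161759680002903838768002090522117784041822866535243434886621661495296) 27391305813825050031381687328411944764415338733301221640801268013203456 := A1T1_s0_2083.sub chk2084
theorem A1T1_c0m : CA.Mem R (CA.gen R 27391305813825050031381687328411944764415338733301221640801268013203456) 27391305813825050031381687328411944764415338733301221640801268013203456 := A1T1_c0i.gen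
theorem fx2086 : CA.gen R 27391305813825050031381687328411944764415338733301221640801268013203456 ≤ stabilizer _ pt2074 := Act.fix_sound A1T1_c0i.top pt2074r chk2085
theorem cov2093 : Cov (CA.gen R 161759680002903838768002090522117784041822866535243434886621661495296) (CA.wds R [0]) pt2074 8 := Act.cov_of_seen (Act.pieces_sound A1T1_s0_2083 A1T1_s0_2083.top pt2074r chk2091) chk2092
theorem A1T1_c1i : CA.Mem R (CA.gen R 27391305813825050031381687328411944764415338733301221640801268013203456) 27175626240487844913024351207715787719026241577920897060952439131209728 := A1T1_c0m.sub chk2094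
theorem A1T1_c1m : CA.Mem R (CA.gen R 27175626240487844913024351207715787719026241577920897060952439131209728) 27175626240487844913024351207715787719026241577920897060952439131209728 := A1T1_c1i.gen
theorem fx2096 : CA.gen R 27175626240487844913024351207715787719026241577920897060952439131209728 ≤ stabilizer _ pt2075 := Act.fix_sound A1T1_c1i.top pt2075r chk2095
theorem cov2103 : Cov (CA.gen R 27391305813825050031381687328411944764415338733301221640801268013203456) (CA.wds R [0]) pt2075 7 := Act.cov_of_seen (Act.pieces_sound A1T1_c0m A1T1_c0m.top pt2075r chk2101) chk2102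
theorem A1T1_c2i : CA.Mem R (CA.gen R 27175626240487844913024351207715787719026241577920897060952439131209728) 25881548800464614202880334483538845446691658645638949581859465839247360 := A1T1_c1m.sub chk2104
theorem A1T1_c2m : CA.Mem R (CA.gen R 25881548800464614202880334483538845446691658645638949581859465839247360) 25881548800464614202880334483538845446691658645638949581859465839247360 := A1T1_c2i.gen
theorem fx2106 : CA.gen R 25881548800464614202880334483538845446691658645638949581859465839247360 ≤ stabilizer _ pt2076 := Act.fix_sound A1T1_c2i.top pt2076r chk2105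
theorem cov2113 : Cov (CA.gen R 27175626240487844913024351207715787719026241577920897060952439131209728) (CA.wds R [0]) pt2076 6 := Act.cov_of_seen (Act.pieces_sound A1T1_c1m A1T1_c1m.top pt2076r chk2111) chk2112
theorem A1T1_c3i : CA.Mem R (CA.gen R 25881548800464614202880334483538845446691658645638949581859465839247360) 24156112213766973256021645517969589083578881402596352943068834783297536 := A1T1_c2m.sub chk2114
theorem A1T1_c3m : CA.Mem R (CA.gen R 24156112213766973256021645517969589083578881402596352943068834783297536) 24156112213766973256021645517969589083578881402596352943068834783297536 := A1T1_c3i.gen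
theorem fx2116 : CA.gen R 24156112213766973256021645517969589083578881402596352943068834783297536 ≤ stabilizer _ pt2077 := Act.fix_sound A1T1_c3i.top pt2077r chk2115
theorem cov2123 : Cov (CA.gen R 25881548800464614202880334483538845446691658645638949581859465839247360) (CA.wds R [0]) pt2077 5 := Act.cov_of_seen (Act.pieces_sound A1T1_c2m A1T1_c2m.top pt2077r chk2121) chk2122
theorem A1T1_c4i : CA.Mem R (CA.gen R 24156112213766973256021645517969589083578881402596352943068834783297536) 20705239040371691362304267586831076357353326916511159665487572671397888 := A1T1_c3m.sub chk2124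
theorem A1T1_c4m : CA.Mem R (CA.gen R 20705239040371691362304267586831076357353326916511159665487572671397888) 20705239040371691362304267586831076357353326916511159665487572671397888 := A1T1_c4i.gen
theorem fx2126 : CA.gen R 20705239040371691362304267586831076357353326916511159665487572671397888 ≤ stabilizer _ pt2078 := Act.fix_sound A1T1_c4i.top pt2078r chk2125
theorem cov2133 : Cov (CA.gen R 24156112213766973256021645517969589083578881402596352943068834783297536) (CA.wds R [0]) pt2078 4 := Act.cov_of_seen (Act.pieces_sound A1T1_c3m A1T1_c3m.top pt2078r chk2131) chk2132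
theorem A1T1_c5i : CA.Mem R (CA.gen R 20705239040371691362304267586831076357353326916511159665487572671397888) 13803492693581127574869511724554050904902217944340773110325048447598592 := A1T1_c4m.sub chk2134
theorem A1T1_c5m : CA.Mem R (CA.gen R 13803492693581127574869511724554050904902217944340773110325048447598592) 13803492693581127574869511724554050904902217944340773110325048447598592 := A1T1_c5i.gen
theorem fx2136 : CA.gen R 13803492693581127574869511724554050904902217944340773110325048447598592 ≤ stabilizer _ pt2079 := Act.fix_sound A1T1_c5i.top pt2079r chk2135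
theorem cov2143 : Cov (CA.gen R 20705239040371691362304267586831076357353326916511159665487572671397888) (CA.wds R [0]) pt2079 3 := Act.cov_of_seen (Act.pieces_sound A1T1_c4m A1T1_c4m.top pt2079r chk2141) chk2142
theorem A1T1_c6i : CA.Mem R (CA.gen R 13803492693581127574869511724554050904902217944340773110325048447598592) 0 := A1T1_c5m.sub chk2144
theorem A1T1_c6m : CA.Mem R (CA.gen R 0) 0 := A1T1_c6i.gen
theorem fx2146 : CA.gen R 0 ≤ stabilizer _ pt2080 := Act.fix_sound A1T1_c6i.top pt2080r chk2145
theorem cov2153 : Cov (CA.gen R 13803492693581127574869511724554050904902217944340773110325048447598592) (CA.wds R [0]) pt2080 2 := Act.cov_of_seen (Act.pieces_sound A1T1_c5m A1T1_c5m.top pt2080r chk2151) chk2152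
theorem A1T1_lb7 : 1 ≤ Nat.card (CA.gen R 0) := Nat.card_pos
theorem A1T1_lo6 : 2 * Nat.card (CA.gen R 0) ≤ Nat.card (CA.gen R 13803492693581127574869511724554050904902217944340773110325048447598592) := cov2153.low le_rfl (GC.wds_zero _) A1T1_c6i.gen_le fx2146
theorem A1T1_lb6 : 2 ≤ Nat.card (CA.gen R 13803492693581127574869511724554050904902217944340773110325048447598592) := low_step A1T1_lo6 A1T1_lb7 (by decide +kernel)
theorem A1T1_lo5 : 3 * Nat.card (CA.gen R 13803492693581127574869511724554050904902217944340773110325048447598592) ≤ Nat.card (CA.gen R 20705239040371691362304267586831076357353326916511159665487572671397888) := cov2143.low le_rfl (GC.wds_zero _) A1T1_c5i.gen_le fx2136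
theorem A1T1_lb5 : 6 ≤ Nat.card (CA.gen R 20705239040371691362304267586831076357353326916511159665487572671397888) := low_step A1T1_lo5 A1T1_lb6 (by decide +kernel)
theorem A1T1_lo4 : 4 * Nat.card (CA.gen R 20705239040371691362304267586831076357353326916511159665487572671397888) ≤ Nat.card (CA.gen R 24156112213766973256021645517969589083578881402596352943068834783297536) := cov2133.low le_rfl (GC.wds_zero _) A1T1_c4i.gen_le fx2126
theorem A1T1_lb4 : 24 ≤ Nat.card (CA.gen R 24156112213766973256021645517969589083578881402596352943068834783297536) := low_step A1T1_lo4 A1T1_lb5 (by decide +kernel)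
theorem A1T1_lo3 : 5 * Nat.card (CA.gen R 24156112213766973256021645517969589083578881402596352943068834783297536) ≤ Nat.card (CA.gen R 25881548800464614202880334483538845446691658645638949581859465839247360) := cov2123.low le_rfl (GC.wds_zero _) A1T1_c3i.gen_le fx2116
theorem A1T1_lb3 : 120 ≤ Nat.card (CA.gen R 25881548800464614202880334483538845446691658645638949581859465839247360) := low_step A1T1_lo3 A1T1_lb4 (by decide +kernel)
theorem A1T1_lo2 : 6 * Nat.card (CA.gen R 25881548800464614202880334483538845446691658645638949581859465839247360) ≤ Nat.card (CA.gen R 27175626240487844913024351207715787719026241577920897060952439131209728) := cov2113.low le_rfl (GC.wds_zero _) A1T1_c2i.gen_le fx2106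
theorem A1T1_lb2 : 720 ≤ Nat.card (CA.gen R 27175626240487844913024351207715787719026241577920897060952439131209728) := low_step A1T1_lo2 A1T1_lb3 (by decide +kernel)
theorem A1T1_lo1 : 7 * Nat.card (CA.gen R 27175626240487844913024351207715787719026241577920897060952439131209728) ≤ Nat.card (CA.gen R 27391305813825050031381687328411944764415338733301221640801268013203456) := cov2103.low le_rfl (GC.wds_zero _) A1T1_c1i.gen_le fx2096
theorem A1T1_lb1 : 5040 ≤ Nat.card (CA.gen R 27391305813825050031381687328411944764415338733301221640801268013203456) := low_step A1T1_lo1 A1T1_lb2 (by decide +kernel)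
theorem A1T1_lo0 : 8 * Nat.card (CA.gen R 27391305813825050031381687328411944764415338733301221640801268013203456) ≤ Nat.card (CA.gen R 161759680002903838768002090522117784041822866535243434886621661495296) := cov2093.low le_rfl (GC.wds_zero _) A1T1_c0i.gen_le fx2086
theorem A1T1_lb0 : 40320 ≤ Nat.card (CA.gen R 161759680002903838768002090522117784041822866535243434886621661495296) := low_step A1T1_lo0 A1T1_lb1 (by decide +kernel)
theorem A1_T1c : ∀ τ ∈ (CA.gen R 161759680002903838768002090522117784041822866535243434886621661495296), CA.el (R 155) * τ * (CA.el (R 155))⁻¹ ∈ (CA.gen R 46676708542255711950130184344876288940261345591296) := A2_m0.conjA (A1_I.get (i := 155) (by decide +kernel)).top A1T1_in2073.top chk2155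
theorem cov2164 : Cov (CA.gen R 161759680002903838768002090522117784041822866535243434886621661495296) (CA.wds R (List.map Prod.fst (l2156))) pt1953 9 := Act.cov_of_seen (Act.pieces_sound A1T1_s0_2083 A2_m0.top pt1953r chk2162) chk2163
theorem A1_T1d : Dec (CA.gen R 46676708542255711950130184344876288940261345591296) (CA.gen R 161759680002903838768002090522117784041822866535243434886621661495296) (CA.wds R (List.map Prod.fst (l2156))) (CA.gen R 315936875005671560093754083051011296956685286201647333762932932608) := cov2164.dec A1T1_in2073.gen_le (GC.wds_sub A2_m0 chk2165) A1K_in1964.gen_le fx2048 (up_low A2_ub A1K_lb0 (by decide +kernel))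
theorem A1_T1p : ∀ x ∈ DC1 (CA.gen R 46676708542255711950130184344876288940261345591296) (CA.el (R 155)), x * CA.el (R 155) ∈ DCs (CA.gen R 46676708542255711950130184344876288940261345591296) (CA.els R 45671926166590716193865151022383844364247891968) := GC.dc_piece' A1_T1d A1_T1c A1_Kc (A2_m0.dcRel A1_I.top (A1_I.get (i := 155) (by decide +kernel)).top (A1_m0.get (i := 155) (by decide +kernel)).top chk2157)
theorem A1_T1u : Nat.card (CA.gen R 46676708542255711950130184344876288940261345591296) ≤ 9 * Nat.card (CA.gen R 161759680002903838768002090522117784041822866535243434886621661495296) := up_low A2_ub A1T1_lb0 (by decide +kernel)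
theorem A1_T1n : (DC1 (CA.gen R 46676708542255711950130184344876288940261345591296) (CA.el (R 155))).ncard ≤ Nat.card (CA.gen R 46676708542255711950130184344876288940261345591296) * 9 := ncard_DC1 A1T1_in2073.gen_le A1_T1c A1_T1u
theorem A1_dc : ∀ x ∈ (CA.gen R 46722380468422302666324049495898672784625593483264), x ∈ DCs (CA.gen R 46676708542255711950130184344876288940261345591296) (CA.els R 45671926166590716193865151022383844364247891968) := GC.dc_gen (MU := 45671926166590716193865151022383844364247891968) A2_m0 (by decide +kernel) (GC.forall_els (L := [155]) (forall_cons ⟨A2_m0.inDC' A1_I.top (A1_m0.get (i := 155) (by decide +kernel)).top chk2166, GC.forall_els (L := [155]) (forall_cons A1_T1p forall_nil) (by decide +kernel)⟩ forall_nil) (by decide +kernel))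
theorem A1_cs : ∀ p ∈ ([(155, 9)] : List (ℕ × ℕ)), (DC1 (CA.gen R 46676708542255711950130184344876288940261345591296) (CA.el (R p.1))).ncard ≤ Nat.card (CA.gen R 46676708542255711950130184344876288940261345591296) * p.2 := (forall_cons A1_T1n forall_nil)
theorem A1_ix : Nat.card (CA.gen R 46722380468422302666324049495898672784625593483264) ≤ 10 * Nat.card (CA.gen R 46676708542255711950130184344876288940261345591296) := GC.card_dc [(155, 9)] A1_dc A1_cs (by decide +kernel)
theorem A1_ub : Nat.card (CA.gen R 46722380468422302666324049495898672784625593483264) ≤ 3628800 := up_mul A1_ix A2_ub (by decide +kernel)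
theorem pt2168e : ∃ x, AP.Rep pt2168c x := via_rep _ _ (via_rep _ _ (act2_rep (n := 11) (d := 4) (by decide) (by decide) (c := 0x2) (by decide +kernel)))
noncomputable def pt2168 := Classical.choose pt2168e
theorem pt2168r : AP.Rep pt2168c pt2168 := Classical.choose_spec pt2168e
theorem A0_m0 : CA.Mem R (CA.gen R 46745216431505598024420982071409864706807717429248) 46745216431505598024420982071409864706807717429248 := GC.Mem.gen (vA.sub chk2167)
theorem A0_I : CA.Mem R (CA.gen R 46745216431505598024420982071409864706807717429248) 22835963083295358096932575511191922182123945984 := A0_m0.sub chk2169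
theorem A0K_in2179 : CA.Mem R (CA.gen R 46722380468422302666324049495898672784625593483264) 82820956161486765449217070347324305429413307666044638661950290685591552 := A1_m0.slp' chk2178
theorem A0K_m0 : CA.Mem R (CA.gen R 82820956161486765449217070347324305429413307666044638661950290685591552) 82820956161486765449217070347324305429413307666044638661950290685591552 := GC.Mem.gen A0K_in2179.top
theorem pt2180e : ∃ x, AP.Rep pt2180c x := via_rep _ _ (via_rep _ _ (act2_rep (n := 11) (d := 4) (by decide) (by decide) (c := 0x8) (by decide +kernel)))
noncomputable def pt2180 := Classical.choose pt2180e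
theorem pt2180r : AP.Rep pt2180c pt2180 := Classical.choose_spec pt2180e
theorem pt2181e : ∃ x, AP.Rep pt2181c x := via_rep _ _ (via_rep _ _ (act2_rep (n := 11) (d := 4) (by decide) (by decide) (c := 0x4) (by decide +kernel)))
noncomputable def pt2181 := Classical.choose pt2181e
theorem pt2181r : AP.Rep pt2181c pt2181 := Classical.choose_spec pt2181e
theorem pt2182e : ∃ x, AP.Rep pt2182c x := via_rep _ _ (via_rep _ _ (act2_rep (n := 11) (d := 4) (by decide) (by decide) (c := 0x10) (by decide +kernel)))
noncomputable def pt2182 := Classical.choose pt2182e
theorem pt2182r : AP.Rep pt2182c pt2182 := Classical.choose_spec pt2182e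
theorem pt2183e : ∃ x, AP.Rep pt2183c x := via_rep _ _ (via_rep _ _ (act2_rep (n := 11) (d := 4) (by decide) (by decide) (c := 0x20) (by decide +kernel)))
noncomputable def pt2183 := Classical.choose pt2183e
theorem pt2183r : AP.Rep pt2183c pt2183 := Classical.choose_spec pt2183e
theorem pt2184e : ∃ x, AP.Rep pt2184c x := via_rep _ _ (via_rep _ _ (act2_rep (n := 11) (d := 4) (by decide) (by decide) (c := 0x40) (by decide +kernel)))
noncomputable def pt2184 := Classical.choose pt2184e
theorem pt2184r : AP.Rep pt2184c pt2184 := Classical.choose_spec pt2184e
theorem pt2185e : ∃ x, AP.Rep pt2185c x := via_rep _ _ (via_rep _ _ (act2_rep (n := 11) (d := 4) (by decide) (by decide) (c := 0x100) (by decide +kernel)))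
noncomputable def pt2185 := Classical.choose pt2185e
theorem pt2185r : AP.Rep pt2185c pt2185 := Classical.choose_spec pt2185e
theorem pt2186e : ∃ x, AP.Rep pt2186c x := via_rep _ _ (via_rep _ _ (act2_rep (n := 11) (d := 4) (by decide) (by decide) (c := 0x80) (by decide +kernel)))
noncomputable def pt2186 := Classical.choose pt2186e
theorem pt2186r : AP.Rep pt2186c pt2186 := Classical.choose_spec pt2186e
theorem pt2187e : ∃ x, AV.Rep pt2187c x := via_rep _ _ (PP.exists_vec P_ok (c := 0x400010004000300000004000400020003000200040002000400030001000400040001000000010004000100010003000400040004000200000003000000030002000300040001000000040003000000020004000200010003000300010003000000040003000400030004000200020001000400030004000200000002000100000004000300000002000300010001000200010004000300030001000400000003000100030000000400000000000000020000000400010002000300000004000300030000000300000001000300030003000300000002000000040001) (by decide +kernel))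
noncomputable def pt2187 := Classical.choose pt2187e
theorem pt2187r : AV.Rep pt2187c pt2187 := Classical.choose_spec pt2187e
theorem A0K_s0_2190 : CA.Mem R (CA.gen R 82820956161486765449217070347324305429413307666044638661950290685591552) 56511499087521136291515781000324284404669680264131125113670748344468635648 := A0K_m0.slp' chk2189
theorem A0K_c0i : CA.Mem R (CA.gen R 82820956161486765449217070347324305429413307666044638661950290685591552) 56428678131359649526066563929976960099240266956465080475008798053783044096 := A0K_s0_2190.sub chk2191
theorem A0K_c0m : CA.Mem R (CA.gen R 56428678131359649526066563929976960099240266956465080475008798053783044096) 56428678131359649526066563929976960099240266956465080475008798053783044096 := A0K_c0i.gen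
theorem fx2193 : CA.gen R 56428678131359649526066563929976960099240266956465080475008798053783044096 ≤ stabilizer _ pt2180 := Act.fix_sound A0K_c0i.top pt2180r chk2192
theorem cov2200 : Cov (CA.gen R 82820956161486765449217070347324305429413307666044638661950290685591552) (CA.wds R [0]) pt2180 9 := Act.cov_of_seen (Act.pieces_sound A0K_s0_2190 A0K_s0_2190.top pt2180r chk2198) chk2199
theorem A0K_c1i : CA.Mem R (CA.gen R 56428678131359649526066563929976960099240266956465080475008798053783044096) 56318250189811000505467607836180527692001049212910354290126197666202255360 := A0K_c0m.sub chk2201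
theorem A0K_c1m : CA.Mem R (CA.gen R 56318250189811000505467607836180527692001049212910354290126197666202255360) 56318250189811000505467607836180527692001049212910354290126197666202255360 := A0K_c1i.gen
theorem fx2203 : CA.gen R 56318250189811000505467607836180527692001049212910354290126197666202255360 ≤ stabilizer _ pt2181 := Act.fix_sound A0K_c1i.top pt2181r chk2202
theorem cov2210 : Cov (CA.gen R 56428678131359649526066563929976960099240266956465080475008798053783044096) (CA.wds R [0]) pt2181 8 := Act.cov_of_seen (Act.pieces_sound A0K_c0m A0K_c0m.top pt2181r chk2208) chk2209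
theorem A0K_c2i : CA.Mem R (CA.gen R 56318250189811000505467607836180527692001049212910354290126197666202255360) 56097394306713702464269695648587662877522613725800901920360996891040677888 := A0K_c1m.sub chk2211
theorem A0K_c2m : CA.Mem R (CA.gen R 56097394306713702464269695648587662877522613725800901920360996891040677888) 56097394306713702464269695648587662877522613725800901920360996891040677888 := A0K_c2i.gen
theorem fx2213 : CA.gen R 56097394306713702464269695648587662877522613725800901920360996891040677888 ≤ stabilizer _ pt2182 := Act.fix_sound A0K_c2i.top pt2182r chk2212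
theorem cov2220 : Cov (CA.gen R 56318250189811000505467607836180527692001049212910354290126197666202255360) (CA.wds R [0]) pt2182 7 := Act.cov_of_seen (Act.pieces_sound A0K_c1m A0K_c1m.top pt2182r chk2218) chk2219
theorem A0K_c3i : CA.Mem R (CA.gen R 56097394306713702464269695648587662877522613725800901920360996891040677888) 53888835475740722052290573772659014732738258854706378222708989139424903168 := A0K_c2m.sub chk2221
theorem A0K_c3m : CA.Mem R (CA.gen R 53888835475740722052290573772659014732738258854706378222708989139424903168) 53888835475740722052290573772659014732738258854706378222708989139424903168 := A0K_c3i.gen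
theorem fx2223 : CA.gen R 53888835475740722052290573772659014732738258854706378222708989139424903168 ≤ stabilizer _ pt2183 := Act.fix_sound A0K_c3i.top pt2183r chk2222
theorem cov2230 : Cov (CA.gen R 56097394306713702464269695648587662877522613725800901920360996891040677888) (CA.wds R [0]) pt2183 6 := Act.cov_of_seen (Act.pieces_sound A0K_c2m A0K_c2m.top pt2183r chk2228) chk2229
theorem A0K_c4i : CA.Mem R (CA.gen R 53888835475740722052290573772659014732738258854706378222708989139424903168) 49471717813794761228332330020801718443169549112517330827404973636193353728 := A0K_c3m.sub chk2231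
theorem A0K_c4m : CA.Mem R (CA.gen R 49471717813794761228332330020801718443169549112517330827404973636193353728) 49471717813794761228332330020801718443169549112517330827404973636193353728 := A0K_c4i.gen
theorem fx2233 : CA.gen R 49471717813794761228332330020801718443169549112517330827404973636193353728 ≤ stabilizer _ pt2184 := Act.fix_sound A0K_c4i.top pt2184r chk2232
theorem cov2240 : Cov (CA.gen R 53888835475740722052290573772659014732738258854706378222708989139424903168) (CA.wds R [0]) pt2184 5 := Act.cov_of_seen (Act.pieces_sound A0K_c3m A0K_c3m.top pt2184r chk2238) chk2239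
theorem A0K_c5i : CA.Mem R (CA.gen R 49471717813794761228332330020801718443169549112517330827404973636193353728) 42404329554681223909999140017830044379859613525014854994918548831022874624 := A0K_c4m.sub chk2241
theorem A0K_c5m : CA.Mem R (CA.gen R 42404329554681223909999140017830044379859613525014854994918548831022874624) 42404329554681223909999140017830044379859613525014854994918548831022874624 := A0K_c5i.gen
theorem fx2243 : CA.gen R 42404329554681223909999140017830044379859613525014854994918548831022874624 ≤ stabilizer _ pt2185 := Act.fix_sound A0K_c5i.top pt2185r chk2242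
theorem cov2250 : Cov (CA.gen R 49471717813794761228332330020801718443169549112517330827404973636193353728) (CA.wds R [0]) pt2185 4 := Act.cov_of_seen (Act.pieces_sound A0K_c4m A0K_c4m.top pt2185r chk2248) chk2249
theorem A0K_c6i : CA.Mem R (CA.gen R 42404329554681223909999140017830044379859613525014854994918548831022874624) 28269553036454149273332760011886696253239742350009903329945699220681916416 := A0K_c5m.sub chk2251
theorem A0K_c6m : CA.Mem R (CA.gen R 28269553036454149273332760011886696253239742350009903329945699220681916416) 28269553036454149273332760011886696253239742350009903329945699220681916416 := A0K_c6i.gen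
theorem fx2253 : CA.gen R 28269553036454149273332760011886696253239742350009903329945699220681916416 ≤ stabilizer _ pt2186 := Act.fix_sound A0K_c6i.top pt2186r chk2252
theorem cov2260 : Cov (CA.gen R 42404329554681223909999140017830044379859613525014854994918548831022874624) (CA.wds R [0]) pt2186 3 := Act.cov_of_seen (Act.pieces_sound A0K_c5m A0K_c5m.top pt2186r chk2258) chk2259
theorem A0K_c7i : CA.Mem R (CA.gen R 28269553036454149273332760011886696253239742350009903329945699220681916416) 0 := A0K_c6m.sub chk2261
theorem A0K_c7m : CA.Mem R (CA.gen R 0) 0 := A0K_c7i.gen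
theorem fx2263 : CA.gen R 0 ≤ stabilizer _ pt2187 := Act.fix_sound A0K_c7i.top pt2187r chk2262
theorem cov2270 : Cov (CA.gen R 28269553036454149273332760011886696253239742350009903329945699220681916416) (CA.wds R [0]) pt2187 2 := Act.cov_of_seen (Act.pieces_sound A0K_c6m A0K_c6m.top pt2187r chk2268) chk2269
theorem A0K_lb8 : 1 ≤ Nat.card (CA.gen R 0) := Nat.card_pos
theorem A0K_lo7 : 2 * Nat.card (CA.gen R 0) ≤ Nat.card (CA.gen R 28269553036454149273332760011886696253239742350009903329945699220681916416) := cov2270.low le_rfl (GC.wds_zero _) A0K_c7i.gen_le fx2263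
theorem A0K_lb7 : 2 ≤ Nat.card (CA.gen R 28269553036454149273332760011886696253239742350009903329945699220681916416) := low_step A0K_lo7 A0K_lb8 (by decide +kernel)
theorem A0K_lo6 : 3 * Nat.card (CA.gen R 28269553036454149273332760011886696253239742350009903329945699220681916416) ≤ Nat.card (CA.gen R 42404329554681223909999140017830044379859613525014854994918548831022874624) := cov2260.low le_rfl (GC.wds_zero _) A0K_c6i.gen_le fx2253
theorem A0K_lb6 : 6 ≤ Nat.card (CA.gen R 42404329554681223909999140017830044379859613525014854994918548831022874624) := low_step A0K_lo6 A0K_lb7 (by decide +kernel)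
theorem A0K_lo5 : 4 * Nat.card (CA.gen R 42404329554681223909999140017830044379859613525014854994918548831022874624) ≤ Nat.card (CA.gen R 49471717813794761228332330020801718443169549112517330827404973636193353728) := cov2250.low le_rfl (GC.wds_zero _) A0K_c5i.gen_le fx2243
theorem A0K_lb5 : 24 ≤ Nat.card (CA.gen R 49471717813794761228332330020801718443169549112517330827404973636193353728) := low_step A0K_lo5 A0K_lb6 (by decide +kernel)
theorem A0K_lo4 : 5 * Nat.card (CA.gen R 49471717813794761228332330020801718443169549112517330827404973636193353728) ≤ Nat.card (CA.gen R 53888835475740722052290573772659014732738258854706378222708989139424903168) := cov2240.low le_rfl (GC.wds_zero _) A0K_c4i.gen_le fx2233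
theorem A0K_lb4 : 120 ≤ Nat.card (CA.gen R 53888835475740722052290573772659014732738258854706378222708989139424903168) := low_step A0K_lo4 A0K_lb5 (by decide +kernel)
theorem A0K_lo3 : 6 * Nat.card (CA.gen R 53888835475740722052290573772659014732738258854706378222708989139424903168) ≤ Nat.card (CA.gen R 56097394306713702464269695648587662877522613725800901920360996891040677888) := cov2230.low le_rfl (GC.wds_zero _) A0K_c3i.gen_le fx2223
theorem A0K_lb3 : 720 ≤ Nat.card (CA.gen R 56097394306713702464269695648587662877522613725800901920360996891040677888) := low_step A0K_lo3 A0K_lb4 (by decide +kernel)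
theorem A0K_lo2 : 7 * Nat.card (CA.gen R 56097394306713702464269695648587662877522613725800901920360996891040677888) ≤ Nat.card (CA.gen R 56318250189811000505467607836180527692001049212910354290126197666202255360) := cov2220.low le_rfl (GC.wds_zero _) A0K_c2i.gen_le fx2213
theorem A0K_lb2 : 5040 ≤ Nat.card (CA.gen R 56318250189811000505467607836180527692001049212910354290126197666202255360) := low_step A0K_lo2 A0K_lb3 (by decide +kernel)
theorem A0K_lo1 : 8 * Nat.card (CA.gen R 56318250189811000505467607836180527692001049212910354290126197666202255360) ≤ Nat.card (CA.gen R 56428678131359649526066563929976960099240266956465080475008798053783044096) := cov2210.low le_rfl (GC.wds_zero _) A0K_c1i.gen_le fx2203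
theorem A0K_lb1 : 40320 ≤ Nat.card (CA.gen R 56428678131359649526066563929976960099240266956465080475008798053783044096) := low_step A0K_lo1 A0K_lb2 (by decide +kernel)
theorem A0K_lo0 : 9 * Nat.card (CA.gen R 56428678131359649526066563929976960099240266956465080475008798053783044096) ≤ Nat.card (CA.gen R 82820956161486765449217070347324305429413307666044638661950290685591552) := cov2200.low le_rfl (GC.wds_zero _) A0K_c0i.gen_le fx2193
theorem A0K_lb0 : 362880 ≤ Nat.card (CA.gen R 82820956161486765449217070347324305429413307666044638661950290685591552) := low_step A0K_lo0 A0K_lb1 (by decide +kernel)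
theorem fx2274 : CA.gen R 82820956161486765449217070347324305429413307666044638661950290685591552 ≤ stabilizer _ pt2168 := Act.fix_sound A0K_in2179.top pt2168r chk2273
theorem A0_Kc : ∀ κ ∈ (CA.gen R 82820956161486765449217070347324305429413307666044638661950290685591552), (CA.el (R 154))⁻¹ * κ * CA.el (R 154) ∈ (CA.gen R 46722380468422302666324049495898672784625593483264) := A1_m0.conjB (A0_m0.get (i := 154) (by decide +kernel)).top A0K_in2179.top chk2272
theorem A0T1_in2277 : CA.Mem R (CA.gen R 46722380468422302666324049495898672784625593483264) 169617318218724895639996560071320177519438454100059419979674195324091498496 := A1_m0.slp' chk2276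
theorem A0T1_m0 : CA.Mem R (CA.gen R 169617318218724895639996560071320177519438454100059419979674195324091498496) 169617318218724895639996560071320177519438454100059419979674195324091498496 := GC.Mem.gen A0T1_in2277.top
theorem pt2278e : ∃ x, AP.Rep pt2278c x := via_rep _ _ (via_rep _ _ (act2_rep (n := 11) (d := 4) (by decide) (by decide) (c := 0x2) (by decide +kernel)))
noncomputable def pt2278 := Classical.choose pt2278e
theorem pt2278r : AP.Rep pt2278c pt2278 := Classical.choose_spec pt2278e
theorem pt2279e : ∃ x, AP.Rep pt2279c x := via_rep _ _ (via_rep _ _ (act2_rep (n := 11) (d := 4) (by decide) (by decide) (c := 0x8) (by decide +kernel)))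
noncomputable def pt2279 := Classical.choose pt2279e
theorem pt2279r : AP.Rep pt2279c pt2279 := Classical.choose_spec pt2279e
theorem pt2280e : ∃ x, AP.Rep pt2280c x := via_rep _ _ (via_rep _ _ (act2_rep (n := 11) (d := 4) (by decide) (by decide) (c := 0x10) (by decide +kernel)))
noncomputable def pt2280 := Classical.choose pt2280e
theorem pt2280r : AP.Rep pt2280c pt2280 := Classical.choose_spec pt2280e
theorem pt2281e : ∃ x, AP.Rep pt2281c x := via_rep _ _ (via_rep _ _ (act2_rep (n := 11) (d := 4) (by decide) (by decide) (c := 0x20) (by decide +kernel)))
noncomputable def pt2281 := Classical.choose pt2281e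
theorem pt2281r : AP.Rep pt2281c pt2281 := Classical.choose_spec pt2281e
theorem pt2282e : ∃ x, AP.Rep pt2282c x := via_rep _ _ (via_rep _ _ (act2_rep (n := 11) (d := 4) (by decide) (by decide) (c := 0x40) (by decide +kernel)))
noncomputable def pt2282 := Classical.choose pt2282e
theorem pt2282r : AP.Rep pt2282c pt2282 := Classical.choose_spec pt2282e
theorem pt2283e : ∃ x, AP.Rep pt2283c x := via_rep _ _ (via_rep _ _ (act2_rep (n := 11) (d := 4) (by decide) (by decide) (c := 0x80) (by decide +kernel)))
noncomputable def pt2283 := Classical.choose pt2283e
theorem pt2283r : AP.Rep pt2283c pt2283 := Classical.choose_spec pt2283e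
theorem pt2284e : ∃ x, AP.Rep pt2284c x := via_rep _ _ (via_rep _ _ (act2_rep (n := 11) (d := 4) (by decide) (by decide) (c := 0x100) (by decide +kernel)))
noncomputable def pt2284 := Classical.choose pt2284e
theorem pt2284r : AP.Rep pt2284c pt2284 := Classical.choose_spec pt2284e
theorem pt2285e : ∃ x, AV.Rep pt2285c x := via_rep _ _ (PP.exists_vec P_ok (c := 0x400010004000300000004000400020003000200040002000400030001000400040001000000010004000100010003000400040004000200000003000000030002000300040001000000040003000000020004000200010003000300010003000000040003000400030004000200020001000400030004000200000002000100000004000300000002000300010001000200010004000300030001000400000003000100030000000400000000000000020000000400010002000300000004000300030000000300000001000300030003000300000002000000040001) (by decide +kernel))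
noncomputable def pt2285 := Classical.choose pt2285e
theorem pt2285r : AV.Rep pt2285c pt2285 := Classical.choose_spec pt2285e
theorem A0T1_s0_2288 : CA.Mem R (CA.gen R 169617318218724895639996560071320177519438454100059419979674195324091498496) 115735550131243287125024319488664134460763505180940544232797692609471765807104 := A0T1_m0.slp' chk2287
theorem A0T1_c0i : CA.Mem R (CA.gen R 169617318218724895639996560071320177519438454100059419979674195324091498496) 115565932813024562229384322928592814283244066726840484812818018414147674308608 := A0T1_s0_2288.sub chk2289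
theorem A0T1_c0m : CA.Mem R (CA.gen R 115565932813024562229384322928592814283244066726840484812818018414147674308608) 115565932813024562229384322928592814283244066726840484812818018414147674308608 := A0T1_c0i.gen
theorem fx2291 : CA.gen R 115565932813024562229384322928592814283244066726840484812818018414147674308608 ≤ stabilizer _ pt2278 := Act.fix_sound A0T1_c0i.top pt2278r chk2290
theorem cov2298 : Cov (CA.gen R 169617318218724895639996560071320177519438454100059419979674195324091498496) (CA.wds R [0]) pt2278 9 := Act.cov_of_seen (Act.pieces_sound A0T1_s0_2288 A0T1_s0_2288.top pt2278r chk2296) chk2297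
theorem A0T1_c1i : CA.Mem R (CA.gen R 115565932813024562229384322928592814283244066726840484812818018414147674308608) 115339776388732929035197660848497720713218148788040405586178452820382218977280 := A0T1_c0m.sub chk2299
theorem A0T1_c1m : CA.Mem R (CA.gen R 115339776388732929035197660848497720713218148788040405586178452820382218977280) 115339776388732929035197660848497720713218148788040405586178452820382218977280 := A0T1_c1i.gen
theorem fx2301 : CA.gen R 115339776388732929035197660848497720713218148788040405586178452820382218977280 ≤ stabilizer _ pt2279 := Act.fix_sound A0T1_c1i.top pt2279r chk2300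
theorem cov2308 : Cov (CA.gen R 115565932813024562229384322928592814283244066726840484812818018414147674308608) (CA.wds R [0]) pt2279 8 := Act.cov_of_seen (Act.pieces_sound A0T1_c0m A0T1_c0m.top pt2279r chk2306) chk2307
theorem A0T1_c2i : CA.Mem R (CA.gen R 115339776388732929035197660848497720713218148788040405586178452820382218977280) 113982837842983129870077688367927159293062641155239930226341059257789486989312 := A0T1_c1m.sub chk2309
theorem A0T1_c2m : CA.Mem R (CA.gen R 113982837842983129870077688367927159293062641155239930226341059257789486989312) 113982837842983129870077688367927159293062641155239930226341059257789486989312 := A0T1_c2i.gen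
theorem fx2311 : CA.gen R 113982837842983129870077688367927159293062641155239930226341059257789486989312 ≤ stabilizer _ pt2280 := Act.fix_sound A0T1_c2i.top pt2280r chk2310
theorem cov2318 : Cov (CA.gen R 115339776388732929035197660848497720713218148788040405586178452820382218977280) (CA.wds R [0]) pt2280 7 := Act.cov_of_seen (Act.pieces_sound A0T1_c1m A0T1_c1m.top pt2280r chk2316) chk2317
theorem A0T1_c3i : CA.Mem R (CA.gen R 113982837842983129870077688367927159293062641155239930226341059257789486989312) 112173586448650064316584391727166410732855297644839296413224534507665844338688 := A0T1_c2m.sub chk2319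
theorem A0T1_c3m : CA.Mem R (CA.gen R 112173586448650064316584391727166410732855297644839296413224534507665844338688) 112173586448650064316584391727166410732855297644839296413224534507665844338688 := A0T1_c3i.gen
theorem fx2321 : CA.gen R 112173586448650064316584391727166410732855297644839296413224534507665844338688 ≤ stabilizer _ pt2281 := Act.fix_sound A0T1_c3i.top pt2281r chk2320
theorem cov2328 : Cov (CA.gen R 113982837842983129870077688367927159293062641155239930226341059257789486989312) (CA.wds R [0]) pt2281 6 := Act.cov_of_seen (Act.pieces_sound A0T1_c2m A0T1_c2m.top pt2281r chk2326) chk2327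
theorem A0T1_c4i : CA.Mem R (CA.gen R 112173586448650064316584391727166410732855297644839296413224534507665844338688) 108555083659983933209597798445644913612440610624038028786991485007418559037440 := A0T1_c3m.sub chk2329
theorem A0T1_c4m : CA.Mem R (CA.gen R 108555083659983933209597798445644913612440610624038028786991485007418559037440) 108555083659983933209597798445644913612440610624038028786991485007418559037440 := A0T1_c4i.gen
theorem fx2331 : CA.gen R 108555083659983933209597798445644913612440610624038028786991485007418559037440 ≤ stabilizer _ pt2282 := Act.fix_sound A0T1_c4i.top pt2282r chk2330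
theorem cov2338 : Cov (CA.gen R 112173586448650064316584391727166410732855297644839296413224534507665844338688) (CA.wds R [0]) pt2282 5 := Act.cov_of_seen (Act.pieces_sound A0T1_c3m A0T1_c3m.top pt2282r chk2336) chk2337
theorem A0T1_c5i : CA.Mem R (CA.gen R 108555083659983933209597798445644913612440610624038028786991485007418559037440) 86844066927987146567678238756515930889952488499230423029593188005934847229952 := A0T1_c4m.sub chk2339
theorem A0T1_c5m : CA.Mem R (CA.gen R 86844066927987146567678238756515930889952488499230423029593188005934847229952) 86844066927987146567678238756515930889952488499230423029593188005934847229952 := A0T1_c5i.gen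
theorem fx2341 : CA.gen R 86844066927987146567678238756515930889952488499230423029593188005934847229952 ≤ stabilizer _ pt2283 := Act.fix_sound A0T1_c5i.top pt2283r chk2340
theorem cov2348 : Cov (CA.gen R 108555083659983933209597798445644913612440610624038028786991485007418559037440) (CA.wds R [0]) pt2283 4 := Act.cov_of_seen (Act.pieces_sound A0T1_c4m A0T1_c4m.top pt2283r chk2346) chk2347
theorem A0T1_c6i : CA.Mem R (CA.gen R 86844066927987146567678238756515930889952488499230423029593188005934847229952) 57896044618658097711785492504343953926634992332820282019728792003956564819968 := A0T1_c5m.sub chk2349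
theorem A0T1_c6m : CA.Mem R (CA.gen R 57896044618658097711785492504343953926634992332820282019728792003956564819968) 57896044618658097711785492504343953926634992332820282019728792003956564819968 := A0T1_c6i.gen
theorem fx2351 : CA.gen R 57896044618658097711785492504343953926634992332820282019728792003956564819968 ≤ stabilizer _ pt2284 := Act.fix_sound A0T1_c6i.top pt2284r chk2350
theorem cov2358 : Cov (CA.gen R 86844066927987146567678238756515930889952488499230423029593188005934847229952) (CA.wds R [0]) pt2284 3 := Act.cov_of_seen (Act.pieces_sound A0T1_c5m A0T1_c5m.top pt2284r chk2356) chk2357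
theorem A0T1_c7i : CA.Mem R (CA.gen R 57896044618658097711785492504343953926634992332820282019728792003956564819968) 0 := A0T1_c6m.sub chk2359
theorem A0T1_c7m : CA.Mem R (CA.gen R 0) 0 := A0T1_c7i.gen
theorem fx2361 : CA.gen R 0 ≤ stabilizer _ pt2285 := Act.fix_sound A0T1_c7i.top pt2285r chk2360
theorem cov2368 : Cov (CA.gen R 57896044618658097711785492504343953926634992332820282019728792003956564819968) (CA.wds R [0]) pt2285 2 := Act.cov_of_seen (Act.pieces_sound A0T1_c6m A0T1_c6m.top pt2285r chk2366) chk2367
theorem A0T1_lb8 : 1 ≤ Nat.card (CA.gen R 0) := Nat.card_pos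
theorem A0T1_lo7 : 2 * Nat.card (CA.gen R 0) ≤ Nat.card (CA.gen R 57896044618658097711785492504343953926634992332820282019728792003956564819968) := cov2368.low le_rfl (GC.wds_zero _) A0T1_c7i.gen_le fx2361
theorem A0T1_lb7 : 2 ≤ Nat.card (CA.gen R 57896044618658097711785492504343953926634992332820282019728792003956564819968) := low_step A0T1_lo7 A0T1_lb8 (by decide +kernel)
theorem A0T1_lo6 : 3 * Nat.card (CA.gen R 57896044618658097711785492504343953926634992332820282019728792003956564819968) ≤ Nat.card (CA.gen R 86844066927987146567678238756515930889952488499230423029593188005934847229952) := cov2358.low le_rfl (GC.wds_zero _) A0T1_c6i.gen_le fx2351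
theorem A0T1_lb6 : 6 ≤ Nat.card (CA.gen R 86844066927987146567678238756515930889952488499230423029593188005934847229952) := low_step A0T1_lo6 A0T1_lb7 (by decide +kernel)
theorem A0T1_lo5 : 4 * Nat.card (CA.gen R 86844066927987146567678238756515930889952488499230423029593188005934847229952) ≤ Nat.card (CA.gen R 108555083659983933209597798445644913612440610624038028786991485007418559037440) := cov2348.low le_rfl (GC.wds_zero _) A0T1_c5i.gen_le fx2341
theorem A0T1_lb5 : 24 ≤ Nat.card (CA.gen R 108555083659983933209597798445644913612440610624038028786991485007418559037440) := low_step A0T1_lo5 A0T1_lb6 (by decide +kernel)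
theorem A0T1_lo4 : 5 * Nat.card (CA.gen R 108555083659983933209597798445644913612440610624038028786991485007418559037440) ≤ Nat.card (CA.gen R 112173586448650064316584391727166410732855297644839296413224534507665844338688) := cov2338.low le_rfl (GC.wds_zero _) A0T1_c4i.gen_le fx2331
theorem A0T1_lb4 : 120 ≤ Nat.card (CA.gen R 112173586448650064316584391727166410732855297644839296413224534507665844338688) := low_step A0T1_lo4 A0T1_lb5 (by decide +kernel)
theorem A0T1_lo3 : 6 * Nat.card (CA.gen R 112173586448650064316584391727166410732855297644839296413224534507665844338688) ≤ Nat.card (CA.gen R 113982837842983129870077688367927159293062641155239930226341059257789486989312) := cov2328.low le_rfl (GC.wds_zero _) A0T1_c3i.gen_le fx2321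
theorem A0T1_lb3 : 720 ≤ Nat.card (CA.gen R 113982837842983129870077688367927159293062641155239930226341059257789486989312) := low_step A0T1_lo3 A0T1_lb4 (by decide +kernel)
theorem A0T1_lo2 : 7 * Nat.card (CA.gen R 113982837842983129870077688367927159293062641155239930226341059257789486989312) ≤ Nat.card (CA.gen R 115339776388732929035197660848497720713218148788040405586178452820382218977280) := cov2318.low le_rfl (GC.wds_zero _) A0T1_c2i.gen_le fx2311
theorem A0T1_lb2 : 5040 ≤ Nat.card (CA.gen R 115339776388732929035197660848497720713218148788040405586178452820382218977280) := low_step A0T1_lo2 A0T1_lb3 (by decide +kernel)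
theorem A0T1_lo1 : 8 * Nat.card (CA.gen R 115339776388732929035197660848497720713218148788040405586178452820382218977280) ≤ Nat.card (CA.gen R 115565932813024562229384322928592814283244066726840484812818018414147674308608) := cov2308.low le_rfl (GC.wds_zero _) A0T1_c1i.gen_le fx2301
theorem A0T1_lb1 : 40320 ≤ Nat.card (CA.gen R 115565932813024562229384322928592814283244066726840484812818018414147674308608) := low_step A0T1_lo1 A0T1_lb2 (by decide +kernel)
theorem A0T1_lo0 : 9 * Nat.card (CA.gen R 115565932813024562229384322928592814283244066726840484812818018414147674308608) ≤ Nat.card (CA.gen R 169617318218724895639996560071320177519438454100059419979674195324091498496) := cov2298.low le_rfl (GC.wds_zero _) A0T1_c0i.gen_le fx2291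
theorem A0T1_lb0 : 362880 ≤ Nat.card (CA.gen R 169617318218724895639996560071320177519438454100059419979674195324091498496) := low_step A0T1_lo0 A0T1_lb1 (by decide +kernel)
theorem A0_T1c : ∀ τ ∈ (CA.gen R 169617318218724895639996560071320177519438454100059419979674195324091498496), CA.el (R 154) * τ * (CA.el (R 154))⁻¹ ∈ (CA.gen R 46722380468422302666324049495898672784625593483264) := A1_m0.conjA (A0_I.get (i := 154) (by decide +kernel)).top A0T1_in2277.top chk2370
theorem cov2379 : Cov (CA.gen R 169617318218724895639996560071320177519438454100059419979674195324091498496) (CA.wds R (List.map Prod.fst (l2371))) pt2168 10 := Act.cov_of_seen (Act.pieces_sound A0T1_s0_2288 A1_m0.top pt2168r chk2377) chk2378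
theorem A0_T1d : Dec (CA.gen R 46722380468422302666324049495898672784625593483264) (CA.gen R 169617318218724895639996560071320177519438454100059419979674195324091498496) (CA.wds R (List.map Prod.fst (l2371))) (CA.gen R 82820956161486765449217070347324305429413307666044638661950290685591552) := cov2379.dec A0T1_in2277.gen_le (GC.wds_sub A1_m0 chk2380) A0K_in2179.gen_le fx2274 (up_low A1_ub A0K_lb0 (by decide +kernel))
theorem A0_T1p : ∀ x ∈ DC1 (CA.gen R 46722380468422302666324049495898672784625593483264) (CA.el (R 154)), x * CA.el (R 154) ∈ DCs (CA.gen R 46722380468422302666324049495898672784625593483264) (CA.els R 22835963083295358096932575511191922182123945984) := GC.dc_piece' A0_T1d A0_T1c A0_Kc (A1_m0.dcRel A0_I.top (A0_I.get (i := 154) (by decide +kernel)).top (A0_m0.get (i := 154) (by decide +kernel)).top chk2372)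
theorem A0_T1u : Nat.card (CA.gen R 46722380468422302666324049495898672784625593483264) ≤ 10 * Nat.card (CA.gen R 169617318218724895639996560071320177519438454100059419979674195324091498496) := up_low A1_ub A0T1_lb0 (by decide +kernel)
theorem A0_T1n : (DC1 (CA.gen R 46722380468422302666324049495898672784625593483264) (CA.el (R 154))).ncard ≤ Nat.card (CA.gen R 46722380468422302666324049495898672784625593483264) * 10 := ncard_DC1 A0T1_in2277.gen_le A0_T1c A0_T1u
theorem A0_dc : ∀ x ∈ (CA.gen R 46745216431505598024420982071409864706807717429248), x ∈ DCs (CA.gen R 46722380468422302666324049495898672784625593483264) (CA.els R 22835963083295358096932575511191922182123945984) := GC.dc_gen (MU := 22835963083295358096932575511191922182123945984) A1_m0 (by decide +kernel) (GC.forall_els (L := [154]) (forall_cons ⟨A1_m0.inDC' A0_I.top (A0_m0.get (i := 154) (by decide +kernel)).top chk2381, GC.forall_els (L := [154]) (forall_cons A0_T1p forall_nil) (by decide +kernel)⟩ forall_nil) (by decide +kernel))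
theorem A0_cs : ∀ p ∈ ([(154, 10)] : List (ℕ × ℕ)), (DC1 (CA.gen R 46722380468422302666324049495898672784625593483264) (CA.el (R p.1))).ncard ≤ Nat.card (CA.gen R 46722380468422302666324049495898672784625593483264) * p.2 := (forall_cons A0_T1n forall_nil)
theorem A0_ix : Nat.card (CA.gen R 46745216431505598024420982071409864706807717429248) ≤ 11 * Nat.card (CA.gen R 46722380468422302666324049495898672784625593483264) := GC.card_dc [(154, 10)] A0_dc A0_cs (by decide +kernel)
theorem A0_ub : Nat.card (CA.gen R 46745216431505598024420982071409864706807717429248) ≤ 39916800 := up_mul A0_ix A1_ub (by decide +kernel)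
theorem Aq_m0 : CP.Mem R2 (CP.gen R2 46745216431505598024420982071409864706807717429248) 46745216431505598024420982071409864706807717429248 := GC.Mem.gen (A0_m0.map hA2).top
theorem Aq_map : (CP.gen R2 46745216431505598024420982071409864706807717429248) = (CA.gen R 46745216431505598024420982071409864706807717429248).map (MonoidHom.snd _ _) := A0_m0.gen_map hA2
theorem Aq_ub : Nat.card (CP.gen R2 46745216431505598024420982071409864706807717429248) ≤ 39916800 := Aq_map ▸ (card_map_le _ _).trans A0_ub
theorem pt2382e : ∃ x, E0.Rep pt2382c x := via_rep _ _ (act2_rep (n := 11) (d := 4) (by decide) (by decide) (c := 0x80) (by decide +kernel))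
noncomputable def pt2382 := Classical.choose pt2382e
theorem pt2382r : E0.Rep pt2382c pt2382 := Classical.choose_spec pt2382e
theorem pt2383e : ∃ x, E0.Rep pt2383c x := via_rep _ _ (act2_rep (n := 11) (d := 4) (by decide) (by decide) (c := 0x2) (by decide +kernel))
noncomputable def pt2383 := Classical.choose pt2383e
theorem pt2383r : E0.Rep pt2383c pt2383 := Classical.choose_spec pt2383e
theorem pt2384e : ∃ x, E0.Rep pt2384c x := via_rep _ _ (act2_rep (n := 11) (d := 4) (by decide) (by decide) (c := 0x4) (by decide +kernel))
noncomputable def pt2384 := Classical.choose pt2384e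
theorem pt2384r : E0.Rep pt2384c pt2384 := Classical.choose_spec pt2384e
theorem pt2385e : ∃ x, E0.Rep pt2385c x := via_rep _ _ (act2_rep (n := 11) (d := 4) (by decide) (by decide) (c := 0x40) (by decide +kernel))
noncomputable def pt2385 := Classical.choose pt2385e
theorem pt2385r : E0.Rep pt2385c pt2385 := Classical.choose_spec pt2385e
theorem pt2386e : ∃ x, E0.Rep pt2386c x := via_rep _ _ (act2_rep (n := 11) (d := 4) (by decide) (by decide) (c := 0x1) (by decide +kernel))
noncomputable def pt2386 := Classical.choose pt2386e
theorem pt2386r : E0.Rep pt2386c pt2386 := Classical.choose_spec pt2386e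
theorem pt2387e : ∃ x, E0.Rep pt2387c x := via_rep _ _ (act2_rep (n := 11) (d := 4) (by decide) (by decide) (c := 0x10) (by decide +kernel))
noncomputable def pt2387 := Classical.choose pt2387e
theorem pt2387r : E0.Rep pt2387c pt2387 := Classical.choose_spec pt2387e
theorem pt2388e : ∃ x, E0.Rep pt2388c x := via_rep _ _ (act2_rep (n := 11) (d := 4) (by decide) (by decide) (c := 0x20) (by decide +kernel))
noncomputable def pt2388 := Classical.choose pt2388e
theorem pt2388r : E0.Rep pt2388c pt2388 := Classical.choose_spec pt2388e
theorem pt2389e : ∃ x, E0.Rep pt2389c x := via_rep _ _ (act2_rep (n := 11) (d := 4) (by decide) (by decide) (c := 0x100) (by decide +kernel))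
noncomputable def pt2389 := Classical.choose pt2389e
theorem pt2389r : E0.Rep pt2389c pt2389 := Classical.choose_spec pt2389e
theorem pt2390e : ∃ x, E0.Rep pt2390c x := via_rep _ _ (act2_rep (n := 11) (d := 4) (by decide) (by decide) (c := 0x8) (by decide +kernel))
noncomputable def pt2390 := Classical.choose pt2390e
theorem pt2390r : E0.Rep pt2390c pt2390 := Classical.choose_spec pt2390e
theorem Aq_s0_2393 : CP.Mem R2 (CP.gen R2 46745216431505598024420982071409864706807717429248) 948453002942856956714469938206209398442565949994286281029268480473523252598145024 := Aq_m0.slp' chk2392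
theorem Aq_c0i : CP.Mem R2 (CP.gen R2 46745216431505598024420982071409864706807717429248) 948453002942856956714469938206162653226134444396261860047197070608816444880715776 := Aq_s0_2393.sub chk2394
theorem Aq_c0m : CP.Mem R2 (CP.gen R2 948453002942856956714469938206162653226134444396261860047197070608816444880715776) 948453002942856956714469938206162653226134444396261860047197070608816444880715776 := Aq_c0i.gen
theorem fx2396 : CP.gen R2 948453002942856956714469938206162653226134444396261860047197070608816444880715776 ≤ stabilizer _ pt2382 := Act.fix_sound Aq_c0i.top pt2382r chk2395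
theorem cov2403 : Cov (CP.gen R2 46745216431505598024420982071409864706807717429248) (CP.wds R2 [0]) pt2382 11 := Act.cov_of_seen (Act.pieces_sound Aq_s0_2393 Aq_s0_2393.top pt2382r chk2401) chk2402
theorem Aq_c1i : CP.Mem R2 (CP.gen R2 948453002942856956714469938206162653226134444396261860047197070608816444880715776) 948337210853619640519046367221153965318281174411596219483157613024808531751075840 := Aq_c0m.sub chk2404
theorem Aq_c1m : CP.Mem R2 (CP.gen R2 948337210853619640519046367221153965318281174411596219483157613024808531751075840) 948337210853619640519046367221153965318281174411596219483157613024808531751075840 := Aq_c1i.gen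
theorem fx2406 : CP.gen R2 948337210853619640519046367221153965318281174411596219483157613024808531751075840 ≤ stabilizer _ pt2383 := Act.fix_sound Aq_c1i.top pt2383r chk2405
theorem cov2413 : Cov (CP.gen R2 948453002942856956714469938206162653226134444396261860047197070608816444880715776) (CP.wds R2 [0]) pt2383 10 := Act.cov_of_seen (Act.pieces_sound Aq_c0m Aq_c0m.top pt2383r chk2411) chk2412
theorem Aq_c2i : CP.Mem R2 (CP.gen R2 948337210853619640519046367221153965318281174411596219483157613024808531751075840) 947642458318195743346504941311101837871161554503602376098920867520761052973236224 := Aq_c1m.sub chk2414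
theorem Aq_c2m : CP.Mem R2 (CP.gen R2 947642458318195743346504941311101837871161554503602376098920867520761052973236224) 947642458318195743346504941311101837871161554503602376098920867520761052973236224 := Aq_c2i.gen
theorem fx2416 : CP.gen R2 947642458318195743346504941311101837871161554503602376098920867520761052973236224 ≤ stabilizer _ pt2384 := Act.fix_sound Aq_c2i.top pt2384r chk2415
theorem cov2423 : Cov (CP.gen R2 948337210853619640519046367221153965318281174411596219483157613024808531751075840) (CP.wds R2 [0]) pt2384 9 := Act.cov_of_seen (Act.pieces_sound Aq_c1m Aq_c1m.top pt2384r chk2421) chk2422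
theorem Aq_c3i : CP.Mem R2 (CP.gen R2 947642458318195743346504941311101837871161554503602376098920867520761052973236224) 944863448176500154656339237670893328082683074871627002561973885504571137861877760 := Aq_c2m.sub chk2424
theorem Aq_c3m : CP.Mem R2 (CP.gen R2 944863448176500154656339237670893328082683074871627002561973885504571137861877760) 944863448176500154656339237670893328082683074871627002561973885504571137861877760 := Aq_c3i.gen
theorem fx2426 : CP.gen R2 944863448176500154656339237670893328082683074871627002561973885504571137861877760 ≤ stabilizer _ pt2385 := Act.fix_sound Aq_c3i.top pt2385r chk2425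
theorem cov2433 : Cov (CP.gen R2 947642458318195743346504941311101837871161554503602376098920867520761052973236224) (CP.wds R2 [0]) pt2385 8 := Act.cov_of_seen (Act.pieces_sound Aq_c2m Aq_c2m.top pt2385r chk2431) chk2432
theorem Aq_c4i : CP.Mem R2 (CP.gen R2 944863448176500154656339237670893328082683074871627002561973885504571137861877760) 896693939053776617360133707907279158415722761250720527921559530557279275931664384 := Aq_c3m.sub chk2434
theorem Aq_c4m : CP.Mem R2 (CP.gen R2 896693939053776617360133707907279158415722761250720527921559530557279275931664384) 896693939053776617360133707907279158415722761250720527921559530557279275931664384 := Aq_c4i.gen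
theorem fx2436 : CP.gen R2 896693939053776617360133707907279158415722761250720527921559530557279275931664384 ≤ stabilizer _ pt2386 := Act.fix_sound Aq_c4i.top pt2386r chk2435
theorem cov2443 : Cov (CP.gen R2 944863448176500154656339237670893328082683074871627002561973885504571137861877760) (CP.wds R2 [0]) pt2386 7 := Act.cov_of_seen (Act.pieces_sound Aq_c3m Aq_c3m.top pt2386r chk2441) chk2442
theorem Aq_c5i : CP.Mem R2 (CP.gen R2 896693939053776617360133707907279158415722761250720527921559530557279275931664384) 889283245342588380853025164866723132313113482232119531823034245180772835634708480 := Aq_c4m.sub chk2444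
theorem Aq_c5m : CP.Mem R2 (CP.gen R2 889283245342588380853025164866723132313113482232119531823034245180772835634708480) 889283245342588380853025164866723132313113482232119531823034245180772835634708480 := Aq_c5i.gen
theorem fx2446 : CP.gen R2 889283245342588380853025164866723132313113482232119531823034245180772835634708480 ≤ stabilizer _ pt2387 := Act.fix_sound Aq_c5i.top pt2387r chk2445
theorem cov2453 : Cov (CP.gen R2 896693939053776617360133707907279158415722761250720527921559530557279275931664384) (CP.wds R2 [0]) pt2387 6 := Act.cov_of_seen (Act.pieces_sound Aq_c4m Aq_c4m.top pt2387r chk2451) chk2452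
theorem Aq_c6i : CP.Mem R2 (CP.gen R2 889283245342588380853025164866723132313113482232119531823034245180772835634708480) 592855496895058920568683443244482088208742321488079687882022830120515223756472320 := Aq_c5m.sub chk2454
theorem Aq_c6m : CP.Mem R2 (CP.gen R2 592855496895058920568683443244482088208742321488079687882022830120515223756472320) 592855496895058920568683443244482088208742321488079687882022830120515223756472320 := Aq_c6i.gen
theorem fx2456 : CP.gen R2 592855496895058920568683443244482088208742321488079687882022830120515223756472320 ≤ stabilizer _ pt2388 := Act.fix_sound Aq_c6i.top pt2388r chk2455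
theorem cov2463 : Cov (CP.gen R2 889283245342588380853025164866723132313113482232119531823034245180772835634708480) (CP.wds R2 [0]) pt2388 5 := Act.cov_of_seen (Act.pieces_sound Aq_c5m Aq_c5m.top pt2388r chk2461) chk2462
theorem Aq_c7i : CP.Mem R2 (CP.gen R2 592855496895058920568683443244482088208742321488079687882022830120515223756472320) 474284397516047136454946754595585670566993857190463750305618264096412179005177856 := Aq_c6m.sub chk2464
theorem Aq_c7m : CP.Mem R2 (CP.gen R2 474284397516047136454946754595585670566993857190463750305618264096412179005177856) 474284397516047136454946754595585670566993857190463750305618264096412179005177856 := Aq_c7i.gen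
theorem fx2466 : CP.gen R2 474284397516047136454946754595585670566993857190463750305618264096412179005177856 ≤ stabilizer _ pt2389 := Act.fix_sound Aq_c7i.top pt2389r chk2465
theorem cov2473 : Cov (CP.gen R2 592855496895058920568683443244482088208742321488079687882022830120515223756472320) (CP.wds R2 [0]) pt2389 4 := Act.cov_of_seen (Act.pieces_sound Aq_c6m Aq_c6m.top pt2389r chk2471) chk2472
theorem Aq_c8i : CP.Mem R2 (CP.gen R2 474284397516047136454946754595585670566993857190463750305618264096412179005177856) 0 := Aq_c7m.sub chk2474
theorem Aq_c8m : CP.Mem R2 (CP.gen R2 0) 0 := Aq_c8i.gen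
theorem fx2476 : CP.gen R2 0 ≤ stabilizer _ pt2390 := Act.fix_sound Aq_c8i.top pt2390r chk2475
theorem cov2483 : Cov (CP.gen R2 474284397516047136454946754595585670566993857190463750305618264096412179005177856) (CP.wds R2 [0]) pt2390 3 := Act.cov_of_seen (Act.pieces_sound Aq_c7m Aq_c7m.top pt2390r chk2481) chk2482
theorem Aq_lb9 : 1 ≤ Nat.card (CP.gen R2 0) := Nat.card_pos
theorem Aq_lo8 : 3 * Nat.card (CP.gen R2 0) ≤ Nat.card (CP.gen R2 474284397516047136454946754595585670566993857190463750305618264096412179005177856) := cov2483.low le_rfl (GC.wds_zero _) Aq_c8i.gen_le fx2476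
theorem Aq_lb8 : 3 ≤ Nat.card (CP.gen R2 474284397516047136454946754595585670566993857190463750305618264096412179005177856) := low_step Aq_lo8 Aq_lb9 (by decide +kernel)
theorem Aq_lo7 : 4 * Nat.card (CP.gen R2 474284397516047136454946754595585670566993857190463750305618264096412179005177856) ≤ Nat.card (CP.gen R2 592855496895058920568683443244482088208742321488079687882022830120515223756472320) := cov2473.low le_rfl (GC.wds_zero _) Aq_c7i.gen_le fx2466
theorem Aq_lb7 : 12 ≤ Nat.card (CP.gen R2 592855496895058920568683443244482088208742321488079687882022830120515223756472320) := low_step Aq_lo7 Aq_lb8 (by decide +kernel)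
theorem Aq_lo6 : 5 * Nat.card (CP.gen R2 592855496895058920568683443244482088208742321488079687882022830120515223756472320) ≤ Nat.card (CP.gen R2 889283245342588380853025164866723132313113482232119531823034245180772835634708480) := cov2463.low le_rfl (GC.wds_zero _) Aq_c6i.gen_le fx2456
theorem Aq_lb6 : 60 ≤ Nat.card (CP.gen R2 889283245342588380853025164866723132313113482232119531823034245180772835634708480) := low_step Aq_lo6 Aq_lb7 (by decide +kernel)
theorem Aq_lo5 : 6 * Nat.card (CP.gen R2 889283245342588380853025164866723132313113482232119531823034245180772835634708480) ≤ Nat.card (CP.gen R2 896693939053776617360133707907279158415722761250720527921559530557279275931664384) := cov2453.low le_rfl (GC.wds_zero _) Aq_c5i.gen_le fx2446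
theorem Aq_lb5 : 360 ≤ Nat.card (CP.gen R2 896693939053776617360133707907279158415722761250720527921559530557279275931664384) := low_step Aq_lo5 Aq_lb6 (by decide +kernel)
theorem Aq_lo4 : 7 * Nat.card (CP.gen R2 896693939053776617360133707907279158415722761250720527921559530557279275931664384) ≤ Nat.card (CP.gen R2 944863448176500154656339237670893328082683074871627002561973885504571137861877760) := cov2443.low le_rfl (GC.wds_zero _) Aq_c4i.gen_le fx2436
theorem Aq_lb4 : 2520 ≤ Nat.card (CP.gen R2 944863448176500154656339237670893328082683074871627002561973885504571137861877760) := low_step Aq_lo4 Aq_lb5 (by decide +kernel)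
theorem Aq_lo3 : 8 * Nat.card (CP.gen R2 944863448176500154656339237670893328082683074871627002561973885504571137861877760) ≤ Nat.card (CP.gen R2 947642458318195743346504941311101837871161554503602376098920867520761052973236224) := cov2433.low le_rfl (GC.wds_zero _) Aq_c3i.gen_le fx2426
theorem Aq_lb3 : 20160 ≤ Nat.card (CP.gen R2 947642458318195743346504941311101837871161554503602376098920867520761052973236224) := low_step Aq_lo3 Aq_lb4 (by decide +kernel)
theorem Aq_lo2 : 9 * Nat.card (CP.gen R2 947642458318195743346504941311101837871161554503602376098920867520761052973236224) ≤ Nat.card (CP.gen R2 948337210853619640519046367221153965318281174411596219483157613024808531751075840) := cov2423.low le_rfl (GC.wds_zero _) Aq_c2i.gen_le fx2416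
theorem Aq_lb2 : 181440 ≤ Nat.card (CP.gen R2 948337210853619640519046367221153965318281174411596219483157613024808531751075840) := low_step Aq_lo2 Aq_lb3 (by decide +kernel)
theorem Aq_lo1 : 10 * Nat.card (CP.gen R2 948337210853619640519046367221153965318281174411596219483157613024808531751075840) ≤ Nat.card (CP.gen R2 948453002942856956714469938206162653226134444396261860047197070608816444880715776) := cov2413.low le_rfl (GC.wds_zero _) Aq_c1i.gen_le fx2406
theorem Aq_lb1 : 1814400 ≤ Nat.card (CP.gen R2 948453002942856956714469938206162653226134444396261860047197070608816444880715776) := low_step Aq_lo1 Aq_lb2 (by decide +kernel)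
theorem Aq_lo0 : 11 * Nat.card (CP.gen R2 948453002942856956714469938206162653226134444396261860047197070608816444880715776) ≤ Nat.card (CP.gen R2 46745216431505598024420982071409864706807717429248) := cov2403.low le_rfl (GC.wds_zero _) Aq_c0i.gen_le fx2396
theorem Aq_lb0 : 19958400 ≤ Nat.card (CP.gen R2 46745216431505598024420982071409864706807717429248) := low_step Aq_lo0 Aq_lb1 (by decide +kernel)
theorem Aa_m0 : C1.Mem R1 (C1.gen R1 46745216431505598024420982071409864706807717429248) 46745216431505598024420982071409864706807717429248 := GC.Mem.gen (A0_m0.map hA1).top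
theorem Aa_map : (C1.gen R1 46745216431505598024420982071409864706807717429248) = (CA.gen R 46745216431505598024420982071409864706807717429248).map (MonoidHom.fst _ _) := A0_m0.gen_map hA1
theorem Aa_ub : Nat.card (C1.gen R1 46745216431505598024420982071409864706807717429248) ≤ 39916800 := Aa_map ▸ (card_map_le _ _).trans A0_ub
theorem A0_s0_2486 : CA.Mem R (CA.gen R 46745216431505598024420982071409864706807717429248) 2845706385096282818729680527573560768618394648740806922815780994443179881748496384 := A0_m0.slp' chk2485
theorem altq : (CP.gen R2 46745216431505598024420982071409864706807717429248) = alternatingGroup (Fin 11) := by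
  have h1 : Nat.card (CP.gen R2 46745216431505598024420982071409864706807717429248) ≤ 19958400 := by
    have := card_map_mul_le (MonoidHom.snd _ _) (H := (CA.gen R 46745216431505598024420982071409864706807717429248)) (Z := CA.gen R 1897137590064188545819787018382342682267975428761855001222473056385648716020711424) (A0_s0_2486.sub (by decide +kernel)).gen_le (gen1_le_ker hA2 (A0_s0_2486.get (i := 270) (by decide +kernel)).top (by decide +kernel))
    rw [card_gen1 (p := 2) (A0_s0_2486.get (i := 270) (by decide +kernel)).top (by norm_num) chk2487 (by decide +kernel), ← Aq_map] at this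
    exact up_step this A0_ub (by decide +kernel)
  exact eq_alternating (by rw [le_antisymm h1 Aq_lb0]; decide)
theorem cardAlt : Nat.card (alternatingGroup (Fin 11)) = 19958400 := by
  have := two_mul_nat_card_alternatingGroup (α := Fin 11)
  rw [Nat.card_perm, Nat.card_eq_fintype_card (α := Fin 11), Fintype.card_fin, show Nat.factorial 11 = 2 * 19958400 by decide] at this
  omega
theorem dcov : 2 * Nat.card (alternatingGroup (Fin 11)) ≤ Nat.card (C1.gen R1 46745216431505598024420982071409864706807717429248) ∧ ∀ (H' : Type) [Group H'], (H' ≃* (C1.gen R1 46745216431505598024420982071409864706807717429248)) → Cfsg.IsNonsplitDoubleCover H' (alternatingGroup (Fin 11)) :=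
  Aa_map ▸ double_cover (alternatingGroup.isSimpleGroup (by simp)) (by rw [cardAlt]; decide) (by rw [cardAlt]; decide) (MulEquiv.subgroupCongr (Aq_map.symm.trans altq))
    (A0_s0_2486.get (i := 269) (by decide +kernel)).el_mem ((A0_s0_2486.get (i := 269) (by decide +kernel)).top.sq_eq (A0_s0_2486.get (i := 270) (by decide +kernel)).top chk2488) ((A0_s0_2486.get (i := 270) (by decide +kernel)).prime_dvd (p := 2) (by norm_num) chk2489).1.1
    (not_mem_ker_of hA1 (A0_s0_2486.get (i := 270) (by decide +kernel)).top chk2490) (mem_ker_of hA2 (A0_s0_2486.get (i := 270) (by decide +kernel)).top chk2491)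
    (A0_m0.top.commL (A0_s0_2486.get (i := 270) (by decide +kernel)).top chk2492) (by rw [cardAlt]; exact A0_ub)
theorem Aa_lb : 39916800 ≤ Nat.card (C1.gen R1 46745216431505598024420982071409864706807717429248) := by have := dcov.1; rwa [cardAlt] at this
theorem Ain2495 : C1.Mem R1 (C1.gen R1 4951760157141521099596505086) 46037301575923441923495300392486883646602871840766 := G_s1_419.slp' chk2494
theorem Ain2498 : C1.Mem R1 (C1.gen R1 4951760157141521099596505086) 46745216431505598024420982071409864706807717429248 := Ain2495.slp' chk2497
theorem W0_m0 : CE.Mem R (CE.gen R 0) 0 := GC.Mem.gen (GC.Mem.zero ⊤)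
theorem val2501 : C1.Mem R1 ⊤ 7766881293722787906586208053257310941205091405351034375004804692842845843388792569856 := MC.mem_units (PP.mc P_ok) (PP.canF_sound P_ok) chk2500
theorem val2504 : CY.Mem R2 ⊤ 7766881293722787906586208053257310941205091405351034375004804692842845843388792569856 := MC.mem_units (mc2 24) (can2_sound (by decide)) chk2503
theorem valp2505 : CE.Mem R ⊤ 7766881293722787906586208053257310941205091405351034375004804692842845843388792569856 := (GC.mem_prod val2501 val2504).top
theorem W1_m0 : CE.Mem R (CE.gen R 3794275180128377091639574036764685364535950857523710002444946112771297432041422848) 3794275180128377091639574036764685364535950857523710002444946112771297432041422848 := GC.Mem.gen (valp2505.sub chk2506)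
theorem W1_dvd : Nat.card (CE.gen R 3794275180128377091639574036764685364535950857523710002444946112771297432041422848) ∣ 3 := GC.card_ins (dvd_step (W0_m0.pc (m := 3) (w := 0) (valp2505.get (i := 271) (by decide +kernel)) W0_m0.top chk2508 chk2509) GC.card_gen_zero (n := 3) (by decide +kernel)) (by decide +kernel)
theorem W2_m0 : CE.Mem R (CE.gen R 11382825540385131274918722110294056093607852572571130007334838338313892296124268544) 11382825540385131274918722110294056093607852572571130007334838338313892296124268544 := GC.Mem.gen (valp2505.sub chk2510)
theorem W2_dvd : Nat.card (CE.gen R 11382825540385131274918722110294056093607852572571130007334838338313892296124268544) ∣ 9 := GC.card_ins (dvd_step (W1_m0.pc (m := 3) (w := 0) (valp2505.get (i := 272) (by decide +kernel)) W1_m0.top chk2512 chk2513) W1_dvd (n := 9) (by decide +kernel)) (by decide +kernel)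
theorem W3_m0 : CE.Mem R (CE.gen R 26559926260898639641477018257352797551751656002665970017114622789399082024289959936) 26559926260898639641477018257352797551751656002665970017114622789399082024289959936 := GC.Mem.gen (valp2505.sub chk2514)
theorem W3_dvd : Nat.card (CE.gen R 26559926260898639641477018257352797551751656002665970017114622789399082024289959936) ∣ 27 := GC.card_ins (dvd_step (W2_m0.pc (m := 3) (w := 0) (valp2505.get (i := 273) (by decide +kernel)) W2_m0.top chk2516 chk2517) W2_dvd (n := 27) (by decide +kernel)) (by decide +kernel)
theorem W4_m0 : CE.Mem R (CE.gen R 56914127701925656374593610551470280468039262862855650036674191691569461480621342720) 56914127701925656374593610551470280468039262862855650036674191691569461480621342720 := GC.Mem.gen (valp2505.sub chk2518)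
theorem W4_dvd : Nat.card (CE.gen R 56914127701925656374593610551470280468039262862855650036674191691569461480621342720) ∣ 81 := GC.card_ins (dvd_step (W3_m0.pc (m := 3) (w := 0) (valp2505.get (i := 274) (by decide +kernel)) W3_m0.top chk2520 chk2521) W3_dvd (n := 81) (by decide +kernel)) (by decide +kernel)
theorem W5_m0 : CE.Mem R (CE.gen R 117622530583979689840826795139705246300614476583235010075793329495910220393284108288) 117622530583979689840826795139705246300614476583235010075793329495910220393284108288 := GC.Mem.gen (valp2505.sub chk2522)
theorem W5_dvd : Nat.card (CE.gen R 117622530583979689840826795139705246300614476583235010075793329495910220393284108288) ∣ 243 := GC.card_ins (dvd_step (W4_m0.pc (m := 3) (w := 0) (valp2505.get (i := 275) (by decide +kernel)) W4_m0.top chk2524 chk2525) W4_dvd (n := 243) (by decide +kernel)) (by decide +kernel)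
theorem W6_m0 : CE.Mem R (CE.gen R 239039336348087756773293164316175177965764904023993730154031605104591738218609639424) 239039336348087756773293164316175177965764904023993730154031605104591738218609639424 := GC.Mem.gen (valp2505.sub chk2526)
theorem W6_dvd : Nat.card (CE.gen R 239039336348087756773293164316175177965764904023993730154031605104591738218609639424) ∣ 729 := GC.card_ins (dvd_step (W5_m0.pc (m := 3) (w := 0) (valp2505.get (i := 276) (by decide +kernel)) W5_m0.top chk2528 chk2529) W5_dvd (n := 729) (by decide +kernel)) (by decide +kernel)
theorem W7_m0 : CE.Mem R (CE.gen R 481872947876303890638225902669115041296065758905511170310508156321954773869260701696) 481872947876303890638225902669115041296065758905511170310508156321954773869260701696 := GC.Mem.gen (valp2505.sub chk2530)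
theorem W7_dvd : Nat.card (CE.gen R 481872947876303890638225902669115041296065758905511170310508156321954773869260701696) ∣ 1458 := GC.card_ins (dvd_step (W6_m0.pc (m := 2) (w := 278800) (valp2505.get (i := 277) (by decide +kernel)) W6_m0.top chk2532 chk2533) W6_dvd (n := 1458) (by decide +kernel)) (by decide +kernel)
theorem W8_m0 : CE.Mem R (CE.gen R 967540170932736158368091379374994767956667468668546050623461258756680845170562826240) 967540170932736158368091379374994767956667468668546050623461258756680845170562826240 := GC.Mem.gen (valp2505.sub chk2534)
theorem W8_dvd : Nat.card (CE.gen R 967540170932736158368091379374994767956667468668546050623461258756680845170562826240) ∣ 2916 := GC.card_ins (dvd_step (W7_m0.pc (m := 2) (w := 297710929170) (valp2505.get (i := 278) (by decide +kernel)) W7_m0.top chk2536 chk2537) W7_dvd (n := 2916) (by decide +kernel)) (by decide +kernel)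
theorem W8_ub : Nat.card (CE.gen R 967540170932736158368091379374994767956667468668546050623461258756680845170562826240) ≤ 2916 := le_of_dvd' W8_dvd (by decide +kernel)
theorem pt2539e : ∃ x, EP.Rep pt2539c x := via_rep _ _ (act2_rep (n := 24) (d := 5) (by decide) (by decide) (c := 0x3e23d3) (by decide +kernel))
noncomputable def pt2539 := Classical.choose pt2539e
theorem pt2539r : EP.Rep pt2539c pt2539 := Classical.choose_spec pt2539e
theorem Ya_m0 : CE.Mem R (CE.gen R 1938874617045600693827822332786754221277870888194615811249367463626132987773167075328) 1938874617045600693827822332786754221277870888194615811249367463626132987773167075328 := GC.Mem.gen (valp2505.sub chk2538)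
theorem Ya_s0_2542 : CE.Mem R (CE.gen R 1938874617045600693827822332786754221277870888194615811249367463626132987773167075328) 9709550185948516977505669960080829847847498244403173896256617102581750128594001068032 := Ya_m0.slp' chk2541
theorem Ya_I : CE.Mem R (CE.gen R 1938874617045600693827822332786754221277870888194615811249367463626132987773167075328) 8742010015015780819137578580705835079890830775734627845633155843825069283423438241792 := Ya_s0_2542.sub chk2543
theorem YaK_in2546 : CE.Mem R (CE.gen R 967540170932736158368091379374994767956667468668546050623461258756680845170562826240) 46624053413417497702067085763764453759417764137251348510043497833733702844925003956224 := W8_m0.slp' chk2545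
theorem YaK_m0 : CE.Mem R (CE.gen R 46624053413417497702067085763764453759417764137251348510043497833733702844925003956224) 46624053413417497702067085763764453759417764137251348510043497833733702844925003956224 := GC.Mem.gen YaK_in2546.top
theorem pt2547e : ∃ x, EP.Rep pt2547c x := via_rep _ _ (act2_rep (n := 24) (d := 5) (by decide) (by decide) (c := 0x902cf4) (by decide +kernel))
noncomputable def pt2547 := Classical.choose pt2547e
theorem pt2547r : EP.Rep pt2547c pt2547 := Classical.choose_spec pt2547e
theorem pt2548e : ∃ x, EP.Rep pt2548c x := via_rep _ _ (act2_rep (n := 24) (d := 5) (by decide) (by decide) (c := 0x1e8658) (by decide +kernel))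
noncomputable def pt2548 := Classical.choose pt2548e
theorem pt2548r : EP.Rep pt2548c pt2548 := Classical.choose_spec pt2548e
theorem pt2549e : ∃ x, EP.Rep pt2549c x := via_rep _ _ (act2_rep (n := 24) (d := 5) (by decide) (by decide) (c := 0xe2ae84) (by decide +kernel))
noncomputable def pt2549 := Classical.choose pt2549e
theorem pt2549r : EP.Rep pt2549c pt2549 := Classical.choose_spec pt2549e
theorem pt2550e : ∃ x, EV.Rep pt2550c x := via_rep _ _ (PP.exists_vec P_ok (c := 0x400010004000300000004000400020003000200040002000400030001000400040001000000010004000100010003000400040004000200000003000000030002000300040001000000040003000000020004000200010003000300010003000000040003000400030004000200020001000400030004000200000002000100000004000300000002000300010001000200010004000300030001000400000003000100030000000400000000000000020000000400010002000300000004000300030000000300000001000300030003000300000002000000040001) (by decide +kernel))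
noncomputable def pt2550 := Classical.choose pt2550e
theorem pt2550r : EV.Rep pt2550c pt2550 := Classical.choose_spec pt2550e
theorem YaK_s0_2553 : CE.Mem R (CE.gen R 46624053413417497702067085763764453759417764137251348510043497833733702844925003956224) 1973751594501340736054173297332695209148685348476973753591841408294726753768491834146816 := YaK_m0.slp' chk2552
theorem YaK_c0i : CE.Mem R (CE.gen R 46624053413417497702067085763764453759417764137251348510043497833733702844925003956224) 1927127541087923238352106211568930755389267584339722405081797910460993050923566830190592 := YaK_s0_2553.sub chk2554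
theorem YaK_c0m : CE.Mem R (CE.gen R 1927127541087923238352106211568930755389267584339722405081797910460993050923566830190592) 1927127541087923238352106211568930755389267584339722405081797910460993050923566830190592 := YaK_c0i.gen
theorem fx2556 : CE.gen R 1927127541087923238352106211568930755389267584339722405081797910460993050923566830190592 ≤ stabilizer _ pt2547 := Act.fix_sound YaK_c0i.top pt2547r chk2555
theorem cov2563 : Cov (CE.gen R 46624053413417497702067085763764453759417764137251348510043497833733702844925003956224) (CE.wds R [0]) pt2547 2 := Act.cov_of_seen (Act.pieces_sound YaK_s0_2553 YaK_s0_2553.top pt2547r chk2561) chk2562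
theorem YaK_c1i : CE.Mem R (CE.gen R 1927127541087923238352106211568930755389267584339722405081797910460993050923566830190592) 1491969709229359926466146744440462520301368452392043152321391930679478491037600126599168 := YaK_c0m.sub chk2564
theorem YaK_c1m : CE.Mem R (CE.gen R 1491969709229359926466146744440462520301368452392043152321391930679478491037600126599168) 1491969709229359926466146744440462520301368452392043152321391930679478491037600126599168 := YaK_c1i.gen
theorem fx2566 : CE.gen R 1491969709229359926466146744440462520301368452392043152321391930679478491037600126599168 ≤ stabilizer _ pt2548 := Act.fix_sound YaK_c1i.top pt2548r chk2565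
theorem cov2573 : Cov (CE.gen R 1927127541087923238352106211568930755389267584339722405081797910460993050923566830190592) (CE.wds R [0]) pt2548 9 := Act.cov_of_seen (Act.pieces_sound YaK_c0m YaK_c0m.top pt2548r chk2571) chk2572
theorem YaK_c2i : CE.Mem R (CE.gen R 1491969709229359926466146744440462520301368452392043152321391930679478491037600126599168) 994646472819573284310764496293641680200912301594695434880927953786318994025066751066112 := YaK_c1m.sub chk2574
theorem YaK_c2m : CE.Mem R (CE.gen R 994646472819573284310764496293641680200912301594695434880927953786318994025066751066112) 994646472819573284310764496293641680200912301594695434880927953786318994025066751066112 := YaK_c2i.gen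
theorem fx2576 : CE.gen R 994646472819573284310764496293641680200912301594695434880927953786318994025066751066112 ≤ stabilizer _ pt2549 := Act.fix_sound YaK_c2i.top pt2549r chk2575
theorem cov2583 : Cov (CE.gen R 1491969709229359926466146744440462520301368452392043152321391930679478491037600126599168) (CE.wds R [0]) pt2549 2 := Act.cov_of_seen (Act.pieces_sound YaK_c1m YaK_c1m.top pt2549r chk2581) chk2582
theorem YaK_c3i : CE.Mem R (CE.gen R 994646472819573284310764496293641680200912301594695434880927953786318994025066751066112) 0 := YaK_c2m.sub chk2584
theorem YaK_c3m : CE.Mem R (CE.gen R 0) 0 := YaK_c3i.gen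
theorem fx2586 : CE.gen R 0 ≤ stabilizer _ pt2550 := Act.fix_sound YaK_c3i.top pt2550r chk2585
theorem cov2593 : Cov (CE.gen R 994646472819573284310764496293641680200912301594695434880927953786318994025066751066112) (CE.wds R [0]) pt2550 3 := Act.cov_of_seen (Act.pieces_sound YaK_c2m YaK_c2m.top pt2550r chk2591) chk2592
theorem YaK_lb4 : 1 ≤ Nat.card (CE.gen R 0) := Nat.card_pos
theorem YaK_lo3 : 3 * Nat.card (CE.gen R 0) ≤ Nat.card (CE.gen R 994646472819573284310764496293641680200912301594695434880927953786318994025066751066112) := cov2593.low le_rfl (GC.wds_zero _) YaK_c3i.gen_le fx2586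
theorem YaK_lb3 : 3 ≤ Nat.card (CE.gen R 994646472819573284310764496293641680200912301594695434880927953786318994025066751066112) := low_step YaK_lo3 YaK_lb4 (by decide +kernel)
theorem YaK_lo2 : 2 * Nat.card (CE.gen R 994646472819573284310764496293641680200912301594695434880927953786318994025066751066112) ≤ Nat.card (CE.gen R 1491969709229359926466146744440462520301368452392043152321391930679478491037600126599168) := cov2583.low le_rfl (GC.wds_zero _) YaK_c2i.gen_le fx2576
theorem YaK_lb2 : 6 ≤ Nat.card (CE.gen R 1491969709229359926466146744440462520301368452392043152321391930679478491037600126599168) := low_step YaK_lo2 YaK_lb3 (by decide +kernel)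
theorem YaK_lo1 : 9 * Nat.card (CE.gen R 1491969709229359926466146744440462520301368452392043152321391930679478491037600126599168) ≤ Nat.card (CE.gen R 1927127541087923238352106211568930755389267584339722405081797910460993050923566830190592) := cov2573.low le_rfl (GC.wds_zero _) YaK_c1i.gen_le fx2566
theorem YaK_lb1 : 54 ≤ Nat.card (CE.gen R 1927127541087923238352106211568930755389267584339722405081797910460993050923566830190592) := low_step YaK_lo1 YaK_lb2 (by decide +kernel)
theorem YaK_lo0 : 2 * Nat.card (CE.gen R 1927127541087923238352106211568930755389267584339722405081797910460993050923566830190592) ≤ Nat.card (CE.gen R 46624053413417497702067085763764453759417764137251348510043497833733702844925003956224) := cov2563.low le_rfl (GC.wds_zero _) YaK_c0i.gen_le fx2556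
theorem YaK_lb0 : 108 ≤ Nat.card (CE.gen R 46624053413417497702067085763764453759417764137251348510043497833733702844925003956224) := low_step YaK_lo0 YaK_lb1 (by decide +kernel)
theorem fx2597 : CE.gen R 46624053413417497702067085763764453759417764137251348510043497833733702844925003956224 ≤ stabilizer _ pt2539 := Act.fix_sound YaK_in2546.top pt2539r chk2596
theorem Ya_Kc : ∀ κ ∈ (CE.gen R 46624053413417497702067085763764453759417764137251348510043497833733702844925003956224), (CE.el (R 279))⁻¹ * κ * CE.el (R 279) ∈ (CE.gen R 967540170932736158368091379374994767956667468668546050623461258756680845170562826240) := W8_m0.conjB (Ya_m0.get (i := 279) (by decide +kernel)).top YaK_in2546.top chk2595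
theorem YaT1_in2616 : CE.Mem R (CE.gen R 967540170932736158368091379374994767956667468668546050623461258756680845170562826240) 5967878836917439705864586977761850081205473809568172609285567722717913964150400506396672 := W8_m0.slp' chk2615
theorem YaT1_m0 : CE.Mem R (CE.gen R 5967878836917439705864586977761850081205473809568172609285567722717913964150400506396672) 5967878836917439705864586977761850081205473809568172609285567722717913964150400506396672 := GC.Mem.gen YaT1_in2616.top
theorem pt2617e : ∃ x, EP.Rep pt2617c x := via_rep _ _ (act2_rep (n := 24) (d := 5) (by decide) (by decide) (c := 0xda3000) (by decide +kernel))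
noncomputable def pt2617 := Classical.choose pt2617e
theorem pt2617r : EP.Rep pt2617c pt2617 := Classical.choose_spec pt2617e
theorem pt2618e : ∃ x, EP.Rep pt2618c x := via_rep _ _ (act2_rep (n := 24) (d := 5) (by decide) (by decide) (c := 0x502a08) (by decide +kernel))
noncomputable def pt2618 := Classical.choose pt2618e
theorem pt2618r : EP.Rep pt2618c pt2618 := Classical.choose_spec pt2618e
theorem pt2619e : ∃ x, EP.Rep pt2619c x := via_rep _ _ (act2_rep (n := 24) (d := 5) (by decide) (by decide) (c := 0x1e8658) (by decide +kernel))
noncomputable def pt2619 := Classical.choose pt2619e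
theorem pt2619r : EP.Rep pt2619c pt2619 := Classical.choose_spec pt2619e
theorem pt2620e : ∃ x, EV.Rep pt2620c x := via_rep _ _ (PP.exists_vec P_ok (c := 0x400010004000300000004000400020003000200040002000400030001000400040001000000010004000100010003000400040004000200000003000000030002000300040001000000040003000000020004000200010003000300010003000000040003000400030004000200020001000400030004000200000002000100000004000300000002000300010001000200010004000300030001000400000003000100030000000400000000000000020000000400010002000300000004000300030000000300000001000300030003000300000002000000040001) (by decide +kernel))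
noncomputable def pt2620 := Classical.choose pt2620e
theorem pt2620r : EV.Rep pt2620c pt2620 := Classical.choose_spec pt2620e
theorem YaT1_s0_2623 : CE.Mem R (CE.gen R 5967878836917439705864586977761850081205473809568172609285567722717913964150400506396672) 61668081314813543627267398770205784172456562698871116962617533134751777629554138566098944 := YaT1_m0.slp' chk2622
theorem YaT1_c0i : CE.Mem R (CE.gen R 5967878836917439705864586977761850081205473809568172609285567722717913964150400506396672) 55700202477896103921402811792443934091251088889302944353331965412033863665403738059702272 := YaT1_s0_2623.sub chk2624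
theorem YaT1_c0m : CE.Mem R (CE.gen R 55700202477896103921402811792443934091251088889302944353331965412033863665403738059702272) 55700202477896103921402811792443934091251088889302944353331965412033863665403738059702272 := YaT1_c0i.gen
theorem fx2626 : CE.gen R 55700202477896103921402811792443934091251088889302944353331965412033863665403738059702272 ≤ stabilizer _ pt2617 := Act.fix_sound YaT1_c0i.top pt2617r chk2625
theorem cov2633 : Cov (CE.gen R 5967878836917439705864586977761850081205473809568172609285567722717913964150400506396672) (CE.wds R [0]) pt2617 9 := Act.cov_of_seen (Act.pieces_sound YaT1_s0_2623 YaT1_s0_2623.top pt2617r chk2631) chk2632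
theorem YaT1_c1i : CE.Mem R (CE.gen R 55700202477896103921402811792443934091251088889302944353331965412033863665403738059702272) 47743030695339517646916695822094800649643790476545380874284541781743311713203204051173376 := YaT1_c0m.sub chk2634
theorem YaT1_c1m : CE.Mem R (CE.gen R 47743030695339517646916695822094800649643790476545380874284541781743311713203204051173376) 47743030695339517646916695822094800649643790476545380874284541781743311713203204051173376 := YaT1_c1i.gen
theorem fx2636 : CE.gen R 47743030695339517646916695822094800649643790476545380874284541781743311713203204051173376 ≤ stabilizer _ pt2618 := Act.fix_sound YaT1_c1i.top pt2618r chk2635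
theorem cov2643 : Cov (CE.gen R 55700202477896103921402811792443934091251088889302944353331965412033863665403738059702272) (CE.wds R [0]) pt2618 2 := Act.cov_of_seen (Act.pieces_sound YaT1_c0m YaT1_c0m.top pt2618r chk2641) chk2642
theorem YaT1_c2i : CE.Mem R (CE.gen R 47743030695339517646916695822094800649643790476545380874284541781743311713203204051173376) 31828687130226345097944463881396533766429193651030253916189694521162207808802136034115584 := YaT1_c1m.sub chk2644
theorem YaT1_c2m : CE.Mem R (CE.gen R 31828687130226345097944463881396533766429193651030253916189694521162207808802136034115584) 31828687130226345097944463881396533766429193651030253916189694521162207808802136034115584 := YaT1_c2i.gen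
theorem fx2646 : CE.gen R 31828687130226345097944463881396533766429193651030253916189694521162207808802136034115584 ≤ stabilizer _ pt2619 := Act.fix_sound YaT1_c2i.top pt2619r chk2645
theorem cov2653 : Cov (CE.gen R 47743030695339517646916695822094800649643790476545380874284541781743311713203204051173376) (CE.wds R [0]) pt2619 2 := Act.cov_of_seen (Act.pieces_sound YaT1_c1m YaT1_c1m.top pt2619r chk2651) chk2652
theorem YaT1_c3i : CE.Mem R (CE.gen R 31828687130226345097944463881396533766429193651030253916189694521162207808802136034115584) 0 := YaT1_c2m.sub chk2654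
theorem YaT1_c3m : CE.Mem R (CE.gen R 0) 0 := YaT1_c3i.gen
theorem fx2656 : CE.gen R 0 ≤ stabilizer _ pt2620 := Act.fix_sound YaT1_c3i.top pt2620r chk2655
theorem cov2663 : Cov (CE.gen R 31828687130226345097944463881396533766429193651030253916189694521162207808802136034115584) (CE.wds R [0]) pt2620 3 := Act.cov_of_seen (Act.pieces_sound YaT1_c2m YaT1_c2m.top pt2620r chk2661) chk2662
theorem YaT1_lb4 : 1 ≤ Nat.card (CE.gen R 0) := Nat.card_pos
theorem YaT1_lo3 : 3 * Nat.card (CE.gen R 0) ≤ Nat.card (CE.gen R 31828687130226345097944463881396533766429193651030253916189694521162207808802136034115584) := cov2663.low le_rfl (GC.wds_zero _) YaT1_c3i.gen_le fx2656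
theorem YaT1_lb3 : 3 ≤ Nat.card (CE.gen R 31828687130226345097944463881396533766429193651030253916189694521162207808802136034115584) := low_step YaT1_lo3 YaT1_lb4 (by decide +kernel)
theorem YaT1_lo2 : 2 * Nat.card (CE.gen R 31828687130226345097944463881396533766429193651030253916189694521162207808802136034115584) ≤ Nat.card (CE.gen R 47743030695339517646916695822094800649643790476545380874284541781743311713203204051173376) := cov2653.low le_rfl (GC.wds_zero _) YaT1_c2i.gen_le fx2646
theorem YaT1_lb2 : 6 ≤ Nat.card (CE.gen R 47743030695339517646916695822094800649643790476545380874284541781743311713203204051173376) := low_step YaT1_lo2 YaT1_lb3 (by decide +kernel)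
theorem YaT1_lo1 : 2 * Nat.card (CE.gen R 47743030695339517646916695822094800649643790476545380874284541781743311713203204051173376) ≤ Nat.card (CE.gen R 55700202477896103921402811792443934091251088889302944353331965412033863665403738059702272) := cov2643.low le_rfl (GC.wds_zero _) YaT1_c1i.gen_le fx2636
theorem YaT1_lb1 : 12 ≤ Nat.card (CE.gen R 55700202477896103921402811792443934091251088889302944353331965412033863665403738059702272) := low_step YaT1_lo1 YaT1_lb2 (by decide +kernel)
theorem YaT1_lo0 : 9 * Nat.card (CE.gen R 55700202477896103921402811792443934091251088889302944353331965412033863665403738059702272) ≤ Nat.card (CE.gen R 5967878836917439705864586977761850081205473809568172609285567722717913964150400506396672) := cov2633.low le_rfl (GC.wds_zero _) YaT1_c0i.gen_le fx2626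
theorem YaT1_lb0 : 108 ≤ Nat.card (CE.gen R 5967878836917439705864586977761850081205473809568172609285567722717913964150400506396672) := low_step YaT1_lo0 YaT1_lb1 (by decide +kernel)
theorem Ya_T1c : ∀ τ ∈ (CE.gen R 5967878836917439705864586977761850081205473809568172609285567722717913964150400506396672), CE.el (R 279) * τ * (CE.el (R 279))⁻¹ ∈ (CE.gen R 967540170932736158368091379374994767956667468668546050623461258756680845170562826240) := W8_m0.conjA (Ya_I.get (i := 279) (by decide +kernel)).top YaT1_in2616.top chk2665
theorem cov2674 : Cov (CE.gen R 5967878836917439705864586977761850081205473809568172609285567722717913964150400506396672) (CE.wds R (List.map Prod.fst (l2666))) pt2539 27 := Act.cov_of_seen (Act.pieces_sound YaT1_s0_2623 W8_m0.top pt2539r chk2672) chk2673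
theorem Ya_T1d : Dec (CE.gen R 967540170932736158368091379374994767956667468668546050623461258756680845170562826240) (CE.gen R 5967878836917439705864586977761850081205473809568172609285567722717913964150400506396672) (CE.wds R (List.map Prod.fst (l2666))) (CE.gen R 46624053413417497702067085763764453759417764137251348510043497833733702844925003956224) := cov2674.dec YaT1_in2616.gen_le (GC.wds_sub W8_m0 chk2675) YaK_in2546.gen_le fx2597 (up_low W8_ub YaK_lb0 (by decide +kernel))
theorem Ya_T1p : ∀ x ∈ DC1 (CE.gen R 967540170932736158368091379374994767956667468668546050623461258756680845170562826240) (CE.el (R 279)), x * CE.el (R 279) ∈ DCs (CE.gen R 967540170932736158368091379374994767956667468668546050623461258756680845170562826240) (CE.els R 8742010015015780819137578580705835079890830775734627845633155843825069283423438241792) := GC.dc_piece' Ya_T1d Ya_T1c Ya_Kc (W8_m0.dcRel Ya_I.top (Ya_I.get (i := 279) (by decide +kernel)).top (Ya_m0.get (i := 279) (by decide +kernel)).top chk2667)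
theorem Ya_T1u : Nat.card (CE.gen R 967540170932736158368091379374994767956667468668546050623461258756680845170562826240) ≤ 27 * Nat.card (CE.gen R 5967878836917439705864586977761850081205473809568172609285567722717913964150400506396672) := up_low W8_ub YaT1_lb0 (by decide +kernel)
theorem Ya_T1n : (DC1 (CE.gen R 967540170932736158368091379374994767956667468668546050623461258756680845170562826240) (CE.el (R 279))).ncard ≤ Nat.card (CE.gen R 967540170932736158368091379374994767956667468668546050623461258756680845170562826240) * 27 := ncard_DC1 YaT1_in2616.gen_le Ya_T1c Ya_T1u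
theorem YaT2_in2743 : CE.Mem R (CE.gen R 967540170932736158368091379374994767956667468668546050623461258756680845170562826240) 1973378602074033396072556760646585093518610006363875742803761060312056884145732434115166208 := W8_m0.slp' chk2742
theorem YaT2_m0 : CE.Mem R (CE.gen R 1973378602074033396072556760646585093518610006363875742803761060312056884145732434115166208) 1973378602074033396072556760646585093518610006363875742803761060312056884145732434115166208 := GC.Mem.gen YaT2_in2743.top
theorem pt2744e : ∃ x, EP.Rep pt2744c x := via_rep _ _ (act2_rep (n := 24) (d := 5) (by decide) (by decide) (c := 0x1e8658) (by decide +kernel))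
noncomputable def pt2744 := Classical.choose pt2744e
theorem pt2744r : EP.Rep pt2744c pt2744 := Classical.choose_spec pt2744e
theorem pt2745e : ∃ x, EP.Rep pt2745c x := via_rep _ _ (act2_rep (n := 24) (d := 5) (by decide) (by decide) (c := 0xe2ae84) (by decide +kernel))
noncomputable def pt2745 := Classical.choose pt2745e
theorem pt2745r : EP.Rep pt2745c pt2745 := Classical.choose_spec pt2745e
theorem pt2746e : ∃ x, EP.Rep pt2746c x := via_rep _ _ (act2_rep (n := 24) (d := 5) (by decide) (by decide) (c := 0xda3000) (by decide +kernel))
noncomputable def pt2746 := Classical.choose pt2746e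
theorem pt2746r : EP.Rep pt2746c pt2746 := Classical.choose_spec pt2746e
theorem pt2747e : ∃ x, EV.Rep pt2747c x := via_rep _ _ (PP.exists_vec P_ok (c := 0x400010004000300000004000400020003000200040002000400030001000400040001000000010004000100010003000400040004000200000003000000030002000300040001000000040003000000020004000200010003000300010003000000040003000400030004000200020001000400030004000200000002000100000004000300000002000300010001000200010004000300030001000400000003000100030000000400000000000000020000000400010002000300000004000300030000000300000001000300030003000300000002000000040001) (by decide +kernel))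
noncomputable def pt2747 := Classical.choose pt2747e
theorem pt2747r : EV.Rep pt2747c pt2747 := Classical.choose_spec pt2747e
theorem YaT2_s0_2750 : CE.Mem R (CE.gen R 1973378602074033396072556760646585093518610006363875742803761060312056884145732434115166208) 65121493868443102070394373101337308086114130210007899512524114990297877176809170325800484864 := YaT2_m0.slp' chk2749
theorem YaT2_c0i : CE.Mem R (CE.gen R 1973378602074033396072556760646585093518610006363875742803761060312056884145732434115166208) 63148115266369068674321816340690722992595520203644023769720353929985820292663437891685318656 := YaT2_s0_2750.sub chk2751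
theorem YaT2_c0m : CE.Mem R (CE.gen R 63148115266369068674321816340690722992595520203644023769720353929985820292663437891685318656) 63148115266369068674321816340690722992595520203644023769720353929985820292663437891685318656 := YaT2_c0i.gen
theorem fx2753 : CE.gen R 63148115266369068674321816340690722992595520203644023769720353929985820292663437891685318656 ≤ stabilizer _ pt2744 := Act.fix_sound YaT2_c0i.top pt2744r chk2752
theorem cov2760 : Cov (CE.gen R 1973378602074033396072556760646585093518610006363875742803761060312056884145732434115166208) (CE.wds R [0]) pt2744 27 := Act.cov_of_seen (Act.pieces_sound YaT2_s0_2750 YaT2_s0_2750.top pt2744r chk2758) chk2759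
theorem YaT2_c1i : CE.Mem R (CE.gen R 63148115266369068674321816340690722992595520203644023769720353929985820292663437891685318656) 48888863432027666070442696521825075865235241447982470015267370784505151194320080948401537024 := YaT2_c0m.sub chk2761
theorem YaT2_c1m : CE.Mem R (CE.gen R 48888863432027666070442696521825075865235241447982470015267370784505151194320080948401537024) 48888863432027666070442696521825075865235241447982470015267370784505151194320080948401537024 := YaT2_c1i.gen
theorem fx2763 : CE.gen R 48888863432027666070442696521825075865235241447982470015267370784505151194320080948401537024 ≤ stabilizer _ pt2745 := Act.fix_sound YaT2_c1i.top pt2745r chk2762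
theorem cov2770 : Cov (CE.gen R 63148115266369068674321816340690722992595520203644023769720353929985820292663437891685318656) (CE.wds R [0]) pt2745 9 := Act.cov_of_seen (Act.pieces_sound YaT2_c0m YaT2_c0m.top pt2745r chk2768) chk2769
theorem YaT2_c2i : CE.Mem R (CE.gen R 48888863432027666070442696521825075865235241447982470015267370784505151194320080948401537024) 32592575621351777380295131014550050576823494298654980010178247189670100796213387298934358016 := YaT2_c1m.sub chk2771
theorem YaT2_c2m : CE.Mem R (CE.gen R 32592575621351777380295131014550050576823494298654980010178247189670100796213387298934358016) 32592575621351777380295131014550050576823494298654980010178247189670100796213387298934358016 := YaT2_c2i.gen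
theorem fx2773 : CE.gen R 32592575621351777380295131014550050576823494298654980010178247189670100796213387298934358016 ≤ stabilizer _ pt2746 := Act.fix_sound YaT2_c2i.top pt2746r chk2772
theorem cov2780 : Cov (CE.gen R 48888863432027666070442696521825075865235241447982470015267370784505151194320080948401537024) (CE.wds R [0]) pt2746 2 := Act.cov_of_seen (Act.pieces_sound YaT2_c1m YaT2_c1m.top pt2746r chk2778) chk2779
theorem YaT2_c3i : CE.Mem R (CE.gen R 32592575621351777380295131014550050576823494298654980010178247189670100796213387298934358016) 0 := YaT2_c2m.sub chk2781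
theorem YaT2_c3m : CE.Mem R (CE.gen R 0) 0 := YaT2_c3i.gen
theorem fx2783 : CE.gen R 0 ≤ stabilizer _ pt2747 := Act.fix_sound YaT2_c3i.top pt2747r chk2782
theorem cov2790 : Cov (CE.gen R 32592575621351777380295131014550050576823494298654980010178247189670100796213387298934358016) (CE.wds R [0]) pt2747 3 := Act.cov_of_seen (Act.pieces_sound YaT2_c2m YaT2_c2m.top pt2747r chk2788) chk2789
theorem YaT2_lb4 : 1 ≤ Nat.card (CE.gen R 0) := Nat.card_pos
theorem YaT2_lo3 : 3 * Nat.card (CE.gen R 0) ≤ Nat.card (CE.gen R 32592575621351777380295131014550050576823494298654980010178247189670100796213387298934358016) := cov2790.low le_rfl (GC.wds_zero _) YaT2_c3i.gen_le fx2783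
theorem YaT2_lb3 : 3 ≤ Nat.card (CE.gen R 32592575621351777380295131014550050576823494298654980010178247189670100796213387298934358016) := low_step YaT2_lo3 YaT2_lb4 (by decide +kernel)
theorem YaT2_lo2 : 2 * Nat.card (CE.gen R 32592575621351777380295131014550050576823494298654980010178247189670100796213387298934358016) ≤ Nat.card (CE.gen R 48888863432027666070442696521825075865235241447982470015267370784505151194320080948401537024) := cov2780.low le_rfl (GC.wds_zero _) YaT2_c2i.gen_le fx2773
theorem YaT2_lb2 : 6 ≤ Nat.card (CE.gen R 48888863432027666070442696521825075865235241447982470015267370784505151194320080948401537024) := low_step YaT2_lo2 YaT2_lb3 (by decide +kernel)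
theorem YaT2_lo1 : 9 * Nat.card (CE.gen R 48888863432027666070442696521825075865235241447982470015267370784505151194320080948401537024) ≤ Nat.card (CE.gen R 63148115266369068674321816340690722992595520203644023769720353929985820292663437891685318656) := cov2770.low le_rfl (GC.wds_zero _) YaT2_c1i.gen_le fx2763
theorem YaT2_lb1 : 54 ≤ Nat.card (CE.gen R 63148115266369068674321816340690722992595520203644023769720353929985820292663437891685318656) := low_step YaT2_lo1 YaT2_lb2 (by decide +kernel)
theorem YaT2_lo0 : 27 * Nat.card (CE.gen R 63148115266369068674321816340690722992595520203644023769720353929985820292663437891685318656) ≤ Nat.card (CE.gen R 1973378602074033396072556760646585093518610006363875742803761060312056884145732434115166208) := cov2760.low le_rfl (GC.wds_zero _) YaT2_c0i.gen_le fx2753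
theorem YaT2_lb0 : 1458 ≤ Nat.card (CE.gen R 1973378602074033396072556760646585093518610006363875742803761060312056884145732434115166208) := low_step YaT2_lo0 YaT2_lb1 (by decide +kernel)
theorem Ya_T2c : ∀ τ ∈ (CE.gen R 1973378602074033396072556760646585093518610006363875742803761060312056884145732434115166208), CE.el (R 282) * τ * (CE.el (R 282))⁻¹ ∈ (CE.gen R 967540170932736158368091379374994767956667468668546050623461258756680845170562826240) := W8_m0.conjA (Ya_I.get (i := 282) (by decide +kernel)).top YaT2_in2743.top chk2792
theorem cov2801 : Cov (CE.gen R 1973378602074033396072556760646585093518610006363875742803761060312056884145732434115166208) (CE.wds R (List.map Prod.fst (l2793))) pt2539 27 := Act.cov_of_seen (Act.pieces_sound YaT2_s0_2750 W8_m0.top pt2539r chk2799) chk2800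
theorem Ya_T2d : Dec (CE.gen R 967540170932736158368091379374994767956667468668546050623461258756680845170562826240) (CE.gen R 1973378602074033396072556760646585093518610006363875742803761060312056884145732434115166208) (CE.wds R (List.map Prod.fst (l2793))) (CE.gen R 46624053413417497702067085763764453759417764137251348510043497833733702844925003956224) := cov2801.dec YaT2_in2743.gen_le (GC.wds_sub W8_m0 chk2802) YaK_in2546.gen_le fx2597 (up_low W8_ub YaK_lb0 (by decide +kernel))
theorem Ya_T2p : ∀ x ∈ DC1 (CE.gen R 967540170932736158368091379374994767956667468668546050623461258756680845170562826240) (CE.el (R 282)), x * CE.el (R 279) ∈ DCs (CE.gen R 967540170932736158368091379374994767956667468668546050623461258756680845170562826240) (CE.els R 8742010015015780819137578580705835079890830775734627845633155843825069283423438241792) := GC.dc_piece' Ya_T2d Ya_T2c Ya_Kc (W8_m0.dcRel Ya_I.top (Ya_I.get (i := 282) (by decide +kernel)).top (Ya_m0.get (i := 279) (by decide +kernel)).top chk2794)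
theorem Ya_T2u : Nat.card (CE.gen R 967540170932736158368091379374994767956667468668546050623461258756680845170562826240) ≤ 2 * Nat.card (CE.gen R 1973378602074033396072556760646585093518610006363875742803761060312056884145732434115166208) := up_low W8_ub YaT2_lb0 (by decide +kernel)
theorem Ya_T2n : (DC1 (CE.gen R 967540170932736158368091379374994767956667468668546050623461258756680845170562826240) (CE.el (R 282))).ncard ≤ Nat.card (CE.gen R 967540170932736158368091379374994767956667468668546050623461258756680845170562826240) * 2 := ncard_DC1 YaT2_in2743.gen_le Ya_T2c Ya_T2u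
theorem Ya_dc : ∀ x ∈ (CE.gen R 1938874617045600693827822332786754221277870888194615811249367463626132987773167075328), x ∈ DCs (CE.gen R 967540170932736158368091379374994767956667468668546050623461258756680845170562826240) (CE.els R 8742010015015780819137578580705835079890830775734627845633155843825069283423438241792) := GC.dc_gen (MU := 971334446112864535459730953411759453321203419526069760625906204869452142602604249088) W8_m0 (by decide +kernel) (GC.forall_els (L := [279]) (forall_cons ⟨W8_m0.inDC' Ya_I.top (Ya_m0.get (i := 279) (by decide +kernel)).top chk2803, GC.forall_els (L := [279, 282]) (forall_cons Ya_T1p (forall_cons Ya_T2p forall_nil)) (by decide +kernel)⟩ forall_nil) (by decide +kernel))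
theorem Ya_cs : ∀ p ∈ ([(279, 27), (282, 2)] : List (ℕ × ℕ)), (DC1 (CE.gen R 967540170932736158368091379374994767956667468668546050623461258756680845170562826240) (CE.el (R p.1))).ncard ≤ Nat.card (CE.gen R 967540170932736158368091379374994767956667468668546050623461258756680845170562826240) * p.2 := (forall_cons Ya_T1n (forall_cons Ya_T2n forall_nil))
theorem Ya_ix : Nat.card (CE.gen R 1938874617045600693827822332786754221277870888194615811249367463626132987773167075328) ≤ 30 * Nat.card (CE.gen R 967540170932736158368091379374994767956667468668546050623461258756680845170562826240) := GC.card_dc [(279, 27), (282, 2)] Ya_dc Ya_cs (by decide +kernel)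
theorem Ya_ub : Nat.card (CE.gen R 1938874617045600693827822332786754221277870888194615811249367463626132987773167075328) ≤ 87480 := up_mul Ya_ix W8_ub (by decide +kernel)
theorem pt2805e : ∃ x, EP.Rep pt2805c x := via_rep _ _ (act2_rep (n := 24) (d := 5) (by decide) (by decide) (c := 0xe10e04) (by decide +kernel))
noncomputable def pt2805 := Classical.choose pt2805e
theorem pt2805r : EP.Rep pt2805c pt2805 := Classical.choose_spec pt2805e
theorem Yb_m0 : CE.Mem R (CE.gen R 3881543509271329764747284239610273127920277727246755332501179873365037272978375573504) 3881543509271329764747284239610273127920277727246755332501179873365037272978375573504 := GC.Mem.gen (valp2505.sub chk2804)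
theorem Yb_m1 : CE.Mem R (CE.gen R 3881543509271329764747284239610273127920277727246755332501179873365037272978375573504) 11652219078174246048425131866904348754489905083455313417508429512320654413799209566208 := Yb_m0.lor' (Ya_s0_2542.mono (Yb_m0.sub chk2806).gen_le) chk2807
theorem Yb_s1_2810 : CE.Mem R (CE.gen R 3881543509271329764747284239610273127920277727246755332501179873365037272978375573504) 65185162894922632934836310454231968057995743087215043475669911887769713913081188397078282240 := Yb_m1.slp' chk2809
theorem Yb_I : CE.Mem R (CE.gen R 3881543509271329764747284239610273127920277727246755332501179873365037272978375573504) 65185153185372446986319332948562007977165895239716799072496015631152611331331059803077214208 := Yb_s1_2810.sub chk2811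
theorem YbK_in2842 : CE.Mem R (CE.gen R 1938874617045600693827822332786754221277870888194615811249367463626132987773167075328) 912592117397849766648263668407401416151057840362339440284990921310762822293974844370162024448 := Ya_s0_2542.slp' chk2841
theorem YbK_m0 : CE.Mem R (CE.gen R 912592117397849766648263668407401416151057840362339440284990921310762822293974844370162024448) 912592117397849766648263668407401416151057840362339440284990921310762822293974844370162024448 := GC.Mem.gen YbK_in2842.top
theorem pt2843e : ∃ x, EP.Rep pt2843c x := via_rep _ _ (act2_rep (n := 24) (d := 5) (by decide) (by decide) (c := 0x902cf4) (by decide +kernel))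
noncomputable def pt2843 := Classical.choose pt2843e
theorem pt2843r : EP.Rep pt2843c pt2843 := Classical.choose_spec pt2843e
theorem pt2844e : ∃ x, EP.Rep pt2844c x := via_rep _ _ (act2_rep (n := 24) (d := 5) (by decide) (by decide) (c := 0x1e8658) (by decide +kernel))
noncomputable def pt2844 := Classical.choose pt2844e
theorem pt2844r : EP.Rep pt2844c pt2844 := Classical.choose_spec pt2844e
theorem pt2845e : ∃ x, EP.Rep pt2845c x := via_rep _ _ (act2_rep (n := 24) (d := 5) (by decide) (by decide) (c := 0xe2ae84) (by decide +kernel))
noncomputable def pt2845 := Classical.choose pt2845e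
theorem pt2845r : EP.Rep pt2845c pt2845 := Classical.choose_spec pt2845e
theorem pt2846e : ∃ x, EP.Rep pt2846c x := via_rep _ _ (act2_rep (n := 24) (d := 5) (by decide) (by decide) (c := 0xda3000) (by decide +kernel))
noncomputable def pt2846 := Classical.choose pt2846e
theorem pt2846r : EP.Rep pt2846c pt2846 := Classical.choose_spec pt2846e
theorem pt2847e : ∃ x, EV.Rep pt2847c x := via_rep _ _ (PP.exists_vec P_ok (c := 0x400010004000300000004000400020003000200040002000400030001000400040001000000010004000100010003000400040004000200000003000000030002000300040001000000040003000000020004000200010003000300010003000000040003000400030004000200020001000400030004000200000002000100000004000300000002000300010001000200010004000300030001000400000003000100030000000400000000000000020000000400010002000300000004000300030000000300000001000300030003000300000002000000040001) (by decide +kernel))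
noncomputable def pt2847 := Classical.choose pt2847e
theorem pt2847r : EV.Rep pt2847c pt2847 := Classical.choose_spec pt2847e
theorem YbK_s0_2850 : CE.Mem R (CE.gen R 912592117397849766648263668407401416151057840362339440284990921310762822293974844370162024448) 133368819442571473040167676111538806960361738670096178201649387500130052458105180827239393001472 := YbK_m0.slp' chk2849
theorem YbK_c0i : CE.Mem R (CE.gen R 912592117397849766648263668407401416151057840362339440284990921310762822293974844370162024448) 132456227325173623273519412443131405544210680829733838761364396578819289635811205982869230977024 := YbK_s0_2850.sub chk2851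
theorem YbK_c0m : CE.Mem R (CE.gen R 132456227325173623273519412443131405544210680829733838761364396578819289635811205982869230977024) 132456227325173623273519412443131405544210680829733838761364396578819289635811205982869230977024 := YbK_c0i.gen
theorem fx2853 : CE.gen R 132456227325173623273519412443131405544210680829733838761364396578819289635811205982869230977024 ≤ stabilizer _ pt2843 := Act.fix_sound YbK_c0i.top pt2843r chk2852
theorem cov2860 : Cov (CE.gen R 912592117397849766648263668407401416151057840362339440284990921310762822293974844370162024448) (CE.wds R [0]) pt2843 2 := Act.cov_of_seen (Act.pieces_sound YbK_s0_2850 YbK_s0_2850.top pt2843r chk2858) chk2859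
theorem YbK_c1i : CE.Mem R (CE.gen R 132456227325173623273519412443131405544210680829733838761364396578819289635811205982869230977024) 125155490385990825140333303095872194215002218106835123239084469208333187057459407227907934781440 := YbK_c0m.sub chk2861
theorem YbK_c1m : CE.Mem R (CE.gen R 125155490385990825140333303095872194215002218106835123239084469208333187057459407227907934781440) 125155490385990825140333303095872194215002218106835123239084469208333187057459407227907934781440 := YbK_c1i.gen
theorem fx2863 : CE.gen R 125155490385990825140333303095872194215002218106835123239084469208333187057459407227907934781440 ≤ stabilizer _ pt2844 := Act.fix_sound YbK_c1i.top pt2844r chk2862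
theorem cov2870 : Cov (CE.gen R 132456227325173623273519412443131405544210680829733838761364396578819289635811205982869230977024) (CE.wds R [0]) pt2844 27 := Act.cov_of_seen (Act.pieces_sound YbK_c0m YbK_c0m.top pt2844r chk2868) chk2869
theorem YbK_c2i : CE.Mem R (CE.gen R 125155490385990825140333303095872194215002218106835123239084469208333187057459407227907934781440) 100124392308792660112266642476697755372001774485468098591267575366666549645967525782326347825152 := YbK_c1m.sub chk2871
theorem YbK_c2m : CE.Mem R (CE.gen R 100124392308792660112266642476697755372001774485468098591267575366666549645967525782326347825152) 100124392308792660112266642476697755372001774485468098591267575366666549645967525782326347825152 := YbK_c2i.gen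
theorem fx2873 : CE.gen R 100124392308792660112266642476697755372001774485468098591267575366666549645967525782326347825152 ≤ stabilizer _ pt2845 := Act.fix_sound YbK_c2i.top pt2845r chk2872
theorem cov2880 : Cov (CE.gen R 125155490385990825140333303095872194215002218106835123239084469208333187057459407227907934781440) (CE.wds R [0]) pt2845 9 := Act.cov_of_seen (Act.pieces_sound YbK_c1m YbK_c1m.top pt2845r chk2878) chk2879
theorem YbK_c3i : CE.Mem R (CE.gen R 100124392308792660112266642476697755372001774485468098591267575366666549645967525782326347825152) 66749594872528440074844428317798503581334516323645399060845050244444366430645017188217565216768 := YbK_c2m.sub chk2881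
theorem YbK_c3m : CE.Mem R (CE.gen R 66749594872528440074844428317798503581334516323645399060845050244444366430645017188217565216768) 66749594872528440074844428317798503581334516323645399060845050244444366430645017188217565216768 := YbK_c3i.gen
theorem fx2883 : CE.gen R 66749594872528440074844428317798503581334516323645399060845050244444366430645017188217565216768 ≤ stabilizer _ pt2846 := Act.fix_sound YbK_c3i.top pt2846r chk2882
theorem cov2890 : Cov (CE.gen R 100124392308792660112266642476697755372001774485468098591267575366666549645967525782326347825152) (CE.wds R [0]) pt2846 2 := Act.cov_of_seen (Act.pieces_sound YbK_c2m YbK_c2m.top pt2846r chk2888) chk2889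
theorem YbK_c4i : CE.Mem R (CE.gen R 66749594872528440074844428317798503581334516323645399060845050244444366430645017188217565216768) 0 := YbK_c3m.sub chk2891
theorem YbK_c4m : CE.Mem R (CE.gen R 0) 0 := YbK_c4i.gen
theorem fx2893 : CE.gen R 0 ≤ stabilizer _ pt2847 := Act.fix_sound YbK_c4i.top pt2847r chk2892
theorem cov2900 : Cov (CE.gen R 66749594872528440074844428317798503581334516323645399060845050244444366430645017188217565216768) (CE.wds R [0]) pt2847 3 := Act.cov_of_seen (Act.pieces_sound YbK_c3m YbK_c3m.top pt2847r chk2898) chk2899
theorem YbK_lb5 : 1 ≤ Nat.card (CE.gen R 0) := Nat.card_pos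
theorem YbK_lo4 : 3 * Nat.card (CE.gen R 0) ≤ Nat.card (CE.gen R 66749594872528440074844428317798503581334516323645399060845050244444366430645017188217565216768) := cov2900.low le_rfl (GC.wds_zero _) YbK_c4i.gen_le fx2893
theorem YbK_lb4 : 3 ≤ Nat.card (CE.gen R 66749594872528440074844428317798503581334516323645399060845050244444366430645017188217565216768) := low_step YbK_lo4 YbK_lb5 (by decide +kernel)
theorem YbK_lo3 : 2 * Nat.card (CE.gen R 66749594872528440074844428317798503581334516323645399060845050244444366430645017188217565216768) ≤ Nat.card (CE.gen R 100124392308792660112266642476697755372001774485468098591267575366666549645967525782326347825152) := cov2890.low le_rfl (GC.wds_zero _) YbK_c3i.gen_le fx2883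
theorem YbK_lb3 : 6 ≤ Nat.card (CE.gen R 100124392308792660112266642476697755372001774485468098591267575366666549645967525782326347825152) := low_step YbK_lo3 YbK_lb4 (by decide +kernel)
theorem YbK_lo2 : 9 * Nat.card (CE.gen R 100124392308792660112266642476697755372001774485468098591267575366666549645967525782326347825152) ≤ Nat.card (CE.gen R 125155490385990825140333303095872194215002218106835123239084469208333187057459407227907934781440) := cov2880.low le_rfl (GC.wds_zero _) YbK_c2i.gen_le fx2873
theorem YbK_lb2 : 54 ≤ Nat.card (CE.gen R 125155490385990825140333303095872194215002218106835123239084469208333187057459407227907934781440) := low_step YbK_lo2 YbK_lb3 (by decide +kernel)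
theorem YbK_lo1 : 27 * Nat.card (CE.gen R 125155490385990825140333303095872194215002218106835123239084469208333187057459407227907934781440) ≤ Nat.card (CE.gen R 132456227325173623273519412443131405544210680829733838761364396578819289635811205982869230977024) := cov2870.low le_rfl (GC.wds_zero _) YbK_c1i.gen_le fx2863
theorem YbK_lb1 : 1458 ≤ Nat.card (CE.gen R 132456227325173623273519412443131405544210680829733838761364396578819289635811205982869230977024) := low_step YbK_lo1 YbK_lb2 (by decide +kernel)
theorem YbK_lo0 : 2 * Nat.card (CE.gen R 132456227325173623273519412443131405544210680829733838761364396578819289635811205982869230977024) ≤ Nat.card (CE.gen R 912592117397849766648263668407401416151057840362339440284990921310762822293974844370162024448) := cov2860.low le_rfl (GC.wds_zero _) YbK_c0i.gen_le fx2853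
theorem YbK_lb0 : 2916 ≤ Nat.card (CE.gen R 912592117397849766648263668407401416151057840362339440284990921310762822293974844370162024448) := low_step YbK_lo0 YbK_lb1 (by decide +kernel)
theorem fx2904 : CE.gen R 912592117397849766648263668407401416151057840362339440284990921310762822293974844370162024448 ≤ stabilizer _ pt2805 := Act.fix_sound YbK_in2842.top pt2805r chk2903
theorem Yb_Kc : ∀ κ ∈ (CE.gen R 912592117397849766648263668407401416151057840362339440284990921310762822293974844370162024448), (CE.el (R 280))⁻¹ * κ * CE.el (R 280) ∈ (CE.gen R 1938874617045600693827822332786754221277870888194615811249367463626132987773167075328) := Ya_s0_2542.conjB (Yb_m1.get (i := 280) (by decide +kernel)).top YbK_in2842.top chk2902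
theorem YbT1_in2929 : CE.Mem R (CE.gen R 1938874617045600693827822332786754221277870888194615811249367463626132987773167075328) 934494328215398161047821996449179050138683228531035586851830703422221130029030240635045913034752 := Ya_s0_2542.slp' chk2928
theorem YbT1_m0 : CE.Mem R (CE.gen R 934494328215398161047821996449179050138683228531035586851830703422221130029030240635045913034752) 934494328215398161047821996449179050138683228531035586851830703422221130029030240635045913034752 := GC.Mem.gen YbT1_in2929.top
theorem pt2930e : ∃ x, EP.Rep pt2930c x := via_rep _ _ (act2_rep (n := 24) (d := 5) (by decide) (by decide) (c := 0xe10e04) (by decide +kernel))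
noncomputable def pt2930 := Classical.choose pt2930e
theorem pt2930r : EP.Rep pt2930c pt2930 := Classical.choose_spec pt2930e
theorem pt2931e : ∃ x, EP.Rep pt2931c x := via_rep _ _ (act2_rep (n := 24) (d := 5) (by decide) (by decide) (c := 0xfe066b) (by decide +kernel))
noncomputable def pt2931 := Classical.choose pt2931e
theorem pt2931r : EP.Rep pt2931c pt2931 := Classical.choose_spec pt2931e
theorem pt2932e : ∃ x, EP.Rep pt2932c x := via_rep _ _ (act2_rep (n := 24) (d := 5) (by decide) (by decide) (c := 0x1e8658) (by decide +kernel))
noncomputable def pt2932 := Classical.choose pt2932e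
theorem pt2932r : EP.Rep pt2932c pt2932 := Classical.choose_spec pt2932e
theorem pt2933e : ∃ x, EV.Rep pt2933c x := via_rep _ _ (PP.exists_vec P_ok (c := 0x400010004000300000004000400020003000200040002000400030001000400040001000000010004000100010003000400040004000200000003000000030002000300040001000000040003000000020004000200010003000300010003000000040003000400030004000200020001000400030004000200000002000100000004000300000002000300010001000200010004000300030001000400000003000100030000000400000000000000020000000400010002000300000004000300030000000300000001000300030003000300000002000000040001) (by decide +kernel))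
noncomputable def pt2933 := Classical.choose pt2933e
theorem pt2933r : EV.Rep pt2933c pt2933 := Classical.choose_spec pt2933e
theorem YbT1_s0_2936 : CE.Mem R (CE.gen R 934494328215398161047821996449179050138683228531035586851830703422221130029030240635045913034752) 16954397097622223779010484792720819909658967146205931361454642762088869073383834365807261565059072 := YbT1_m0.slp' chk2935
theorem YbT1_c0i : CE.Mem R (CE.gen R 934494328215398161047821996449179050138683228531035586851830703422221130029030240635045913034752) 16019902769406825617962662796271640859520283917674895774602812058666647943354804125172215652024320 := YbT1_s0_2936.sub chk2937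
theorem YbT1_c0m : CE.Mem R (CE.gen R 16019902769406825617962662796271640859520283917674895774602812058666647943354804125172215652024320) 16019902769406825617962662796271640859520283917674895774602812058666647943354804125172215652024320 := YbT1_c0i.gen
theorem fx2939 : CE.gen R 16019902769406825617962662796271640859520283917674895774602812058666647943354804125172215652024320 ≤ stabilizer _ pt2930 := Act.fix_sound YbT1_c0i.top pt2930r chk2938
theorem cov2946 : Cov (CE.gen R 934494328215398161047821996449179050138683228531035586851830703422221130029030240635045913034752) (CE.wds R [0]) pt2930 27 := Act.cov_of_seen (Act.pieces_sound YbT1_s0_2936 YbT1_s0_2936.top pt2930r chk2944) chk2945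
theorem YbT1_c1i : CE.Mem R (CE.gen R 16019902769406825617962662796271640859520283917674895774602812058666647943354804125172215652024320) 10679935179604550411975108530847760573013522611783263849735208039111098628903202750114810434682880 := YbT1_c0m.sub chk2947
theorem YbT1_c1m : CE.Mem R (CE.gen R 10679935179604550411975108530847760573013522611783263849735208039111098628903202750114810434682880) 10679935179604550411975108530847760573013522611783263849735208039111098628903202750114810434682880 := YbT1_c1i.gen
theorem fx2949 : CE.gen R 10679935179604550411975108530847760573013522611783263849735208039111098628903202750114810434682880 ≤ stabilizer _ pt2931 := Act.fix_sound YbT1_c1i.top pt2931r chk2948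
theorem cov2956 : Cov (CE.gen R 16019902769406825617962662796271640859520283917674895774602812058666647943354804125172215652024320) (CE.wds R [0]) pt2931 18 := Act.cov_of_seen (Act.pieces_sound YbT1_c0m YbT1_c0m.top pt2931r chk2954) chk2955
theorem YbT1_c2i : CE.Mem R (CE.gen R 10679935179604550411975108530847760573013522611783263849735208039111098628903202750114810434682880) 8543948143683640329580086824678208458410818089426611079788166431288878903122562200091848347746304 := YbT1_c1m.sub chk2957
theorem YbT1_c2m : CE.Mem R (CE.gen R 8543948143683640329580086824678208458410818089426611079788166431288878903122562200091848347746304) 8543948143683640329580086824678208458410818089426611079788166431288878903122562200091848347746304 := YbT1_c2i.gen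
theorem fx2959 : CE.gen R 8543948143683640329580086824678208458410818089426611079788166431288878903122562200091848347746304 ≤ stabilizer _ pt2932 := Act.fix_sound YbT1_c2i.top pt2932r chk2958
theorem cov2966 : Cov (CE.gen R 10679935179604550411975108530847760573013522611783263849735208039111098628903202750114810434682880) (CE.wds R [0]) pt2932 2 := Act.cov_of_seen (Act.pieces_sound YbT1_c1m YbT1_c1m.top pt2932r chk2964) chk2965
theorem YbT1_c3i : CE.Mem R (CE.gen R 8543948143683640329580086824678208458410818089426611079788166431288878903122562200091848347746304) 0 := YbT1_c2m.sub chk2967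
theorem YbT1_c3m : CE.Mem R (CE.gen R 0) 0 := YbT1_c3i.gen
theorem fx2969 : CE.gen R 0 ≤ stabilizer _ pt2933 := Act.fix_sound YbT1_c3i.top pt2933r chk2968
theorem cov2976 : Cov (CE.gen R 8543948143683640329580086824678208458410818089426611079788166431288878903122562200091848347746304) (CE.wds R [0]) pt2933 3 := Act.cov_of_seen (Act.pieces_sound YbT1_c2m YbT1_c2m.top pt2933r chk2974) chk2975
theorem YbT1_lb4 : 1 ≤ Nat.card (CE.gen R 0) := Nat.card_pos
theorem YbT1_lo3 : 3 * Nat.card (CE.gen R 0) ≤ Nat.card (CE.gen R 8543948143683640329580086824678208458410818089426611079788166431288878903122562200091848347746304) := cov2976.low le_rfl (GC.wds_zero _) YbT1_c3i.gen_le fx2969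
theorem YbT1_lb3 : 3 ≤ Nat.card (CE.gen R 8543948143683640329580086824678208458410818089426611079788166431288878903122562200091848347746304) := low_step YbT1_lo3 YbT1_lb4 (by decide +kernel)
theorem YbT1_lo2 : 2 * Nat.card (CE.gen R 8543948143683640329580086824678208458410818089426611079788166431288878903122562200091848347746304) ≤ Nat.card (CE.gen R 10679935179604550411975108530847760573013522611783263849735208039111098628903202750114810434682880) := cov2966.low le_rfl (GC.wds_zero _) YbT1_c2i.gen_le fx2959
theorem YbT1_lb2 : 6 ≤ Nat.card (CE.gen R 10679935179604550411975108530847760573013522611783263849735208039111098628903202750114810434682880) := low_step YbT1_lo2 YbT1_lb3 (by decide +kernel)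
theorem YbT1_lo1 : 18 * Nat.card (CE.gen R 10679935179604550411975108530847760573013522611783263849735208039111098628903202750114810434682880) ≤ Nat.card (CE.gen R 16019902769406825617962662796271640859520283917674895774602812058666647943354804125172215652024320) := cov2956.low le_rfl (GC.wds_zero _) YbT1_c1i.gen_le fx2949
theorem YbT1_lb1 : 108 ≤ Nat.card (CE.gen R 16019902769406825617962662796271640859520283917674895774602812058666647943354804125172215652024320) := low_step YbT1_lo1 YbT1_lb2 (by decide +kernel)
theorem YbT1_lo0 : 27 * Nat.card (CE.gen R 16019902769406825617962662796271640859520283917674895774602812058666647943354804125172215652024320) ≤ Nat.card (CE.gen R 934494328215398161047821996449179050138683228531035586851830703422221130029030240635045913034752) := cov2946.low le_rfl (GC.wds_zero _) YbT1_c0i.gen_le fx2939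
theorem YbT1_lb0 : 2916 ≤ Nat.card (CE.gen R 934494328215398161047821996449179050138683228531035586851830703422221130029030240635045913034752) := low_step YbT1_lo0 YbT1_lb1 (by decide +kernel)
theorem Yb_T1c : ∀ τ ∈ (CE.gen R 934494328215398161047821996449179050138683228531035586851830703422221130029030240635045913034752), CE.el (R 280) * τ * (CE.el (R 280))⁻¹ ∈ (CE.gen R 1938874617045600693827822332786754221277870888194615811249367463626132987773167075328) := Ya_s0_2542.conjA (Yb_I.get (i := 280) (by decide +kernel)).top YbT1_in2929.top chk2978
theorem cov2987 : Cov (CE.gen R 934494328215398161047821996449179050138683228531035586851830703422221130029030240635045913034752) (CE.wds R (List.map Prod.fst (l2979))) pt2805 30 := Act.cov_of_seen (Act.pieces_sound YbT1_s0_2936 Ya_s0_2542.top pt2805r chk2985) chk2986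
theorem Yb_T1d : Dec (CE.gen R 1938874617045600693827822332786754221277870888194615811249367463626132987773167075328) (CE.gen R 934494328215398161047821996449179050138683228531035586851830703422221130029030240635045913034752) (CE.wds R (List.map Prod.fst (l2979))) (CE.gen R 912592117397849766648263668407401416151057840362339440284990921310762822293974844370162024448) := cov2987.dec YbT1_in2929.gen_le (GC.wds_sub Ya_s0_2542 chk2988) YbK_in2842.gen_le fx2904 (up_low Ya_ub YbK_lb0 (by decide +kernel))
theorem Yb_T1p : ∀ x ∈ DC1 (CE.gen R 1938874617045600693827822332786754221277870888194615811249367463626132987773167075328) (CE.el (R 280)), x * CE.el (R 280) ∈ DCs (CE.gen R 1938874617045600693827822332786754221277870888194615811249367463626132987773167075328) (CE.els R 65185153185372446986319332948562007977165895239716799072496015631152611331331059803077214208) := GC.dc_piece' Yb_T1d Yb_T1c Yb_Kc (Ya_s0_2542.dcRel Yb_I.top (Yb_I.get (i := 280) (by decide +kernel)).top (Yb_m1.get (i := 280) (by decide +kernel)).top chk2980)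
theorem Yb_T1u : Nat.card (CE.gen R 1938874617045600693827822332786754221277870888194615811249367463626132987773167075328) ≤ 30 * Nat.card (CE.gen R 934494328215398161047821996449179050138683228531035586851830703422221130029030240635045913034752) := up_low Ya_ub YbT1_lb0 (by decide +kernel)
theorem Yb_T1n : (DC1 (CE.gen R 1938874617045600693827822332786754221277870888194615811249367463626132987773167075328) (CE.el (R 280))).ncard ≤ Nat.card (CE.gen R 1938874617045600693827822332786754221277870888194615811249367463626132987773167075328) * 30 := ncard_DC1 YbT1_in2929.gen_le Yb_T1c Yb_T1u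
theorem YbT2_in2996 : CE.Mem R (CE.gen R 1938874617045600693827822332786754221277870888194615811249367463626132987773167075328) 51263688862101841977480520948069250750464908536559666478728998587733273418735373200551090086477824 := Ya_s0_2542.slp' chk2995
theorem YbT2_m0 : CE.Mem R (CE.gen R 51263688862101841977480520948069250750464908536559666478728998587733273418735373200551090086477824) 51263688862101841977480520948069250750464908536559666478728998587733273418735373200551090086477824 := GC.Mem.gen YbT2_in2996.top
theorem pt2997e : ∃ x, EP.Rep pt2997c x := via_rep _ _ (act2_rep (n := 24) (d := 5) (by decide) (by decide) (c := 0xe2ae84) (by decide +kernel))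
noncomputable def pt2997 := Classical.choose pt2997e
theorem pt2997r : EP.Rep pt2997c pt2997 := Classical.choose_spec pt2997e
theorem pt2998e : ∃ x, EP.Rep pt2998c x := via_rep _ _ (act2_rep (n := 24) (d := 5) (by decide) (by decide) (c := 0xe10e04) (by decide +kernel))
noncomputable def pt2998 := Classical.choose pt2998e
theorem pt2998r : EP.Rep pt2998c pt2998 := Classical.choose_spec pt2998e
theorem pt2999e : ∃ x, EP.Rep pt2999c x := via_rep _ _ (act2_rep (n := 24) (d := 5) (by decide) (by decide) (c := 0x1e8658) (by decide +kernel))
noncomputable def pt2999 := Classical.choose pt2999e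
theorem pt2999r : EP.Rep pt2999c pt2999 := Classical.choose_spec pt2999e
theorem pt3000e : ∃ x, EV.Rep pt3000c x := via_rep _ _ (PP.exists_vec P_ok (c := 0x400010004000300000004000400020003000200040002000400030001000400040001000000010004000100010003000400040004000200000003000000030002000300040001000000040003000000020004000200010003000300010003000000040003000400030004000200020001000400030004000200000002000100000004000300000002000300010001000200010004000300030001000400000003000100030000000400000000000000020000000400010002000300000004000300030000000300000001000300030003000300000002000000040001) (by decide +kernel))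
noncomputable def pt3000 := Classical.choose pt3000e
theorem pt3000r : EV.Rep pt3000c pt3000 := Classical.choose_spec pt3000e
theorem YbT2_s0_3003 : CE.Mem R (CE.gen R 51263688862101841977480520948069250750464908536559666478728998587733273418735373200551090086477824) 1076537466104138681527090939909454265759763079267752996053308970342398741793442837211572891816034304 := YbT2_m0.slp' chk3002
theorem YbT2_c0i : CE.Mem R (CE.gen R 51263688862101841977480520948069250750464908536559666478728998587733273418735373200551090086477824) 1025273777242036839549610418961385015009298170731193329574579971754665468374707464011021801729556480 := YbT2_s0_3003.sub chk3004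
theorem YbT2_c0m : CE.Mem R (CE.gen R 1025273777242036839549610418961385015009298170731193329574579971754665468374707464011021801729556480) 1025273777242036839549610418961385015009298170731193329574579971754665468374707464011021801729556480 := YbT2_c0i.gen
theorem fx3006 : CE.gen R 1025273777242036839549610418961385015009298170731193329574579971754665468374707464011021801729556480 ≤ stabilizer _ pt2997 := Act.fix_sound YbT2_c0i.top pt2997r chk3005
theorem cov3013 : Cov (CE.gen R 51263688862101841977480520948069250750464908536559666478728998587733273418735373200551090086477824) (CE.wds R [0]) pt2997 10 := Act.cov_of_seen (Act.pieces_sound YbT2_s0_3003 YbT2_s0_3003.top pt2997r chk3011) chk3012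
theorem YbT2_c1i : CE.Mem R (CE.gen R 1025273777242036839549610418961385015009298170731193329574579971754665468374707464011021801729556480) 820219021793629471639688335169108012007438536584954663659663977403732374699765971208817441383645184 := YbT2_c0m.sub chk3014
theorem YbT2_c1m : CE.Mem R (CE.gen R 820219021793629471639688335169108012007438536584954663659663977403732374699765971208817441383645184) 820219021793629471639688335169108012007438536584954663659663977403732374699765971208817441383645184 := YbT2_c1i.gen
theorem fx3016 : CE.gen R 820219021793629471639688335169108012007438536584954663659663977403732374699765971208817441383645184 ≤ stabilizer _ pt2998 := Act.fix_sound YbT2_c1i.top pt2998r chk3015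
theorem cov3023 : Cov (CE.gen R 1025273777242036839549610418961385015009298170731193329574579971754665468374707464011021801729556480) (CE.wds R [0]) pt2998 18 := Act.cov_of_seen (Act.pieces_sound YbT2_c0m YbT2_c0m.top pt2998r chk3021) chk3022
theorem YbT2_c2i : CE.Mem R (CE.gen R 820219021793629471639688335169108012007438536584954663659663977403732374699765971208817441383645184) 546812681195752981093125556779405341338292357723303109106442651602488249799843980805878294255763456 := YbT2_c1m.sub chk3024
theorem YbT2_c2m : CE.Mem R (CE.gen R 546812681195752981093125556779405341338292357723303109106442651602488249799843980805878294255763456) 546812681195752981093125556779405341338292357723303109106442651602488249799843980805878294255763456 := YbT2_c2i.gen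
theorem fx3026 : CE.gen R 546812681195752981093125556779405341338292357723303109106442651602488249799843980805878294255763456 ≤ stabilizer _ pt2999 := Act.fix_sound YbT2_c2i.top pt2999r chk3025
theorem cov3033 : Cov (CE.gen R 820219021793629471639688335169108012007438536584954663659663977403732374699765971208817441383645184) (CE.wds R [0]) pt2999 2 := Act.cov_of_seen (Act.pieces_sound YbT2_c1m YbT2_c1m.top pt2999r chk3031) chk3032
theorem YbT2_c3i : CE.Mem R (CE.gen R 546812681195752981093125556779405341338292357723303109106442651602488249799843980805878294255763456) 0 := YbT2_c2m.sub chk3034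
theorem YbT2_c3m : CE.Mem R (CE.gen R 0) 0 := YbT2_c3i.gen
theorem fx3036 : CE.gen R 0 ≤ stabilizer _ pt3000 := Act.fix_sound YbT2_c3i.top pt3000r chk3035
theorem cov3043 : Cov (CE.gen R 546812681195752981093125556779405341338292357723303109106442651602488249799843980805878294255763456) (CE.wds R [0]) pt3000 3 := Act.cov_of_seen (Act.pieces_sound YbT2_c2m YbT2_c2m.top pt3000r chk3041) chk3042
theorem YbT2_lb4 : 1 ≤ Nat.card (CE.gen R 0) := Nat.card_pos
theorem YbT2_lo3 : 3 * Nat.card (CE.gen R 0) ≤ Nat.card (CE.gen R 546812681195752981093125556779405341338292357723303109106442651602488249799843980805878294255763456) := cov3043.low le_rfl (GC.wds_zero _) YbT2_c3i.gen_le fx3036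
theorem YbT2_lb3 : 3 ≤ Nat.card (CE.gen R 546812681195752981093125556779405341338292357723303109106442651602488249799843980805878294255763456) := low_step YbT2_lo3 YbT2_lb4 (by decide +kernel)
theorem YbT2_lo2 : 2 * Nat.card (CE.gen R 546812681195752981093125556779405341338292357723303109106442651602488249799843980805878294255763456) ≤ Nat.card (CE.gen R 820219021793629471639688335169108012007438536584954663659663977403732374699765971208817441383645184) := cov3033.low le_rfl (GC.wds_zero _) YbT2_c2i.gen_le fx3026
theorem YbT2_lb2 : 6 ≤ Nat.card (CE.gen R 820219021793629471639688335169108012007438536584954663659663977403732374699765971208817441383645184) := low_step YbT2_lo2 YbT2_lb3 (by decide +kernel)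
theorem YbT2_lo1 : 18 * Nat.card (CE.gen R 820219021793629471639688335169108012007438536584954663659663977403732374699765971208817441383645184) ≤ Nat.card (CE.gen R 1025273777242036839549610418961385015009298170731193329574579971754665468374707464011021801729556480) := cov3023.low le_rfl (GC.wds_zero _) YbT2_c1i.gen_le fx3016
theorem YbT2_lb1 : 108 ≤ Nat.card (CE.gen R 1025273777242036839549610418961385015009298170731193329574579971754665468374707464011021801729556480) := low_step YbT2_lo1 YbT2_lb2 (by decide +kernel)
theorem YbT2_lo0 : 10 * Nat.card (CE.gen R 1025273777242036839549610418961385015009298170731193329574579971754665468374707464011021801729556480) ≤ Nat.card (CE.gen R 51263688862101841977480520948069250750464908536559666478728998587733273418735373200551090086477824) := cov3013.low le_rfl (GC.wds_zero _) YbT2_c0i.gen_le fx3006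
theorem YbT2_lb0 : 1080 ≤ Nat.card (CE.gen R 51263688862101841977480520948069250750464908536559666478728998587733273418735373200551090086477824) := low_step YbT2_lo0 YbT2_lb1 (by decide +kernel)
theorem Yb_T2c : ∀ τ ∈ (CE.gen R 51263688862101841977480520948069250750464908536559666478728998587733273418735373200551090086477824), CE.el (R 305) * τ * (CE.el (R 305))⁻¹ ∈ (CE.gen R 1938874617045600693827822332786754221277870888194615811249367463626132987773167075328) := Ya_s0_2542.conjA (Yb_I.get (i := 305) (by decide +kernel)).top YbT2_in2996.top chk3045
theorem cov3054 : Cov (CE.gen R 51263688862101841977480520948069250750464908536559666478728998587733273418735373200551090086477824) (CE.wds R (List.map Prod.fst (l3046))) pt2805 30 := Act.cov_of_seen (Act.pieces_sound YbT2_s0_3003 Ya_s0_2542.top pt2805r chk3052) chk3053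
theorem Yb_T2d : Dec (CE.gen R 1938874617045600693827822332786754221277870888194615811249367463626132987773167075328) (CE.gen R 51263688862101841977480520948069250750464908536559666478728998587733273418735373200551090086477824) (CE.wds R (List.map Prod.fst (l3046))) (CE.gen R 912592117397849766648263668407401416151057840362339440284990921310762822293974844370162024448) := cov3054.dec YbT2_in2996.gen_le (GC.wds_sub Ya_s0_2542 chk3055) YbK_in2842.gen_le fx2904 (up_low Ya_ub YbK_lb0 (by decide +kernel))
theorem Yb_T2p : ∀ x ∈ DC1 (CE.gen R 1938874617045600693827822332786754221277870888194615811249367463626132987773167075328) (CE.el (R 305)), x * CE.el (R 280) ∈ DCs (CE.gen R 1938874617045600693827822332786754221277870888194615811249367463626132987773167075328) (CE.els R 65185153185372446986319332948562007977165895239716799072496015631152611331331059803077214208) := GC.dc_piece' Yb_T2d Yb_T2c Yb_Kc (Ya_s0_2542.dcRel Yb_I.top (Yb_I.get (i := 305) (by decide +kernel)).top (Yb_m1.get (i := 280) (by decide +kernel)).top chk3047)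
theorem Yb_T2u : Nat.card (CE.gen R 1938874617045600693827822332786754221277870888194615811249367463626132987773167075328) ≤ 81 * Nat.card (CE.gen R 51263688862101841977480520948069250750464908536559666478728998587733273418735373200551090086477824) := up_low Ya_ub YbT2_lb0 (by decide +kernel)
theorem Yb_T2n : (DC1 (CE.gen R 1938874617045600693827822332786754221277870888194615811249367463626132987773167075328) (CE.el (R 305))).ncard ≤ Nat.card (CE.gen R 1938874617045600693827822332786754221277870888194615811249367463626132987773167075328) * 81 := ncard_DC1 YbT2_in2996.gen_le Yb_T2c Yb_T2u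
theorem Yb_dc : ∀ x ∈ (CE.gen R 3881543509271329764747284239610273127920277727246755332501179873365037272978375573504), x ∈ DCs (CE.gen R 1938874617045600693827822332786754221277870888194615811249367463626132987773167075328) (CE.els R 65185153185372446986319332948562007977165895239716799072496015631152611331331059803077214208) := GC.dc_gen (MU := 1942668892225729070919461906823518906642406839052139521251812409738904285205208498176) Ya_s0_2542 (by decide +kernel) (GC.forall_els (L := [280]) (forall_cons ⟨Ya_s0_2542.inDC' Yb_I.top (Yb_m1.get (i := 280) (by decide +kernel)).top chk3056, GC.forall_els (L := [280, 305]) (forall_cons Yb_T1p (forall_cons Yb_T2p forall_nil)) (by decide +kernel)⟩ forall_nil) (by decide +kernel))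
theorem Yb_cs : ∀ p ∈ ([(280, 30), (305, 81)] : List (ℕ × ℕ)), (DC1 (CE.gen R 1938874617045600693827822332786754221277870888194615811249367463626132987773167075328) (CE.el (R p.1))).ncard ≤ Nat.card (CE.gen R 1938874617045600693827822332786754221277870888194615811249367463626132987773167075328) * p.2 := (forall_cons Yb_T1n (forall_cons Yb_T2n forall_nil))
theorem Yb_ix : Nat.card (CE.gen R 3881543509271329764747284239610273127920277727246755332501179873365037272978375573504) ≤ 112 * Nat.card (CE.gen R 1938874617045600693827822332786754221277870888194615811249367463626132987773167075328) := GC.card_dc [(280, 30), (305, 81)] Yb_dc Yb_cs (by decide +kernel)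
theorem Yb_ub : Nat.card (CE.gen R 3881543509271329764747284239610273127920277727246755332501179873365037272978375573504) ≤ 9797760 := up_mul Yb_ix Ya_ub (by decide +kernel)
theorem pt3057e : ∃ x, EP.Rep pt3057c x := via_rep _ _ (act2_rep (n := 24) (d := 5) (by decide) (by decide) (c := 0x95443b) (by decide +kernel))
noncomputable def pt3057 := Classical.choose pt3057e
theorem pt3057r : EP.Rep pt3057c pt3057 := Classical.choose_spec pt3057e
theorem Yc_m0 : CE.Mem R (CE.gen R 7766881293722787906586208053257310941205091405351034375004804692842845843388792569856) 7766881293722787906586208053257310941205091405351034375004804692842845843388792569856 := GC.Mem.gen valp2505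
theorem Yc_m1 : CE.Mem R (CE.gen R 7766881293722787906586208053257310941205091405351034375004804692842845843388792569856) 65185166780260417386294452293155781705033556372028721579948954391394533390889758807495278592 := Yc_m0.lor' (Yb_s1_2810.mono (Yc_m0.sub chk3058).gen_le) chk3059
theorem Yc_s1_3062 : CE.Mem R (CE.gen R 7766881293722787906586208053257310941205091405351034375004804692842845843388792569856) 1093625427576672742446668499853262975832366420480162590241606883153930890994221352501515396006805504 := Yc_m1.slp' chk3061
theorem Yc_I : CE.Mem R (CE.gen R 7766881293722787906586208053257310941205091405351034375004804692842845843388792569856) 1093625362391509847524035565016952521600398362484419503026563407484019003224507439420326998928523264 := Yc_s1_3062.sub chk3063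
theorem YcK_in3066 : CE.Mem R (CE.gen R 3881543509271329764747284239610273127920277727246755332501179873365037272978375573504) 6561752174349035773117506681352864096059508292679637309277311819229858997598127769670539531069161472 := Yb_s1_2810.slp' chk3065
theorem YcK_m0 : CE.Mem R (CE.gen R 6561752174349035773117506681352864096059508292679637309277311819229858997598127769670539531069161472) 6561752174349035773117506681352864096059508292679637309277311819229858997598127769670539531069161472 := GC.Mem.gen YcK_in3066.top
theorem pt3067e : ∃ x, EP.Rep pt3067c x := via_rep _ _ (act2_rep (n := 24) (d := 5) (by decide) (by decide) (c := 0xe10e04) (by decide +kernel))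
noncomputable def pt3067 := Classical.choose pt3067e
theorem pt3067r : EP.Rep pt3067c pt3067 := Classical.choose_spec pt3067e
theorem pt3068e : ∃ x, EP.Rep pt3068c x := via_rep _ _ (act2_rep (n := 24) (d := 5) (by decide) (by decide) (c := 0xd9006b) (by decide +kernel))
noncomputable def pt3068 := Classical.choose pt3068e
theorem pt3068r : EP.Rep pt3068c pt3068 := Classical.choose_spec pt3068e
theorem pt3069e : ∃ x, EP.Rep pt3069c x := via_rep _ _ (act2_rep (n := 24) (d := 5) (by decide) (by decide) (c := 0x1e8658) (by decide +kernel))
noncomputable def pt3069 := Classical.choose pt3069e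
theorem pt3069r : EP.Rep pt3069c pt3069 := Classical.choose_spec pt3069e
theorem pt3070e : ∃ x, EP.Rep pt3070c x := via_rep _ _ (act2_rep (n := 24) (d := 5) (by decide) (by decide) (c := 0xe2ae84) (by decide +kernel))
noncomputable def pt3070 := Classical.choose pt3070e
theorem pt3070r : EP.Rep pt3070c pt3070 := Classical.choose_spec pt3070e
theorem pt3071e : ∃ x, EV.Rep pt3071c x := via_rep _ _ (PP.exists_vec P_ok (c := 0x400010004000300000004000400020003000200040002000400030001000400040001000000010004000100010003000400040004000200000003000000030002000300040001000000040003000000020004000200010003000300010003000000040003000400030004000200020001000400030004000200000002000100000004000300000002000300010001000200010004000300030001000400000003000100030000000400000000000000020000000400010002000300000004000300030000000300000001000300030003000300000002000000040001) (by decide +kernel))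
noncomputable def pt3071 := Classical.choose pt3071e
theorem pt3071r : EV.Rep pt3071c pt3071 := Classical.choose_spec pt3071e
theorem YcK_s0_3074 : CE.Mem R (CE.gen R 6561752174349035773117506681352864096059508292679637309277311819229858997598127769670539531069161472) 2237557491453021198633069778341326656756292327803756322463563330357381918180961569457653980094584061952 := YcK_m0.slp' chk3073
theorem YcK_c0i : CE.Mem R (CE.gen R 6561752174349035773117506681352864096059508292679637309277311819229858997598127769670539531069161472) 2222246736379540115162462262751503307198820141787503835408582936112512247186565937995089387855422685184 := YcK_s0_3074.sub chk3075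
theorem YcK_c0m : CE.Mem R (CE.gen R 2222246736379540115162462262751503307198820141787503835408582936112512247186565937995089387855422685184) 2222246736379540115162462262751503307198820141787503835408582936112512247186565937995089387855422685184 := YcK_c0i.gen
theorem fx3077 : CE.gen R 2222246736379540115162462262751503307198820141787503835408582936112512247186565937995089387855422685184 ≤ stabilizer _ pt3067 := Act.fix_sound YcK_c0i.top pt3067r chk3076
theorem cov3084 : Cov (CE.gen R 6561752174349035773117506681352864096059508292679637309277311819229858997598127769670539531069161472) (CE.wds R [0]) pt3067 30 := Act.cov_of_seen (Act.pieces_sound YcK_s0_3074 YcK_s0_3074.top pt3067r chk3082) chk3083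
theorem YcK_c1i : CE.Mem R (CE.gen R 2222246736379540115162462262751503307198820141787503835408582936112512247186565937995089387855422685184) 2134756707388219638187562173666798452584693364551775337951552111856114127218590901066148860774500532224 := YcK_c0m.sub chk3085
theorem YcK_c1m : CE.Mem R (CE.gen R 2134756707388219638187562173666798452584693364551775337951552111856114127218590901066148860774500532224) 2134756707388219638187562173666798452584693364551775337951552111856114127218590901066148860774500532224 := YcK_c1i.gen
theorem fx3087 : CE.gen R 2134756707388219638187562173666798452584693364551775337951552111856114127218590901066148860774500532224 ≤ stabilizer _ pt3068 := Act.fix_sound YcK_c1i.top pt3068r chk3086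
theorem cov3094 : Cov (CE.gen R 2222246736379540115162462262751503307198820141787503835408582936112512247186565937995089387855422685184) (CE.wds R [0]) pt3068 27 := Act.cov_of_seen (Act.pieces_sound YcK_c0m YcK_c0m.top pt3068r chk3092) chk3093
theorem YcK_c2i : CE.Mem R (CE.gen R 2134756707388219638187562173666798452584693364551775337951552111856114127218590901066148860774500532224) 1679808556633353157918081710426333208591234122925987151174991825722843903385120709035658119953705336832 := YcK_c1m.sub chk3095
theorem YcK_c2m : CE.Mem R (CE.gen R 1679808556633353157918081710426333208591234122925987151174991825722843903385120709035658119953705336832) 1679808556633353157918081710426333208591234122925987151174991825722843903385120709035658119953705336832 := YcK_c2i.gen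
theorem fx3097 : CE.gen R 1679808556633353157918081710426333208591234122925987151174991825722843903385120709035658119953705336832 ≤ stabilizer _ pt3069 := Act.fix_sound YcK_c2i.top pt3069r chk3096
theorem cov3104 : Cov (CE.gen R 2134756707388219638187562173666798452584693364551775337951552111856114127218590901066148860774500532224) (CE.wds R [0]) pt3069 18 := Act.cov_of_seen (Act.pieces_sound YcK_c1m YcK_c1m.top pt3069r chk3102) chk3103
theorem YcK_c3i : CE.Mem R (CE.gen R 1679808556633353157918081710426333208591234122925987151174991825722843903385120709035658119953705336832) 1119872371088902105278721140284222139060822748617324767449994550481895935590080472690438746635803557888 := YcK_c2m.sub chk3105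
theorem YcK_c3m : CE.Mem R (CE.gen R 1119872371088902105278721140284222139060822748617324767449994550481895935590080472690438746635803557888) 1119872371088902105278721140284222139060822748617324767449994550481895935590080472690438746635803557888 := YcK_c3i.gen
theorem fx3107 : CE.gen R 1119872371088902105278721140284222139060822748617324767449994550481895935590080472690438746635803557888 ≤ stabilizer _ pt3070 := Act.fix_sound YcK_c3i.top pt3070r chk3106
theorem cov3114 : Cov (CE.gen R 1679808556633353157918081710426333208591234122925987151174991825722843903385120709035658119953705336832) (CE.wds R [0]) pt3070 2 := Act.cov_of_seen (Act.pieces_sound YcK_c2m YcK_c2m.top pt3070r chk3112) chk3113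
theorem YcK_c4i : CE.Mem R (CE.gen R 1119872371088902105278721140284222139060822748617324767449994550481895935590080472690438746635803557888) 0 := YcK_c3m.sub chk3115
theorem YcK_c4m : CE.Mem R (CE.gen R 0) 0 := YcK_c4i.gen
theorem fx3117 : CE.gen R 0 ≤ stabilizer _ pt3071 := Act.fix_sound YcK_c4i.top pt3071r chk3116
theorem cov3124 : Cov (CE.gen R 1119872371088902105278721140284222139060822748617324767449994550481895935590080472690438746635803557888) (CE.wds R [0]) pt3071 3 := Act.cov_of_seen (Act.pieces_sound YcK_c3m YcK_c3m.top pt3071r chk3122) chk3123
theorem YcK_lb5 : 1 ≤ Nat.card (CE.gen R 0) := Nat.card_pos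
theorem YcK_lo4 : 3 * Nat.card (CE.gen R 0) ≤ Nat.card (CE.gen R 1119872371088902105278721140284222139060822748617324767449994550481895935590080472690438746635803557888) := cov3124.low le_rfl (GC.wds_zero _) YcK_c4i.gen_le fx3117
theorem YcK_lb4 : 3 ≤ Nat.card (CE.gen R 1119872371088902105278721140284222139060822748617324767449994550481895935590080472690438746635803557888) := low_step YcK_lo4 YcK_lb5 (by decide +kernel)
theorem YcK_lo3 : 2 * Nat.card (CE.gen R 1119872371088902105278721140284222139060822748617324767449994550481895935590080472690438746635803557888) ≤ Nat.card (CE.gen R 1679808556633353157918081710426333208591234122925987151174991825722843903385120709035658119953705336832) := cov3114.low le_rfl (GC.wds_zero _) YcK_c3i.gen_le fx3107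
theorem YcK_lb3 : 6 ≤ Nat.card (CE.gen R 1679808556633353157918081710426333208591234122925987151174991825722843903385120709035658119953705336832) := low_step YcK_lo3 YcK_lb4 (by decide +kernel)
theorem YcK_lo2 : 18 * Nat.card (CE.gen R 1679808556633353157918081710426333208591234122925987151174991825722843903385120709035658119953705336832) ≤ Nat.card (CE.gen R 2134756707388219638187562173666798452584693364551775337951552111856114127218590901066148860774500532224) := cov3104.low le_rfl (GC.wds_zero _) YcK_c2i.gen_le fx3097
theorem YcK_lb2 : 108 ≤ Nat.card (CE.gen R 2134756707388219638187562173666798452584693364551775337951552111856114127218590901066148860774500532224) := low_step YcK_lo2 YcK_lb3 (by decide +kernel)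
theorem YcK_lo1 : 27 * Nat.card (CE.gen R 2134756707388219638187562173666798452584693364551775337951552111856114127218590901066148860774500532224) ≤ Nat.card (CE.gen R 2222246736379540115162462262751503307198820141787503835408582936112512247186565937995089387855422685184) := cov3094.low le_rfl (GC.wds_zero _) YcK_c1i.gen_le fx3087
theorem YcK_lb1 : 2916 ≤ Nat.card (CE.gen R 2222246736379540115162462262751503307198820141787503835408582936112512247186565937995089387855422685184) := low_step YcK_lo1 YcK_lb2 (by decide +kernel)
theorem YcK_lo0 : 30 * Nat.card (CE.gen R 2222246736379540115162462262751503307198820141787503835408582936112512247186565937995089387855422685184) ≤ Nat.card (CE.gen R 6561752174349035773117506681352864096059508292679637309277311819229858997598127769670539531069161472) := cov3084.low le_rfl (GC.wds_zero _) YcK_c0i.gen_le fx3077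
theorem YcK_lb0 : 87480 ≤ Nat.card (CE.gen R 6561752174349035773117506681352864096059508292679637309277311819229858997598127769670539531069161472) := low_step YcK_lo0 YcK_lb1 (by decide +kernel)
theorem fx3128 : CE.gen R 6561752174349035773117506681352864096059508292679637309277311819229858997598127769670539531069161472 ≤ stabilizer _ pt3057 := Act.fix_sound YcK_in3066.top pt3057r chk3127
theorem Yc_Kc : ∀ κ ∈ (CE.gen R 6561752174349035773117506681352864096059508292679637309277311819229858997598127769670539531069161472), (CE.el (R 281))⁻¹ * κ * CE.el (R 281) ∈ (CE.gen R 3881543509271329764747284239610273127920277727246755332501179873365037272978375573504) := Yb_s1_2810.conjB (Yc_m1.get (i := 281) (by decide +kernel)).top YcK_in3066.top chk3126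
theorem YcT1_in3131 : CE.Mem R (CE.gen R 3881543509271329764747284239610273127920277727246755332501179873365037272978375573504) 6719234226533412631672326841705332834364936491703948604699967302891375613540482836142632479814821347328 := Yb_s1_2810.slp' chk3130
theorem YcT1_m0 : CE.Mem R (CE.gen R 6719234226533412631672326841705332834364936491703948604699967302891375613540482836142632479814821347328) 6719234226533412631672326841705332834364936491703948604699967302891375613540482836142632479814821347328 := GC.Mem.gen YcT1_in3131.top
theorem pt3132e : ∃ x, EP.Rep pt3132c x := via_rep _ _ (act2_rep (n := 24) (d := 5) (by decide) (by decide) (c := 0xe2ae84) (by decide +kernel))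
noncomputable def pt3132 := Classical.choose pt3132e
theorem pt3132r : EP.Rep pt3132c pt3132 := Classical.choose_spec pt3132e
theorem pt3133e : ∃ x, EP.Rep pt3133c x := via_rep _ _ (act2_rep (n := 24) (d := 5) (by decide) (by decide) (c := 0xcc68c7) (by decide +kernel))
noncomputable def pt3133 := Classical.choose pt3133e
theorem pt3133r : EP.Rep pt3133c pt3133 := Classical.choose_spec pt3133e
theorem pt3134e : ∃ x, EP.Rep pt3134c x := via_rep _ _ (act2_rep (n := 24) (d := 5) (by decide) (by decide) (c := 0x95443b) (by decide +kernel))
noncomputable def pt3134 := Classical.choose pt3134e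
theorem pt3134r : EP.Rep pt3134c pt3134 := Classical.choose_spec pt3134e
theorem pt3135e : ∃ x, EP.Rep pt3135c x := via_rep _ _ (act2_rep (n := 24) (d := 5) (by decide) (by decide) (c := 0xe10e04) (by decide +kernel))
noncomputable def pt3135 := Classical.choose pt3135e
theorem pt3135r : EP.Rep pt3135c pt3135 := Classical.choose_spec pt3135e
theorem pt3136e : ∃ x, EV.Rep pt3136c x := via_rep _ _ (PP.exists_vec P_ok (c := 0x400010004000300000004000400020003000200040002000400030001000400040001000000010004000100010003000400040004000200000003000000030002000300040001000000040003000000020004000200010003000300010003000000040003000400030004000200020001000400030004000200000002000100000004000300000002000300010001000200010004000300030001000400000003000100030000000400000000000000020000000400010002000300000004000300030000000300000001000300030003000300000002000000040001) (by decide +kernel))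
noncomputable def pt3136 := Classical.choose pt3136e
theorem pt3136r : EV.Rep pt3136c pt3136 := Classical.choose_spec pt3136e
theorem YcT1_s0_3139 : CE.Mem R (CE.gen R 6719234226533412631672326841705332834364936491703948604699967302891375613540482836142632479814821347328) 2291258871247893707400263453021518496518443343671046474202688850285959084217304647124637675616854079438848 := YcT1_m0.slp' chk3138
theorem YcT1_c0i : CE.Mem R (CE.gen R 6719234226533412631672326841705332834364936491703948604699967302891375613540482836142632479814821347328) 2275580658052649077926361357057539386571591825190403927458388926579212541119043520506971533163952829628416 := YcT1_s0_3139.sub chk3140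
theorem YcT1_c0m : CE.Mem R (CE.gen R 2275580658052649077926361357057539386571591825190403927458388926579212541119043520506971533163952829628416) 2275580658052649077926361357057539386571591825190403927458388926579212541119043520506971533163952829628416 := YcT1_c0i.gen
theorem fx3142 : CE.gen R 2275580658052649077926361357057539386571591825190403927458388926579212541119043520506971533163952829628416 ≤ stabilizer _ pt3132 := Act.fix_sound YcT1_c0i.top pt3132r chk3141
theorem cov3149 : Cov (CE.gen R 6719234226533412631672326841705332834364936491703948604699967302891375613540482836142632479814821347328) (CE.wds R [0]) pt3132 30 := Act.cov_of_seen (Act.pieces_sound YcT1_s0_3139 YcT1_s0_3139.top pt3132r chk3147) chk3148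
theorem YcT1_c1i : CE.Mem R (CE.gen R 2275580658052649077926361357057539386571591825190403927458388926579212541119043520506971533163952829628416) 2150154952490692042135144589345706506996779677345263553503989536925240196332954507565642393540742831144960 := YcT1_c0m.sub chk3150
theorem YcT1_c1m : CE.Mem R (CE.gen R 2150154952490692042135144589345706506996779677345263553503989536925240196332954507565642393540742831144960) 2150154952490692042135144589345706506996779677345263553503989536925240196332954507565642393540742831144960 := YcT1_c1i.gen
theorem fx3152 : CE.gen R 2150154952490692042135144589345706506996779677345263553503989536925240196332954507565642393540742831144960 ≤ stabilizer _ pt3133 := Act.fix_sound YcT1_c1i.top pt3133r chk3151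
theorem cov3159 : Cov (CE.gen R 2275580658052649077926361357057539386571591825190403927458388926579212541119043520506971533163952829628416) (CE.wds R [0]) pt3133 54 := Act.cov_of_seen (Act.pieces_sound YcT1_c0m YcT1_c0m.top pt3133r chk3157) chk3158
theorem YcT1_c2i : CE.Mem R (CE.gen R 2150154952490692042135144589345706506996779677345263553503989536925240196332954507565642393540742831144960) 1720123961992553633708115671476565205597423741876210842803191629540192157066363606052513914832594264915968 := YcT1_c1m.sub chk3160
theorem YcT1_c2m : CE.Mem R (CE.gen R 1720123961992553633708115671476565205597423741876210842803191629540192157066363606052513914832594264915968) 1720123961992553633708115671476565205597423741876210842803191629540192157066363606052513914832594264915968 := YcT1_c2i.gen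
theorem fx3162 : CE.gen R 1720123961992553633708115671476565205597423741876210842803191629540192157066363606052513914832594264915968 ≤ stabilizer _ pt3134 := Act.fix_sound YcT1_c2i.top pt3134r chk3161
theorem cov3169 : Cov (CE.gen R 2150154952490692042135144589345706506996779677345263553503989536925240196332954507565642393540742831144960) (CE.wds R [0]) pt3134 9 := Act.cov_of_seen (Act.pieces_sound YcT1_c1m YcT1_c1m.top pt3134r chk3167) chk3168
theorem YcT1_c3i : CE.Mem R (CE.gen R 1720123961992553633708115671476565205597423741876210842803191629540192157066363606052513914832594264915968) 1146749307995035755805410447651043470398282494584140561868794419693461438044242404035009276555062843277312 := YcT1_c2m.sub chk3170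
theorem YcT1_c3m : CE.Mem R (CE.gen R 1146749307995035755805410447651043470398282494584140561868794419693461438044242404035009276555062843277312) 1146749307995035755805410447651043470398282494584140561868794419693461438044242404035009276555062843277312 := YcT1_c3i.gen
theorem fx3172 : CE.gen R 1146749307995035755805410447651043470398282494584140561868794419693461438044242404035009276555062843277312 ≤ stabilizer _ pt3135 := Act.fix_sound YcT1_c3i.top pt3135r chk3171
theorem cov3179 : Cov (CE.gen R 1720123961992553633708115671476565205597423741876210842803191629540192157066363606052513914832594264915968) (CE.wds R [0]) pt3135 2 := Act.cov_of_seen (Act.pieces_sound YcT1_c2m YcT1_c2m.top pt3135r chk3177) chk3178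
theorem YcT1_c4i : CE.Mem R (CE.gen R 1146749307995035755805410447651043470398282494584140561868794419693461438044242404035009276555062843277312) 0 := YcT1_c3m.sub chk3180
theorem YcT1_c4m : CE.Mem R (CE.gen R 0) 0 := YcT1_c4i.gen
theorem fx3182 : CE.gen R 0 ≤ stabilizer _ pt3136 := Act.fix_sound YcT1_c4i.top pt3136r chk3181
theorem cov3189 : Cov (CE.gen R 1146749307995035755805410447651043470398282494584140561868794419693461438044242404035009276555062843277312) (CE.wds R [0]) pt3136 3 := Act.cov_of_seen (Act.pieces_sound YcT1_c3m YcT1_c3m.top pt3136r chk3187) chk3188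
theorem YcT1_lb5 : 1 ≤ Nat.card (CE.gen R 0) := Nat.card_pos
theorem YcT1_lo4 : 3 * Nat.card (CE.gen R 0) ≤ Nat.card (CE.gen R 1146749307995035755805410447651043470398282494584140561868794419693461438044242404035009276555062843277312) := cov3189.low le_rfl (GC.wds_zero _) YcT1_c4i.gen_le fx3182
theorem YcT1_lb4 : 3 ≤ Nat.card (CE.gen R 1146749307995035755805410447651043470398282494584140561868794419693461438044242404035009276555062843277312) := low_step YcT1_lo4 YcT1_lb5 (by decide +kernel)
theorem YcT1_lo3 : 2 * Nat.card (CE.gen R 1146749307995035755805410447651043470398282494584140561868794419693461438044242404035009276555062843277312) ≤ Nat.card (CE.gen R 1720123961992553633708115671476565205597423741876210842803191629540192157066363606052513914832594264915968) := cov3179.low le_rfl (GC.wds_zero _) YcT1_c3i.gen_le fx3172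
theorem YcT1_lb3 : 6 ≤ Nat.card (CE.gen R 1720123961992553633708115671476565205597423741876210842803191629540192157066363606052513914832594264915968) := low_step YcT1_lo3 YcT1_lb4 (by decide +kernel)
theorem YcT1_lo2 : 9 * Nat.card (CE.gen R 1720123961992553633708115671476565205597423741876210842803191629540192157066363606052513914832594264915968) ≤ Nat.card (CE.gen R 2150154952490692042135144589345706506996779677345263553503989536925240196332954507565642393540742831144960) := cov3169.low le_rfl (GC.wds_zero _) YcT1_c2i.gen_le fx3162
theorem YcT1_lb2 : 54 ≤ Nat.card (CE.gen R 2150154952490692042135144589345706506996779677345263553503989536925240196332954507565642393540742831144960) := low_step YcT1_lo2 YcT1_lb3 (by decide +kernel)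
theorem YcT1_lo1 : 54 * Nat.card (CE.gen R 2150154952490692042135144589345706506996779677345263553503989536925240196332954507565642393540742831144960) ≤ Nat.card (CE.gen R 2275580658052649077926361357057539386571591825190403927458388926579212541119043520506971533163952829628416) := cov3159.low le_rfl (GC.wds_zero _) YcT1_c1i.gen_le fx3152
theorem YcT1_lb1 : 2916 ≤ Nat.card (CE.gen R 2275580658052649077926361357057539386571591825190403927458388926579212541119043520506971533163952829628416) := low_step YcT1_lo1 YcT1_lb2 (by decide +kernel)
theorem YcT1_lo0 : 30 * Nat.card (CE.gen R 2275580658052649077926361357057539386571591825190403927458388926579212541119043520506971533163952829628416) ≤ Nat.card (CE.gen R 6719234226533412631672326841705332834364936491703948604699967302891375613540482836142632479814821347328) := cov3149.low le_rfl (GC.wds_zero _) YcT1_c0i.gen_le fx3142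
theorem YcT1_lb0 : 87480 ≤ Nat.card (CE.gen R 6719234226533412631672326841705332834364936491703948604699967302891375613540482836142632479814821347328) := low_step YcT1_lo0 YcT1_lb1 (by decide +kernel)
theorem Yc_T1c : ∀ τ ∈ (CE.gen R 6719234226533412631672326841705332834364936491703948604699967302891375613540482836142632479814821347328), CE.el (R 281) * τ * (CE.el (R 281))⁻¹ ∈ (CE.gen R 3881543509271329764747284239610273127920277727246755332501179873365037272978375573504) := Yb_s1_2810.conjA (Yc_I.get (i := 281) (by decide +kernel)).top YcT1_in3131.top chk3191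
theorem cov3200 : Cov (CE.gen R 6719234226533412631672326841705332834364936491703948604699967302891375613540482836142632479814821347328) (CE.wds R (List.map Prod.fst (l3192))) pt3057 112 := Act.cov_of_seen (Act.pieces_sound YcT1_s0_3139 Yb_s1_2810.top pt3057r chk3198) chk3199
theorem Yc_T1d : Dec (CE.gen R 3881543509271329764747284239610273127920277727246755332501179873365037272978375573504) (CE.gen R 6719234226533412631672326841705332834364936491703948604699967302891375613540482836142632479814821347328) (CE.wds R (List.map Prod.fst (l3192))) (CE.gen R 6561752174349035773117506681352864096059508292679637309277311819229858997598127769670539531069161472) := cov3200.dec YcT1_in3131.gen_le (GC.wds_sub Yb_s1_2810 chk3201) YcK_in3066.gen_le fx3128 (up_low Yb_ub YcK_lb0 (by decide +kernel))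
theorem Yc_T1p : ∀ x ∈ DC1 (CE.gen R 3881543509271329764747284239610273127920277727246755332501179873365037272978375573504) (CE.el (R 281)), x * CE.el (R 281) ∈ DCs (CE.gen R 3881543509271329764747284239610273127920277727246755332501179873365037272978375573504) (CE.els R 1093625362391509847524035565016952521600398362484419503026563407484019003224507439420326998928523264) := GC.dc_piece' Yc_T1d Yc_T1c Yc_Kc (Yb_s1_2810.dcRel Yc_I.top (Yc_I.get (i := 281) (by decide +kernel)).top (Yc_m1.get (i := 281) (by decide +kernel)).top chk3193)
theorem Yc_T1u : Nat.card (CE.gen R 3881543509271329764747284239610273127920277727246755332501179873365037272978375573504) ≤ 112 * Nat.card (CE.gen R 6719234226533412631672326841705332834364936491703948604699967302891375613540482836142632479814821347328) := up_low Yb_ub YcT1_lb0 (by decide +kernel)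
theorem Yc_T1n : (DC1 (CE.gen R 3881543509271329764747284239610273127920277727246755332501179873365037272978375573504) (CE.el (R 281))).ncard ≤ Nat.card (CE.gen R 3881543509271329764747284239610273127920277727246755332501179873365037272978375573504) * 112 := ncard_DC1 YcT1_in3131.gen_le Yc_T1c Yc_T1u
theorem YcT2_in3211 : CE.Mem R (CE.gen R 3881543509271329764747284239610273127920277727246755332501179873365037272978375573504) 6880495847970214534832462685906260822389694967504843371212766518160768628265454424210055659330377059663872 := Yb_s1_2810.slp' chk3210
theorem YcT2_m0 : CE.Mem R (CE.gen R 6880495847970214534832462685906260822389694967504843371212766518160768628265454424210055659330377059663872) 6880495847970214534832462685906260822389694967504843371212766518160768628265454424210055659330377059663872 := GC.Mem.gen YcT2_in3211.top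
theorem pt3212e : ∃ x, EP.Rep pt3212c x := via_rep _ _ (act2_rep (n := 24) (d := 5) (by decide) (by decide) (c := 0x95443b) (by decide +kernel))
noncomputable def pt3212 := Classical.choose pt3212e
theorem pt3212r : EP.Rep pt3212c pt3212 := Classical.choose_spec pt3212e
theorem pt3213e : ∃ x, EP.Rep pt3213c x := via_rep _ _ (act2_rep (n := 24) (d := 5) (by decide) (by decide) (c := 0xe10e04) (by decide +kernel))
noncomputable def pt3213 := Classical.choose pt3213e
theorem pt3213r : EP.Rep pt3213c pt3213 := Classical.choose_spec pt3213e
theorem pt3214e : ∃ x, EP.Rep pt3214c x := via_rep _ _ (act2_rep (n := 24) (d := 5) (by decide) (by decide) (c := 0x1e8658) (by decide +kernel))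
noncomputable def pt3214 := Classical.choose pt3214e
theorem pt3214r : EP.Rep pt3214c pt3214 := Classical.choose_spec pt3214e
theorem pt3215e : ∃ x, EP.Rep pt3215c x := via_rep _ _ (act2_rep (n := 24) (d := 5) (by decide) (by decide) (c := 0xe2ae84) (by decide +kernel))
noncomputable def pt3215 := Classical.choose pt3215e
theorem pt3215r : EP.Rep pt3215c pt3215 := Classical.choose_spec pt3215e
theorem pt3216e : ∃ x, EV.Rep pt3216c x := via_rep _ _ (PP.exists_vec P_ok (c := 0x400010004000300000004000400020003000200040002000400030001000400040001000000010004000100010003000400040004000200000003000000030002000300040001000000040003000000020004000200010003000300010003000000040003000400030004000200020001000400030004000200000002000100000004000300000002000300010001000200010004000300030001000400000003000100030000000400000000000000020000000400010002000300000004000300030000000300000001000300030003000300000002000000040001) (by decide +kernel))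
noncomputable def pt3216 := Classical.choose pt3216e
theorem pt3216r : EV.Rep pt3216c pt3216 := Classical.choose_spec pt3216e
theorem YcT2_s0_3219 : CE.Mem R (CE.gen R 6880495847970214534832462685906260822389694967504843371212766518160768628265454424210055659330377059663872) 1171977792770926542433129477499366426747044709464991654229907896926717589681215736923779480639274225829412864 := YcT2_m0.slp' chk3218
theorem YcT2_c0i : CE.Mem R (CE.gen R 6880495847970214534832462685906260822389694967504843371212766518160768628265454424210055659330377059663872) 1155923302458996041851853731232251818161468754540813686363744775051009129548596343267289350767503346023530496 := YcT2_s0_3219.sub chk3220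
theorem YcT2_c0m : CE.Mem R (CE.gen R 1155923302458996041851853731232251818161468754540813686363744775051009129548596343267289350767503346023530496) 1155923302458996041851853731232251818161468754540813686363744775051009129548596343267289350767503346023530496 := YcT2_c0i.gen
theorem fx3222 : CE.gen R 1155923302458996041851853731232251818161468754540813686363744775051009129548596343267289350767503346023530496 ≤ stabilizer _ pt3212 := Act.fix_sound YcT2_c0i.top pt3212r chk3221
theorem cov3229 : Cov (CE.gen R 6880495847970214534832462685906260822389694967504843371212766518160768628265454424210055659330377059663872) (CE.wds R [0]) pt3212 56 := Act.cov_of_seen (Act.pieces_sound YcT2_s0_3219 YcT2_s0_3219.top pt3212r chk3227) chk3228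
theorem YcT2_c1i : CE.Mem R (CE.gen R 1155923302458996041851853731232251818161468754540813686363744775051009129548596343267289350767503346023530496) 990791402107710893015874626770501558424116075320697445454638378615150682470225437086248014943574296591597568 := YcT2_c0m.sub chk3230
theorem YcT2_c1m : CE.Mem R (CE.gen R 990791402107710893015874626770501558424116075320697445454638378615150682470225437086248014943574296591597568) 990791402107710893015874626770501558424116075320697445454638378615150682470225437086248014943574296591597568 := YcT2_c1i.gen
theorem fx3232 : CE.gen R 990791402107710893015874626770501558424116075320697445454638378615150682470225437086248014943574296591597568 ≤ stabilizer _ pt3213 := Act.fix_sound YcT2_c1i.top pt3213r chk3231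
theorem cov3239 : Cov (CE.gen R 1155923302458996041851853731232251818161468754540813686363744775051009129548596343267289350767503346023530496) (CE.wds R [0]) pt3213 20 := Act.cov_of_seen (Act.pieces_sound YcT2_c0m YcT2_c0m.top pt3213r chk3237) chk3238
theorem YcT2_c2i : CE.Mem R (CE.gen R 990791402107710893015874626770501558424116075320697445454638378615150682470225437086248014943574296591597568) 880703468540187460458555223796001385265880955840619951515234114324578384417978166298887124394288263636975616 := YcT2_c1m.sub chk3240
theorem YcT2_c2m : CE.Mem R (CE.gen R 880703468540187460458555223796001385265880955840619951515234114324578384417978166298887124394288263636975616) 880703468540187460458555223796001385265880955840619951515234114324578384417978166298887124394288263636975616 := YcT2_c2i.gen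
theorem fx3242 : CE.gen R 880703468540187460458555223796001385265880955840619951515234114324578384417978166298887124394288263636975616 ≤ stabilizer _ pt3214 := Act.fix_sound YcT2_c2i.top pt3214r chk3241
theorem cov3249 : Cov (CE.gen R 990791402107710893015874626770501558424116075320697445454638378615150682470225437086248014943574296591597568) (CE.wds R [0]) pt3214 6 := Act.cov_of_seen (Act.pieces_sound YcT2_c1m YcT2_c1m.top pt3214r chk3247) chk3248
theorem YcT2_c3i : CE.Mem R (CE.gen R 880703468540187460458555223796001385265880955840619951515234114324578384417978166298887124394288263636975616) 587135645693458306972370149197334256843920637227079967676822742883052256278652110865924749596192175757983744 := YcT2_c2m.sub chk3250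
theorem YcT2_c3m : CE.Mem R (CE.gen R 587135645693458306972370149197334256843920637227079967676822742883052256278652110865924749596192175757983744) 587135645693458306972370149197334256843920637227079967676822742883052256278652110865924749596192175757983744 := YcT2_c3i.gen
theorem fx3252 : CE.gen R 587135645693458306972370149197334256843920637227079967676822742883052256278652110865924749596192175757983744 ≤ stabilizer _ pt3215 := Act.fix_sound YcT2_c3i.top pt3215r chk3251
theorem cov3259 : Cov (CE.gen R 880703468540187460458555223796001385265880955840619951515234114324578384417978166298887124394288263636975616) (CE.wds R [0]) pt3215 3 := Act.cov_of_seen (Act.pieces_sound YcT2_c2m YcT2_c2m.top pt3215r chk3257) chk3258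
theorem YcT2_c4i : CE.Mem R (CE.gen R 587135645693458306972370149197334256843920637227079967676822742883052256278652110865924749596192175757983744) 0 := YcT2_c3m.sub chk3260
theorem YcT2_c4m : CE.Mem R (CE.gen R 0) 0 := YcT2_c4i.gen
theorem fx3262 : CE.gen R 0 ≤ stabilizer _ pt3216 := Act.fix_sound YcT2_c4i.top pt3216r chk3261
theorem cov3269 : Cov (CE.gen R 587135645693458306972370149197334256843920637227079967676822742883052256278652110865924749596192175757983744) (CE.wds R [0]) pt3216 3 := Act.cov_of_seen (Act.pieces_sound YcT2_c3m YcT2_c3m.top pt3216r chk3267) chk3268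
theorem YcT2_lb5 : 1 ≤ Nat.card (CE.gen R 0) := Nat.card_pos
theorem YcT2_lo4 : 3 * Nat.card (CE.gen R 0) ≤ Nat.card (CE.gen R 587135645693458306972370149197334256843920637227079967676822742883052256278652110865924749596192175757983744) := cov3269.low le_rfl (GC.wds_zero _) YcT2_c4i.gen_le fx3262
theorem YcT2_lb4 : 3 ≤ Nat.card (CE.gen R 587135645693458306972370149197334256843920637227079967676822742883052256278652110865924749596192175757983744) := low_step YcT2_lo4 YcT2_lb5 (by decide +kernel)
theorem YcT2_lo3 : 3 * Nat.card (CE.gen R 587135645693458306972370149197334256843920637227079967676822742883052256278652110865924749596192175757983744) ≤ Nat.card (CE.gen R 880703468540187460458555223796001385265880955840619951515234114324578384417978166298887124394288263636975616) := cov3259.low le_rfl (GC.wds_zero _) YcT2_c3i.gen_le fx3252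
theorem YcT2_lb3 : 9 ≤ Nat.card (CE.gen R 880703468540187460458555223796001385265880955840619951515234114324578384417978166298887124394288263636975616) := low_step YcT2_lo3 YcT2_lb4 (by decide +kernel)
theorem YcT2_lo2 : 6 * Nat.card (CE.gen R 880703468540187460458555223796001385265880955840619951515234114324578384417978166298887124394288263636975616) ≤ Nat.card (CE.gen R 990791402107710893015874626770501558424116075320697445454638378615150682470225437086248014943574296591597568) := cov3249.low le_rfl (GC.wds_zero _) YcT2_c2i.gen_le fx3242
theorem YcT2_lb2 : 54 ≤ Nat.card (CE.gen R 990791402107710893015874626770501558424116075320697445454638378615150682470225437086248014943574296591597568) := low_step YcT2_lo2 YcT2_lb3 (by decide +kernel)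
theorem YcT2_lo1 : 20 * Nat.card (CE.gen R 990791402107710893015874626770501558424116075320697445454638378615150682470225437086248014943574296591597568) ≤ Nat.card (CE.gen R 1155923302458996041851853731232251818161468754540813686363744775051009129548596343267289350767503346023530496) := cov3239.low le_rfl (GC.wds_zero _) YcT2_c1i.gen_le fx3232
theorem YcT2_lb1 : 1080 ≤ Nat.card (CE.gen R 1155923302458996041851853731232251818161468754540813686363744775051009129548596343267289350767503346023530496) := low_step YcT2_lo1 YcT2_lb2 (by decide +kernel)
theorem YcT2_lo0 : 56 * Nat.card (CE.gen R 1155923302458996041851853731232251818161468754540813686363744775051009129548596343267289350767503346023530496) ≤ Nat.card (CE.gen R 6880495847970214534832462685906260822389694967504843371212766518160768628265454424210055659330377059663872) := cov3229.low le_rfl (GC.wds_zero _) YcT2_c0i.gen_le fx3222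
theorem YcT2_lb0 : 60480 ≤ Nat.card (CE.gen R 6880495847970214534832462685906260822389694967504843371212766518160768628265454424210055659330377059663872) := low_step YcT2_lo0 YcT2_lb1 (by decide +kernel)
theorem Yc_T2c : ∀ τ ∈ (CE.gen R 6880495847970214534832462685906260822389694967504843371212766518160768628265454424210055659330377059663872), CE.el (R 329) * τ * (CE.el (R 329))⁻¹ ∈ (CE.gen R 3881543509271329764747284239610273127920277727246755332501179873365037272978375573504) := Yb_s1_2810.conjA (Yc_I.get (i := 329) (by decide +kernel)).top YcT2_in3211.top chk3271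
theorem cov3280 : Cov (CE.gen R 6880495847970214534832462685906260822389694967504843371212766518160768628265454424210055659330377059663872) (CE.wds R (List.map Prod.fst (l3272))) pt3057 112 := Act.cov_of_seen (Act.pieces_sound YcT2_s0_3219 Yb_s1_2810.top pt3057r chk3278) chk3279
theorem Yc_T2d : Dec (CE.gen R 3881543509271329764747284239610273127920277727246755332501179873365037272978375573504) (CE.gen R 6880495847970214534832462685906260822389694967504843371212766518160768628265454424210055659330377059663872) (CE.wds R (List.map Prod.fst (l3272))) (CE.gen R 6561752174349035773117506681352864096059508292679637309277311819229858997598127769670539531069161472) := cov3280.dec YcT2_in3211.gen_le (GC.wds_sub Yb_s1_2810 chk3281) YcK_in3066.gen_le fx3128 (up_low Yb_ub YcK_lb0 (by decide +kernel))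
theorem Yc_T2p : ∀ x ∈ DC1 (CE.gen R 3881543509271329764747284239610273127920277727246755332501179873365037272978375573504) (CE.el (R 329)), x * CE.el (R 281) ∈ DCs (CE.gen R 3881543509271329764747284239610273127920277727246755332501179873365037272978375573504) (CE.els R 1093625362391509847524035565016952521600398362484419503026563407484019003224507439420326998928523264) := GC.dc_piece' Yc_T2d Yc_T2c Yc_Kc (Yb_s1_2810.dcRel Yc_I.top (Yc_I.get (i := 329) (by decide +kernel)).top (Yc_m1.get (i := 281) (by decide +kernel)).top chk3273)
theorem Yc_T2u : Nat.card (CE.gen R 3881543509271329764747284239610273127920277727246755332501179873365037272978375573504) ≤ 162 * Nat.card (CE.gen R 6880495847970214534832462685906260822389694967504843371212766518160768628265454424210055659330377059663872) := up_low Yb_ub YcT2_lb0 (by decide +kernel)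
theorem Yc_T2n : (DC1 (CE.gen R 3881543509271329764747284239610273127920277727246755332501179873365037272978375573504) (CE.el (R 329))).ncard ≤ Nat.card (CE.gen R 3881543509271329764747284239610273127920277727246755332501179873365037272978375573504) * 162 := ncard_DC1 YcT2_in3211.gen_le Yc_T2c Yc_T2u
theorem Yc_dc : ∀ x ∈ (CE.gen R 7766881293722787906586208053257310941205091405351034375004804692842845843388792569856), x ∈ DCs (CE.gen R 3881543509271329764747284239610273127920277727246755332501179873365037272978375573504) (CE.els R 1093625362391509847524035565016952521600398362484419503026563407484019003224507439420326998928523264) := GC.dc_gen (MU := 3885337784451458141838923813647037813284813678104279042503624819477808570410416996352) Yb_s1_2810 (by decide +kernel) (GC.forall_els (L := [281]) (forall_cons ⟨Yb_s1_2810.inDC' Yc_I.top (Yc_m1.get (i := 281) (by decide +kernel)).top chk3282, GC.forall_els (L := [281, 329]) (forall_cons Yc_T1p (forall_cons Yc_T2p forall_nil)) (by decide +kernel)⟩ forall_nil) (by decide +kernel))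
theorem Yc_cs : ∀ p ∈ ([(281, 112), (329, 162)] : List (ℕ × ℕ)), (DC1 (CE.gen R 3881543509271329764747284239610273127920277727246755332501179873365037272978375573504) (CE.el (R p.1))).ncard ≤ Nat.card (CE.gen R 3881543509271329764747284239610273127920277727246755332501179873365037272978375573504) * p.2 := (forall_cons Yc_T1n (forall_cons Yc_T2n forall_nil))
theorem Yc_ix : Nat.card (CE.gen R 7766881293722787906586208053257310941205091405351034375004804692842845843388792569856) ≤ 275 * Nat.card (CE.gen R 3881543509271329764747284239610273127920277727246755332501179873365037272978375573504) := GC.card_dc [(281, 112), (329, 162)] Yc_dc Yc_cs (by decide +kernel)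
theorem Yc_ub : Nat.card (CE.gen R 7766881293722787906586208053257310941205091405351034375004804692842845843388792569856) ≤ 2694384000 := up_mul Yc_ix Yb_ub (by decide +kernel)
theorem Yc_max : ∀ L, (CE.gen R 3881543509271329764747284239610273127920277727246755332501179873365037272978375573504) ≤ L → L ≤ (CE.gen R 7766881293722787906586208053257310941205091405351034375004804692842845843388792569856) → L = (CE.gen R 3881543509271329764747284239610273127920277727246755332501179873365037272978375573504) ∨ L = (CE.gen R 7766881293722787906586208053257310941205091405351034375004804692842845843388792569856) := maximal_of_DCs Yc_dc (Yb_s1_2810.maxChk Yc_I.top chk3284 chk3285)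
theorem pt3286e : ∃ x, EP.Rep pt3286c x := via_rep _ _ (act2_rep (n := 24) (d := 5) (by decide) (by decide) (c := 0x804000) (by decide +kernel))
noncomputable def pt3286 := Classical.choose pt3286e
theorem pt3286r : EP.Rep pt3286c pt3286 := Classical.choose_spec pt3286e
theorem Yc_s2_3289 : CE.Mem R (CE.gen R 7766881293722787906586208053257310941205091405351034375004804692842845843388792569856) 3522813875254375269410893637630674040916786799194846226541099047539920420825843556189769850078668450554707968 := Yc_s1_3062.slp' chk3288
noncomputable def pt3290 := CE.wd R 281 • pt3286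
theorem pt3290r : EP.Rep pt3290c pt3290 := Act.appW_ok Yc_s2_3289 chk3291 pt3286r
theorem pt3290g : CE.wd R 281 ∈ (CE.gen R 7766881293722787906586208053257310941205091405351034375004804692842845843388792569856) := Yc_s2_3289.wd_mem chk3291
noncomputable def pt3292 := CE.wd R 316774083777029401 • pt3286
theorem pt3292r : EP.Rep pt3292c pt3292 := Act.appW_ok Yc_s2_3289 chk3293 pt3286r
theorem pt3292g : CE.wd R 316774083777029401 ∈ (CE.gen R 7766881293722787906586208053257310941205091405351034375004804692842845843388792569856) := Yc_s2_3289.wd_mem chk3293
noncomputable def pt3294 := CE.wd R 316774084933608807 • pt3286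
theorem pt3294r : EP.Rep pt3294c pt3294 := Act.appW_ok Yc_s2_3289 chk3295 pt3286r
theorem pt3294g : CE.wd R 316774084933608807 ∈ (CE.gen R 7766881293722787906586208053257310941205091405351034375004804692842845843388792569856) := Yc_s2_3289.wd_mem chk3295
noncomputable def pt3296 := CE.wd R 295017831 • pt3286
theorem pt3296r : EP.Rep pt3296c pt3296 := Act.appW_ok Yc_s2_3289 chk3297 pt3286r
theorem pt3296g : CE.wd R 295017831 ∈ (CE.gen R 7766881293722787906586208053257310941205091405351034375004804692842845843388792569856) := Yc_s2_3289.wd_mem chk3297
theorem pt3298e : ∃ x, EV.Rep pt3298c x := via_rep _ _ (PP.exists_vec P_ok (c := 0x400010004000300000004000400020003000200040002000400030001000400040001000000010004000100010003000400040004000200000003000000030002000300040001000000040003000000020004000200010003000300010003000000040003000400030004000200020001000400030004000200000002000100000004000300000002000300010001000200010004000300030001000400000003000100030000000400000000000000020000000400010002000300000004000300030000000300000001000300030003000300000002000000040001) (by decide +kernel))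
noncomputable def pt3298 := Classical.choose pt3298e
theorem pt3298r : EV.Rep pt3298c pt3298 := Classical.choose_spec pt3298e
theorem Yb_s2_3301 : CE.Mem R (CE.gen R 3881543509271329764747284239610273127920277727246755332501179873365037272978375573504) 2400210519594857558968234332813625074912783875438534875920847115993132667142799741107670090262314802895715827712 := Yb_s1_2810.slp' chk3300
theorem Yb_c0i : CE.Mem R (CE.gen R 3881543509271329764747284239610273127920277727246755332501179873365037272978375573504) 2400210519594857558903049169918702441977947564984302907862851372905917623667129829219900376349233614498637545472 := Yb_s2_3301.sub chk3302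
theorem Yb_c0m : CE.Mem R (CE.gen R 2400210519594857558903049169918702441977947564984302907862851372905917623667129829219900376349233614498637545472) 2400210519594857558903049169918702441977947564984302907862851372905917623667129829219900376349233614498637545472 := Yb_c0i.gen
theorem fx3304 : CE.gen R 2400210519594857558903049169918702441977947564984302907862851372905917623667129829219900376349233614498637545472 ≤ stabilizer _ pt3290 := Act.fix_sound Yb_c0i.top pt3290r chk3303
theorem cov3311 : Cov (CE.gen R 3881543509271329764747284239610273127920277727246755332501179873365037272978375573504) (CE.wds R [0]) pt3290 112 := Act.cov_of_seen (Act.pieces_sound Yb_s2_3301 Yb_s2_3301.top pt3290r chk3309) chk3310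
theorem Yb_c1i : CE.Mem R (CE.gen R 2400210519594857558903049169918702441977947564984302907862851372905917623667129829219900376349233614498637545472) 2367330923436023893712596441563651723594688009299586429672949299304466697315525311011408590371846852656190455808 := Yb_c0m.sub chk3312
theorem Yb_c1m : CE.Mem R (CE.gen R 2367330923436023893712596441563651723594688009299586429672949299304466697315525311011408590371846852656190455808) 2367330923436023893712596441563651723594688009299586429672949299304466697315525311011408590371846852656190455808 := Yb_c1i.gen
theorem fx3314 : CE.gen R 2367330923436023893712596441563651723594688009299586429672949299304466697315525311011408590371846852656190455808 ≤ stabilizer _ pt3292 := Act.fix_sound Yb_c1i.top pt3292r chk3313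
theorem cov3321 : Cov (CE.gen R 2400210519594857558903049169918702441977947564984302907862851372905917623667129829219900376349233614498637545472) (CE.wds R [0]) pt3292 81 := Act.cov_of_seen (Act.pieces_sound Yb_c0m Yb_c0m.top pt3292r chk3319) chk3320
theorem Yb_c2i : CE.Mem R (CE.gen R 2367330923436023893712596441563651723594688009299586429672949299304466697315525311011408590371846852656190455808) 1878834066219066582311584477431469621900546039126655896565832777225767220091686754770959198707814962425547980800 := Yb_c1m.sub chk3322
theorem Yb_c2m : CE.Mem R (CE.gen R 1878834066219066582311584477431469621900546039126655896565832777225767220091686754770959198707814962425547980800) 1878834066219066582311584477431469621900546039126655896565832777225767220091686754770959198707814962425547980800 := Yb_c2i.gen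
theorem fx3324 : CE.gen R 1878834066219066582311584477431469621900546039126655896565832777225767220091686754770959198707814962425547980800 ≤ stabilizer _ pt3294 := Act.fix_sound Yb_c2i.top pt3294r chk3323
theorem cov3331 : Cov (CE.gen R 2367330923436023893712596441563651723594688009299586429672949299304466697315525311011408590371846852656190455808) (CE.wds R [0]) pt3294 30 := Act.cov_of_seen (Act.pieces_sound Yb_c1m Yb_c1m.top pt3294r chk3329) chk3330
theorem Yb_c3i : CE.Mem R (CE.gen R 1878834066219066582311584477431469621900546039126655896565832777225767220091686754770959198707814962425547980800) 1202453802380202612679414065556140558016349465041059773802132977424491020858679523053413887173001575952350707712 := Yb_c2m.sub chk3332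
theorem Yb_c3m : CE.Mem R (CE.gen R 1202453802380202612679414065556140558016349465041059773802132977424491020858679523053413887173001575952350707712) 1202453802380202612679414065556140558016349465041059773802132977424491020858679523053413887173001575952350707712 := Yb_c3i.gen
theorem fx3334 : CE.gen R 1202453802380202612679414065556140558016349465041059773802132977424491020858679523053413887173001575952350707712 ≤ stabilizer _ pt3296 := Act.fix_sound Yb_c3i.top pt3296r chk3333
theorem cov3341 : Cov (CE.gen R 1878834066219066582311584477431469621900546039126655896565832777225767220091686754770959198707814962425547980800) (CE.wds R [0]) pt3296 12 := Act.cov_of_seen (Act.pieces_sound Yb_c2m Yb_c2m.top pt3296r chk3339) chk3340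
theorem Yb_c4i : CE.Mem R (CE.gen R 1202453802380202612679414065556140558016349465041059773802132977424491020858679523053413887173001575952350707712) 0 := Yb_c3m.sub chk3342
theorem Yb_c4m : CE.Mem R (CE.gen R 0) 0 := Yb_c4i.gen
theorem fx3344 : CE.gen R 0 ≤ stabilizer _ pt3298 := Act.fix_sound Yb_c4i.top pt3298r chk3343
theorem cov3351 : Cov (CE.gen R 1202453802380202612679414065556140558016349465041059773802132977424491020858679523053413887173001575952350707712) (CE.wds R [0]) pt3298 3 := Act.cov_of_seen (Act.pieces_sound Yb_c3m Yb_c3m.top pt3298r chk3349) chk3350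
theorem Yb_lb5 : 1 ≤ Nat.card (CE.gen R 0) := Nat.card_pos
theorem Yb_lo4 : 3 * Nat.card (CE.gen R 0) ≤ Nat.card (CE.gen R 1202453802380202612679414065556140558016349465041059773802132977424491020858679523053413887173001575952350707712) := cov3351.low le_rfl (GC.wds_zero _) Yb_c4i.gen_le fx3344
theorem Yb_lb4 : 3 ≤ Nat.card (CE.gen R 1202453802380202612679414065556140558016349465041059773802132977424491020858679523053413887173001575952350707712) := low_step Yb_lo4 Yb_lb5 (by decide +kernel)
theorem Yb_lo3 : 12 * Nat.card (CE.gen R 1202453802380202612679414065556140558016349465041059773802132977424491020858679523053413887173001575952350707712) ≤ Nat.card (CE.gen R 1878834066219066582311584477431469621900546039126655896565832777225767220091686754770959198707814962425547980800) := cov3341.low le_rfl (GC.wds_zero _) Yb_c3i.gen_le fx3334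
theorem Yb_lb3 : 36 ≤ Nat.card (CE.gen R 1878834066219066582311584477431469621900546039126655896565832777225767220091686754770959198707814962425547980800) := low_step Yb_lo3 Yb_lb4 (by decide +kernel)
theorem Yb_lo2 : 30 * Nat.card (CE.gen R 1878834066219066582311584477431469621900546039126655896565832777225767220091686754770959198707814962425547980800) ≤ Nat.card (CE.gen R 2367330923436023893712596441563651723594688009299586429672949299304466697315525311011408590371846852656190455808) := cov3331.low le_rfl (GC.wds_zero _) Yb_c2i.gen_le fx3324
theorem Yb_lb2 : 1080 ≤ Nat.card (CE.gen R 2367330923436023893712596441563651723594688009299586429672949299304466697315525311011408590371846852656190455808) := low_step Yb_lo2 Yb_lb3 (by decide +kernel)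
theorem Yb_lo1 : 81 * Nat.card (CE.gen R 2367330923436023893712596441563651723594688009299586429672949299304466697315525311011408590371846852656190455808) ≤ Nat.card (CE.gen R 2400210519594857558903049169918702441977947564984302907862851372905917623667129829219900376349233614498637545472) := cov3321.low le_rfl (GC.wds_zero _) Yb_c1i.gen_le fx3314
theorem Yb_lb1 : 87480 ≤ Nat.card (CE.gen R 2400210519594857558903049169918702441977947564984302907862851372905917623667129829219900376349233614498637545472) := low_step Yb_lo1 Yb_lb2 (by decide +kernel)
theorem Yb_lo0 : 112 * Nat.card (CE.gen R 2400210519594857558903049169918702441977947564984302907862851372905917623667129829219900376349233614498637545472) ≤ Nat.card (CE.gen R 3881543509271329764747284239610273127920277727246755332501179873365037272978375573504) := cov3311.low le_rfl (GC.wds_zero _) Yb_c0i.gen_le fx3304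
theorem Yb_lb0 : 9797760 ≤ Nat.card (CE.gen R 3881543509271329764747284239610273127920277727246755332501179873365037272978375573504) := low_step Yb_lo0 Yb_lb1 (by decide +kernel)
theorem Yb_st0 : (CE.gen R 3881543509271329764747284239610273127920277727246755332501179873365037272978375573504) ⊓ stabilizer _ pt3290 = (CE.gen R 2400210519594857558903049169918702441977947564984302907862851372905917623667129829219900376349233614498637545472) ∧ (orbit (CE.gen R 3881543509271329764747284239610273127920277727246755332501179873365037272978375573504) pt3290).ncard = 112 := cov3311.stab le_rfl (GC.wds_zero _) Yb_c0i.gen_le fx3304 (up_low Yb_ub Yb_lb1 (by decide +kernel))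
theorem Yb_ub1 : Nat.card (CE.gen R 2400210519594857558903049169918702441977947564984302907862851372905917623667129829219900376349233614498637545472) ≤ 87480 := up_step Yb_lo0 Yb_ub (by decide +kernel)
theorem Yb_st1 : (CE.gen R 2400210519594857558903049169918702441977947564984302907862851372905917623667129829219900376349233614498637545472) ⊓ stabilizer _ pt3292 = (CE.gen R 2367330923436023893712596441563651723594688009299586429672949299304466697315525311011408590371846852656190455808) ∧ (orbit (CE.gen R 2400210519594857558903049169918702441977947564984302907862851372905917623667129829219900376349233614498637545472) pt3292).ncard = 81 := cov3321.stab le_rfl (GC.wds_zero _) Yb_c1i.gen_le fx3314 (up_low Yb_ub1 Yb_lb2 (by decide +kernel))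
theorem Yb_ub2 : Nat.card (CE.gen R 2367330923436023893712596441563651723594688009299586429672949299304466697315525311011408590371846852656190455808) ≤ 1080 := up_step Yb_lo1 Yb_ub1 (by decide +kernel)
theorem Yb_st2 : (CE.gen R 2367330923436023893712596441563651723594688009299586429672949299304466697315525311011408590371846852656190455808) ⊓ stabilizer _ pt3294 = (CE.gen R 1878834066219066582311584477431469621900546039126655896565832777225767220091686754770959198707814962425547980800) ∧ (orbit (CE.gen R 2367330923436023893712596441563651723594688009299586429672949299304466697315525311011408590371846852656190455808) pt3294).ncard = 30 := cov3331.stab le_rfl (GC.wds_zero _) Yb_c2i.gen_le fx3324 (up_low Yb_ub2 Yb_lb3 (by decide +kernel))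
theorem Yb_ub3 : Nat.card (CE.gen R 1878834066219066582311584477431469621900546039126655896565832777225767220091686754770959198707814962425547980800) ≤ 36 := up_step Yb_lo2 Yb_ub2 (by decide +kernel)
theorem Yb_st3 : (CE.gen R 1878834066219066582311584477431469621900546039126655896565832777225767220091686754770959198707814962425547980800) ⊓ stabilizer _ pt3296 = (CE.gen R 1202453802380202612679414065556140558016349465041059773802132977424491020858679523053413887173001575952350707712) ∧ (orbit (CE.gen R 1878834066219066582311584477431469621900546039126655896565832777225767220091686754770959198707814962425547980800) pt3296).ncard = 12 := cov3341.stab le_rfl (GC.wds_zero _) Yb_c3i.gen_le fx3334 (up_low Yb_ub3 Yb_lb4 (by decide +kernel))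
theorem Yb_ub4 : Nat.card (CE.gen R 1202453802380202612679414065556140558016349465041059773802132977424491020858679523053413887173001575952350707712) ≤ 3 := up_step Yb_lo3 Yb_ub3 (by decide +kernel)
theorem Yb_st4 : (CE.gen R 1202453802380202612679414065556140558016349465041059773802132977424491020858679523053413887173001575952350707712) ⊓ stabilizer _ pt3298 = (CE.gen R 0) ∧ (orbit (CE.gen R 1202453802380202612679414065556140558016349465041059773802132977424491020858679523053413887173001575952350707712) pt3298).ncard = 3 := cov3351.stab le_rfl (GC.wds_zero _) Yb_c4i.gen_le fx3344 (up_low Yb_ub4 Yb_lb5 (by decide +kernel))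
theorem Yb_ub5 : Nat.card (CE.gen R 0) ≤ 1 := up_step Yb_lo4 Yb_ub4 (by decide +kernel)
theorem cov3358 : Cov (CE.gen R 7766881293722787906586208053257310941205091405351034375004804692842845843388792569856) (CE.wds R [0]) pt3286 275 := Act.cov_of_seen (Act.pieces_sound Yc_s2_3289 Yc_s2_3289.top pt3286r chk3356) chk3357
theorem fx3360 : CE.gen R 3881543509271329764747284239610273127920277727246755332501179873365037272978375573504 ≤ stabilizer _ pt3286 := Act.fix_sound (valp2505.sub chk2804) pt3286r chk3359
theorem Yc_cov : Cov (CE.gen R 7766881293722787906586208053257310941205091405351034375004804692842845843388792569856) (CE.wds R [0]) pt3286 275 := cov3358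
theorem Yc_lo : 275 * Nat.card (CE.gen R 3881543509271329764747284239610273127920277727246755332501179873365037272978375573504) ≤ Nat.card (CE.gen R 7766881293722787906586208053257310941205091405351034375004804692842845843388792569856) := cov3358.low le_rfl (GC.wds_zero _) (Yc_s2_3289.sub chk3361).gen_le fx3360
theorem Yc_lb : 2694384000 ≤ Nat.card (CE.gen R 7766881293722787906586208053257310941205091405351034375004804692842845843388792569856) := low_step Yc_lo Yb_lb0 (by decide +kernel)
theorem coreY (N : Subgroup _) (h : N ≤ (CE.gen R 3881543509271329764747284239610273127920277727246755332501179873365037272978375573504)) (hN : NormBy (CE.gen R 7766881293722787906586208053257310941205091405351034375004804692842845843388792569856) N) : N ≤ (CE.gen R 1202453802380202612679414065556140558016349465041059773802132977424491020858679523053413887173001575952350707712) := (le_next Yb_st3 (le_next Yb_st2 (le_next Yb_st1 (le_next Yb_st0 h (hN.fix (h.trans fx3360) pt3290g)) (hN.fix (h.trans fx3360) pt3292g)) (hN.fix (h.trans fx3360) pt3294g)) (hN.fix (h.trans fx3360) pt3296g))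
theorem Yc_m4 : CE.Mem R (CE.gen R 7766881293722787906586208053257310941205091405351034375004804692842845843388792569856) 2403733333470111934172460063556333116018864351783497754089392471953457544087955672776090146199312282949192253440 := Yc_s2_3289.lor' (Yb_s2_3301.mono (Yc_s2_3289.sub chk3362).gen_le) chk3363
theorem Yc_s4_3366 : CE.Mem R (CE.gen R 7766881293722787906586208053257310941205091405351034375004804692842845843388792569856) 4808640938230517159531288194668614232051563281865617301693658426802439585805314718882917920545315434853893668864 := Yc_m4.slp' chk3365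
theorem Yc_s5_3369 : CE.Mem R (CE.gen R 7766881293722787906586208053257310941205091405351034375004804692842845843388792569856) 19238086566792948511684256981342300928247756862358334587319254155896331836109468995523884566621334346282102161408 := Yc_s4_3366.slp' chk3368
theorem nclY (N : Subgroup _) (hN : NormBy (CE.gen R 7766881293722787906586208053257310941205091405351034375004804692842845843388792569856) N) (hz : CE.el (R 370) ∈ N) : CE.gen R 7766881293722787906586208053257310941205091405351034375004804692842845843388792569856 ≤ N := by
  have h0 := (GC.Mem.single (Yc_s5_3369.get (i := 370) (by decide +kernel)).top hz).lor' (Yc_s5_3369.nconj (GC.Mem.single (Yc_s5_3369.get (i := 370) (by decide +kernel)).top hz) hN (Yc_s5_3369.sub chk3370).top chk3372) (M'' := 16834353233322836577511796917785967812228892510574836833229861683942874292021513322747794420422022063332909907968) (by decide +kernel)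
  have h1 := Yc_s5_3369.ncop h0 hN chk3374
  have h2 := h1.lor' (Yc_s5_3369.ncop h0 hN chk3376) (M'' := 7766881293722787906586208053257310941205091405351034375004804692842845843388792569856) (by decide +kernel)
  exact h2.gen_le
theorem dichE (N : Subgroup _) (h : N ≤ (CE.gen R 7766881293722787906586208053257310941205091405351034375004804692842845843388792569856)) (hN : NormBy (CE.gen R 7766881293722787906586208053257310941205091405351034375004804692842845843388792569856) N) : N ≤ (CE.gen R 1202453802380202612679414065556140558016349465041059773802132977424491020858679523053413887173001575952350707712) ∨ N = (CE.gen R 7766881293722787906586208053257310941205091405351034375004804692842845843388792569856) :=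
  normal_dichotomy (Yc_s5_3369.sub chk3378).gen_le Yc_max coreY (p := 11) (k := 1) (n := 275) (by norm_num)
    (eq_mul_of Yc_ub Yc_lb Yb_ub Yb_lb0 (by decide +kernel)) (by norm_num)
    (not_dvd_of Yc_ub Yc_lb (by decide +kernel)) (Yc_s5_3369.get (i := 370) (by decide +kernel)).el_mem ((Yc_s5_3369.get (i := 370) (by decide +kernel)).prime_dvd (by norm_num) chk3377).1.1
    (fun N _ hN hz => nclY N hN hz) N h hN
theorem cardZE : Nat.card (CE.gen R 1202453802380202612679414065556140558016349465041059773802132977424491020858679523053413887173001575952350707712) = 3 := card_gen1 (Yc_s5_3369.get (i := 369) (by decide +kernel)).top (by norm_num) chk3379 (by decide +kernel)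
theorem Y_m0 : C1.Mem R1 (C1.gen R1 7766881293722787906586208053257310941205091405351034375004804692842845843388792569856) 7766881293722787906586208053257310941205091405351034375004804692842845843388792569856 := GC.Mem.gen (Yc_m0.map hE1).top
theorem Y_map : (C1.gen R1 7766881293722787906586208053257310941205091405351034375004804692842845843388792569856) = (CE.gen R 7766881293722787906586208053257310941205091405351034375004804692842845843388792569856).map (MonoidHom.fst _ _) := Yc_m0.gen_map hE1
theorem Y_ub : Nat.card (C1.gen R1 7766881293722787906586208053257310941205091405351034375004804692842845843388792569856) ≤ 2694384000 := Y_map ▸ (card_map_le _ _).trans Yc_ub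
theorem Y_y1 : C1.Mem R1 (C1.gen R1 7766881293722787906586208053257310941205091405351034375004804692842845843388792569856) 19238086566792948511684256981342300928247756862358334587319254155896331836109468995523884566621334346282102161408 := Y_m0.lor' (Y_map ▸ Yc_s5_3369.map hE1) (by decide +kernel)
theorem ZE_le : (CE.gen R 1202453802380202612679414065556140558016349465041059773802132977424491020858679523053413887173001575952350707712) ≤ (CE.gen R 7766881293722787906586208053257310941205091405351034375004804692842845843388792569856) := (Yc_s5_3369.sub (by decide +kernel)).gen_le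
theorem Y_lb : 2694384000 ≤ Nat.card (C1.gen R1 7766881293722787906586208053257310941205091405351034375004804692842845843388792569856) := Y_map ▸ Yc_lb.trans (card_le_map_of_dich _ dichE (cardZE ▸ Nat.prime_three) ZE_le (not_le_ker hE1 ((GC.Mem.gen (Yc_s5_3369.sub (M' := 1202453802380202612679414065556140558016349465041059773802132977424491020858679523053413887173001575952350707712) (by decide +kernel))).get (i := 369) (by decide +kernel)) chk3380))
theorem Y_dich : ∀ N, N ≤ (C1.gen R1 7766881293722787906586208053257310941205091405351034375004804692842845843388792569856) → NormBy (C1.gen R1 7766881293722787906586208053257310941205091405351034375004804692842845843388792569856) N → N ≤ C1.gen R1 1202453802380202612679414065556140558016349465041059773802132977424491020858679523053413887173001575952350707712 ∨ N = (C1.gen R1 7766881293722787906586208053257310941205091405351034375004804692842845843388792569856) := Y_map ▸ dichotomy_mono (dichotomy_map _ dichE) ((Yc_s5_3369.sub (M' := 1202453802380202612679414065556140558016349465041059773802132977424491020858679523053413887173001575952350707712) (by decide +kernel)).gen_map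 hE1).ge
theorem Y_cen_c : ∀ y ∈ (C1.gen R1 1202453802380202612679414065556140558016349465041059773802132977424491020858679523053413887173001575952350707712), ∀ g ∈ (C1.gen R1 7766881293722787906586208053257310941205091405351034375004804692842845843388792569856), g * y = y * g := comm_genL (L := [369]) (forall_cons (Y_m0.top.commL (Y_y1.get (i := 369) (by decide +kernel)).top chk3381) forall_nil) (by decide +kernel)
theorem Y_cen_le : (C1.gen R1 1202453802380202612679414065556140558016349465041059773802132977424491020858679523053413887173001575952350707712) ≤ (C1.gen R1 7766881293722787906586208053257310941205091405351034375004804692842845843388792569856) := (Y_y1.sub (by decide +kernel)).gen_le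
theorem Y_cen : center (C1.gen R1 7766881293722787906586208053257310941205091405351034375004804692842845843388792569856) = (C1.gen R1 1202453802380202612679414065556140558016349465041059773802132977424491020858679523053413887173001575952350707712).subgroupOf (C1.gen R1 7766881293722787906586208053257310941205091405351034375004804692842845843388792569856) ∧ IsSimpleGroup ((C1.gen R1 7766881293722787906586208053257310941205091405351034375004804692842845843388792569856) ⧸ center (C1.gen R1 7766881293722787906586208053257310941205091405351034375004804692842845843388792569856)) :=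
  center_of_dichotomy Y_cen_c ⟨_, (Y_y1.get (i := 280) (by decide +kernel)).el_mem, _, (Y_y1.get (i := 281) (by decide +kernel)).el_mem, ((Y_y1.get (i := 280) (by decide +kernel)).top.not_comm (Y_y1.get (i := 281) (by decide +kernel)).top chk3382)⟩ Y_dich
theorem Y_cz : Nat.card (C1.gen R1 1202453802380202612679414065556140558016349465041059773802132977424491020858679523053413887173001575952350707712) = 3 := card_gen1 (Y_y1.get (i := 369) (by decide +kernel)).top (by norm_num) chk3383 (by decide +kernel)
theorem cardY : Nat.card (C1.gen R1 7766881293722787906586208053257310941205091405351034375004804692842845843388792569856) = 2694384000 := le_antisymm Y_ub Y_lb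
theorem Yin3386 : C1.Mem R1 (C1.gen R1 4951760157141521099596505086) 117622530583979689840826795139705246300614476583235010155021491419878747834280845310 := G_s1_419.slp' chk3385
theorem Yin3389 : C1.Mem R1 (C1.gen R1 4951760157141521099596505086) 3881543509271329764747284239610273127920277727246755332580408035289005800419372310526 := Yin3386.slp' chk3388
theorem Yin3392 : C1.Mem R1 (C1.gen R1 4951760157141521099596505086) 7766881293722787906586208053257310941205091405351034375004804692842845843388792569856 := Yin3389.slp' chk3391
theorem G_s2_3395 : C1.Mem R1 (C1.gen R1 4951760157141521099596505086) 57717782514249725408611875146694746784784774321970869142502382916375569001216617106643094746228044173153830707198 := G_s1_419.slp' chk3394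
theorem G_lb : 51765179004000000 ≤ Nat.card (C1.gen R1 4951760157141521099596505086) := Nat.le_of_dvd Nat.card_pos (lcm_step (lcm_step (lcm_step (lcm_step (dvd_of_sub (G_s2_3395.sub chk3396).gen_le H_ub H_lb) (dvd_of_sub Ain2498.gen_le Aa_ub Aa_lb) (n := 773388000000) (by decide +kernel)) (dvd_of_sub Yin3392.gen_le Y_ub Y_lb) (n := 20881476000000) (by decide +kernel)) ((G_s2_3395.get (i := 373) (by decide +kernel)).prime_dvd (p := 37) (by norm_num) chk3397).2 (n := 772614612000000) (by decide +kernel)) ((G_s2_3395.get (i := 374) (by decide +kernel)).prime_dvd (p := 67) (by norm_num) chk3398).2 (n := 51765179004000000) (by decide +kernel))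
theorem nn : ¬ NormBy (C1.gen R1 4951760157141521099596505086) (C1.gen R1 8190) := fun hN => absurd (G_lb.trans (up_mul (GC.card_dc [(93, 1), (94, 1), (95, 1), (92, 1)] G_dc (forall_cons (ncard_DC1 le_rfl (hN _ (G_s2_3395.get (i := 93) (by decide +kernel)).el_mem) (one_mul _).ge) (forall_cons (ncard_DC1 le_rfl (hN _ (G_s2_3395.get (i := 94) (by decide +kernel)).el_mem) (one_mul _).ge) (forall_cons (ncard_DC1 le_rfl (hN _ (G_s2_3395.get (i := 95) (by decide +kernel)).el_mem) (one_mul _).ge) (forall_cons (ncard_DC1 le_rfl (hN _ (G_s2_3395.get (i := 92) (by decide +kernel)).el_mem) (one_mul _).ge) forall_nil)))) (n := 5) (by decide +kernel)) H_ub (n := 29295000000) (by decide +kernel))) (by decide)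
theorem core : ∀ N, N ≤ (C1.gen R1 8190) → NormBy (C1.gen R1 4951760157141521099596505086) N → N ≤ C1.gen R1 0 := GC.gen_zero (C := C1) (R := R1) ▸ core_of_simple simpleH (G_s2_3395.sub chk3399).gen_le nn
theorem G_s3_3402 : C1.Mem R1 (C1.gen R1 4951760157141521099596505086) 288588912571248627043059375733473733923923871609854345712511914581877845006083085532898561083444346756005166587902 := G_s2_3395.slp' chk3401
theorem ncl (N : Subgroup _) (hN : NormBy (C1.gen R1 4951760157141521099596505086) N) (hz : C1.el (R1 374) ∈ N) : C1.gen R1 4951760157141521099596505086 ≤ N := by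
  have h0 := (GC.Mem.single (G_s3_3402.get (i := 374) (by decide +kernel)).top hz).lor' (G_s3_3402.nconj (GC.Mem.single (G_s3_3402.get (i := 374) (by decide +kernel)).top hz) hN (G_s3_3402.sub chk3403).top chk3405) (M'' := 269349651733165385240188750684575484995662280169197389331677786943085988672344213163964710726752353013326558527488) (by decide +kernel)
  have h1 := G_s3_3402.ncop h0 hN chk3407
  have h2 := h1.lor' (G_s3_3402.ncop h0 hN chk3409) (M'' := 2046) (by decide +kernel)
  have h3 := h2.lor' (G_s3_3402.ncop h0 hN chk3411) (M'' := 4951760157141521099596505086) (by decide +kernel)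
  exact h3.gen_le
theorem dich (N : Subgroup _) (h : N ≤ (C1.gen R1 4951760157141521099596505086)) (hN : NormBy (C1.gen R1 4951760157141521099596505086) N) : N ≤ (C1.gen R1 0) ∨ N = (C1.gen R1 4951760157141521099596505086) :=
  normal_dichotomy (G_s3_3402.sub chk3413).gen_le G_max core (p := 67) (k := 1) (n := 8835156) (by norm_num)
    (eq_mul_of G_ub G_lb H_ub H_lb (by decide +kernel)) (by norm_num)
    (not_dvd_of G_ub G_lb (by decide +kernel)) (G_s3_3402.get (i := 374) (by decide +kernel)).el_mem ((G_s3_3402.get (i := 374) (by decide +kernel)).prime_dvd (by norm_num) chk3412).1.1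
    (fun N _ hN hz => ncl N hN hz) N h hN
theorem simple : IsSimpleGroup (C1.gen R1 4951760157141521099596505086) := simple_of_dichotomy (ne_bot_of G_lb (by decide +kernel)) fun N h hN => GC.gen_zero (C := C1) (R := R1) ▸ dich N h hN
theorem cardG : Nat.card (C1.gen R1 4951760157141521099596505086) = 51765179004000000 := le_antisymm G_ub G_lb
theorem cardH : Nat.card (C1.gen R1 8190) = 5859000000 := le_antisymm H_ub H_lb
theorem hcnt : 8835156 * Nat.card (C1.gen R1 8190) ≤ Nat.card (C1.gen R1 4951760157141521099596505086) := up_mul (le_refl _) H_ub (n := 51765179004000000) (by decide +kernel) |>.trans G_lb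
theorem mf1 : (C1.gen R1 283953734451123385935261518004224) ≤ (C1.gen R1 8190) ∧ Nat.card (CD.gen R 283953734451123385935261518004224) ≤ Nat.card (C1.gen R1 283953734451123385935261518004224) := map_facts _ H_map (GT1_m0.gen_map hD1) H_inj GT1_in520.gen_le
theorem Tub1 : Nat.card (CD.gen R 283953734451123385935261518004224) ≤ 1008 := mf1.2.trans (up_step (GC.exact_card [(93, 5812500), (94, 968750), (95, 2034375), (92, 19530)] G_dc G_cs (n := 8835156) (by decide +kernel) hcnt (p := (93, 5812500)) (by decide) mf1.1 G_T1c) H_ub (by decide +kernel))
theorem Tex1 : ∀ y ∈ (C1.gen R1 8190), C1.el (R1 93) * y * (C1.el (R1 93))⁻¹ ∈ (C1.gen R1 8190) → y ∈ (C1.gen R1 283953734451123385935261518004224) := GC.exact_el [(93, 5812500), (94, 968750), (95, 2034375), (92, 19530)] G_dc G_cs (n := 8835156) (by decide +kernel) hcnt (p := (93, 5812500)) (by decide) mf1.1 G_T1c (up_low H_ub (GT1_lb0.trans mf1.2) (by decide +kernel))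
theorem GT1_s1_3416 : CD.Mem R (CD.gen R 283953734451123385935261518004224) 923484520227995606537790002347115948556556389151533906280038126662009104019465876260605475408975683748759005560832 := GT1_s0_525.slp' chk3415
theorem cx1 : (DC1 (C1.gen R1 8190) (C1.el (R1 93)) ∩ centralizer {C1.el (R1 89)}).ncard ≤ Nat.card ((C1.gen R1 8190) ⊓ centralizer {C1.el (R1 89)} : Subgroup _) * 750 := cent_bound (cent_prod _ H_map (GT1_m0.gen_map hD1) H_inj GT1_in520.gen_le (D_s5_409.get (i := 89) (by decide +kernel)).el_mem ex G_T1c Tex1) GT1_lb0 (count_le (c := 2) (Act.count_pred (Act.pieces_sound GT1_s1_3416 GT1_s1_3416.top (Act.via_self_rep hD2) chk3421) chk3422 (fConj_sound P7_ok hD2 (D_s5_409.get (i := 89) (by decide +kernel)).top chk3423)) Tub1 (by decide +kernel)) CHx (by decide +kernel)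
theorem cz1 : (DC1 (C1.gen R1 8190) (C1.el (R1 93)) ∩ centralizer {C1.el (R1 90)}).ncard ≤ Nat.card ((C1.gen R1 8190) ⊓ centralizer {C1.el (R1 90)} : Subgroup _) * 1500 := cent_bound (cent_prod _ H_map (GT1_m0.gen_map hD1) H_inj GT1_in520.gen_le (D_s5_409.get (i := 90) (by decide +kernel)).el_mem ez G_T1c Tex1) GT1_lb0 (count_le (c := 105) (Act.count_pred (Act.pieces_sound GT1_s1_3416 GT1_s1_3416.top (Act.via_self_rep hD2) chk3428) chk3429 (fConj_sound P7_ok hD2 (D_s5_409.get (i := 90) (by decide +kernel)).top chk3430)) Tub1 (by decide +kernel)) CHz (by decide +kernel)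
theorem mf2 : (C1.gen R1 7788445287802241442795744493830144) ≤ (C1.gen R1 8190) ∧ Nat.card (CD.gen R 7788445287802241442795744493830144) ≤ Nat.card (C1.gen R1 7788445287802241442795744493830144) := map_facts _ H_map (GT2_m0.gen_map hD1) H_inj GT2_in696.gen_le
theorem Tub2 : Nat.card (CD.gen R 7788445287802241442795744493830144) ≤ 6048 := mf2.2.trans (up_step (GC.exact_card [(93, 5812500), (94, 968750), (95, 2034375), (92, 19530)] G_dc G_cs (n := 8835156) (by decide +kernel) hcnt (p := (94, 968750)) (by decide) mf2.1 G_T2c) H_ub (by decide +kernel))
theorem Tex2 : ∀ y ∈ (C1.gen R1 8190), C1.el (R1 94) * y * (C1.el (R1 94))⁻¹ ∈ (C1.gen R1 8190) → y ∈ (C1.gen R1 7788445287802241442795744493830144) := GC.exact_el [(93, 5812500), (94, 968750), (95, 2034375), (92, 19530)] G_dc G_cs (n := 8835156) (by decide +kernel) hcnt (p := (94, 968750)) (by decide) mf2.1 G_T2c (up_low H_ub (GT2_lb0.trans mf2.2) (by decide +kernel))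
theorem GT2_s1_3433 : CD.Mem R (CD.gen R 7788445287802241442795744493830144) 3693938080911982426151160009388463794226225556606135625120152506648036416077863824530937978357015253012138279567360 := GT2_s0_701.slp' chk3432
theorem cx2 : (DC1 (C1.gen R1 8190) (C1.el (R1 94)) ∩ centralizer {C1.el (R1 89)}).ncard ≤ Nat.card ((C1.gen R1 8190) ⊓ centralizer {C1.el (R1 89)} : Subgroup _) * 3500 := cent_bound (cent_prod _ H_map (GT2_m0.gen_map hD1) H_inj GT2_in696.gen_le (D_s5_409.get (i := 89) (by decide +kernel)).el_mem ex G_T2c Tex2) GT2_lb0 (count_le (c := 56) (Act.count_pred (Act.pieces_sound GT2_s1_3433 GT2_s1_3433.top (Act.via_self_rep hD2) chk3442) chk3443 (fConj_sound P7_ok hD2 (D_s5_409.get (i := 89) (by decide +kernel)).top chk3444)) Tub2 (by decide +kernel)) CHx (by decide +kernel)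
theorem cz2 : (DC1 (C1.gen R1 8190) (C1.el (R1 94)) ∩ centralizer {C1.el (R1 90)}).ncard ≤ Nat.card ((C1.gen R1 8190) ⊓ centralizer {C1.el (R1 90)} : Subgroup _) * 150 := cent_bound (cent_prod _ H_map (GT2_m0.gen_map hD1) H_inj GT2_in696.gen_le (D_s5_409.get (i := 90) (by decide +kernel)).el_mem ez G_T2c Tex2) GT2_lb0 (count_le (c := 63) (Act.count_pred (Act.pieces_sound GT2_s1_3433 GT2_s1_3433.top (Act.via_self_rep hD2) chk3453) chk3454 (fConj_sound P7_ok hD2 (D_s5_409.get (i := 90) (by decide +kernel)).top chk3455)) Tub2 (by decide +kernel)) CHz (by decide +kernel)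
theorem mf3 : (C1.gen R1 2326148992623602777581662355490603008) ≤ (C1.gen R1 8190) ∧ Nat.card (CD.gen R 2326148992623602777581662355490603008) ≤ Nat.card (C1.gen R1 2326148992623602777581662355490603008) := map_facts _ H_map (GT3_m0.gen_map hD1) H_inj GT3_in839.gen_le
theorem Tub3 : Nat.card (CD.gen R 2326148992623602777581662355490603008) ≤ 2880 := mf3.2.trans (up_step (GC.exact_card [(93, 5812500), (94, 968750), (95, 2034375), (92, 19530)] G_dc G_cs (n := 8835156) (by decide +kernel) hcnt (p := (95, 2034375)) (by decide) mf3.1 G_T3c) H_ub (by decide +kernel))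
theorem Tex3 : ∀ y ∈ (C1.gen R1 8190), C1.el (R1 95) * y * (C1.el (R1 95))⁻¹ ∈ (C1.gen R1 8190) → y ∈ (C1.gen R1 2326148992623602777581662355490603008) := GC.exact_el [(93, 5812500), (94, 968750), (95, 2034375), (92, 19530)] G_dc G_cs (n := 8835156) (by decide +kernel) hcnt (p := (95, 2034375)) (by decide) mf3.1 G_T3c (up_low H_ub (GT3_lb0.trans mf3.2) (by decide +kernel))
theorem GT3_s1_3458 : CD.Mem R (CD.gen R 2326148992623602777581662355490603008) 14775752323647929704604640037553855176904902226424542500480610026592145664311474914621283458006841600263684911792128 := GT3_s0_844.slp' chk3457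
theorem cx3 : (DC1 (C1.gen R1 8190) (C1.el (R1 95)) ∩ centralizer {C1.el (R1 89)}).ncard ≤ Nat.card ((C1.gen R1 8190) ⊓ centralizer {C1.el (R1 89)} : Subgroup _) * 2625 := cent_bound (cent_prod _ H_map (GT3_m0.gen_map hD1) H_inj GT3_in839.gen_le (D_s5_409.get (i := 89) (by decide +kernel)).el_mem ex G_T3c Tex3) GT3_lb0 (count_le (c := 20) (Act.count_pred (Act.pieces_sound GT3_s1_3458 GT3_s1_3458.top (Act.via_self_rep hD2) chk3465) chk3466 (fConj_sound P7_ok hD2 (D_s5_409.get (i := 89) (by decide +kernel)).top chk3467)) Tub3 (by decide +kernel)) CHx (by decide +kernel)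
theorem cz3 : (DC1 (C1.gen R1 8190) (C1.el (R1 95)) ∩ centralizer {C1.el (R1 90)}).ncard ≤ Nat.card ((C1.gen R1 8190) ⊓ centralizer {C1.el (R1 90)} : Subgroup _) * 1055 := cent_bound (cent_prod _ H_map (GT3_m0.gen_map hD1) H_inj GT3_in839.gen_le (D_s5_409.get (i := 90) (by decide +kernel)).el_mem ez G_T3c Tex3) GT3_lb0 (count_le (c := 211) (Act.count_pred (Act.pieces_sound GT3_s1_3458 GT3_s1_3458.top (Act.via_self_rep hD2) chk3474) chk3475 (fConj_sound P7_ok hD2 (D_s5_409.get (i := 90) (by decide +kernel)).top chk3476)) Tub3 (by decide +kernel)) CHz (by decide +kernel)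
theorem mf4 : (C1.gen R1 63802943797675961899382738893456539648) ≤ (C1.gen R1 8190) ∧ Nat.card (CD.gen R 63802943797675961899382738893456539648) ≤ Nat.card (C1.gen R1 63802943797675961899382738893456539648) := map_facts _ H_map (GT4_m0.gen_map hD1) H_inj GT4_in972.gen_le
theorem Tub4 : Nat.card (CD.gen R 63802943797675961899382738893456539648) ≤ 300000 := mf4.2.trans (up_step (GC.exact_card [(93, 5812500), (94, 968750), (95, 2034375), (92, 19530)] G_dc G_cs (n := 8835156) (by decide +kernel) hcnt (p := (92, 19530)) (by decide) mf4.1 G_T4c) H_ub (by decide +kernel))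
theorem Tex4 : ∀ y ∈ (C1.gen R1 8190), C1.el (R1 92) * y * (C1.el (R1 92))⁻¹ ∈ (C1.gen R1 8190) → y ∈ (C1.gen R1 63802943797675961899382738893456539648) := GC.exact_el [(93, 5812500), (94, 968750), (95, 2034375), (92, 19530)] G_dc G_cs (n := 8835156) (by decide +kernel) hcnt (p := (92, 19530)) (by decide) mf4.1 G_T4c (up_low H_ub (GT4_lb0.trans mf4.2) (by decide +kernel))
theorem GT4_s1_3479 : CD.Mem R (CD.gen R 63802943797675961899382738893456539648) 59103009294591718818418560150215420707619608905698170001922440106368582658639591224381630770019389392337500094070784 := GT4_s0_977.slp' chk3478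
theorem cx4 : (DC1 (C1.gen R1 8190) (C1.el (R1 92)) ∩ centralizer {C1.el (R1 89)}).ncard ≤ Nat.card ((C1.gen R1 8190) ⊓ centralizer {C1.el (R1 89)} : Subgroup _) * 252 := cent_bound (cent_prod _ H_map (GT4_m0.gen_map hD1) H_inj GT4_in972.gen_le (D_s5_409.get (i := 89) (by decide +kernel)).el_mem ex G_T4c Tex4) GT4_lb0 (count_le (c := 200) (Act.count_pred (forall_app (Act.pieces_sound GT4_s1_3479 GT4_s1_3479.top (Act.via_self_rep hD2) chk3804) (forall_app (Act.pieces_sound GT4_s1_3479 GT4_s1_3479.top (Act.via_self_rep hD2) chk3806) (forall_app (Act.pieces_sound GT4_s1_3479 GT4_s1_3479.top (Act.via_self_rep hD2) chk3808) (forall_app (Act.pieces_sound GT4_s1_3479 GT4_s1_3479.top (Act.via_self_rep hD2) chk3810) (forall_app (Act.pieces_sound GT4_s1_3479 GT4_s1_3479.top (Act.via_self_rep hD2) chk3812) (forall_app (Act.pieces_sound GT4_s1_3479 GT4_s1_3479.top (Act.via_self_rep hD2) chk3814) (forall_app (Act.pieces_sound GT4_s1_3479 GT4_s1_3479.top (Act.via_self_rep hD2) chk3816) (forall_app (Act.pieces_sound GT4_s1_3479 GT4_s1_3479.top (Act.via_self_rep hD2) chk3818) (forall_app (Act.pieces_sound GT4_s1_3479 GT4_s1_3479.top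 (Act.via_self_rep hD2) chk3820) (forall_app (Act.pieces_sound GT4_s1_3479 GT4_s1_3479.top (Act.via_self_rep hD2) chk3822) (forall_app (Act.pieces_sound GT4_s1_3479 GT4_s1_3479.top (Act.via_self_rep hD2) chk3824) (forall_app (Act.pieces_sound GT4_s1_3479 GT4_s1_3479.top (Act.via_self_rep hD2) chk3826) (forall_app (Act.pieces_sound GT4_s1_3479 GT4_s1_3479.top (Act.via_self_rep hD2) chk3828) (forall_app (Act.pieces_sound GT4_s1_3479 GT4_s1_3479.top (Act.via_self_rep hD2) chk3830) (forall_app (Act.pieces_sound GT4_s1_3479 GT4_s1_3479.top (Act.via_self_rep hD2) chk3832) (forall_app (Act.pieces_sound GT4_s1_3479 GT4_s1_3479.top (Act.via_self_rep hD2) chk3834) (forall_app (Act.pieces_sound GT4_s1_3479 GT4_s1_3479.top (Act.via_self_rep hD2) chk3836) (forall_app (Act.pieces_sound GT4_s1_3479 GT4_s1_3479.top (Act.via_self_rep hD2) chk3838) (forall_app (Act.pieces_sound GT4_s1_3479 GT4_s1_3479.top (Act.via_self_rep hD2) chk3840) (forall_app (Act.pieces_sound GT4_s1_3479 GT4_s1_3479.top (Act.via_self_rep hD2) chk3842) (forall_app (Act.pieces_sound GT4_s1_3479 GT4_s1_3479.top (Act.via_self_rep hD2) chk3844) (forall_app (Act.pieces_sound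 GT4_s1_3479 GT4_s1_3479.top (Act.via_self_rep hD2) chk3846) (forall_app (Act.pieces_sound GT4_s1_3479 GT4_s1_3479.top (Act.via_self_rep hD2) chk3848) (forall_app (Act.pieces_sound GT4_s1_3479 GT4_s1_3479.top (Act.via_self_rep hD2) chk3850) (forall_app (Act.pieces_sound GT4_s1_3479 GT4_s1_3479.top (Act.via_self_rep hD2) chk3852) (forall_app (Act.pieces_sound GT4_s1_3479 GT4_s1_3479.top (Act.via_self_rep hD2) chk3854) (forall_app (Act.pieces_sound GT4_s1_3479 GT4_s1_3479.top (Act.via_self_rep hD2) chk3856) (forall_app (Act.pieces_sound GT4_s1_3479 GT4_s1_3479.top (Act.via_self_rep hD2) chk3858) (forall_app (Act.pieces_sound GT4_s1_3479 GT4_s1_3479.top (Act.via_self_rep hD2) chk3860) (forall_app (Act.pieces_sound GT4_s1_3479 GT4_s1_3479.top (Act.via_self_rep hD2) chk3862) (forall_app (Act.pieces_sound GT4_s1_3479 GT4_s1_3479.top (Act.via_self_rep hD2) chk3864) (forall_app (Act.pieces_sound GT4_s1_3479 GT4_s1_3479.top (Act.via_self_rep hD2) chk3866) (forall_app (Act.pieces_sound GT4_s1_3479 GT4_s1_3479.top (Act.via_self_rep hD2) chk3868) (forall_app (Act.pieces_sound GT4_s1_3479 GT4_s1_3479.top (Act.via_self_rep hD2) chk3870)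 (forall_app (Act.pieces_sound GT4_s1_3479 GT4_s1_3479.top (Act.via_self_rep hD2) chk3872) (forall_app (Act.pieces_sound GT4_s1_3479 GT4_s1_3479.top (Act.via_self_rep hD2) chk3874) (forall_app (Act.pieces_sound GT4_s1_3479 GT4_s1_3479.top (Act.via_self_rep hD2) chk3876) (forall_app (Act.pieces_sound GT4_s1_3479 GT4_s1_3479.top (Act.via_self_rep hD2) chk3878) (forall_app (Act.pieces_sound GT4_s1_3479 GT4_s1_3479.top (Act.via_self_rep hD2) chk3880) (forall_app (Act.pieces_sound GT4_s1_3479 GT4_s1_3479.top (Act.via_self_rep hD2) chk3882) (Act.pieces_sound GT4_s1_3479 GT4_s1_3479.top (Act.via_self_rep hD2) chk3884))))))))))))))))))))))))))))))))))))))))) chk3885 (fConj_sound P7_ok hD2 (D_s5_409.get (i := 89) (by decide +kernel)).top chk3886)) Tub4 (by decide +kernel)) CHx (by decide +kernel)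
theorem cz4 : (DC1 (C1.gen R1 8190) (C1.el (R1 92)) ∩ centralizer {C1.el (R1 90)}).ncard ≤ Nat.card ((C1.gen R1 8190) ⊓ centralizer {C1.el (R1 90)} : Subgroup _) * 66 := cent_bound (cent_prod _ H_map (GT4_m0.gen_map hD1) H_inj GT4_in972.gen_le (D_s5_409.get (i := 90) (by decide +kernel)).el_mem ez G_T4c Tex4) GT4_lb0 (count_le (c := 1375) (Act.count_pred (forall_app (Act.pieces_sound GT4_s1_3479 GT4_s1_3479.top (Act.via_self_rep hD2) chk4211) (forall_app (Act.pieces_sound GT4_s1_3479 GT4_s1_3479.top (Act.via_self_rep hD2) chk4213) (forall_app (Act.pieces_sound GT4_s1_3479 GT4_s1_3479.top (Act.via_self_rep hD2) chk4215) (forall_app (Act.pieces_sound GT4_s1_3479 GT4_s1_3479.top (Act.via_self_rep hD2) chk4217) (forall_app (Act.pieces_sound GT4_s1_3479 GT4_s1_3479.top (Act.via_self_rep hD2) chk4219) (forall_app (Act.pieces_sound GT4_s1_3479 GT4_s1_3479.top (Act.via_self_rep hD2) chk4221) (forall_app (Act.pieces_sound GT4_s1_3479 GT4_s1_3479.top (Act.via_self_rep hD2) chk4223) (forall_app (Act.pieces_sound GT4_s1_3479 GT4_s1_3479.top (Act.via_self_rep hD2) chk4225) (forall_app (Act.pieces_sound GT4_s1_3479 GT4_s1_3479.top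 (Act.via_self_rep hD2) chk4227) (forall_app (Act.pieces_sound GT4_s1_3479 GT4_s1_3479.top (Act.via_self_rep hD2) chk4229) (forall_app (Act.pieces_sound GT4_s1_3479 GT4_s1_3479.top (Act.via_self_rep hD2) chk4231) (forall_app (Act.pieces_sound GT4_s1_3479 GT4_s1_3479.top (Act.via_self_rep hD2) chk4233) (forall_app (Act.pieces_sound GT4_s1_3479 GT4_s1_3479.top (Act.via_self_rep hD2) chk4235) (forall_app (Act.pieces_sound GT4_s1_3479 GT4_s1_3479.top (Act.via_self_rep hD2) chk4237) (forall_app (Act.pieces_sound GT4_s1_3479 GT4_s1_3479.top (Act.via_self_rep hD2) chk4239) (forall_app (Act.pieces_sound GT4_s1_3479 GT4_s1_3479.top (Act.via_self_rep hD2) chk4241) (forall_app (Act.pieces_sound GT4_s1_3479 GT4_s1_3479.top (Act.via_self_rep hD2) chk4243) (forall_app (Act.pieces_sound GT4_s1_3479 GT4_s1_3479.top (Act.via_self_rep hD2) chk4245) (forall_app (Act.pieces_sound GT4_s1_3479 GT4_s1_3479.top (Act.via_self_rep hD2) chk4247) (forall_app (Act.pieces_sound GT4_s1_3479 GT4_s1_3479.top (Act.via_self_rep hD2) chk4249) (forall_app (Act.pieces_sound GT4_s1_3479 GT4_s1_3479.top (Act.via_self_rep hD2) chk4251) (forall_app (Act.pieces_sound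 GT4_s1_3479 GT4_s1_3479.top (Act.via_self_rep hD2) chk4253) (forall_app (Act.pieces_sound GT4_s1_3479 GT4_s1_3479.top (Act.via_self_rep hD2) chk4255) (forall_app (Act.pieces_sound GT4_s1_3479 GT4_s1_3479.top (Act.via_self_rep hD2) chk4257) (forall_app (Act.pieces_sound GT4_s1_3479 GT4_s1_3479.top (Act.via_self_rep hD2) chk4259) (forall_app (Act.pieces_sound GT4_s1_3479 GT4_s1_3479.top (Act.via_self_rep hD2) chk4261) (forall_app (Act.pieces_sound GT4_s1_3479 GT4_s1_3479.top (Act.via_self_rep hD2) chk4263) (forall_app (Act.pieces_sound GT4_s1_3479 GT4_s1_3479.top (Act.via_self_rep hD2) chk4265) (forall_app (Act.pieces_sound GT4_s1_3479 GT4_s1_3479.top (Act.via_self_rep hD2) chk4267) (forall_app (Act.pieces_sound GT4_s1_3479 GT4_s1_3479.top (Act.via_self_rep hD2) chk4269) (forall_app (Act.pieces_sound GT4_s1_3479 GT4_s1_3479.top (Act.via_self_rep hD2) chk4271) (forall_app (Act.pieces_sound GT4_s1_3479 GT4_s1_3479.top (Act.via_self_rep hD2) chk4273) (forall_app (Act.pieces_sound GT4_s1_3479 GT4_s1_3479.top (Act.via_self_rep hD2) chk4275) (forall_app (Act.pieces_sound GT4_s1_3479 GT4_s1_3479.top (Act.via_self_rep hD2) chk4277)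 (forall_app (Act.pieces_sound GT4_s1_3479 GT4_s1_3479.top (Act.via_self_rep hD2) chk4279) (forall_app (Act.pieces_sound GT4_s1_3479 GT4_s1_3479.top (Act.via_self_rep hD2) chk4281) (forall_app (Act.pieces_sound GT4_s1_3479 GT4_s1_3479.top (Act.via_self_rep hD2) chk4283) (forall_app (Act.pieces_sound GT4_s1_3479 GT4_s1_3479.top (Act.via_self_rep hD2) chk4285) (forall_app (Act.pieces_sound GT4_s1_3479 GT4_s1_3479.top (Act.via_self_rep hD2) chk4287) (Act.pieces_sound GT4_s1_3479 GT4_s1_3479.top (Act.via_self_rep hD2) chk4289)))))))))))))))))))))))))))))))))))))))) chk4290 (fConj_sound P7_ok hD2 (D_s5_409.get (i := 90) (by decide +kernel)).top chk4291)) Tub4 (by decide +kernel)) CHz (by decide +kernel)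
theorem CGx : (C1.gen R1 4951760157141521099596505086) ⊓ centralizer {C1.el (R1 89)} = (C1.gen R1 7766881293722787906586208053257310941205091405351034375004804692842845843388792569856) := cent_eq Yin3392.gen_le (Y_m0.top.commL (G_s3_3402.get (i := 89) (by decide +kernel)).top chk4292) (up_mul (GC.card_cent [(93, 750), (94, 3500), (95, 2625), (92, 252)] G_dc (forall_cons cx1 (forall_cons cx2 (forall_cons cx3 (forall_cons cx4 forall_nil)))) (n := 7128) (by decide +kernel)) CHx (n := 2694384000) (by decide +kernel)) Y_lb
theorem CGz : (C1.gen R1 4951760157141521099596505086) ⊓ centralizer {C1.el (R1 90)} = (C1.gen R1 46745216431505598024420982071409864706807717429248) := cent_eq Ain2498.gen_le (Aa_m0.top.commL (G_s3_3402.get (i := 90) (by decide +kernel)).top chk4293) (up_mul (GC.card_cent [(93, 1500), (94, 150), (95, 1055), (92, 66)] G_dc (forall_cons cz1 (forall_cons cz2 (forall_cons cz3 (forall_cons cz4 forall_nil)))) (n := 2772) (by decide +kernel)) CHz (n := 39916800) (by decide +kernel)) Aa_lb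
theorem main : ∃ G H A Y Z : Subgroup (Matrix (Fin 111) (Fin 111) (ZMod 5))ˣ, ∃ z x, H ≤ G ∧ (IsSimpleGroup G ∧ Nat.card G = 51765179004000000) ∧ (IsSimpleGroup H ∧ Nat.card H = 5859000000) ∧
    (z ∈ G ∧ (z ^ 2 = 1 ∧ z ≠ 1) ∧ G ⊓ centralizer {z} = A ∧ ∀ (H' : Type) [Group H'], (H' ≃* A) → Cfsg.IsNonsplitDoubleCover H' (alternatingGroup (Fin 11))) ∧
    (x ∈ G ∧ (x ^ 3 = 1 ∧ x ≠ 1) ∧ G ⊓ centralizer {x} = Y ∧ Z ≤ Y ∧ (center Y = Z.subgroupOf Y ∧ IsSimpleGroup (Y ⧸ center Y)) ∧ Nat.card Z = 3 ∧ Nat.card Y = 2694384000) :=
  ⟨_, _, _, _, _, _, _, (G_s3_3402.sub chk4294).gen_le, ⟨simple, cardG⟩, ⟨simpleH, cardH⟩, ⟨(G_s3_3402.get (i := 90) (by decide +kernel)).el_mem, ((G_s3_3402.get (i := 90) (by decide +kernel)).prime_dvd (p := 2) (by norm_num) chk4295).1, CGz, dcov.2⟩,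
    (G_s3_3402.get (i := 89) (by decide +kernel)).el_mem, ((G_s3_3402.get (i := 89) (by decide +kernel)).prime_dvd (p := 3) (by norm_num) chk4296).1, CGx, Y_cen_le, Y_cen, Y_cz, cardY⟩
end

end CfsgH6.Ly
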