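import Cfsg.Agent.H6.LyD2

set_option autoImplicit false
set_option maxRecDepth 100000
set_option linter.all false
set_option Elab.async false

namespace CfsgH6.Ly

open CfsgH5 CfsgH6 Subgroup MulAction Pointwise

noncomputable section

theorem chk2 : band (allL l1 fun e => band (P.canF (force (hd e) R1)) (band (Nat.ble 1 (tl e)) (Nat.beq (powC P.ops (force (hd e) R1) (tl e)) P.ops.one))) (subM 8190 (insL l1 0)) = true := by decide +kernel
theorem chk8 : subM 2 8190 = true := by decide +kernel
theorem chk11 : band (Nat.ble 1 5) (band (subW 0 0) (Nat.beq (powC (prodOps 197136 P.ops P7.ops) (R 1) 5) (evalW (prodOps 197136 P.ops P7.ops) R 0))) = true := by decide +kernel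
theorem chk14 : band (conjB (prodOps 197136 P.ops P7.ops) R 2 2 l13) (subM 2 (insL l13 0)) = true := by decide +kernel
theorem chk16 : subM 14 8190 = true := by decide +kernel
theorem chk19 : band (Nat.ble 1 5) (band (subW 6 0) (Nat.beq (powC (prodOps 197136 P.ops P7.ops) (R 3) 5) (evalW (prodOps 197136 P.ops P7.ops) R 0))) = true := by decide +kernel
theorem chk22 : band (conjB (prodOps 197136 P.ops P7.ops) R 14 4 l21) (subM 14 (insL l21 0)) = true := by decide +kernel
theorem chk24 : subM 62 8190 = true := by decide +kernel
theorem chk27 : band (Nat.ble 1 5) (band (subW 30 1) (Nat.beq (powC (prodOps 197136 P.ops P7.ops) (R 5) 5) (evalW (prodOps 197136 P.ops P7.ops) R 1))) = true := by decide +kernel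
theorem chk30 : band (conjB (prodOps 197136 P.ops P7.ops) R 62 6 l29) (subM 62 (insL l29 0)) = true := by decide +kernel
theorem chk32 : subM 254 8190 = true := by decide +kernel
theorem chk35 : band (Nat.ble 1 2) (band (subW 126 0) (Nat.beq (powC (prodOps 197136 P.ops P7.ops) (R 7) 2) (evalW (prodOps 197136 P.ops P7.ops) R 0))) = true := by decide +kernel
theorem chk38 : band (conjB (prodOps 197136 P.ops P7.ops) R 254 8 l37) (subM 254 (insL l37 0)) = true := by decide +kernel
theorem chk40 : subM 1022 8190 = true := by decide +kernel
theorem chk43 : band (Nat.ble 1 2) (band (subW 510 7) (Nat.beq (powC (prodOps 197136 P.ops P7.ops) (R 9) 2) (evalW (prodOps 197136 P.ops P7.ops) R 7))) = true := by decide +kernel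
theorem chk46 : band (conjB (prodOps 197136 P.ops P7.ops) R 1022 10 l45) (subM 1022 (insL l45 0)) = true := by decide +kernel
theorem chk48 : subM 4094 8190 = true := by decide +kernel
theorem chk72 : band (slp (prodOps 197136 P.ops P7.ops) R l71 2046) (subM 57344 (insL l71 2046)) = true := by decide +kernel
theorem chk80 : subM 983040 1040384 = true := by decide +kernel
theorem chk87 : band (pieces (fun c v => P7.app (pr2 197136 c) v) (keyL P7.app (fun x => x) L7s 3) tab85 R 1040384 [13, 14, 15, 16, 17, 18, 19] pt74c l86) (allL l86 fun p => subW 1040384 p.2.1) = true := by decide +kernel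
theorem chk90 : subM 786432 983040 = true := by decide +kernel
theorem chk97 : band (pieces (fun c v => P7.app (pr2 197136 c) v) (keyL P7.app (fun x => x) L7s 3) tab95 R 983040 [16, 17, 18, 19] pt75c l96) (allL l96 fun p => subW 983040 p.2.1) = true := by decide +kernel
theorem chk100 : subM 0 786432 = true := by decide +kernel
theorem chk107 : band (pieces (fun c v => P7.app (pr2 197136 c) v) (keyL P7.app (fun x => x) L7s 3) tab105 R 786432 [18, 19] pt76c l106) (allL l106 fun p => subW 786432 p.2.1) = true := by decide +kernel
theorem chk111 : band (conjB (prodOps 197136 P.ops P7.ops) R 2046 11 l110) (subM 57344 (insL l110 0)) = true := by decide +kernel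
theorem chk115 : band (slp (prodOps 197136 P.ops P7.ops) R l114 2046) (subM 3145728 (insL l114 2046)) = true := by decide +kernel
theorem chk122 : subM 68702699520 68718428160 = true := by decide +kernel
theorem chk129 : band (pieces (fun c v => P7.app (pr2 197136 c) v) (keyL P7.app (fun x => x) L7s 3) tab127 R 68718428160 [20, 21, 22, 23, 24, 25, 26, 27, 28, 29, 30, 31, 32, 33, 34, 35] pt117c l128) (allL l128 fun p => subW 68718428160 p.2.1) = true := by decide +kernel
theorem chk132 : subM 0 68702699520 = true := by decide +kernel
theorem chk139 : band (pieces (fun c v => P7.app (pr2 197136 c) v) (keyL P7.app (fun x => x) L7s 3) tab137 R 68702699520 [24, 25, 26, 27, 28, 29, 30, 31, 32, 33, 34, 35] pt118c l138) (allL l138 fun p => subW 68702699520 p.2.1) = true := by decide +kernel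
theorem chk143 : band (conjA (prodOps 197136 P.ops P7.ops) R 2046 11 l142) (subM 3145728 (insL l142 0)) = true := by decide +kernel
theorem chk150 : band (pieces (fun c v => P7.app (pr2 197136 c) v) (keyL P7.app (fun x => x) L7s 3) tab148 R 68718428160 [20, 21, 22, 23, 24, 25, 26, 27, 28, 29, 30, 31, 32, 33, 34, 35] pt49c l149) (allL l149 fun p => subW 2046 p.2.1) = true := by decide +kernel
theorem chk153 : allL (List.map Prod.fst (l144)) (subW 2046) = true := by decide +kernel
theorem chk157 : band (slp (prodOps 197136 P.ops P7.ops) R l156 8190) (subM 206158438398 (insL l156 8190)) = true := by decide +kernel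
theorem chk181 : band (slp (prodOps 197136 P.ops P7.ops) R l180 4094) (subM 1924145348608 (insL l180 4094)) = true := by decide +kernel
theorem chk188 : subM 68169720922112 70093866270720 = true := by decide +kernel
theorem chk195 : band (pieces (fun c v => P7.app (pr2 197136 c) v) (keyL P7.app (fun x => x) L7s 3) tab193 R 70093866270720 [38, 39, 40, 41, 42, 43, 44, 45] pt183c l194) (allL l194 fun p => subW 70093866270720 p.2.1) = true := by decide +kernel
theorem chk198 : subM 0 68169720922112 = true := by decide +kernel
theorem chk205 : band (pieces (fun c v => P7.app (pr2 197136 c) v) (keyL P7.app (fun x => x) L7s 3) tab203 R 68169720922112 [41, 42, 43, 44, 45] pt184c l204) (allL l204 fun p => subW 68169720922112 p.2.1) = true := by decide +kernel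
theorem chk209 : band (conjB (prodOps 197136 P.ops P7.ops) R 4094 12 l208) (subM 1924145348608 (insL l208 0)) = true := by decide +kernel
theorem chk218 : band (slp (prodOps 197136 P.ops P7.ops) R l217 4094) (subM 211106232532992 (insL l217 4094)) = true := by decide +kernel
theorem chk225 : subM 143552238122434560 144044819331678208 = true := by decide +kernel
theorem chk232 : band (pieces (fun c v => P7.app (pr2 197136 c) v) (keyL P7.app (fun x => x) L7s 3) tab230 R 144044819331678208 [46, 47, 48, 49, 50, 51, 52, 53, 54, 55, 56] pt220c l231) (allL l231 fun p => subW 144044819331678208 p.2.1) = true := by decide +kernel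
theorem chk235 : subM 0 143552238122434560 = true := by decide +kernel
theorem chk242 : band (pieces (fun c v => P7.app (pr2 197136 c) v) (keyL P7.app (fun x => x) L7s 3) tab240 R 143552238122434560 [49, 50, 51, 52, 53, 54, 55, 56] pt221c l241) (allL l241 fun p => subW 143552238122434560 p.2.1) = true := by decide +kernel
theorem chk246 : band (conjA (prodOps 197136 P.ops P7.ops) R 4094 12 l245) (subM 211106232532992 (insL l245 0)) = true := by decide +kernel
theorem chk253 : band (pieces (fun c v => P7.app (pr2 197136 c) v) (keyL P7.app (fun x => x) L7s 3) tab251 R 144044819331678208 [46, 47, 48, 49, 50, 51, 52, 53, 54, 55, 56] pt155c l252) (allL l252 fun p => subW 4094 p.2.1) = true := by decide +kernel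
theorem chk256 : allL (List.map Prod.fst (l247)) (subW 4094) = true := by decide +kernel
theorem chk263 : band (slp (prodOps 197136 P.ops P7.ops) R l262 432345564227567616) (subM 36749372959343247360 (insL l262 432345564227567616)) = true := by decide +kernel
theorem chk266 : band (fixL (fun c v => P7.app (pr2 197136 c) v) (keyL P7.app (fun x => x) L7s 3) R [62, 63, 64] pt260c) (subM 32281802128991715328 (insL [62, 63, 64] 0)) = true := by decide +kernel
theorem chk273 : cover 100 [0] (l271) 0 = true := by decide +kernel
theorem chk276 : band (fixL (fun c v => P7.app (pr2 197136 c) v) (keyL P7.app (fun x => x) L7s 3) R [] pt261c) (subM 0 (insL [] 0)) = true := by decide +kernel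
theorem chk283 : cover 20 [0] (l281) 0 = true := by decide +kernel
theorem chk288 : dcRel (prodOps 197136 P.ops P7.ops) R 4094 206158434304 36 12 l287 = true := by decide +kernel
theorem chk294 : cover 30 (List.map Prod.fst (l287)) (l292) 0 = true := by decide +kernel
theorem chk298 : band (slp (prodOps 197136 P.ops P7.ops) R l297 4094) (subM 110680464442257309696 (insL l297 4094)) = true := by decide +kernel
theorem chk305 : subM 442721857769029238784 553402322211286548480 = true := by decide +kernel
theorem chk312 : band (pieces (fun c v => P7.app (pr2 197136 c) v) (keyL P7.app (fun x => x) L7s 3) tab310 R 553402322211286548480 [65, 66, 67, 68] pt300c l311) (allL l311 fun p => subW 553402322211286548480 p.2.1) = true := by decide +kernel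
theorem chk315 : subM 0 442721857769029238784 = true := by decide +kernel
theorem chk322 : band (pieces (fun c v => P7.app (pr2 197136 c) v) (keyL P7.app (fun x => x) L7s 3) tab320 R 442721857769029238784 [67, 68] pt301c l321) (allL l321 fun p => subW 442721857769029238784 p.2.1) = true := by decide +kernel
theorem chk326 : band (conjA (prodOps 197136 P.ops P7.ops) R 4094 37 l325) (subM 110680464442257309696 (insL l325 0)) = true := by decide +kernel
theorem chk333 : band (pieces (fun c v => P7.app (pr2 197136 c) v) (keyL P7.app (fun x => x) L7s 3) tab331 R 553402322211286548480 [65, 66, 67, 68] pt155c l332) (allL l332 fun p => subW 4094 p.2.1) = true := by decide +kernel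
theorem chk336 : allL (List.map Prod.fst (l327)) (subW 4094) = true := by decide +kernel
theorem chk339 : band (maxChk (prodOps 197136 P.ops P7.ops) R 4094 8190 l338) (subM 206158434304 (insL (l338.map Prod.fst) 0)) = true := by decide +kernel
theorem chk343 : band (slp (prodOps 197136 P.ops P7.ops) R l342 206158438398) (subM 8854437155586743214078 (insL l342 206158438398)) = true := by decide +kernel
theorem chk348 : subW 8854437155586743214078 81142936000076872 = true := by decide +kernel
theorem chk352 : subM 2408406906263519058984960 2408406906263519058989054 = true := by decide +kernel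
theorem chk359 : band (pieces (fun c v => P7.app (pr2 197136 c) v) (keyL P7.app (fun x => x) L7s 3) tab357 R 2408406906263519058989054 [11, 80, 9, 5, 10, 3, 2, 77, 8, 4, 73, 76, 6, 7, 74, 79] pt345c l358) (allL l358 fun p => subW 2408406906263519058989054 p.2.1) = true := by decide +kernel
theorem chk362 : subM 0 2408406906263519058984960 = true := by decide +kernel
theorem chk371 : band (pieces (fun c v => P7.app (pr2 197136 c) v) (keyL P7.app (fun x => x) L7s 3) tab369 R 2408406906263519058984960 [73, 74, 75, 76, 77, 78, 79, 80] pt347c l370) (allL l370 fun p => subW 2408406906263519058984960 p.2.1) = true := by decide +kernel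
theorem chk382 : band (pieces (fun c v => P7.app (pr2 197136 c) v) (keyL P7.app (fun x => x) L7s 3) tab380 R 8854437155586743214078 [69, 70, 12, 71, 72] pt341c l381) (allL l381 fun p => subW 8854437155586743214078 p.2.1) = true := by decide +kernel
theorem chk385 : band (fixL (fun c v => P7.app (pr2 197136 c) v) (keyL P7.app (fun x => x) L7s 3) R [1, 2, 3, 4, 5, 6, 7, 8, 9, 10, 11] pt341c) (subM 4094 (insL [1, 2, 3, 4, 5, 6, 7, 8, 9, 10, 11] 0)) = true := by decide +kernel
theorem chk388 : subM 4094 8854437155586743214078 = true := by decide +kernel
theorem chk391 : band (slp (prodOps 197136 P.ops P7.ops) R l390 2417261343419105802199038) (subM 4835112982648364151611390 (insL l390 2417261343419105802199038)) = true := by decide +kernel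
theorem chk396 : subM 14507109835375550096474112 19342222818023914248085502 = true := by decide +kernel
theorem chk400 : band (ncop (prodOps 197136 P.ops P7.ops) R 19342222818023914248085502 16924961474604808445886464 l399) (subM 126 (insL (l399.map Prod.fst) 16924961474604808445886464)) = true := by decide +kernel
theorem chk404 : band (ncop (prodOps 197136 P.ops P7.ops) R 19342222818023914248085502 16924961474604808445886464 l403) (subM 4096 (insL (l403.map Prod.fst) 16924961474604808445886464)) = true := by decide +kernel
theorem chk406 : subM 4094 19342222818023914248085502 = true := by decide +kernel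
theorem chk410 : bnot (Nat.beq (pr1 197136 (R 12)) P.ops.one) = true := by decide +kernel
theorem chk415 : subM 8190 4951760157141521099596505086 = true := by decide +kernel
theorem chk418 : band (slp P.ops R1 l417 9903519723987232046645780478) (subM 79228161923968527440996737022 (insL l417 9903519723987232046645780478)) = true := by decide +kernel
theorem chk456 : band (slp (prodOps 197136 P.ops P7.ops) R l455 4951759566845710947049283582) (subM 554597137599850363154807652352 (insL l455 4951759566845710947049283582)) = true := by decide +kernel
theorem chk464 : subM 39930993907189226147146150969344 40485591044789076510300958621696 = true := by decide +kernel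
theorem chk471 : band (pieces (fun c v => P7.app (pr2 197136 c) v) (keyL P7.app (fun x => x) L7s 3) tab469 R 40485591044789076510300958621696 [96, 97, 98, 99, 100, 101, 102, 103, 104] pt458c l470) (allL l470 fun p => subW 40485591044789076510300958621696 p.2.1) = true := by decide +kernel
theorem chk474 : subM 20282409603651670423947251286016 39930993907189226147146150969344 = true := by decide +kernel
theorem chk481 : band (pieces (fun c v => P7.app (pr2 197136 c) v) (keyL P7.app (fun x => x) L7s 3) tab479 R 39930993907189226147146150969344 [99, 100, 101, 102, 103, 104] pt459c l480) (allL l480 fun p => subW 39930993907189226147146150969344 p.2.1) = true := by decide +kernel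
theorem chk484 : subM 0 20282409603651670423947251286016 = true := by decide +kernel
theorem chk491 : band (pieces (fun c v => P7.app (pr2 197136 c) v) (keyL P7.app (fun x => x) L7s 3) tab489 R 20282409603651670423947251286016 [104] pt460c l490) (allL l490 fun p => subW 20282409603651670423947251286016 p.2.1) = true := by decide +kernel
theorem chk495 : band (conjB P.ops R1 4951759566845710947049283582 92 l494) (subM 554597137599850363154807652352 (insL l494 0)) = true := by decide +kernel
theorem chk519 : band (slp (prodOps 197136 P.ops P7.ops) R l518 4951759566845710947049283582) (subM 283953734451123385935261518004224 (insL l518 4951759566845710947049283582)) = true := by decide +kernel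
theorem chk526 : subM 2271629875608987087482092144033792 2555583610060110473417353662038016 = true := by decide +kernel
theorem chk533 : band (pieces (fun c v => P7.app (pr2 197136 c) v) (keyL P7.app (fun x => x) L7s 3) tab531 R 2555583610060110473417353662038016 [105, 106, 107, 108, 109, 110] pt521c l532) (allL l532 fun p => subW 2555583610060110473417353662038016 p.2.1) = true := by decide +kernel
theorem chk536 : subM 0 2271629875608987087482092144033792 = true := by decide +kernel
theorem chk543 : band (pieces (fun c v => P7.app (pr2 197136 c) v) (keyL P7.app (fun x => x) L7s 3) tab541 R 2271629875608987087482092144033792 [108, 109, 110] pt522c l542) (allL l542 fun p => subW 2271629875608987087482092144033792 p.2.1) = true := by decide +kernel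
theorem chk547 : band (conjA P.ops R1 4951759566845710947049283582 93 l546) (subM 283953734451123385935261518004224 (insL l546 0)) = true := by decide +kernel
theorem chk551 : dcRel P.ops R1 4951759566845710947049283582 74276402357122816493947453440 93 92 l550 = true := by decide +kernel
theorem chk555 : dcRel P.ops R1 4951759566845710947049283582 74276402357122816493947453440 93 92 l554 = true := by decide +kernel
theorem chk559 : dcRel P.ops R1 4951759566845710947049283582 74276402357122816493947453440 93 92 l558 = true := by decide +kernel
theorem chk563 : dcRel P.ops R1 4951759566845710947049283582 74276402357122816493947453440 93 92 l562 = true := by decide +kernel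
theorem chk567 : dcRel P.ops R1 4951759566845710947049283582 74276402357122816493947453440 93 92 l566 = true := by decide +kernel
theorem chk571 : dcRel P.ops R1 4951759566845710947049283582 74276402357122816493947453440 93 92 l570 = true := by decide +kernel
theorem chk575 : dcRel P.ops R1 4951759566845710947049283582 74276402357122816493947453440 93 92 l574 = true := by decide +kernel
theorem chk579 : dcRel P.ops R1 4951759566845710947049283582 74276402357122816493947453440 93 92 l578 = true := by decide +kernel
theorem chk583 : dcRel P.ops R1 4951759566845710947049283582 74276402357122816493947453440 93 92 l582 = true := by decide +kernel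
theorem chk587 : dcRel P.ops R1 4951759566845710947049283582 74276402357122816493947453440 93 92 l586 = true := by decide +kernel
theorem chk674 : band (pieces (fun c v => (appP 112 P7.app) (pr2 197136 c) v) (keyP 112 (keyL P7.app (fun x => x) L7s 3)) tab672 R 2555583610060110473417353662038016 [105, 106, 107, 108, 109, 110] pt414c l673) (allL l673 fun p => subW 4951759566845710947049283582 p.2.1) = true := by decide +kernel
theorem chk678 : band (pieces (fun c v => (appP 112 P7.app) (pr2 197136 c) v) (keyP 112 (keyL P7.app (fun x => x) L7s 3)) tab672 R 2555583610060110473417353662038016 [105, 106, 107, 108, 109, 110] pt414c l677) (allL l677 fun p => subW 4951759566845710947049283582 p.2.1) = true := by decide +kernel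
theorem chk682 : band (pieces (fun c v => (appP 112 P7.app) (pr2 197136 c) v) (keyP 112 (keyL P7.app (fun x => x) L7s 3)) tab672 R 2555583610060110473417353662038016 [105, 106, 107, 108, 109, 110] pt414c l681) (allL l681 fun p => subW 4951759566845710947049283582 p.2.1) = true := by decide +kernel
theorem chk686 : band (pieces (fun c v => (appP 112 P7.app) (pr2 197136 c) v) (keyP 112 (keyL P7.app (fun x => x) L7s 3)) tab672 R 2555583610060110473417353662038016 [105, 106, 107, 108, 109, 110] pt414c l685) (allL l685 fun p => subW 4951759566845710947049283582 p.2.1) = true := by decide +kernel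
theorem chk690 : band (pieces (fun c v => (appP 112 P7.app) (pr2 197136 c) v) (keyP 112 (keyL P7.app (fun x => x) L7s 3)) tab672 R 2555583610060110473417353662038016 [105, 106, 107, 108, 109, 110] pt414c l689) (allL l689 fun p => subW 4951759566845710947049283582 p.2.1) = true := by decide +kernel
theorem chk693 : allL (List.map Prod.fst (l548 ++ (l550 ++ (l552 ++ (l554 ++ (l556 ++ (l558 ++ (l560 ++ (l562 ++ (l564 ++ (l566 ++ (l568 ++ (l570 ++ (l572 ++ (l574 ++ (l576 ++ (l578 ++ (l580 ++ (l582 ++ (l584 ++ (l586 ++ (l588)))))))))))))))))))))) (subW 4951759566845710947049283582) = true := by decide +kernel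
end

end CfsgH6.Ly
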