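import Cfsg.Agent.H6.LyMD0

set_option autoImplicit false
set_option maxRecDepth 100000
set_option linter.all false
set_option Elab.async false

namespace CfsgH6.LyM

open CfsgH5 CfsgH6 Subgroup MulAction Pointwise

noncomputable section

theorem chk539 : band (slp (prodOps 197136 P.ops (ops2 275)) R l538 10481664) (subM 55340232221128654848 (insL l538 10481664)) = true := by decide +kernel
theorem chk546 : band (slp (prodOps 197136 P.ops (ops2 275)) R l545 55340232221128654848) (subM 1162144876643701751808 (insL l545 55340232221128654848)) = true := by decide +kernel
theorem chk548 : subM 1106804644422573096960 1162144876643701751808 = true := by decide +kernel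
theorem chk549 : band (fixL (fun c v => (app2 275 276 9) (pr2 197136 c) v) (fun x => x) R [66, 67, 68, 69] pt541c) (subM 1106804644422573096960 (insL [66, 67, 68, 69] 0)) = true := by decide +kernel
theorem chk555 : band (pieces (fun c v => (app2 275 276 9) (pr2 197136 c) v) (fun x => x) tab553 R 1162144876643701751808 [64, 65, 66, 67, 68, 69] pt541c l554) (allL l554 fun p => subW 1162144876643701751808 p.2.1) = true := by decide +kernel
theorem chk556 : cover 10 [0] (l554) 0 = true := by decide +kernel
theorem chk558 : subM 737869762948382064640 1106804644422573096960 = true := by decide +kernel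
theorem chk559 : band (fixL (fun c v => (app2 275 276 9) (pr2 197136 c) v) (fun x => x) R [67, 69] pt542c) (subM 737869762948382064640 (insL [67, 69] 0)) = true := by decide +kernel
theorem chk565 : band (pieces (fun c v => (app2 275 276 9) (pr2 197136 c) v) (fun x => x) tab563 R 1106804644422573096960 [66, 67, 68, 69] pt542c l564) (allL l564 fun p => subW 1106804644422573096960 p.2.1) = true := by decide +kernel
theorem chk566 : cover 18 [0] (l564) 0 = true := by decide +kernel
theorem chk568 : subM 590295810358705651712 737869762948382064640 = true := by decide +kernel
theorem chk569 : band (fixL (fun c v => (app2 275 276 9) (pr2 197136 c) v) (fun x => x) R [69] pt543c) (subM 590295810358705651712 (insL [69] 0)) = true := by decide +kernel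
theorem chk575 : band (pieces (fun c v => (app2 275 276 9) (pr2 197136 c) v) (fun x => x) tab573 R 737869762948382064640 [67, 69] pt543c l574) (allL l574 fun p => subW 737869762948382064640 p.2.1) = true := by decide +kernel
theorem chk576 : cover 2 [0] (l574) 0 = true := by decide +kernel
theorem chk578 : subM 0 590295810358705651712 = true := by decide +kernel
theorem chk579 : band (fixL (fun c v => P.app (pr1 197136 c) v) (fun x => x) R [] pt544c) (subM 0 (insL [] 0)) = true := by decide +kernel
theorem chk585 : band (pieces (fun c v => P.app (pr1 197136 c) v) (fun x => x) tab583 R 590295810358705651712 [69] pt544c l584) (allL l584 fun p => subW 590295810358705651712 p.2.1) = true := by decide +kernel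
theorem chk586 : cover 3 [0] (l584) 0 = true := by decide +kernel
theorem chk589 : band (conjA (prodOps 197136 P.ops (ops2 275)) R 10481664 46 l588) (subM 55340232221128654848 (insL l588 0)) = true := by decide +kernel
theorem chk591 : dcRel (prodOps 197136 P.ops (ops2 275)) R 10481664 70368746274816 46 21 l590 = true := by decide +kernel
theorem chk596 : band (pieces (fun c v => (app2 275 276 9) (pr2 197136 c) v) (fun x => x) tab594 R 1162144876643701751808 [64, 65, 66, 67, 68, 69] pt345c l595) (allL l595 fun p => subW 10481664 p.2.1) = true := by decide +kernel
theorem chk597 : cover 30 (List.map Prod.fst (l590)) (l595) 0 = true := by decide +kernel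
theorem chk599 : allL (List.map Prod.fst (l590)) (subW 10481664) = true := by decide +kernel
theorem chk600 : inDC (prodOps 197136 P.ops (ops2 275)) R 10481664 70368746274816 (R 21) 0 21 = true := by decide +kernel
theorem chk601 : subM 8384512 8388606 = true := by decide +kernel
theorem chk603 : subM 4190208 8384512 = true := by decide +kernel
theorem chk604 : subM 70368760950784 (Nat.lor 8384512 70368756756480) = true := by decide +kernel
theorem chk606 : band (slp (prodOps 197136 P.ops (ops2 275)) R l605 70368760950784) (subM 1180591691086172254208 (insL l605 70368760950784)) = true := by decide +kernel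
theorem chk608 : subM 1180591620717415497728 1180591691086172254208 = true := by decide +kernel
theorem chk610 : band (slp (prodOps 197136 P.ops (ops2 275)) R l609 70368756756480) (subM 7083549724304467820544 (insL l609 70368756756480)) = true := by decide +kernel
theorem chk618 : band (slp (prodOps 197136 P.ops (ops2 275)) R l617 7083549724304467820544) (subM 1206564636373194352099328 (insL l617 7083549724304467820544)) = true := by decide +kernel
theorem chk621 : band (slp (prodOps 197136 P.ops (ops2 275)) R l620 1206564636373194352099328) (subM 9669045373675598575042560 (insL l620 1206564636373194352099328)) = true := by decide +kernel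
theorem chk623 : subM 9652517090985554816794624 9669045373675598575042560 = true := by decide +kernel
theorem chk624 : band (fixL (fun c v => (app2 275 276 9) (pr2 197136 c) v) (fun x => x) R [74, 75, 76, 77, 78, 79, 80, 81, 82] pt612c) (subM 9652517090985554816794624 (insL [74, 75, 76, 77, 78, 79, 80, 81, 82] 0)) = true := by decide +kernel
theorem chk630 : band (pieces (fun c v => (app2 275 276 9) (pr2 197136 c) v) (fun x => x) tab628 R 9669045373675598575042560 [71, 72, 73, 74, 75, 76, 77, 78, 79, 80, 81, 82] pt612c l629) (allL l629 fun p => subW 9669045373675598575042560 p.2.1) = true := by decide +kernel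
theorem chk631 : cover 30 [0] (l629) 0 = true := by decide +kernel
theorem chk633 : subM 8802491124069018678329344 9652517090985554816794624 = true := by decide +kernel
theorem chk634 : band (fixL (fun c v => (app2 275 276 9) (pr2 197136 c) v) (fun x => x) R [75, 78, 80, 81, 82] pt613c) (subM 8802491124069018678329344 (insL [75, 78, 80, 81, 82] 0)) = true := by decide +kernel
theorem chk640 : band (pieces (fun c v => (app2 275 276 9) (pr2 197136 c) v) (fun x => x) tab638 R 9652517090985554816794624 [74, 75, 76, 77, 78, 79, 80, 81, 82] pt613c l639) (allL l639 fun p => subW 9652517090985554816794624 p.2.1) = true := by decide +kernel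
theorem chk641 : cover 54 [0] (l639) 0 = true := by decide +kernel
theorem chk643 : subM 7253554917687775048237056 8802491124069018678329344 = true := by decide +kernel
theorem chk644 : band (fixL (fun c v => (app2 275 276 9) (pr2 197136 c) v) (fun x => x) R [81, 82] pt614c) (subM 7253554917687775048237056 (insL [81, 82] 0)) = true := by decide +kernel
theorem chk650 : band (pieces (fun c v => (app2 275 276 9) (pr2 197136 c) v) (fun x => x) tab648 R 8802491124069018678329344 [75, 78, 80, 81, 82] pt614c l649) (allL l649 fun p => subW 8802491124069018678329344 p.2.1) = true := by decide +kernel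
theorem chk651 : cover 9 [0] (l649) 0 = true := by decide +kernel
theorem chk653 : subM 4835703278458516698824704 7253554917687775048237056 = true := by decide +kernel
theorem chk654 : band (fixL (fun c v => (app2 275 276 9) (pr2 197136 c) v) (fun x => x) R [82] pt615c) (subM 4835703278458516698824704 (insL [82] 0)) = true := by decide +kernel
theorem chk660 : band (pieces (fun c v => (app2 275 276 9) (pr2 197136 c) v) (fun x => x) tab658 R 7253554917687775048237056 [81, 82] pt615c l659) (allL l659 fun p => subW 7253554917687775048237056 p.2.1) = true := by decide +kernel
theorem chk661 : cover 2 [0] (l659) 0 = true := by decide +kernel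
theorem chk663 : subM 0 4835703278458516698824704 = true := by decide +kernel
theorem chk664 : band (fixL (fun c v => P.app (pr1 197136 c) v) (fun x => x) R [] pt616c) (subM 0 (insL [] 0)) = true := by decide +kernel
theorem chk670 : band (pieces (fun c v => P.app (pr1 197136 c) v) (fun x => x) tab668 R 4835703278458516698824704 [82] pt616c l669) (allL l669 fun p => subW 4835703278458516698824704 p.2.1) = true := by decide +kernel
theorem chk671 : cover 3 [0] (l669) 0 = true := by decide +kernel
theorem chk674 : band (conjB (prodOps 197136 P.ops (ops2 275)) R 70368756756480 22 l673) (subM 7083549724304467820544 (insL l673 0)) = true := by decide +kernel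
theorem chk675 : band (fixL (fun c v => (app2 275 276 9) (pr2 197136 c) v) (fun x => x) R [71, 72] pt602c) (subM 7083549724304467820544 (insL [71, 72] 0)) = true := by decide +kernel
theorem chk678 : band (slp (prodOps 197136 P.ops (ops2 275)) R l677 70368756756480) (subM 29014219670751100192948224 (insL l677 70368756756480)) = true := by decide +kernel
theorem chk686 : band (slp (prodOps 197136 P.ops (ops2 275)) R l685 29014219670751100192948224) (subM 2466208672013843516400599040 (insL l685 29014219670751100192948224)) = true := by decide +kernel
theorem chk688 : subM 2437194452343092416207650816 2466208672013843516400599040 = true := by decide +kernel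
theorem chk689 : band (fixL (fun c v => (app2 275 276 9) (pr2 197136 c) v) (fun x => x) R [85, 86, 87, 88, 89, 90] pt680c) (subM 2437194452343092416207650816 (insL [85, 86, 87, 88, 89, 90] 0)) = true := by decide +kernel
theorem chk695 : band (pieces (fun c v => (app2 275 276 9) (pr2 197136 c) v) (fun x => x) tab693 R 2466208672013843516400599040 [83, 84, 85, 86, 87, 88, 89, 90] pt680c l694) (allL l694 fun p => subW 2466208672013843516400599040 p.2.1) = true := by decide +kernel
theorem chk696 : cover 30 [0] (l694) 0 = true := by decide +kernel
theorem chk698 : subM 2243766321204751748254662656 2437194452343092416207650816 = true := by decide +kernel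
theorem chk699 : band (fixL (fun c v => (app2 275 276 9) (pr2 197136 c) v) (fun x => x) R [86, 88, 89, 90] pt681c) (subM 2243766321204751748254662656 (insL [86, 88, 89, 90] 0)) = true := by decide +kernel
theorem chk705 : band (pieces (fun c v => (app2 275 276 9) (pr2 197136 c) v) (fun x => x) tab703 R 2437194452343092416207650816 [85, 86, 87, 88, 89, 90] pt681c l704) (allL l704 fun p => subW 2437194452343092416207650816 p.2.1) = true := by decide +kernel
theorem chk706 : cover 54 [0] (l704) 0 = true := by decide +kernel
theorem chk708 : subM 1856910058928070412348686336 2243766321204751748254662656 = true := by decide +kernel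
theorem chk709 : band (fixL (fun c v => (app2 275 276 9) (pr2 197136 c) v) (fun x => x) R [89, 90] pt682c) (subM 1856910058928070412348686336 (insL [89, 90] 0)) = true := by decide +kernel
theorem chk715 : band (pieces (fun c v => (app2 275 276 9) (pr2 197136 c) v) (fun x => x) tab713 R 2243766321204751748254662656 [86, 88, 89, 90] pt682c l714) (allL l714 fun p => subW 2243766321204751748254662656 p.2.1) = true := by decide +kernel
theorem chk716 : cover 6 [0] (l714) 0 = true := by decide +kernel
theorem chk718 : subM 1237940039285380274899124224 1856910058928070412348686336 = true := by decide +kernel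
theorem chk719 : band (fixL (fun c v => (app2 275 276 9) (pr2 197136 c) v) (fun x => x) R [90] pt683c) (subM 1237940039285380274899124224 (insL [90] 0)) = true := by decide +kernel
theorem chk725 : band (pieces (fun c v => (app2 275 276 9) (pr2 197136 c) v) (fun x => x) tab723 R 1856910058928070412348686336 [89, 90] pt683c l724) (allL l724 fun p => subW 1856910058928070412348686336 p.2.1) = true := by decide +kernel
theorem chk726 : cover 3 [0] (l724) 0 = true := by decide +kernel
theorem chk728 : subM 0 1237940039285380274899124224 = true := by decide +kernel
theorem chk729 : band (fixL (fun c v => P.app (pr1 197136 c) v) (fun x => x) R [] pt684c) (subM 0 (insL [] 0)) = true := by decide +kernel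
theorem chk735 : band (pieces (fun c v => P.app (pr1 197136 c) v) (fun x => x) tab733 R 1237940039285380274899124224 [90] pt684c l734) (allL l734 fun p => subW 1237940039285380274899124224 p.2.1) = true := by decide +kernel
theorem chk736 : cover 3 [0] (l734) 0 = true := by decide +kernel
theorem chk739 : band (conjA (prodOps 197136 P.ops (ops2 275)) R 70368756756480 22 l738) (subM 29014219670751100192948224 (insL l738 0)) = true := by decide +kernel
theorem chk741 : dcRel (prodOps 197136 P.ops (ops2 275)) R 70368756756480 1180591620717415497728 22 22 l740 = true := by decide +kernel
theorem chk746 : band (pieces (fun c v => (app2 275 276 9) (pr2 197136 c) v) (fun x => x) tab744 R 2466208672013843516400599040 [83, 84, 85, 86, 87, 88, 89, 90] pt602c l745) (allL l745 fun p => subW 70368756756480 p.2.1) = true := by decide +kernel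
theorem chk747 : cover 112 (List.map Prod.fst (l740)) (l745) 0 = true := by decide +kernel
theorem chk749 : allL (List.map Prod.fst (l740)) (subW 70368756756480) = true := by decide +kernel
theorem chk751 : band (slp (prodOps 197136 P.ops (ops2 275)) R l750 70368756756480) (subM 7427640235712281649394745344 (insL l750 70368756756480)) = true := by decide +kernel
theorem chk758 : band (slp (prodOps 197136 P.ops (ops2 275)) R l757 7427640235712281649394745344) (subM 1265174720149658640946904956928 (insL l757 7427640235712281649394745344)) = true := by decide +kernel
theorem chk760 : subM 1247843559599663317098317217792 1265174720149658640946904956928 = true := by decide +kernel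
theorem chk761 : band (fixL (fun c v => (app2 275 276 9) (pr2 197136 c) v) (fun x => x) R [94, 95, 96, 97, 98, 99] pt753c) (subM 1247843559599663317098317217792 (insL [94, 95, 96, 97, 98, 99] 0)) = true := by decide +kernel
theorem chk767 : band (pieces (fun c v => (app2 275 276 9) (pr2 197136 c) v) (fun x => x) tab765 R 1265174720149658640946904956928 [91, 92, 93, 94, 95, 96, 97, 98, 99] pt753c l766) (allL l766 fun p => subW 1265174720149658640946904956928 p.2.1) = true := by decide +kernel
theorem chk768 : cover 56 [0] (l766) 0 = true := by decide +kernel
theorem chk770 : subM 1109194275199700726309615304704 1247843559599663317098317217792 = true := by decide +kernel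
theorem chk771 : band (fixL (fun c v => (app2 275 276 9) (pr2 197136 c) v) (fun x => x) R [97, 98, 99] pt754c) (subM 1109194275199700726309615304704 (insL [97, 98, 99] 0)) = true := by decide +kernel
theorem chk777 : band (pieces (fun c v => (app2 275 276 9) (pr2 197136 c) v) (fun x => x) tab775 R 1247843559599663317098317217792 [94, 95, 96, 97, 98, 99] pt754c l776) (allL l776 fun p => subW 1247843559599663317098317217792 p.2.1) = true := by decide +kernel
theorem chk778 : cover 45 [0] (l776) 0 = true := by decide +kernel
theorem chk780 : subM 633825300114114700748351602688 1109194275199700726309615304704 = true := by decide +kernel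
theorem chk781 : band (fixL (fun c v => (app2 275 276 9) (pr2 197136 c) v) (fun x => x) R [99] pt755c) (subM 633825300114114700748351602688 (insL [99] 0)) = true := by decide +kernel
theorem chk787 : band (pieces (fun c v => (app2 275 276 9) (pr2 197136 c) v) (fun x => x) tab785 R 1109194275199700726309615304704 [97, 98, 99] pt755c l786) (allL l786 fun p => subW 1109194275199700726309615304704 p.2.1) = true := by decide +kernel
theorem chk788 : cover 8 [0] (l786) 0 = true := by decide +kernel
theorem chk790 : subM 0 633825300114114700748351602688 = true := by decide +kernel
theorem chk791 : band (fixL (fun c v => P.app (pr1 197136 c) v) (fun x => x) R [] pt756c) (subM 0 (insL [] 0)) = true := by decide +kernel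
theorem chk797 : band (pieces (fun c v => P.app (pr1 197136 c) v) (fun x => x) tab795 R 633825300114114700748351602688 [99] pt756c l796) (allL l796 fun p => subW 633825300114114700748351602688 p.2.1) = true := by decide +kernel
theorem chk798 : cover 3 [0] (l796) 0 = true := by decide +kernel
theorem chk801 : band (conjA (prodOps 197136 P.ops (ops2 275)) R 70368756756480 70 l800) (subM 7427640235712281649394745344 (insL l800 0)) = true := by decide +kernel
theorem chk803 : dcRel (prodOps 197136 P.ops (ops2 275)) R 70368756756480 1180591620717415497728 70 22 l802 = true := by decide +kernel
theorem chk808 : band (pieces (fun c v => (app2 275 276 9) (pr2 197136 c) v) (fun x => x) tab806 R 1265174720149658640946904956928 [91, 92, 93, 94, 95, 96, 97, 98, 99] pt602c l807) (allL l807 fun p => subW 70368756756480 p.2.1) = true := by decide +kernel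
theorem chk809 : cover 112 (List.map Prod.fst (l802)) (l807) 0 = true := by decide +kernel
theorem chk811 : allL (List.map Prod.fst (l802)) (subW 70368756756480) = true := by decide +kernel
theorem chk812 : inDC (prodOps 197136 P.ops (ops2 275)) R 70368756756480 1180591620717415497728 (R 22) 0 22 = true := by decide +kernel
theorem chk813 : subM 510 8388606 = true := by decide +kernel
theorem chk815 : band (slp (prodOps 197136 P.ops (ops2 275)) R l814 1180591691086172254208) (subM 1180591691086172254238 (insL l814 1180591691086172254208)) = true := by decide +kernel
theorem chk818 : band (slp (prodOps 197136 P.ops (ops2 275)) R l817 1180591691086172254238) (subM 510 (insL l817 1180591691086172254238)) = true := by decide +kernel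
theorem chk828 : band (slp (prodOps 197136 P.ops (ops2 275)) R l827 510) (subM 79861987814378452294292301939198 (insL l827 510)) = true := by decide +kernel
theorem chk831 : band (slp (prodOps 197136 P.ops (ops2 275)) R l830 79861987814378452294292301939198) (subM 2594880778667185584863751461405182 (insL l830 79861987814378452294292301939198)) = true := by decide +kernel
theorem chk834 : band (slp (prodOps 197136 P.ops (ops2 275)) R l833 2594880778667185584863751461405182) (subM 5191029207934599399128999626018814 (insL l833 2594880778667185584863751461405182)) = true := by decide +kernel
theorem chk836 : subM 5189761557334371169727502922809656 5191029207934599399128999626018814 = true := by decide +kernel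
theorem chk837 : band (fixL (fun c v => (app2 275 276 9) (pr2 197136 c) v) (fun x => x) R [3, 4, 5, 8, 101, 102, 103, 104, 105, 106, 107, 108, 109, 110, 111] pt820c) (subM 5189761557334371169727502922809656 (insL [3, 4, 5, 8, 101, 102, 103, 104, 105, 106, 107, 108, 109, 110, 111] 0)) = true := by decide +kernel
theorem chk843 : band (pieces (fun c v => (app2 275 276 9) (pr2 197136 c) v) (fun x => x) tab841 R 5191029207934599399128999626018814 [103, 104, 107, 100, 3, 6, 110, 5, 106, 1, 2, 7, 4, 109, 101, 108] pt820c l842) (allL l842 fun p => subW 5191029207934599399128999626018814 p.2.1) = true := by decide +kernel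
theorem chk844 : cover 275 [0] (l842) 0 = true := by decide +kernel
theorem chk846 : subM 5179620352532545334515529297166592 5189761557334371169727502922809656 = true := by decide +kernel
theorem chk847 : band (fixL (fun c v => (app2 275 276 9) (pr2 197136 c) v) (fun x => x) R [8, 101, 102, 104, 105, 106, 107, 108, 109, 110, 111] pt821c) (subM 5179620352532545334515529297166592 (insL [8, 101, 102, 104, 105, 106, 107, 108, 109, 110, 111] 0)) = true := by decide +kernel
theorem chk853 : band (pieces (fun c v => (app2 275 276 9) (pr2 197136 c) v) (fun x => x) tab851 R 5189761557334371169727502922809656 [3, 4, 5, 8, 101, 102, 103, 104, 105, 106, 107, 108, 109, 110, 111] pt821c l852) (allL l852 fun p => subW 5189761557334371169727502922809656 p.2.1) = true := by decide +kernel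
theorem chk854 : cover 112 [0] (l852) 0 = true := by decide +kernel
theorem chk856 : subM 5075673003313830523592799634325760 5179620352532545334515529297166592 = true := by decide +kernel
theorem chk857 : band (fixL (fun c v => (app2 275 276 9) (pr2 197136 c) v) (fun x => x) R [8, 102, 105, 107, 108, 109, 110, 111] pt822c) (subM 5075673003313830523592799634325760 (insL [8, 102, 105, 107, 108, 109, 110, 111] 0)) = true := by decide +kernel
theorem chk863 : band (pieces (fun c v => (app2 275 276 9) (pr2 197136 c) v) (fun x => x) tab861 R 5179620352532545334515529297166592 [8, 101, 102, 104, 105, 106, 107, 108, 109, 110, 111] pt822c l862) (allL l862 fun p => subW 5179620352532545334515529297166592 p.2.1) = true := by decide +kernel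
theorem chk864 : cover 30 [0] (l862) 0 = true := by decide +kernel
theorem chk866 : subM 4548330353618887092570171100889344 5075673003313830523592799634325760 = true := by decide +kernel
theorem chk867 : band (fixL (fun c v => (app2 275 276 9) (pr2 197136 c) v) (fun x => x) R [8, 102, 109, 110, 111] pt823c) (subM 4548330353618887092570171100889344 (insL [8, 102, 109, 110, 111] 0)) = true := by decide +kernel
theorem chk873 : band (pieces (fun c v => (app2 275 276 9) (pr2 197136 c) v) (fun x => x) tab871 R 5075673003313830523592799634325760 [8, 102, 105, 107, 108, 109, 110, 111] pt823c l872) (allL l872 fun p => subW 5075673003313830523592799634325760 p.2.1) = true := by decide +kernel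
theorem chk874 : cover 54 [0] (l872) 0 = true := by decide +kernel
theorem chk876 : subM 2601219031668326731871234977431552 4548330353618887092570171100889344 = true := by decide +kernel
theorem chk877 : band (fixL (fun c v => (app2 275 276 9) (pr2 197136 c) v) (fun x => x) R [102, 111] pt824c) (subM 2601219031668326731871234977431552 (insL [102, 111] 0)) = true := by decide +kernel
theorem chk883 : band (pieces (fun c v => (app2 275 276 9) (pr2 197136 c) v) (fun x => x) tab881 R 4548330353618887092570171100889344 [8, 102, 109, 110, 111] pt824c l882) (allL l882 fun p => subW 4548330353618887092570171100889344 p.2.1) = true := by decide +kernel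
theorem chk884 : cover 9 [0] (l882) 0 = true := by decide +kernel
theorem chk886 : subM 2596148429267413814265248164610048 2601219031668326731871234977431552 = true := by decide +kernel
theorem chk887 : band (fixL (fun c v => (app2 275 276 9) (pr2 197136 c) v) (fun x => x) R [111] pt825c) (subM 2596148429267413814265248164610048 (insL [111] 0)) = true := by decide +kernel
theorem chk893 : band (pieces (fun c v => (app2 275 276 9) (pr2 197136 c) v) (fun x => x) tab891 R 2601219031668326731871234977431552 [102, 111] pt825c l892) (allL l892 fun p => subW 2601219031668326731871234977431552 p.2.1) = true := by decide +kernel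
theorem chk894 : cover 2 [0] (l892) 0 = true := by decide +kernel
theorem chk896 : subM 0 2596148429267413814265248164610048 = true := by decide +kernel
theorem chk897 : band (fixL (fun c v => P.app (pr1 197136 c) v) (fun x => x) R [] pt826c) (subM 0 (insL [] 0)) = true := by decide +kernel
theorem chk903 : band (pieces (fun c v => P.app (pr1 197136 c) v) (fun x => x) tab901 R 2596148429267413814265248164610048 [111] pt826c l902) (allL l902 fun p => subW 2596148429267413814265248164610048 p.2.1) = true := by decide +kernel
theorem chk904 : cover 3 [0] (l902) 0 = true := by decide +kernel
theorem chk910 : band (pieces (fun c v => (app2 275 276 9) (pr2 197136 c) v) (fun x => x) tab908 R 4548330353618887092570171100889344 [8, 102, 109, 110, 111] pt824c l909) (allL l909 fun p => subW 4548330353618887092570171100889344 p.2.1) = true := by decide +kernel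
theorem chk911 : cover 8 [0] (l909) 0 = true := by decide +kernel
theorem chk912 : band (fixL (fun c v => (app2 275 276 9) (pr2 197136 c) v) (fun x => x) R [9] pt824c) (subM 512 (insL [9] 0)) = true := by decide +kernel
theorem chk918 : band (pieces (fun c v => (app2 275 276 9) (pr2 197136 c) v) (fun x => x) tab916 R 5075673003313830523592799634325760 [8, 102, 105, 107, 108, 109, 110, 111] pt823c l917) (allL l917 fun p => subW 5075673003313830523592799634325760 p.2.1) = true := by decide +kernel
theorem chk919 : cover 48 [0] (l917) 0 = true := by decide +kernel
theorem chk920 : band (fixL (fun c v => (app2 275 276 9) (pr2 197136 c) v) (fun x => x) R [9] pt823c) (subM 512 (insL [9] 0)) = true := by decide +kernel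
theorem chk926 : band (pieces (fun c v => (app2 275 276 9) (pr2 197136 c) v) (fun x => x) tab924 R 5179620352532545334515529297166592 [8, 101, 102, 104, 105, 106, 107, 108, 109, 110, 111] pt822c l925) (allL l925 fun p => subW 5179620352532545334515529297166592 p.2.1) = true := by decide +kernel
theorem chk927 : cover 24 [0] (l925) 0 = true := by decide +kernel
theorem chk928 : band (fixL (fun c v => (app2 275 276 9) (pr2 197136 c) v) (fun x => x) R [9] pt822c) (subM 512 (insL [9] 0)) = true := by decide +kernel
theorem chk934 : band (pieces (fun c v => (app2 275 276 9) (pr2 197136 c) v) (fun x => x) tab932 R 5189761557334371169727502922809656 [3, 4, 5, 8, 101, 102, 103, 104, 105, 106, 107, 108, 109, 110, 111] pt821c l933) (allL l933 fun p => subW 5189761557334371169727502922809656 p.2.1) = true := by decide +kernel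
theorem chk935 : cover 96 [0] (l933) 0 = true := by decide +kernel
theorem chk936 : band (fixL (fun c v => (app2 275 276 9) (pr2 197136 c) v) (fun x => x) R [9] pt821c) (subM 512 (insL [9] 0)) = true := by decide +kernel
theorem chk942 : band (pieces (fun c v => (app2 275 276 9) (pr2 197136 c) v) (fun x => x) tab940 R 5191029207934599399128999626018814 [103, 104, 107, 100, 3, 6, 110, 5, 106, 1, 2, 7, 4, 109, 101, 108] pt820c l941) (allL l941 fun p => subW 5191029207934599399128999626018814 p.2.1) = true := by decide +kernel
theorem chk943 : cover 240 [0] (l941) 0 = true := by decide +kernel
theorem chk944 : band (fixL (fun c v => (app2 275 276 9) (pr2 197136 c) v) (fun x => x) R [9] pt820c) (subM 512 (insL [9] 0)) = true := by decide +kernel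
theorem chk946 : subM 382 8388606 = true := by decide +kernel
theorem chk951 : band (slp (prodOps 197136 P.ops (ops2 275)) R l950 382) (subM 1324035698926381045275276563951124862 (insL l950 382)) = true := by decide +kernel
theorem chk953 : subM 1318843402067846217646746067621904696 1324035698926381045275276563951124862 = true := by decide +kernel
theorem chk954 : band (fixL (fun c v => (app2 275 276 9) (pr2 197136 c) v) (fun x => x) R [3, 4, 5, 8, 113, 114, 115, 116, 117, 118, 119] pt820c) (subM 1318843402067846217646746067621904696 (insL [3, 4, 5, 8, 113, 114, 115, 116, 117, 118, 119] 0)) = true := by decide +kernel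
theorem chk960 : band (pieces (fun c v => (app2 275 276 9) (pr2 197136 c) v) (fun x => x) tab958 R 1324035698926381045275276563951124862 [1, 2, 3, 4, 5, 6, 8, 112, 113, 114, 115, 116, 117, 118, 119] pt820c l959) (allL l959 fun p => subW 1324035698926381045275276563951124862 p.2.1) = true := by decide +kernel
theorem chk961 : cover 35 [0] (l959) 0 = true := by decide +kernel
theorem chk963 : subM 1308458808350776562389685074963464448 1318843402067846217646746067621904696 = true := by decide +kernel
theorem chk964 : band (fixL (fun c v => (app2 275 276 9) (pr2 197136 c) v) (fun x => x) R [8, 114, 115, 116, 117, 118, 119] pt821c) (subM 1308458808350776562389685074963464448 (insL [8, 114, 115, 116, 117, 118, 119] 0)) = true := by decide +kernel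
theorem chk970 : band (pieces (fun c v => (app2 275 276 9) (pr2 197136 c) v) (fun x => x) tab968 R 1318843402067846217646746067621904696 [3, 4, 5, 8, 113, 114, 115, 116, 117, 118, 119] pt821c l969) (allL l969 fun p => subW 1318843402067846217646746067621904696 p.2.1) = true := by decide +kernel
theorem chk971 : cover 16 [0] (l969) 0 = true := by decide +kernel
theorem chk973 : subM 1121536121443522767762587207111540736 1308458808350776562389685074963464448 = true := by decide +kernel
theorem chk974 : band (fixL (fun c v => (app2 275 276 9) (pr2 197136 c) v) (fun x => x) R [115, 116, 118, 119] pt822c) (subM 1121536121443522767762587207111540736 (insL [115, 116, 118, 119] 0)) = true := by decide +kernel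
theorem chk980 : band (pieces (fun c v => (app2 275 276 9) (pr2 197136 c) v) (fun x => x) tab978 R 1308458808350776562389685074963464448 [8, 114, 115, 116, 117, 118, 119] pt822c l979) (allL l979 fun p => subW 1308458808350776562389685074963464448 p.2.1) = true := by decide +kernel
theorem chk981 : cover 6 [0] (l979) 0 = true := by decide +kernel
theorem chk983 : subM 996920996838686904677855295210258432 1121536121443522767762587207111540736 = true := by decide +kernel
theorem chk984 : band (fixL (fun c v => (app2 275 276 9) (pr2 197136 c) v) (fun x => x) R [118, 119] pt947c) (subM 996920996838686904677855295210258432 (insL [118, 119] 0)) = true := by decide +kernel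
theorem chk990 : band (pieces (fun c v => (app2 275 276 9) (pr2 197136 c) v) (fun x => x) tab988 R 1121536121443522767762587207111540736 [115, 116, 118, 119] pt947c l989) (allL l989 fun p => subW 1121536121443522767762587207111540736 p.2.1) = true := by decide +kernel
theorem chk991 : cover 6 [0] (l989) 0 = true := by decide +kernel
theorem chk993 : subM 664613997892457936451903530140172288 996920996838686904677855295210258432 = true := by decide +kernel
theorem chk994 : band (fixL (fun c v => (app2 275 276 9) (pr2 197136 c) v) (fun x => x) R [119] pt948c) (subM 664613997892457936451903530140172288 (insL [119] 0)) = true := by decide +kernel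
theorem chk1000 : band (pieces (fun c v => (app2 275 276 9) (pr2 197136 c) v) (fun x => x) tab998 R 996920996838686904677855295210258432 [118, 119] pt948c l999) (allL l999 fun p => subW 996920996838686904677855295210258432 p.2.1) = true := by decide +kernel
theorem chk1001 : cover 2 [0] (l999) 0 = true := by decide +kernel
theorem chk1003 : subM 0 664613997892457936451903530140172288 = true := by decide +kernel
theorem chk1004 : band (fixL (fun c v => P.app (pr1 197136 c) v) (fun x => x) R [] pt949c) (subM 0 (insL [] 0)) = true := by decide +kernel
theorem chk1010 : band (pieces (fun c v => P.app (pr1 197136 c) v) (fun x => x) tab1008 R 664613997892457936451903530140172288 [119] pt949c l1009) (allL l1009 fun p => subW 664613997892457936451903530140172288 p.2.1) = true := by decide +kernel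
theorem chk1011 : cover 3 [0] (l1009) 0 = true := by decide +kernel
theorem chk1013 : subM 382 5191029207934599399128999626018814 = true := by decide +kernel
theorem chk1014 : band (commL (prodOps 197136 P.ops (ops2 275)) R 9 [1, 2, 3, 4, 5, 6, 8]) (subM 382 (insL [1, 2, 3, 4, 5, 6, 8] 0)) = true := by decide +kernel
theorem chk1040 : band (pieces (fun c v => (app2 275 276 9) (pr2 197136 c) v) (fun x => x) tab1038 R 5191029207934599399128999626018814 [100, 103, 106, 107, 104, 6, 7, 109] pt1015c l1039) (allL l1039 fun p => subW 5191029207934599399128999626018814 p.2.1) = true := by decide +kernel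
theorem chk1042 : band (pieces (fun c v => (app2 275 276 9) (pr2 197136 c) v) (fun x => x) tab1038 R 5191029207934599399128999626018814 [100, 103, 106, 107, 104, 6, 7, 109] pt1015c l1041) (allL l1041 fun p => subW 5191029207934599399128999626018814 p.2.1) = true := by decide +kernel
theorem chk1044 : band (pieces (fun c v => (app2 275 276 9) (pr2 197136 c) v) (fun x => x) tab1038 R 5191029207934599399128999626018814 [100, 103, 106, 107, 104, 6, 7, 109] pt1015c l1043) (allL l1043 fun p => subW 5191029207934599399128999626018814 p.2.1) = true := by decide +kernel
theorem chk1045 : cover 22275 [0] (l1039 ++ (l1041 ++ (l1043))) 0 = true := by decide +kernel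
theorem chk1047 : band (fixL (fun c v => (app2 275 276 9) (pr2 197136 c) v) (fun x => x) R [1, 2, 3, 4, 5, 6, 8] pt1015c) (subM 382 (insL [1, 2, 3, 4, 5, 6, 8] 0)) = true := by decide +kernel
theorem chk1073 : band (pieces (fun c v => (app2 275 276 9) (pr2 197136 c) v) (fun x => x) tab1071 R 5191029207934599399128999626018814 [100, 103, 106, 107, 104, 6, 7, 109] pt1015c l1072) (allL l1072 fun p => subW 5191029207934599399128999626018814 p.2.1) = true := by decide +kernel
theorem chk1075 : band (pieces (fun c v => (app2 275 276 9) (pr2 197136 c) v) (fun x => x) tab1071 R 5191029207934599399128999626018814 [100, 103, 106, 107, 104, 6, 7, 109] pt1015c l1074) (allL l1074 fun p => subW 5191029207934599399128999626018814 p.2.1) = true := by decide +kernel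
end

end CfsgH6.LyM
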