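import Cfsg.Agent.H6.LyMK0
import Cfsg.Agent.H6.LyMK1
import Cfsg.Agent.H6.LyMK2

set_option autoImplicit false
set_option maxRecDepth 100000
set_option linter.all false
set_option Elab.async false

namespace CfsgH6.LyM

open CfsgH5 CfsgH6 Subgroup MulAction Pointwise

noncomputable section

theorem W0_m0 : CG.Mem R (CG.gen R 0) 0 := GC.Mem.gen (GC.Mem.zero ⊤)
theorem val3 : C1.Mem R1 ⊤ 8388606 := MC.mem_units (PP.mc P_ok) (PP.canF_sound P_ok) chk2
theorem val6 : C2.Mem R2 ⊤ 14 := MC.mem_units (mc2 275) (can2_sound (by decide)) chk5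
theorem val9 : C2.Mem R2 ⊤ 126 := val6.lor' (MC.mem_units (mc2 275) (can2_sound (by decide)) chk8) (by decide +kernel)
theorem val12 : C2.Mem R2 ⊤ 1022 := val9.lor' (MC.mem_units (mc2 275) (can2_sound (by decide)) chk11) (by decide +kernel)
theorem val15 : C2.Mem R2 ⊤ 8190 := val12.lor' (MC.mem_units (mc2 275) (can2_sound (by decide)) chk14) (by decide +kernel)
theorem val18 : C2.Mem R2 ⊤ 65534 := val15.lor' (MC.mem_units (mc2 275) (can2_sound (by decide)) chk17) (by decide +kernel)
theorem val21 : C2.Mem R2 ⊤ 524286 := val18.lor' (MC.mem_units (mc2 275) (can2_sound (by decide)) chk20) (by decide +kernel)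
theorem val24 : C2.Mem R2 ⊤ 4194302 := val21.lor' (MC.mem_units (mc2 275) (can2_sound (by decide)) chk23) (by decide +kernel)
theorem val27 : C2.Mem R2 ⊤ 8388606 := val24.lor' (MC.mem_units (mc2 275) (can2_sound (by decide)) chk26) (by decide +kernel)
theorem valp28 : CG.Mem R ⊤ 8388606 := (GC.mem_prod val3 val27).top
theorem W1_m0 : CG.Mem R (CG.gen R 4096) 4096 := GC.Mem.gen (valp28.sub chk29)
theorem W1_dvd : Nat.card (CG.gen R 4096) ∣ 3 := GC.card_ins (dvd_step (W0_m0.pc (m := 3) (w := 0) (valp28.get (i := 12) (by decide +kernel)) W0_m0.top chk31 chk32) GC.card_gen_zero (n := 3) (by decide +kernel)) (by decide +kernel)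
theorem W2_m0 : CG.Mem R (CG.gen R 12288) 12288 := GC.Mem.gen (valp28.sub chk33)
theorem W2_dvd : Nat.card (CG.gen R 12288) ∣ 9 := GC.card_ins (dvd_step (W1_m0.pc (m := 3) (w := 0) (valp28.get (i := 13) (by decide +kernel)) W1_m0.top chk35 chk36) W1_dvd (n := 9) (by decide +kernel)) (by decide +kernel)
theorem W3_m0 : CG.Mem R (CG.gen R 28672) 28672 := GC.Mem.gen (valp28.sub chk37)
theorem W3_dvd : Nat.card (CG.gen R 28672) ∣ 27 := GC.card_ins (dvd_step (W2_m0.pc (m := 3) (w := 0) (valp28.get (i := 14) (by decide +kernel)) W2_m0.top chk39 chk40) W2_dvd (n := 27) (by decide +kernel)) (by decide +kernel)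
theorem W4_m0 : CG.Mem R (CG.gen R 61440) 61440 := GC.Mem.gen (valp28.sub chk41)
theorem W4_dvd : Nat.card (CG.gen R 61440) ∣ 81 := GC.card_ins (dvd_step (W3_m0.pc (m := 3) (w := 0) (valp28.get (i := 15) (by decide +kernel)) W3_m0.top chk43 chk44) W3_dvd (n := 81) (by decide +kernel)) (by decide +kernel)
theorem W5_m0 : CG.Mem R (CG.gen R 126976) 126976 := GC.Mem.gen (valp28.sub chk45)
theorem W5_dvd : Nat.card (CG.gen R 126976) ∣ 243 := GC.card_ins (dvd_step (W4_m0.pc (m := 3) (w := 0) (valp28.get (i := 16) (by decide +kernel)) W4_m0.top chk47 chk48) W4_dvd (n := 243) (by decide +kernel)) (by decide +kernel)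
theorem W6_m0 : CG.Mem R (CG.gen R 258048) 258048 := GC.Mem.gen (valp28.sub chk49)
theorem W6_dvd : Nat.card (CG.gen R 258048) ∣ 729 := GC.card_ins (dvd_step (W5_m0.pc (m := 3) (w := 0) (valp28.get (i := 17) (by decide +kernel)) W5_m0.top chk51 chk52) W5_dvd (n := 729) (by decide +kernel)) (by decide +kernel)
theorem W7_m0 : CG.Mem R (CG.gen R 520192) 520192 := GC.Mem.gen (valp28.sub chk53)
theorem W7_dvd : Nat.card (CG.gen R 520192) ∣ 1458 := GC.card_ins (dvd_step (W6_m0.pc (m := 2) (w := 12300) (valp28.get (i := 18) (by decide +kernel)) W6_m0.top chk55 chk56) W6_dvd (n := 1458) (by decide +kernel)) (by decide +kernel)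
theorem W8_m0 : CG.Mem R (CG.gen R 1044480) 1044480 := GC.Mem.gen (valp28.sub chk57)
theorem W8_dvd : Nat.card (CG.gen R 1044480) ∣ 2916 := GC.card_ins (dvd_step (W7_m0.pc (m := 2) (w := 14869802945107688347221902354) (valp28.get (i := 19) (by decide +kernel)) W7_m0.top chk59 chk60) W7_dvd (n := 2916) (by decide +kernel)) (by decide +kernel)
theorem W8_ub : Nat.card (CG.gen R 1044480) ≤ 2916 := le_of_dvd' W8_dvd (by decide +kernel)
theorem pt62e : ∃ x, EP.Rep pt62c x := via_rep _ _ (act2_rep (n := 275) (d := 9) (by decide) (by decide) (c := 0x8000000000000000000000000000000000000000000000000000000) (by decide +kernel))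
noncomputable def pt62 := Classical.choose pt62e
theorem pt62r : EP.Rep pt62c pt62 := Classical.choose_spec pt62e
theorem Ya_m0 : CG.Mem R (CG.gen R 2093056) 2093056 := GC.Mem.gen (valp28.sub chk61)
theorem Ya_s0_65 : CG.Mem R (CG.gen R 2093056) 10481664 := Ya_m0.slp' chk64
theorem Ya_I : CG.Mem R (CG.gen R 2093056) 9437184 := Ya_s0_65.sub chk66
theorem YaK_in69 : CG.Mem R (CG.gen R 1044480) 50331648 := W8_m0.slp' chk68
theorem YaK_m0 : CG.Mem R (CG.gen R 50331648) 50331648 := GC.Mem.gen YaK_in69.top
theorem pt70e : ∃ x, EP.Rep pt70c x := via_rep _ _ (act2_rep (n := 275) (d := 9) (by decide) (by decide) (c := 0x1000) (by decide +kernel))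
noncomputable def pt70 := Classical.choose pt70e
theorem pt70r : EP.Rep pt70c pt70 := Classical.choose_spec pt70e
theorem pt71e : ∃ x, EP.Rep pt71c x := via_rep _ _ (act2_rep (n := 275) (d := 9) (by decide) (by decide) (c := 0x100) (by decide +kernel))
noncomputable def pt71 := Classical.choose pt71e
theorem pt71r : EP.Rep pt71c pt71 := Classical.choose_spec pt71e
theorem pt72e : ∃ x, EP.Rep pt72c x := via_rep _ _ (act2_rep (n := 275) (d := 9) (by decide) (by decide) (c := 0x1) (by decide +kernel))
noncomputable def pt72 := Classical.choose pt72e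
theorem pt72r : EP.Rep pt72c pt72 := Classical.choose_spec pt72e
theorem pt73e : ∃ x, EV.Rep pt73c x := via_rep _ _ (PP.exists_vec P_ok (c := 0x400010004000300000004000400020003000200040002000400030001000400040001000000010004000100010003000400040004000200000003000000030002000300040001000000040003000000020004000200010003000300010003000000040003000400030004000200020001000400030004000200000002000100000004000300000002000300010001000200010004000300030001000400000003000100030000000400000000000000020000000400010002000300000004000300030000000300000001000300030003000300000002000000040001) (by decide +kernel))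
noncomputable def pt73 := Classical.choose pt73e
theorem pt73r : EV.Rep pt73c pt73 := Classical.choose_spec pt73e
theorem YaK_s0_76 : CG.Mem R (CG.gen R 50331648) 520093696 := YaK_m0.slp' chk75
theorem YaK_c0i : CG.Mem R (CG.gen R 50331648) 469762048 := YaK_s0_76.sub chk77
theorem YaK_c0m : CG.Mem R (CG.gen R 469762048) 469762048 := YaK_c0i.gen
theorem fx79 : CG.gen R 469762048 ≤ stabilizer _ pt70 := Act.fix_sound YaK_c0i.top pt70r chk78
theorem cov86 : Cov (CG.gen R 50331648) (CG.wds R [0]) pt70 9 := Act.cov_of_seen (Act.pieces_sound YaK_s0_76 YaK_s0_76.top pt70r chk84) chk85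
theorem YaK_c1i : CG.Mem R (CG.gen R 469762048) 402653184 := YaK_c0m.sub chk87
theorem YaK_c1m : CG.Mem R (CG.gen R 402653184) 402653184 := YaK_c1i.gen
theorem fx89 : CG.gen R 402653184 ≤ stabilizer _ pt71 := Act.fix_sound YaK_c1i.top pt71r chk88
theorem cov96 : Cov (CG.gen R 469762048) (CG.wds R [0]) pt71 2 := Act.cov_of_seen (Act.pieces_sound YaK_c0m YaK_c0m.top pt71r chk94) chk95
theorem YaK_c2i : CG.Mem R (CG.gen R 402653184) 268435456 := YaK_c1m.sub chk97
theorem YaK_c2m : CG.Mem R (CG.gen R 268435456) 268435456 := YaK_c2i.gen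
theorem fx99 : CG.gen R 268435456 ≤ stabilizer _ pt72 := Act.fix_sound YaK_c2i.top pt72r chk98
theorem cov106 : Cov (CG.gen R 402653184) (CG.wds R [0]) pt72 2 := Act.cov_of_seen (Act.pieces_sound YaK_c1m YaK_c1m.top pt72r chk104) chk105
theorem YaK_c3i : CG.Mem R (CG.gen R 268435456) 0 := YaK_c2m.sub chk107
theorem YaK_c3m : CG.Mem R (CG.gen R 0) 0 := YaK_c3i.gen
theorem fx109 : CG.gen R 0 ≤ stabilizer _ pt73 := Act.fix_sound YaK_c3i.top pt73r chk108
theorem cov116 : Cov (CG.gen R 268435456) (CG.wds R [0]) pt73 3 := Act.cov_of_seen (Act.pieces_sound YaK_c2m YaK_c2m.top pt73r chk114) chk115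
theorem YaK_lb4 : 1 ≤ Nat.card (CG.gen R 0) := Nat.card_pos
theorem YaK_lo3 : 3 * Nat.card (CG.gen R 0) ≤ Nat.card (CG.gen R 268435456) := cov116.low le_rfl (GC.wds_zero _) YaK_c3i.gen_le fx109
theorem YaK_lb3 : 3 ≤ Nat.card (CG.gen R 268435456) := low_step YaK_lo3 YaK_lb4 (by decide +kernel)
theorem YaK_lo2 : 2 * Nat.card (CG.gen R 268435456) ≤ Nat.card (CG.gen R 402653184) := cov106.low le_rfl (GC.wds_zero _) YaK_c2i.gen_le fx99
theorem YaK_lb2 : 6 ≤ Nat.card (CG.gen R 402653184) := low_step YaK_lo2 YaK_lb3 (by decide +kernel)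
theorem YaK_lo1 : 2 * Nat.card (CG.gen R 402653184) ≤ Nat.card (CG.gen R 469762048) := cov96.low le_rfl (GC.wds_zero _) YaK_c1i.gen_le fx89
theorem YaK_lb1 : 12 ≤ Nat.card (CG.gen R 469762048) := low_step YaK_lo1 YaK_lb2 (by decide +kernel)
theorem YaK_lo0 : 9 * Nat.card (CG.gen R 469762048) ≤ Nat.card (CG.gen R 50331648) := cov86.low le_rfl (GC.wds_zero _) YaK_c0i.gen_le fx79
theorem YaK_lb0 : 108 ≤ Nat.card (CG.gen R 50331648) := low_step YaK_lo0 YaK_lb1 (by decide +kernel)
theorem fx120 : CG.gen R 50331648 ≤ stabilizer _ pt62 := Act.fix_sound YaK_in69.top pt62r chk119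
theorem Ya_Kc : ∀ κ ∈ (CG.gen R 50331648), (CG.el (R 20))⁻¹ * κ * CG.el (R 20) ∈ (CG.gen R 1044480) := W8_m0.conjB (Ya_m0.get (i := 20) (by decide +kernel)).top YaK_in69.top chk118
theorem YaT1_in144 : CG.Mem R (CG.gen R 1044480) 3758096384 := W8_m0.slp' chk143
theorem YaT1_m0 : CG.Mem R (CG.gen R 3758096384) 3758096384 := GC.Mem.gen YaT1_in144.top
theorem pt145e : ∃ x, EP.Rep pt145c x := via_rep _ _ (act2_rep (n := 275) (d := 9) (by decide) (by decide) (c := 0x20000000000000000000000000000000000000000000000000000) (by decide +kernel))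
noncomputable def pt145 := Classical.choose pt145e
theorem pt145r : EP.Rep pt145c pt145 := Classical.choose_spec pt145e
theorem pt146e : ∃ x, EP.Rep pt146c x := via_rep _ _ (act2_rep (n := 275) (d := 9) (by decide) (by decide) (c := 0x1) (by decide +kernel))
noncomputable def pt146 := Classical.choose pt146e
theorem pt146r : EP.Rep pt146c pt146 := Classical.choose_spec pt146e
theorem pt147e : ∃ x, EP.Rep pt147c x := via_rep _ _ (act2_rep (n := 275) (d := 9) (by decide) (by decide) (c := 0x2) (by decide +kernel))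
noncomputable def pt147 := Classical.choose pt147e
theorem pt147r : EP.Rep pt147c pt147 := Classical.choose_spec pt147e
theorem pt148e : ∃ x, EV.Rep pt148c x := via_rep _ _ (PP.exists_vec P_ok (c := 0x400010004000300000004000400020003000200040002000400030001000400040001000000010004000100010003000400040004000200000003000000030002000300040001000000040003000000020004000200010003000300010003000000040003000400030004000200020001000400030004000200000002000100000004000300000002000300010001000200010004000300030001000400000003000100030000000400000000000000020000000400010002000300000004000300030000000300000001000300030003000300000002000000040001) (by decide +kernel))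
noncomputable def pt148 := Classical.choose pt148e
theorem pt148r : EV.Rep pt148c pt148 := Classical.choose_spec pt148e
theorem YaT1_s0_151 : CG.Mem R (CG.gen R 3758096384) 68182605824 := YaT1_m0.slp' chk150
theorem YaT1_c0i : CG.Mem R (CG.gen R 3758096384) 64424509440 := YaT1_s0_151.sub chk152
theorem YaT1_c0m : CG.Mem R (CG.gen R 64424509440) 64424509440 := YaT1_c0i.gen
theorem fx154 : CG.gen R 64424509440 ≤ stabilizer _ pt145 := Act.fix_sound YaT1_c0i.top pt145r chk153
theorem cov161 : Cov (CG.gen R 3758096384) (CG.wds R [0]) pt145 2 := Act.cov_of_seen (Act.pieces_sound YaT1_s0_151 YaT1_s0_151.top pt145r chk159) chk160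
theorem YaT1_c1i : CG.Mem R (CG.gen R 64424509440) 51539607552 := YaT1_c0m.sub chk162
theorem YaT1_c1m : CG.Mem R (CG.gen R 51539607552) 51539607552 := YaT1_c1i.gen
theorem fx164 : CG.gen R 51539607552 ≤ stabilizer _ pt146 := Act.fix_sound YaT1_c1i.top pt146r chk163
theorem cov171 : Cov (CG.gen R 64424509440) (CG.wds R [0]) pt146 9 := Act.cov_of_seen (Act.pieces_sound YaT1_c0m YaT1_c0m.top pt146r chk169) chk170
theorem YaT1_c2i : CG.Mem R (CG.gen R 51539607552) 34359738368 := YaT1_c1m.sub chk172
theorem YaT1_c2m : CG.Mem R (CG.gen R 34359738368) 34359738368 := YaT1_c2i.gen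
theorem fx174 : CG.gen R 34359738368 ≤ stabilizer _ pt147 := Act.fix_sound YaT1_c2i.top pt147r chk173
theorem cov181 : Cov (CG.gen R 51539607552) (CG.wds R [0]) pt147 2 := Act.cov_of_seen (Act.pieces_sound YaT1_c1m YaT1_c1m.top pt147r chk179) chk180
theorem YaT1_c3i : CG.Mem R (CG.gen R 34359738368) 0 := YaT1_c2m.sub chk182
theorem YaT1_c3m : CG.Mem R (CG.gen R 0) 0 := YaT1_c3i.gen
theorem fx184 : CG.gen R 0 ≤ stabilizer _ pt148 := Act.fix_sound YaT1_c3i.top pt148r chk183
theorem cov191 : Cov (CG.gen R 34359738368) (CG.wds R [0]) pt148 3 := Act.cov_of_seen (Act.pieces_sound YaT1_c2m YaT1_c2m.top pt148r chk189) chk190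
theorem YaT1_lb4 : 1 ≤ Nat.card (CG.gen R 0) := Nat.card_pos
theorem YaT1_lo3 : 3 * Nat.card (CG.gen R 0) ≤ Nat.card (CG.gen R 34359738368) := cov191.low le_rfl (GC.wds_zero _) YaT1_c3i.gen_le fx184
theorem YaT1_lb3 : 3 ≤ Nat.card (CG.gen R 34359738368) := low_step YaT1_lo3 YaT1_lb4 (by decide +kernel)
theorem YaT1_lo2 : 2 * Nat.card (CG.gen R 34359738368) ≤ Nat.card (CG.gen R 51539607552) := cov181.low le_rfl (GC.wds_zero _) YaT1_c2i.gen_le fx174
theorem YaT1_lb2 : 6 ≤ Nat.card (CG.gen R 51539607552) := low_step YaT1_lo2 YaT1_lb3 (by decide +kernel)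
theorem YaT1_lo1 : 9 * Nat.card (CG.gen R 51539607552) ≤ Nat.card (CG.gen R 64424509440) := cov171.low le_rfl (GC.wds_zero _) YaT1_c1i.gen_le fx164
theorem YaT1_lb1 : 54 ≤ Nat.card (CG.gen R 64424509440) := low_step YaT1_lo1 YaT1_lb2 (by decide +kernel)
theorem YaT1_lo0 : 2 * Nat.card (CG.gen R 64424509440) ≤ Nat.card (CG.gen R 3758096384) := cov161.low le_rfl (GC.wds_zero _) YaT1_c0i.gen_le fx154
theorem YaT1_lb0 : 108 ≤ Nat.card (CG.gen R 3758096384) := low_step YaT1_lo0 YaT1_lb1 (by decide +kernel)
theorem Ya_T1c : ∀ τ ∈ (CG.gen R 3758096384), CG.el (R 20) * τ * (CG.el (R 20))⁻¹ ∈ (CG.gen R 1044480) := W8_m0.conjA (Ya_I.get (i := 20) (by decide +kernel)).top YaT1_in144.top chk193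
theorem cov202 : Cov (CG.gen R 3758096384) (CG.wds R (List.map Prod.fst (l194))) pt62 27 := Act.cov_of_seen (Act.pieces_sound YaT1_s0_151 W8_m0.top pt62r chk200) chk201
theorem Ya_T1d : Dec (CG.gen R 1044480) (CG.gen R 3758096384) (CG.wds R (List.map Prod.fst (l194))) (CG.gen R 50331648) := cov202.dec YaT1_in144.gen_le (GC.wds_sub W8_m0 chk203) YaK_in69.gen_le fx120 (up_low W8_ub YaK_lb0 (by decide +kernel))
theorem Ya_T1p : ∀ x ∈ DC1 (CG.gen R 1044480) (CG.el (R 20)), x * CG.el (R 20) ∈ DCs (CG.gen R 1044480) (CG.els R 9437184) := GC.dc_piece' Ya_T1d Ya_T1c Ya_Kc (W8_m0.dcRel Ya_I.top (Ya_I.get (i := 20) (by decide +kernel)).top (Ya_m0.get (i := 20) (by decide +kernel)).top chk195)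
theorem Ya_T1u : Nat.card (CG.gen R 1044480) ≤ 27 * Nat.card (CG.gen R 3758096384) := up_low W8_ub YaT1_lb0 (by decide +kernel)
theorem Ya_T1n : (DC1 (CG.gen R 1044480) (CG.el (R 20))).ncard ≤ Nat.card (CG.gen R 1044480) * 27 := ncard_DC1 YaT1_in144.gen_le Ya_T1c Ya_T1u
theorem YaT2_in283 : CG.Mem R (CG.gen R 1044480) 2130303778816 := W8_m0.slp' chk282
theorem YaT2_m0 : CG.Mem R (CG.gen R 2130303778816) 2130303778816 := GC.Mem.gen YaT2_in283.top
theorem pt284e : ∃ x, EP.Rep pt284c x := via_rep _ _ (act2_rep (n := 275) (d := 9) (by decide) (by decide) (c := 0x1) (by decide +kernel))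
noncomputable def pt284 := Classical.choose pt284e
theorem pt284r : EP.Rep pt284c pt284 := Classical.choose_spec pt284e
theorem pt285e : ∃ x, EP.Rep pt285c x := via_rep _ _ (act2_rep (n := 275) (d := 9) (by decide) (by decide) (c := 0x2) (by decide +kernel))
noncomputable def pt285 := Classical.choose pt285e
theorem pt285r : EP.Rep pt285c pt285 := Classical.choose_spec pt285e
theorem pt286e : ∃ x, EP.Rep pt286c x := via_rep _ _ (act2_rep (n := 275) (d := 9) (by decide) (by decide) (c := 0x4) (by decide +kernel))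
noncomputable def pt286 := Classical.choose pt286e
theorem pt286r : EP.Rep pt286c pt286 := Classical.choose_spec pt286e
theorem pt287e : ∃ x, EV.Rep pt287c x := via_rep _ _ (PP.exists_vec P_ok (c := 0x400010004000300000004000400020003000200040002000400030001000400040001000000010004000100010003000400040004000200000003000000030002000300040001000000040003000000020004000200010003000300010003000000040003000400030004000200020001000400030004000200000002000100000004000300000002000300010001000200010004000300030001000400000003000100030000000400000000000000020000000400010002000300000004000300030000000300000001000300030003000300000002000000040001) (by decide +kernel))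
noncomputable def pt287 := Classical.choose pt287e
theorem pt287r : EV.Rep pt287c pt287 := Classical.choose_spec pt287e
theorem YaT2_s0_290 : CG.Mem R (CG.gen R 2130303778816) 70300024700928 := YaT2_m0.slp' chk289
theorem YaT2_c0i : CG.Mem R (CG.gen R 2130303778816) 68169720922112 := YaT2_s0_290.sub chk291
theorem YaT2_c0m : CG.Mem R (CG.gen R 68169720922112) 68169720922112 := YaT2_c0i.gen
theorem fx293 : CG.gen R 68169720922112 ≤ stabilizer _ pt284 := Act.fix_sound YaT2_c0i.top pt284r chk292
theorem cov300 : Cov (CG.gen R 2130303778816) (CG.wds R [0]) pt284 27 := Act.cov_of_seen (Act.pieces_sound YaT2_s0_290 YaT2_s0_290.top pt284r chk298) chk299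
theorem YaT2_c1i : CG.Mem R (CG.gen R 68169720922112) 52776558133248 := YaT2_c0m.sub chk301
theorem YaT2_c1m : CG.Mem R (CG.gen R 52776558133248) 52776558133248 := YaT2_c1i.gen
theorem fx303 : CG.gen R 52776558133248 ≤ stabilizer _ pt285 := Act.fix_sound YaT2_c1i.top pt285r chk302
theorem cov310 : Cov (CG.gen R 68169720922112) (CG.wds R [0]) pt285 9 := Act.cov_of_seen (Act.pieces_sound YaT2_c0m YaT2_c0m.top pt285r chk308) chk309
theorem YaT2_c2i : CG.Mem R (CG.gen R 52776558133248) 35184372088832 := YaT2_c1m.sub chk311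
theorem YaT2_c2m : CG.Mem R (CG.gen R 35184372088832) 35184372088832 := YaT2_c2i.gen
theorem fx313 : CG.gen R 35184372088832 ≤ stabilizer _ pt286 := Act.fix_sound YaT2_c2i.top pt286r chk312
theorem cov320 : Cov (CG.gen R 52776558133248) (CG.wds R [0]) pt286 2 := Act.cov_of_seen (Act.pieces_sound YaT2_c1m YaT2_c1m.top pt286r chk318) chk319
theorem YaT2_c3i : CG.Mem R (CG.gen R 35184372088832) 0 := YaT2_c2m.sub chk321
theorem YaT2_c3m : CG.Mem R (CG.gen R 0) 0 := YaT2_c3i.gen
theorem fx323 : CG.gen R 0 ≤ stabilizer _ pt287 := Act.fix_sound YaT2_c3i.top pt287r chk322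
theorem cov330 : Cov (CG.gen R 35184372088832) (CG.wds R [0]) pt287 3 := Act.cov_of_seen (Act.pieces_sound YaT2_c2m YaT2_c2m.top pt287r chk328) chk329
theorem YaT2_lb4 : 1 ≤ Nat.card (CG.gen R 0) := Nat.card_pos
theorem YaT2_lo3 : 3 * Nat.card (CG.gen R 0) ≤ Nat.card (CG.gen R 35184372088832) := cov330.low le_rfl (GC.wds_zero _) YaT2_c3i.gen_le fx323
theorem YaT2_lb3 : 3 ≤ Nat.card (CG.gen R 35184372088832) := low_step YaT2_lo3 YaT2_lb4 (by decide +kernel)
theorem YaT2_lo2 : 2 * Nat.card (CG.gen R 35184372088832) ≤ Nat.card (CG.gen R 52776558133248) := cov320.low le_rfl (GC.wds_zero _) YaT2_c2i.gen_le fx313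
theorem YaT2_lb2 : 6 ≤ Nat.card (CG.gen R 52776558133248) := low_step YaT2_lo2 YaT2_lb3 (by decide +kernel)
theorem YaT2_lo1 : 9 * Nat.card (CG.gen R 52776558133248) ≤ Nat.card (CG.gen R 68169720922112) := cov310.low le_rfl (GC.wds_zero _) YaT2_c1i.gen_le fx303
theorem YaT2_lb1 : 54 ≤ Nat.card (CG.gen R 68169720922112) := low_step YaT2_lo1 YaT2_lb2 (by decide +kernel)
theorem YaT2_lo0 : 27 * Nat.card (CG.gen R 68169720922112) ≤ Nat.card (CG.gen R 2130303778816) := cov300.low le_rfl (GC.wds_zero _) YaT2_c0i.gen_le fx293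
theorem YaT2_lb0 : 1458 ≤ Nat.card (CG.gen R 2130303778816) := low_step YaT2_lo0 YaT2_lb1 (by decide +kernel)
theorem Ya_T2c : ∀ τ ∈ (CG.gen R 2130303778816), CG.el (R 23) * τ * (CG.el (R 23))⁻¹ ∈ (CG.gen R 1044480) := W8_m0.conjA (Ya_I.get (i := 23) (by decide +kernel)).top YaT2_in283.top chk332
theorem cov341 : Cov (CG.gen R 2130303778816) (CG.wds R (List.map Prod.fst (l333))) pt62 27 := Act.cov_of_seen (Act.pieces_sound YaT2_s0_290 W8_m0.top pt62r chk339) chk340
theorem Ya_T2d : Dec (CG.gen R 1044480) (CG.gen R 2130303778816) (CG.wds R (List.map Prod.fst (l333))) (CG.gen R 50331648) := cov341.dec YaT2_in283.gen_le (GC.wds_sub W8_m0 chk342) YaK_in69.gen_le fx120 (up_low W8_ub YaK_lb0 (by decide +kernel))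
theorem Ya_T2p : ∀ x ∈ DC1 (CG.gen R 1044480) (CG.el (R 23)), x * CG.el (R 20) ∈ DCs (CG.gen R 1044480) (CG.els R 9437184) := GC.dc_piece' Ya_T2d Ya_T2c Ya_Kc (W8_m0.dcRel Ya_I.top (Ya_I.get (i := 23) (by decide +kernel)).top (Ya_m0.get (i := 20) (by decide +kernel)).top chk334)
theorem Ya_T2u : Nat.card (CG.gen R 1044480) ≤ 2 * Nat.card (CG.gen R 2130303778816) := up_low W8_ub YaT2_lb0 (by decide +kernel)
theorem Ya_T2n : (DC1 (CG.gen R 1044480) (CG.el (R 23))).ncard ≤ Nat.card (CG.gen R 1044480) * 2 := ncard_DC1 YaT2_in283.gen_le Ya_T2c Ya_T2u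
theorem Ya_dc : ∀ x ∈ (CG.gen R 2093056), x ∈ DCs (CG.gen R 1044480) (CG.els R 9437184) := GC.dc_gen (MU := 1048576) W8_m0 (by decide +kernel) (GC.forall_els (L := [20]) (forall_cons ⟨W8_m0.inDC' Ya_I.top (Ya_m0.get (i := 20) (by decide +kernel)).top chk343, GC.forall_els (L := [20, 23]) (forall_cons Ya_T1p (forall_cons Ya_T2p forall_nil)) (by decide +kernel)⟩ forall_nil) (by decide +kernel))
theorem Ya_cs : ∀ p ∈ ([(20, 27), (23, 2)] : List (ℕ × ℕ)), (DC1 (CG.gen R 1044480) (CG.el (R p.1))).ncard ≤ Nat.card (CG.gen R 1044480) * p.2 := (forall_cons Ya_T1n (forall_cons Ya_T2n forall_nil))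
theorem Ya_ix : Nat.card (CG.gen R 2093056) ≤ 30 * Nat.card (CG.gen R 1044480) := GC.card_dc [(20, 27), (23, 2)] Ya_dc Ya_cs (by decide +kernel)
theorem Ya_ub : Nat.card (CG.gen R 2093056) ≤ 87480 := up_mul Ya_ix W8_ub (by decide +kernel)
theorem pt345e : ∃ x, EP.Rep pt345c x := via_rep _ _ (act2_rep (n := 275) (d := 9) (by decide) (by decide) (c := 0x400000000000000000000000000000000000000000000000000) (by decide +kernel))
noncomputable def pt345 := Classical.choose pt345e
theorem pt345r : EP.Rep pt345c pt345 := Classical.choose_spec pt345e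
theorem Yb_m0 : CG.Mem R (CG.gen R 4190208) 4190208 := GC.Mem.gen (valp28.sub chk344)
theorem Yb_m1 : CG.Mem R (CG.gen R 4190208) 12578816 := Yb_m0.lor' (Ya_s0_65.mono (Yb_m0.sub chk346).gen_le) chk347
theorem Yb_s1_350 : CG.Mem R (CG.gen R 4190208) 70368756756480 := Yb_m1.slp' chk349
theorem Yb_I : CG.Mem R (CG.gen R 4190208) 70368746274816 := Yb_s1_350.sub chk351
theorem YbK_in381 : CG.Mem R (CG.gen R 2093056) 985162418487296 := Ya_s0_65.slp' chk380
theorem YbK_m0 : CG.Mem R (CG.gen R 985162418487296) 985162418487296 := GC.Mem.gen YbK_in381.top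
theorem pt382e : ∃ x, EP.Rep pt382c x := via_rep _ _ (act2_rep (n := 275) (d := 9) (by decide) (by decide) (c := 0x2) (by decide +kernel))
noncomputable def pt382 := Classical.choose pt382e
theorem pt382r : EP.Rep pt382c pt382 := Classical.choose_spec pt382e
theorem pt383e : ∃ x, EP.Rep pt383c x := via_rep _ _ (act2_rep (n := 275) (d := 9) (by decide) (by decide) (c := 0x1) (by decide +kernel))
noncomputable def pt383 := Classical.choose pt383e
theorem pt383r : EP.Rep pt383c pt383 := Classical.choose_spec pt383e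
theorem pt384e : ∃ x, EP.Rep pt384c x := via_rep _ _ (act2_rep (n := 275) (d := 9) (by decide) (by decide) (c := 0x4) (by decide +kernel))
noncomputable def pt384 := Classical.choose pt384e
theorem pt384r : EP.Rep pt384c pt384 := Classical.choose_spec pt384e
theorem pt385e : ∃ x, EV.Rep pt385c x := via_rep _ _ (PP.exists_vec P_ok (c := 0x400010004000300000004000400020003000200040002000400030001000400040001000000010004000100010003000400040004000200000003000000030002000300040001000000040003000000020004000200010003000300010003000000040003000400030004000200020001000400030004000200000002000100000004000300000002000300010001000200010004000300030001000400000003000100030000000400000000000000020000000400010002000300000004000300030000000300000001000300030003000300000002000000040001) (by decide +kernel))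
noncomputable def pt385 := Classical.choose pt385e
theorem pt385r : EV.Rep pt385c pt385 := Classical.choose_spec pt385e
theorem YbK_s0_388 : CG.Mem R (CG.gen R 985162418487296) 17873661021126656 := YbK_m0.slp' chk387
theorem YbK_c0i : CG.Mem R (CG.gen R 985162418487296) 16888498602639360 := YbK_s0_388.sub chk389
theorem YbK_c0m : CG.Mem R (CG.gen R 16888498602639360) 16888498602639360 := YbK_c0i.gen
theorem fx391 : CG.gen R 16888498602639360 ≤ stabilizer _ pt382 := Act.fix_sound YbK_c0i.top pt382r chk390
theorem cov398 : Cov (CG.gen R 985162418487296) (CG.wds R [0]) pt382 27 := Act.cov_of_seen (Act.pieces_sound YbK_s0_388 YbK_s0_388.top pt382r chk396) chk397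
theorem YbK_c1i : CG.Mem R (CG.gen R 16888498602639360) 13510798882111488 := YbK_c0m.sub chk399
theorem YbK_c1m : CG.Mem R (CG.gen R 13510798882111488) 13510798882111488 := YbK_c1i.gen
theorem fx401 : CG.gen R 13510798882111488 ≤ stabilizer _ pt383 := Act.fix_sound YbK_c1i.top pt383r chk400
theorem cov408 : Cov (CG.gen R 16888498602639360) (CG.wds R [0]) pt383 18 := Act.cov_of_seen (Act.pieces_sound YbK_c0m YbK_c0m.top pt383r chk406) chk407
theorem YbK_c2i : CG.Mem R (CG.gen R 13510798882111488) 9007199254740992 := YbK_c1m.sub chk409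
theorem YbK_c2m : CG.Mem R (CG.gen R 9007199254740992) 9007199254740992 := YbK_c2i.gen
theorem fx411 : CG.gen R 9007199254740992 ≤ stabilizer _ pt384 := Act.fix_sound YbK_c2i.top pt384r chk410
theorem cov418 : Cov (CG.gen R 13510798882111488) (CG.wds R [0]) pt384 2 := Act.cov_of_seen (Act.pieces_sound YbK_c1m YbK_c1m.top pt384r chk416) chk417
theorem YbK_c3i : CG.Mem R (CG.gen R 9007199254740992) 0 := YbK_c2m.sub chk419
theorem YbK_c3m : CG.Mem R (CG.gen R 0) 0 := YbK_c3i.gen
theorem fx421 : CG.gen R 0 ≤ stabilizer _ pt385 := Act.fix_sound YbK_c3i.top pt385r chk420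
theorem cov428 : Cov (CG.gen R 9007199254740992) (CG.wds R [0]) pt385 3 := Act.cov_of_seen (Act.pieces_sound YbK_c2m YbK_c2m.top pt385r chk426) chk427
theorem YbK_lb4 : 1 ≤ Nat.card (CG.gen R 0) := Nat.card_pos
theorem YbK_lo3 : 3 * Nat.card (CG.gen R 0) ≤ Nat.card (CG.gen R 9007199254740992) := cov428.low le_rfl (GC.wds_zero _) YbK_c3i.gen_le fx421
theorem YbK_lb3 : 3 ≤ Nat.card (CG.gen R 9007199254740992) := low_step YbK_lo3 YbK_lb4 (by decide +kernel)
theorem YbK_lo2 : 2 * Nat.card (CG.gen R 9007199254740992) ≤ Nat.card (CG.gen R 13510798882111488) := cov418.low le_rfl (GC.wds_zero _) YbK_c2i.gen_le fx411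
theorem YbK_lb2 : 6 ≤ Nat.card (CG.gen R 13510798882111488) := low_step YbK_lo2 YbK_lb3 (by decide +kernel)
theorem YbK_lo1 : 18 * Nat.card (CG.gen R 13510798882111488) ≤ Nat.card (CG.gen R 16888498602639360) := cov408.low le_rfl (GC.wds_zero _) YbK_c1i.gen_le fx401
theorem YbK_lb1 : 108 ≤ Nat.card (CG.gen R 16888498602639360) := low_step YbK_lo1 YbK_lb2 (by decide +kernel)
theorem YbK_lo0 : 27 * Nat.card (CG.gen R 16888498602639360) ≤ Nat.card (CG.gen R 985162418487296) := cov398.low le_rfl (GC.wds_zero _) YbK_c0i.gen_le fx391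
theorem YbK_lb0 : 2916 ≤ Nat.card (CG.gen R 985162418487296) := low_step YbK_lo0 YbK_lb1 (by decide +kernel)
theorem fx432 : CG.gen R 985162418487296 ≤ stabilizer _ pt345 := Act.fix_sound YbK_in381.top pt345r chk431
theorem Yb_Kc : ∀ κ ∈ (CG.gen R 985162418487296), (CG.el (R 21))⁻¹ * κ * CG.el (R 21) ∈ (CG.gen R 2093056) := Ya_s0_65.conjB (Yb_m1.get (i := 21) (by decide +kernel)).top YbK_in381.top chk430
theorem YbT1_in462 : CG.Mem R (CG.gen R 2093056) 126100789566373888 := Ya_s0_65.slp' chk461
theorem YbT1_m0 : CG.Mem R (CG.gen R 126100789566373888) 126100789566373888 := GC.Mem.gen YbT1_in462.top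
theorem pt463e : ∃ x, EP.Rep pt463c x := via_rep _ _ (act2_rep (n := 275) (d := 9) (by decide) (by decide) (c := 0x200000000) (by decide +kernel))
noncomputable def pt463 := Classical.choose pt463e
theorem pt463r : EP.Rep pt463c pt463 := Classical.choose_spec pt463e
theorem pt464e : ∃ x, EP.Rep pt464c x := via_rep _ _ (act2_rep (n := 275) (d := 9) (by decide) (by decide) (c := 0x1) (by decide +kernel))
noncomputable def pt464 := Classical.choose pt464e
theorem pt464r : EP.Rep pt464c pt464 := Classical.choose_spec pt464e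
theorem pt465e : ∃ x, EP.Rep pt465c x := via_rep _ _ (act2_rep (n := 275) (d := 9) (by decide) (by decide) (c := 0x2) (by decide +kernel))
noncomputable def pt465 := Classical.choose pt465e
theorem pt465r : EP.Rep pt465c pt465 := Classical.choose_spec pt465e
theorem pt466e : ∃ x, EP.Rep pt466c x := via_rep _ _ (act2_rep (n := 275) (d := 9) (by decide) (by decide) (c := 0x4) (by decide +kernel))
noncomputable def pt466 := Classical.choose pt466e
theorem pt466r : EP.Rep pt466c pt466 := Classical.choose_spec pt466e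
theorem pt467e : ∃ x, EV.Rep pt467c x := via_rep _ _ (PP.exists_vec P_ok (c := 0x400010004000300000004000400020003000200040002000400030001000400040001000000010004000100010003000400040004000200000003000000030002000300040001000000040003000000020004000200010003000300010003000000040003000400030004000200020001000400030004000200000002000100000004000300000002000300010001000200010004000300030001000400000003000100030000000400000000000000020000000400010002000300000004000300030000000300000001000300030003000300000002000000040001) (by decide +kernel))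
noncomputable def pt467 := Classical.choose pt467e
theorem pt467r : EV.Rep pt467c pt467 := Classical.choose_spec pt467e
theorem YbT1_s0_470 : CG.Mem R (CG.gen R 126100789566373888) 18428729675200069632 := YbT1_m0.slp' chk469
theorem YbT1_c0i : CG.Mem R (CG.gen R 126100789566373888) 18302628885633695744 := YbT1_s0_470.sub chk471
theorem YbT1_c0m : CG.Mem R (CG.gen R 18302628885633695744) 18302628885633695744 := YbT1_c0i.gen
theorem fx473 : CG.gen R 18302628885633695744 ≤ stabilizer _ pt463 := Act.fix_sound YbT1_c0i.top pt463r chk472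
theorem cov480 : Cov (CG.gen R 126100789566373888) (CG.wds R [0]) pt463 2 := Act.cov_of_seen (Act.pieces_sound YbT1_s0_470 YbT1_s0_470.top pt463r chk478) chk479
theorem YbT1_c1i : CG.Mem R (CG.gen R 18302628885633695744) 17870283321406128128 := YbT1_c0m.sub chk481
theorem YbT1_c1m : CG.Mem R (CG.gen R 17870283321406128128) 17870283321406128128 := YbT1_c1i.gen
theorem fx483 : CG.gen R 17870283321406128128 ≤ stabilizer _ pt464 := Act.fix_sound YbT1_c1i.top pt464r chk482
theorem cov490 : Cov (CG.gen R 18302628885633695744) (CG.wds R [0]) pt464 27 := Act.cov_of_seen (Act.pieces_sound YbT1_c0m YbT1_c0m.top pt464r chk488) chk489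
theorem YbT1_c2i : CG.Mem R (CG.gen R 17870283321406128128) 13835058055282163712 := YbT1_c1m.sub chk491
theorem YbT1_c2m : CG.Mem R (CG.gen R 13835058055282163712) 13835058055282163712 := YbT1_c2i.gen
theorem fx493 : CG.gen R 13835058055282163712 ≤ stabilizer _ pt465 := Act.fix_sound YbT1_c2i.top pt465r chk492
theorem cov500 : Cov (CG.gen R 17870283321406128128) (CG.wds R [0]) pt465 9 := Act.cov_of_seen (Act.pieces_sound YbT1_c1m YbT1_c1m.top pt465r chk498) chk499
theorem YbT1_c3i : CG.Mem R (CG.gen R 13835058055282163712) 9223372036854775808 := YbT1_c2m.sub chk501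
theorem YbT1_c3m : CG.Mem R (CG.gen R 9223372036854775808) 9223372036854775808 := YbT1_c3i.gen
theorem fx503 : CG.gen R 9223372036854775808 ≤ stabilizer _ pt466 := Act.fix_sound YbT1_c3i.top pt466r chk502
theorem cov510 : Cov (CG.gen R 13835058055282163712) (CG.wds R [0]) pt466 2 := Act.cov_of_seen (Act.pieces_sound YbT1_c2m YbT1_c2m.top pt466r chk508) chk509
theorem YbT1_c4i : CG.Mem R (CG.gen R 9223372036854775808) 0 := YbT1_c3m.sub chk511
theorem YbT1_c4m : CG.Mem R (CG.gen R 0) 0 := YbT1_c4i.gen
theorem fx513 : CG.gen R 0 ≤ stabilizer _ pt467 := Act.fix_sound YbT1_c4i.top pt467r chk512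
theorem cov520 : Cov (CG.gen R 9223372036854775808) (CG.wds R [0]) pt467 3 := Act.cov_of_seen (Act.pieces_sound YbT1_c3m YbT1_c3m.top pt467r chk518) chk519
theorem YbT1_lb5 : 1 ≤ Nat.card (CG.gen R 0) := Nat.card_pos
theorem YbT1_lo4 : 3 * Nat.card (CG.gen R 0) ≤ Nat.card (CG.gen R 9223372036854775808) := cov520.low le_rfl (GC.wds_zero _) YbT1_c4i.gen_le fx513
theorem YbT1_lb4 : 3 ≤ Nat.card (CG.gen R 9223372036854775808) := low_step YbT1_lo4 YbT1_lb5 (by decide +kernel)
theorem YbT1_lo3 : 2 * Nat.card (CG.gen R 9223372036854775808) ≤ Nat.card (CG.gen R 13835058055282163712) := cov510.low le_rfl (GC.wds_zero _) YbT1_c3i.gen_le fx503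
theorem YbT1_lb3 : 6 ≤ Nat.card (CG.gen R 13835058055282163712) := low_step YbT1_lo3 YbT1_lb4 (by decide +kernel)
theorem YbT1_lo2 : 9 * Nat.card (CG.gen R 13835058055282163712) ≤ Nat.card (CG.gen R 17870283321406128128) := cov500.low le_rfl (GC.wds_zero _) YbT1_c2i.gen_le fx493
theorem YbT1_lb2 : 54 ≤ Nat.card (CG.gen R 17870283321406128128) := low_step YbT1_lo2 YbT1_lb3 (by decide +kernel)
theorem YbT1_lo1 : 27 * Nat.card (CG.gen R 17870283321406128128) ≤ Nat.card (CG.gen R 18302628885633695744) := cov490.low le_rfl (GC.wds_zero _) YbT1_c1i.gen_le fx483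
theorem YbT1_lb1 : 1458 ≤ Nat.card (CG.gen R 18302628885633695744) := low_step YbT1_lo1 YbT1_lb2 (by decide +kernel)
theorem YbT1_lo0 : 2 * Nat.card (CG.gen R 18302628885633695744) ≤ Nat.card (CG.gen R 126100789566373888) := cov480.low le_rfl (GC.wds_zero _) YbT1_c0i.gen_le fx473
theorem YbT1_lb0 : 2916 ≤ Nat.card (CG.gen R 126100789566373888) := low_step YbT1_lo0 YbT1_lb1 (by decide +kernel)
theorem Yb_T1c : ∀ τ ∈ (CG.gen R 126100789566373888), CG.el (R 21) * τ * (CG.el (R 21))⁻¹ ∈ (CG.gen R 2093056) := Ya_s0_65.conjA (Yb_I.get (i := 21) (by decide +kernel)).top YbT1_in462.top chk522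
theorem cov531 : Cov (CG.gen R 126100789566373888) (CG.wds R (List.map Prod.fst (l523))) pt345 30 := Act.cov_of_seen (Act.pieces_sound YbT1_s0_470 Ya_s0_65.top pt345r chk529) chk530
theorem Yb_T1d : Dec (CG.gen R 2093056) (CG.gen R 126100789566373888) (CG.wds R (List.map Prod.fst (l523))) (CG.gen R 985162418487296) := cov531.dec YbT1_in462.gen_le (GC.wds_sub Ya_s0_65 chk532) YbK_in381.gen_le fx432 (up_low Ya_ub YbK_lb0 (by decide +kernel))
theorem Yb_T1p : ∀ x ∈ DC1 (CG.gen R 2093056) (CG.el (R 21)), x * CG.el (R 21) ∈ DCs (CG.gen R 2093056) (CG.els R 70368746274816) := GC.dc_piece' Yb_T1d Yb_T1c Yb_Kc (Ya_s0_65.dcRel Yb_I.top (Yb_I.get (i := 21) (by decide +kernel)).top (Yb_m1.get (i := 21) (by decide +kernel)).top chk524)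
theorem Yb_T1u : Nat.card (CG.gen R 2093056) ≤ 30 * Nat.card (CG.gen R 126100789566373888) := up_low Ya_ub YbT1_lb0 (by decide +kernel)
theorem Yb_T1n : (DC1 (CG.gen R 2093056) (CG.el (R 21))).ncard ≤ Nat.card (CG.gen R 2093056) * 30 := ncard_DC1 YbT1_in462.gen_le Yb_T1c Yb_T1u
theorem YbT2_in540 : CG.Mem R (CG.gen R 2093056) 55340232221128654848 := Ya_s0_65.slp' chk539
theorem YbT2_m0 : CG.Mem R (CG.gen R 55340232221128654848) 55340232221128654848 := GC.Mem.gen YbT2_in540.top
theorem pt541e : ∃ x, EP.Rep pt541c x := via_rep _ _ (act2_rep (n := 275) (d := 9) (by decide) (by decide) (c := 0x8000) (by decide +kernel))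
noncomputable def pt541 := Classical.choose pt541e
theorem pt541r : EP.Rep pt541c pt541 := Classical.choose_spec pt541e
theorem pt542e : ∃ x, EP.Rep pt542c x := via_rep _ _ (act2_rep (n := 275) (d := 9) (by decide) (by decide) (c := 0x800) (by decide +kernel))
noncomputable def pt542 := Classical.choose pt542e
theorem pt542r : EP.Rep pt542c pt542 := Classical.choose_spec pt542e
theorem pt543e : ∃ x, EP.Rep pt543c x := via_rep _ _ (act2_rep (n := 275) (d := 9) (by decide) (by decide) (c := 0x1) (by decide +kernel))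
noncomputable def pt543 := Classical.choose pt543e
theorem pt543r : EP.Rep pt543c pt543 := Classical.choose_spec pt543e
theorem pt544e : ∃ x, EV.Rep pt544c x := via_rep _ _ (PP.exists_vec P_ok (c := 0x400010004000300000004000400020003000200040002000400030001000400040001000000010004000100010003000400040004000200000003000000030002000300040001000000040003000000020004000200010003000300010003000000040003000400030004000200020001000400030004000200000002000100000004000300000002000300010001000200010004000300030001000400000003000100030000000400000000000000020000000400010002000300000004000300030000000300000001000300030003000300000002000000040001) (by decide +kernel))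
noncomputable def pt544 := Classical.choose pt544e
theorem pt544r : EV.Rep pt544c pt544 := Classical.choose_spec pt544e
theorem YbT2_s0_547 : CG.Mem R (CG.gen R 55340232221128654848) 1162144876643701751808 := YbT2_m0.slp' chk546
theorem YbT2_c0i : CG.Mem R (CG.gen R 55340232221128654848) 1106804644422573096960 := YbT2_s0_547.sub chk548
theorem YbT2_c0m : CG.Mem R (CG.gen R 1106804644422573096960) 1106804644422573096960 := YbT2_c0i.gen
theorem fx550 : CG.gen R 1106804644422573096960 ≤ stabilizer _ pt541 := Act.fix_sound YbT2_c0i.top pt541r chk549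
theorem cov557 : Cov (CG.gen R 55340232221128654848) (CG.wds R [0]) pt541 10 := Act.cov_of_seen (Act.pieces_sound YbT2_s0_547 YbT2_s0_547.top pt541r chk555) chk556
theorem YbT2_c1i : CG.Mem R (CG.gen R 1106804644422573096960) 737869762948382064640 := YbT2_c0m.sub chk558
theorem YbT2_c1m : CG.Mem R (CG.gen R 737869762948382064640) 737869762948382064640 := YbT2_c1i.gen
theorem fx560 : CG.gen R 737869762948382064640 ≤ stabilizer _ pt542 := Act.fix_sound YbT2_c1i.top pt542r chk559
theorem cov567 : Cov (CG.gen R 1106804644422573096960) (CG.wds R [0]) pt542 18 := Act.cov_of_seen (Act.pieces_sound YbT2_c0m YbT2_c0m.top pt542r chk565) chk566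
theorem YbT2_c2i : CG.Mem R (CG.gen R 737869762948382064640) 590295810358705651712 := YbT2_c1m.sub chk568
theorem YbT2_c2m : CG.Mem R (CG.gen R 590295810358705651712) 590295810358705651712 := YbT2_c2i.gen
theorem fx570 : CG.gen R 590295810358705651712 ≤ stabilizer _ pt543 := Act.fix_sound YbT2_c2i.top pt543r chk569
theorem cov577 : Cov (CG.gen R 737869762948382064640) (CG.wds R [0]) pt543 2 := Act.cov_of_seen (Act.pieces_sound YbT2_c1m YbT2_c1m.top pt543r chk575) chk576
theorem YbT2_c3i : CG.Mem R (CG.gen R 590295810358705651712) 0 := YbT2_c2m.sub chk578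
theorem YbT2_c3m : CG.Mem R (CG.gen R 0) 0 := YbT2_c3i.gen
theorem fx580 : CG.gen R 0 ≤ stabilizer _ pt544 := Act.fix_sound YbT2_c3i.top pt544r chk579
theorem cov587 : Cov (CG.gen R 590295810358705651712) (CG.wds R [0]) pt544 3 := Act.cov_of_seen (Act.pieces_sound YbT2_c2m YbT2_c2m.top pt544r chk585) chk586
theorem YbT2_lb4 : 1 ≤ Nat.card (CG.gen R 0) := Nat.card_pos
theorem YbT2_lo3 : 3 * Nat.card (CG.gen R 0) ≤ Nat.card (CG.gen R 590295810358705651712) := cov587.low le_rfl (GC.wds_zero _) YbT2_c3i.gen_le fx580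
theorem YbT2_lb3 : 3 ≤ Nat.card (CG.gen R 590295810358705651712) := low_step YbT2_lo3 YbT2_lb4 (by decide +kernel)
theorem YbT2_lo2 : 2 * Nat.card (CG.gen R 590295810358705651712) ≤ Nat.card (CG.gen R 737869762948382064640) := cov577.low le_rfl (GC.wds_zero _) YbT2_c2i.gen_le fx570
theorem YbT2_lb2 : 6 ≤ Nat.card (CG.gen R 737869762948382064640) := low_step YbT2_lo2 YbT2_lb3 (by decide +kernel)
theorem YbT2_lo1 : 18 * Nat.card (CG.gen R 737869762948382064640) ≤ Nat.card (CG.gen R 1106804644422573096960) := cov567.low le_rfl (GC.wds_zero _) YbT2_c1i.gen_le fx560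
theorem YbT2_lb1 : 108 ≤ Nat.card (CG.gen R 1106804644422573096960) := low_step YbT2_lo1 YbT2_lb2 (by decide +kernel)
theorem YbT2_lo0 : 10 * Nat.card (CG.gen R 1106804644422573096960) ≤ Nat.card (CG.gen R 55340232221128654848) := cov557.low le_rfl (GC.wds_zero _) YbT2_c0i.gen_le fx550
theorem YbT2_lb0 : 1080 ≤ Nat.card (CG.gen R 55340232221128654848) := low_step YbT2_lo0 YbT2_lb1 (by decide +kernel)
theorem Yb_T2c : ∀ τ ∈ (CG.gen R 55340232221128654848), CG.el (R 46) * τ * (CG.el (R 46))⁻¹ ∈ (CG.gen R 2093056) := Ya_s0_65.conjA (Yb_I.get (i := 46) (by decide +kernel)).top YbT2_in540.top chk589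
theorem cov598 : Cov (CG.gen R 55340232221128654848) (CG.wds R (List.map Prod.fst (l590))) pt345 30 := Act.cov_of_seen (Act.pieces_sound YbT2_s0_547 Ya_s0_65.top pt345r chk596) chk597
theorem Yb_T2d : Dec (CG.gen R 2093056) (CG.gen R 55340232221128654848) (CG.wds R (List.map Prod.fst (l590))) (CG.gen R 985162418487296) := cov598.dec YbT2_in540.gen_le (GC.wds_sub Ya_s0_65 chk599) YbK_in381.gen_le fx432 (up_low Ya_ub YbK_lb0 (by decide +kernel))
theorem Yb_T2p : ∀ x ∈ DC1 (CG.gen R 2093056) (CG.el (R 46)), x * CG.el (R 21) ∈ DCs (CG.gen R 2093056) (CG.els R 70368746274816) := GC.dc_piece' Yb_T2d Yb_T2c Yb_Kc (Ya_s0_65.dcRel Yb_I.top (Yb_I.get (i := 46) (by decide +kernel)).top (Yb_m1.get (i := 21) (by decide +kernel)).top chk591)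
theorem Yb_T2u : Nat.card (CG.gen R 2093056) ≤ 81 * Nat.card (CG.gen R 55340232221128654848) := up_low Ya_ub YbT2_lb0 (by decide +kernel)
theorem Yb_T2n : (DC1 (CG.gen R 2093056) (CG.el (R 46))).ncard ≤ Nat.card (CG.gen R 2093056) * 81 := ncard_DC1 YbT2_in540.gen_le Yb_T2c Yb_T2u
theorem Yb_dc : ∀ x ∈ (CG.gen R 4190208), x ∈ DCs (CG.gen R 2093056) (CG.els R 70368746274816) := GC.dc_gen (MU := 2097152) Ya_s0_65 (by decide +kernel) (GC.forall_els (L := [21]) (forall_cons ⟨Ya_s0_65.inDC' Yb_I.top (Yb_m1.get (i := 21) (by decide +kernel)).top chk600, GC.forall_els (L := [21, 46]) (forall_cons Yb_T1p (forall_cons Yb_T2p forall_nil)) (by decide +kernel)⟩ forall_nil) (by decide +kernel))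
theorem Yb_cs : ∀ p ∈ ([(21, 30), (46, 81)] : List (ℕ × ℕ)), (DC1 (CG.gen R 2093056) (CG.el (R p.1))).ncard ≤ Nat.card (CG.gen R 2093056) * p.2 := (forall_cons Yb_T1n (forall_cons Yb_T2n forall_nil))
theorem Yb_ix : Nat.card (CG.gen R 4190208) ≤ 112 * Nat.card (CG.gen R 2093056) := GC.card_dc [(21, 30), (46, 81)] Yb_dc Yb_cs (by decide +kernel)
theorem Yb_ub : Nat.card (CG.gen R 4190208) ≤ 9797760 := up_mul Yb_ix Ya_ub (by decide +kernel)
theorem pt602e : ∃ x, EP.Rep pt602c x := via_rep _ _ (act2_rep (n := 275) (d := 9) (by decide) (by decide) (c := 0x100000) (by decide +kernel))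
noncomputable def pt602 := Classical.choose pt602e
theorem pt602r : EP.Rep pt602c pt602 := Classical.choose_spec pt602e
theorem Yc_m0 : CG.Mem R (CG.gen R 8384512) 8384512 := GC.Mem.gen (valp28.sub chk601)
theorem Yc_m1 : CG.Mem R (CG.gen R 8384512) 70368760950784 := Yc_m0.lor' (Yb_s1_350.mono (Yc_m0.sub chk603).gen_le) chk604
theorem Yc_s1_607 : CG.Mem R (CG.gen R 8384512) 1180591691086172254208 := Yc_m1.slp' chk606
theorem Yc_I : CG.Mem R (CG.gen R 8384512) 1180591620717415497728 := Yc_s1_607.sub chk608
theorem YcK_in611 : CG.Mem R (CG.gen R 4190208) 7083549724304467820544 := Yb_s1_350.slp' chk610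
theorem YcK_m0 : CG.Mem R (CG.gen R 7083549724304467820544) 7083549724304467820544 := GC.Mem.gen YcK_in611.top
theorem pt612e : ∃ x, EP.Rep pt612c x := via_rep _ _ (act2_rep (n := 275) (d := 9) (by decide) (by decide) (c := 0x2) (by decide +kernel))
noncomputable def pt612 := Classical.choose pt612e
theorem pt612r : EP.Rep pt612c pt612 := Classical.choose_spec pt612e
theorem pt613e : ∃ x, EP.Rep pt613c x := via_rep _ _ (act2_rep (n := 275) (d := 9) (by decide) (by decide) (c := 0x80) (by decide +kernel))
noncomputable def pt613 := Classical.choose pt613e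
theorem pt613r : EP.Rep pt613c pt613 := Classical.choose_spec pt613e
theorem pt614e : ∃ x, EP.Rep pt614c x := via_rep _ _ (act2_rep (n := 275) (d := 9) (by decide) (by decide) (c := 0x1) (by decide +kernel))
noncomputable def pt614 := Classical.choose pt614e
theorem pt614r : EP.Rep pt614c pt614 := Classical.choose_spec pt614e
theorem pt615e : ∃ x, EP.Rep pt615c x := via_rep _ _ (act2_rep (n := 275) (d := 9) (by decide) (by decide) (c := 0x4) (by decide +kernel))
noncomputable def pt615 := Classical.choose pt615e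
theorem pt615r : EP.Rep pt615c pt615 := Classical.choose_spec pt615e
theorem pt616e : ∃ x, EV.Rep pt616c x := via_rep _ _ (PP.exists_vec P_ok (c := 0x400010004000300000004000400020003000200040002000400030001000400040001000000010004000100010003000400040004000200000003000000030002000300040001000000040003000000020004000200010003000300010003000000040003000400030004000200020001000400030004000200000002000100000004000300000002000300010001000200010004000300030001000400000003000100030000000400000000000000020000000400010002000300000004000300030000000300000001000300030003000300000002000000040001) (by decide +kernel))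
noncomputable def pt616 := Classical.choose pt616e
theorem pt616r : EV.Rep pt616c pt616 := Classical.choose_spec pt616e
theorem YcK_s0_619 : CG.Mem R (CG.gen R 7083549724304467820544) 1206564636373194352099328 := YcK_m0.slp' chk618
theorem YcK_s0_622 : CG.Mem R (CG.gen R 7083549724304467820544) 9669045373675598575042560 := YcK_s0_619.slp' chk621
theorem YcK_c0i : CG.Mem R (CG.gen R 7083549724304467820544) 9652517090985554816794624 := YcK_s0_622.sub chk623
theorem YcK_c0m : CG.Mem R (CG.gen R 9652517090985554816794624) 9652517090985554816794624 := YcK_c0i.gen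
theorem fx625 : CG.gen R 9652517090985554816794624 ≤ stabilizer _ pt612 := Act.fix_sound YcK_c0i.top pt612r chk624
theorem cov632 : Cov (CG.gen R 7083549724304467820544) (CG.wds R [0]) pt612 30 := Act.cov_of_seen (Act.pieces_sound YcK_s0_622 YcK_s0_622.top pt612r chk630) chk631
theorem YcK_c1i : CG.Mem R (CG.gen R 9652517090985554816794624) 8802491124069018678329344 := YcK_c0m.sub chk633
theorem YcK_c1m : CG.Mem R (CG.gen R 8802491124069018678329344) 8802491124069018678329344 := YcK_c1i.gen
theorem fx635 : CG.gen R 8802491124069018678329344 ≤ stabilizer _ pt613 := Act.fix_sound YcK_c1i.top pt613r chk634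
theorem cov642 : Cov (CG.gen R 9652517090985554816794624) (CG.wds R [0]) pt613 54 := Act.cov_of_seen (Act.pieces_sound YcK_c0m YcK_c0m.top pt613r chk640) chk641
theorem YcK_c2i : CG.Mem R (CG.gen R 8802491124069018678329344) 7253554917687775048237056 := YcK_c1m.sub chk643
theorem YcK_c2m : CG.Mem R (CG.gen R 7253554917687775048237056) 7253554917687775048237056 := YcK_c2i.gen
theorem fx645 : CG.gen R 7253554917687775048237056 ≤ stabilizer _ pt614 := Act.fix_sound YcK_c2i.top pt614r chk644
theorem cov652 : Cov (CG.gen R 8802491124069018678329344) (CG.wds R [0]) pt614 9 := Act.cov_of_seen (Act.pieces_sound YcK_c1m YcK_c1m.top pt614r chk650) chk651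
theorem YcK_c3i : CG.Mem R (CG.gen R 7253554917687775048237056) 4835703278458516698824704 := YcK_c2m.sub chk653
theorem YcK_c3m : CG.Mem R (CG.gen R 4835703278458516698824704) 4835703278458516698824704 := YcK_c3i.gen
theorem fx655 : CG.gen R 4835703278458516698824704 ≤ stabilizer _ pt615 := Act.fix_sound YcK_c3i.top pt615r chk654
theorem cov662 : Cov (CG.gen R 7253554917687775048237056) (CG.wds R [0]) pt615 2 := Act.cov_of_seen (Act.pieces_sound YcK_c2m YcK_c2m.top pt615r chk660) chk661
theorem YcK_c4i : CG.Mem R (CG.gen R 4835703278458516698824704) 0 := YcK_c3m.sub chk663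
theorem YcK_c4m : CG.Mem R (CG.gen R 0) 0 := YcK_c4i.gen
theorem fx665 : CG.gen R 0 ≤ stabilizer _ pt616 := Act.fix_sound YcK_c4i.top pt616r chk664
theorem cov672 : Cov (CG.gen R 4835703278458516698824704) (CG.wds R [0]) pt616 3 := Act.cov_of_seen (Act.pieces_sound YcK_c3m YcK_c3m.top pt616r chk670) chk671
theorem YcK_lb5 : 1 ≤ Nat.card (CG.gen R 0) := Nat.card_pos
theorem YcK_lo4 : 3 * Nat.card (CG.gen R 0) ≤ Nat.card (CG.gen R 4835703278458516698824704) := cov672.low le_rfl (GC.wds_zero _) YcK_c4i.gen_le fx665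
theorem YcK_lb4 : 3 ≤ Nat.card (CG.gen R 4835703278458516698824704) := low_step YcK_lo4 YcK_lb5 (by decide +kernel)
theorem YcK_lo3 : 2 * Nat.card (CG.gen R 4835703278458516698824704) ≤ Nat.card (CG.gen R 7253554917687775048237056) := cov662.low le_rfl (GC.wds_zero _) YcK_c3i.gen_le fx655
theorem YcK_lb3 : 6 ≤ Nat.card (CG.gen R 7253554917687775048237056) := low_step YcK_lo3 YcK_lb4 (by decide +kernel)
theorem YcK_lo2 : 9 * Nat.card (CG.gen R 7253554917687775048237056) ≤ Nat.card (CG.gen R 8802491124069018678329344) := cov652.low le_rfl (GC.wds_zero _) YcK_c2i.gen_le fx645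
theorem YcK_lb2 : 54 ≤ Nat.card (CG.gen R 8802491124069018678329344) := low_step YcK_lo2 YcK_lb3 (by decide +kernel)
theorem YcK_lo1 : 54 * Nat.card (CG.gen R 8802491124069018678329344) ≤ Nat.card (CG.gen R 9652517090985554816794624) := cov642.low le_rfl (GC.wds_zero _) YcK_c1i.gen_le fx635
theorem YcK_lb1 : 2916 ≤ Nat.card (CG.gen R 9652517090985554816794624) := low_step YcK_lo1 YcK_lb2 (by decide +kernel)
theorem YcK_lo0 : 30 * Nat.card (CG.gen R 9652517090985554816794624) ≤ Nat.card (CG.gen R 7083549724304467820544) := cov632.low le_rfl (GC.wds_zero _) YcK_c0i.gen_le fx625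
theorem YcK_lb0 : 87480 ≤ Nat.card (CG.gen R 7083549724304467820544) := low_step YcK_lo0 YcK_lb1 (by decide +kernel)
theorem fx676 : CG.gen R 7083549724304467820544 ≤ stabilizer _ pt602 := Act.fix_sound YcK_in611.top pt602r chk675
theorem Yc_Kc : ∀ κ ∈ (CG.gen R 7083549724304467820544), (CG.el (R 22))⁻¹ * κ * CG.el (R 22) ∈ (CG.gen R 4190208) := Yb_s1_350.conjB (Yc_m1.get (i := 22) (by decide +kernel)).top YcK_in611.top chk674
theorem YcT1_in679 : CG.Mem R (CG.gen R 4190208) 29014219670751100192948224 := Yb_s1_350.slp' chk678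
theorem YcT1_m0 : CG.Mem R (CG.gen R 29014219670751100192948224) 29014219670751100192948224 := GC.Mem.gen YcT1_in679.top
theorem pt680e : ∃ x, EP.Rep pt680c x := via_rep _ _ (act2_rep (n := 275) (d := 9) (by decide) (by decide) (c := 0x2) (by decide +kernel))
noncomputable def pt680 := Classical.choose pt680e
theorem pt680r : EP.Rep pt680c pt680 := Classical.choose_spec pt680e
theorem pt681e : ∃ x, EP.Rep pt681c x := via_rep _ _ (act2_rep (n := 275) (d := 9) (by decide) (by decide) (c := 0x800) (by decide +kernel))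
noncomputable def pt681 := Classical.choose pt681e
theorem pt681r : EP.Rep pt681c pt681 := Classical.choose_spec pt681e
theorem pt682e : ∃ x, EP.Rep pt682c x := via_rep _ _ (act2_rep (n := 275) (d := 9) (by decide) (by decide) (c := 0x1) (by decide +kernel))
noncomputable def pt682 := Classical.choose pt682e
theorem pt682r : EP.Rep pt682c pt682 := Classical.choose_spec pt682e
theorem pt683e : ∃ x, EP.Rep pt683c x := via_rep _ _ (act2_rep (n := 275) (d := 9) (by decide) (by decide) (c := 0x10) (by decide +kernel))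
noncomputable def pt683 := Classical.choose pt683e
theorem pt683r : EP.Rep pt683c pt683 := Classical.choose_spec pt683e
theorem pt684e : ∃ x, EV.Rep pt684c x := via_rep _ _ (PP.exists_vec P_ok (c := 0x400010004000300000004000400020003000200040002000400030001000400040001000000010004000100010003000400040004000200000003000000030002000300040001000000040003000000020004000200010003000300010003000000040003000400030004000200020001000400030004000200000002000100000004000300000002000300010001000200010004000300030001000400000003000100030000000400000000000000020000000400010002000300000004000300030000000300000001000300030003000300000002000000040001) (by decide +kernel))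
noncomputable def pt684 := Classical.choose pt684e
theorem pt684r : EV.Rep pt684c pt684 := Classical.choose_spec pt684e
theorem YcT1_s0_687 : CG.Mem R (CG.gen R 29014219670751100192948224) 2466208672013843516400599040 := YcT1_m0.slp' chk686
theorem YcT1_c0i : CG.Mem R (CG.gen R 29014219670751100192948224) 2437194452343092416207650816 := YcT1_s0_687.sub chk688
theorem YcT1_c0m : CG.Mem R (CG.gen R 2437194452343092416207650816) 2437194452343092416207650816 := YcT1_c0i.gen
theorem fx690 : CG.gen R 2437194452343092416207650816 ≤ stabilizer _ pt680 := Act.fix_sound YcT1_c0i.top pt680r chk689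
theorem cov697 : Cov (CG.gen R 29014219670751100192948224) (CG.wds R [0]) pt680 30 := Act.cov_of_seen (Act.pieces_sound YcT1_s0_687 YcT1_s0_687.top pt680r chk695) chk696
theorem YcT1_c1i : CG.Mem R (CG.gen R 2437194452343092416207650816) 2243766321204751748254662656 := YcT1_c0m.sub chk698
theorem YcT1_c1m : CG.Mem R (CG.gen R 2243766321204751748254662656) 2243766321204751748254662656 := YcT1_c1i.gen
theorem fx700 : CG.gen R 2243766321204751748254662656 ≤ stabilizer _ pt681 := Act.fix_sound YcT1_c1i.top pt681r chk699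
theorem cov707 : Cov (CG.gen R 2437194452343092416207650816) (CG.wds R [0]) pt681 54 := Act.cov_of_seen (Act.pieces_sound YcT1_c0m YcT1_c0m.top pt681r chk705) chk706
theorem YcT1_c2i : CG.Mem R (CG.gen R 2243766321204751748254662656) 1856910058928070412348686336 := YcT1_c1m.sub chk708
theorem YcT1_c2m : CG.Mem R (CG.gen R 1856910058928070412348686336) 1856910058928070412348686336 := YcT1_c2i.gen
theorem fx710 : CG.gen R 1856910058928070412348686336 ≤ stabilizer _ pt682 := Act.fix_sound YcT1_c2i.top pt682r chk709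
theorem cov717 : Cov (CG.gen R 2243766321204751748254662656) (CG.wds R [0]) pt682 6 := Act.cov_of_seen (Act.pieces_sound YcT1_c1m YcT1_c1m.top pt682r chk715) chk716
theorem YcT1_c3i : CG.Mem R (CG.gen R 1856910058928070412348686336) 1237940039285380274899124224 := YcT1_c2m.sub chk718
theorem YcT1_c3m : CG.Mem R (CG.gen R 1237940039285380274899124224) 1237940039285380274899124224 := YcT1_c3i.gen
theorem fx720 : CG.gen R 1237940039285380274899124224 ≤ stabilizer _ pt683 := Act.fix_sound YcT1_c3i.top pt683r chk719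
theorem cov727 : Cov (CG.gen R 1856910058928070412348686336) (CG.wds R [0]) pt683 3 := Act.cov_of_seen (Act.pieces_sound YcT1_c2m YcT1_c2m.top pt683r chk725) chk726
theorem YcT1_c4i : CG.Mem R (CG.gen R 1237940039285380274899124224) 0 := YcT1_c3m.sub chk728
theorem YcT1_c4m : CG.Mem R (CG.gen R 0) 0 := YcT1_c4i.gen
theorem fx730 : CG.gen R 0 ≤ stabilizer _ pt684 := Act.fix_sound YcT1_c4i.top pt684r chk729
theorem cov737 : Cov (CG.gen R 1237940039285380274899124224) (CG.wds R [0]) pt684 3 := Act.cov_of_seen (Act.pieces_sound YcT1_c3m YcT1_c3m.top pt684r chk735) chk736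
theorem YcT1_lb5 : 1 ≤ Nat.card (CG.gen R 0) := Nat.card_pos
theorem YcT1_lo4 : 3 * Nat.card (CG.gen R 0) ≤ Nat.card (CG.gen R 1237940039285380274899124224) := cov737.low le_rfl (GC.wds_zero _) YcT1_c4i.gen_le fx730
theorem YcT1_lb4 : 3 ≤ Nat.card (CG.gen R 1237940039285380274899124224) := low_step YcT1_lo4 YcT1_lb5 (by decide +kernel)
theorem YcT1_lo3 : 3 * Nat.card (CG.gen R 1237940039285380274899124224) ≤ Nat.card (CG.gen R 1856910058928070412348686336) := cov727.low le_rfl (GC.wds_zero _) YcT1_c3i.gen_le fx720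
theorem YcT1_lb3 : 9 ≤ Nat.card (CG.gen R 1856910058928070412348686336) := low_step YcT1_lo3 YcT1_lb4 (by decide +kernel)
theorem YcT1_lo2 : 6 * Nat.card (CG.gen R 1856910058928070412348686336) ≤ Nat.card (CG.gen R 2243766321204751748254662656) := cov717.low le_rfl (GC.wds_zero _) YcT1_c2i.gen_le fx710
theorem YcT1_lb2 : 54 ≤ Nat.card (CG.gen R 2243766321204751748254662656) := low_step YcT1_lo2 YcT1_lb3 (by decide +kernel)
theorem YcT1_lo1 : 54 * Nat.card (CG.gen R 2243766321204751748254662656) ≤ Nat.card (CG.gen R 2437194452343092416207650816) := cov707.low le_rfl (GC.wds_zero _) YcT1_c1i.gen_le fx700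
theorem YcT1_lb1 : 2916 ≤ Nat.card (CG.gen R 2437194452343092416207650816) := low_step YcT1_lo1 YcT1_lb2 (by decide +kernel)
theorem YcT1_lo0 : 30 * Nat.card (CG.gen R 2437194452343092416207650816) ≤ Nat.card (CG.gen R 29014219670751100192948224) := cov697.low le_rfl (GC.wds_zero _) YcT1_c0i.gen_le fx690
theorem YcT1_lb0 : 87480 ≤ Nat.card (CG.gen R 29014219670751100192948224) := low_step YcT1_lo0 YcT1_lb1 (by decide +kernel)
theorem Yc_T1c : ∀ τ ∈ (CG.gen R 29014219670751100192948224), CG.el (R 22) * τ * (CG.el (R 22))⁻¹ ∈ (CG.gen R 4190208) := Yb_s1_350.conjA (Yc_I.get (i := 22) (by decide +kernel)).top YcT1_in679.top chk739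
theorem cov748 : Cov (CG.gen R 29014219670751100192948224) (CG.wds R (List.map Prod.fst (l740))) pt602 112 := Act.cov_of_seen (Act.pieces_sound YcT1_s0_687 Yb_s1_350.top pt602r chk746) chk747
theorem Yc_T1d : Dec (CG.gen R 4190208) (CG.gen R 29014219670751100192948224) (CG.wds R (List.map Prod.fst (l740))) (CG.gen R 7083549724304467820544) := cov748.dec YcT1_in679.gen_le (GC.wds_sub Yb_s1_350 chk749) YcK_in611.gen_le fx676 (up_low Yb_ub YcK_lb0 (by decide +kernel))
theorem Yc_T1p : ∀ x ∈ DC1 (CG.gen R 4190208) (CG.el (R 22)), x * CG.el (R 22) ∈ DCs (CG.gen R 4190208) (CG.els R 1180591620717415497728) := GC.dc_piece' Yc_T1d Yc_T1c Yc_Kc (Yb_s1_350.dcRel Yc_I.top (Yc_I.get (i := 22) (by decide +kernel)).top (Yc_m1.get (i := 22) (by decide +kernel)).top chk741)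
theorem Yc_T1u : Nat.card (CG.gen R 4190208) ≤ 112 * Nat.card (CG.gen R 29014219670751100192948224) := up_low Yb_ub YcT1_lb0 (by decide +kernel)
theorem Yc_T1n : (DC1 (CG.gen R 4190208) (CG.el (R 22))).ncard ≤ Nat.card (CG.gen R 4190208) * 112 := ncard_DC1 YcT1_in679.gen_le Yc_T1c Yc_T1u
theorem YcT2_in752 : CG.Mem R (CG.gen R 4190208) 7427640235712281649394745344 := Yb_s1_350.slp' chk751
theorem YcT2_m0 : CG.Mem R (CG.gen R 7427640235712281649394745344) 7427640235712281649394745344 := GC.Mem.gen YcT2_in752.top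
theorem pt753e : ∃ x, EP.Rep pt753c x := via_rep _ _ (act2_rep (n := 275) (d := 9) (by decide) (by decide) (c := 0x2) (by decide +kernel))
noncomputable def pt753 := Classical.choose pt753e
theorem pt753r : EP.Rep pt753c pt753 := Classical.choose_spec pt753e
theorem pt754e : ∃ x, EP.Rep pt754c x := via_rep _ _ (act2_rep (n := 275) (d := 9) (by decide) (by decide) (c := 0x1) (by decide +kernel))
noncomputable def pt754 := Classical.choose pt754e
theorem pt754r : EP.Rep pt754c pt754 := Classical.choose_spec pt754e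
theorem pt755e : ∃ x, EP.Rep pt755c x := via_rep _ _ (act2_rep (n := 275) (d := 9) (by decide) (by decide) (c := 0x8) (by decide +kernel))
noncomputable def pt755 := Classical.choose pt755e
theorem pt755r : EP.Rep pt755c pt755 := Classical.choose_spec pt755e
theorem pt756e : ∃ x, EV.Rep pt756c x := via_rep _ _ (PP.exists_vec P_ok (c := 0x400010004000300000004000400020003000200040002000400030001000400040001000000010004000100010003000400040004000200000003000000030002000300040001000000040003000000020004000200010003000300010003000000040003000400030004000200020001000400030004000200000002000100000004000300000002000300010001000200010004000300030001000400000003000100030000000400000000000000020000000400010002000300000004000300030000000300000001000300030003000300000002000000040001) (by decide +kernel))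
noncomputable def pt756 := Classical.choose pt756e
theorem pt756r : EV.Rep pt756c pt756 := Classical.choose_spec pt756e
theorem YcT2_s0_759 : CG.Mem R (CG.gen R 7427640235712281649394745344) 1265174720149658640946904956928 := YcT2_m0.slp' chk758
theorem YcT2_c0i : CG.Mem R (CG.gen R 7427640235712281649394745344) 1247843559599663317098317217792 := YcT2_s0_759.sub chk760
theorem YcT2_c0m : CG.Mem R (CG.gen R 1247843559599663317098317217792) 1247843559599663317098317217792 := YcT2_c0i.gen
theorem fx762 : CG.gen R 1247843559599663317098317217792 ≤ stabilizer _ pt753 := Act.fix_sound YcT2_c0i.top pt753r chk761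
theorem cov769 : Cov (CG.gen R 7427640235712281649394745344) (CG.wds R [0]) pt753 56 := Act.cov_of_seen (Act.pieces_sound YcT2_s0_759 YcT2_s0_759.top pt753r chk767) chk768
theorem YcT2_c1i : CG.Mem R (CG.gen R 1247843559599663317098317217792) 1109194275199700726309615304704 := YcT2_c0m.sub chk770
theorem YcT2_c1m : CG.Mem R (CG.gen R 1109194275199700726309615304704) 1109194275199700726309615304704 := YcT2_c1i.gen
theorem fx772 : CG.gen R 1109194275199700726309615304704 ≤ stabilizer _ pt754 := Act.fix_sound YcT2_c1i.top pt754r chk771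
theorem cov779 : Cov (CG.gen R 1247843559599663317098317217792) (CG.wds R [0]) pt754 45 := Act.cov_of_seen (Act.pieces_sound YcT2_c0m YcT2_c0m.top pt754r chk777) chk778
theorem YcT2_c2i : CG.Mem R (CG.gen R 1109194275199700726309615304704) 633825300114114700748351602688 := YcT2_c1m.sub chk780
theorem YcT2_c2m : CG.Mem R (CG.gen R 633825300114114700748351602688) 633825300114114700748351602688 := YcT2_c2i.gen
theorem fx782 : CG.gen R 633825300114114700748351602688 ≤ stabilizer _ pt755 := Act.fix_sound YcT2_c2i.top pt755r chk781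
theorem cov789 : Cov (CG.gen R 1109194275199700726309615304704) (CG.wds R [0]) pt755 8 := Act.cov_of_seen (Act.pieces_sound YcT2_c1m YcT2_c1m.top pt755r chk787) chk788
theorem YcT2_c3i : CG.Mem R (CG.gen R 633825300114114700748351602688) 0 := YcT2_c2m.sub chk790
theorem YcT2_c3m : CG.Mem R (CG.gen R 0) 0 := YcT2_c3i.gen
theorem fx792 : CG.gen R 0 ≤ stabilizer _ pt756 := Act.fix_sound YcT2_c3i.top pt756r chk791
theorem cov799 : Cov (CG.gen R 633825300114114700748351602688) (CG.wds R [0]) pt756 3 := Act.cov_of_seen (Act.pieces_sound YcT2_c2m YcT2_c2m.top pt756r chk797) chk798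
theorem YcT2_lb4 : 1 ≤ Nat.card (CG.gen R 0) := Nat.card_pos
theorem YcT2_lo3 : 3 * Nat.card (CG.gen R 0) ≤ Nat.card (CG.gen R 633825300114114700748351602688) := cov799.low le_rfl (GC.wds_zero _) YcT2_c3i.gen_le fx792
theorem YcT2_lb3 : 3 ≤ Nat.card (CG.gen R 633825300114114700748351602688) := low_step YcT2_lo3 YcT2_lb4 (by decide +kernel)
theorem YcT2_lo2 : 8 * Nat.card (CG.gen R 633825300114114700748351602688) ≤ Nat.card (CG.gen R 1109194275199700726309615304704) := cov789.low le_rfl (GC.wds_zero _) YcT2_c2i.gen_le fx782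
theorem YcT2_lb2 : 24 ≤ Nat.card (CG.gen R 1109194275199700726309615304704) := low_step YcT2_lo2 YcT2_lb3 (by decide +kernel)
theorem YcT2_lo1 : 45 * Nat.card (CG.gen R 1109194275199700726309615304704) ≤ Nat.card (CG.gen R 1247843559599663317098317217792) := cov779.low le_rfl (GC.wds_zero _) YcT2_c1i.gen_le fx772
theorem YcT2_lb1 : 1080 ≤ Nat.card (CG.gen R 1247843559599663317098317217792) := low_step YcT2_lo1 YcT2_lb2 (by decide +kernel)
theorem YcT2_lo0 : 56 * Nat.card (CG.gen R 1247843559599663317098317217792) ≤ Nat.card (CG.gen R 7427640235712281649394745344) := cov769.low le_rfl (GC.wds_zero _) YcT2_c0i.gen_le fx762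
theorem YcT2_lb0 : 60480 ≤ Nat.card (CG.gen R 7427640235712281649394745344) := low_step YcT2_lo0 YcT2_lb1 (by decide +kernel)
theorem Yc_T2c : ∀ τ ∈ (CG.gen R 7427640235712281649394745344), CG.el (R 70) * τ * (CG.el (R 70))⁻¹ ∈ (CG.gen R 4190208) := Yb_s1_350.conjA (Yc_I.get (i := 70) (by decide +kernel)).top YcT2_in752.top chk801
theorem cov810 : Cov (CG.gen R 7427640235712281649394745344) (CG.wds R (List.map Prod.fst (l802))) pt602 112 := Act.cov_of_seen (Act.pieces_sound YcT2_s0_759 Yb_s1_350.top pt602r chk808) chk809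
theorem Yc_T2d : Dec (CG.gen R 4190208) (CG.gen R 7427640235712281649394745344) (CG.wds R (List.map Prod.fst (l802))) (CG.gen R 7083549724304467820544) := cov810.dec YcT2_in752.gen_le (GC.wds_sub Yb_s1_350 chk811) YcK_in611.gen_le fx676 (up_low Yb_ub YcK_lb0 (by decide +kernel))
theorem Yc_T2p : ∀ x ∈ DC1 (CG.gen R 4190208) (CG.el (R 70)), x * CG.el (R 22) ∈ DCs (CG.gen R 4190208) (CG.els R 1180591620717415497728) := GC.dc_piece' Yc_T2d Yc_T2c Yc_Kc (Yb_s1_350.dcRel Yc_I.top (Yc_I.get (i := 70) (by decide +kernel)).top (Yc_m1.get (i := 22) (by decide +kernel)).top chk803)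
theorem Yc_T2u : Nat.card (CG.gen R 4190208) ≤ 162 * Nat.card (CG.gen R 7427640235712281649394745344) := up_low Yb_ub YcT2_lb0 (by decide +kernel)
theorem Yc_T2n : (DC1 (CG.gen R 4190208) (CG.el (R 70))).ncard ≤ Nat.card (CG.gen R 4190208) * 162 := ncard_DC1 YcT2_in752.gen_le Yc_T2c Yc_T2u
theorem Yc_dc : ∀ x ∈ (CG.gen R 8384512), x ∈ DCs (CG.gen R 4190208) (CG.els R 1180591620717415497728) := GC.dc_gen (MU := 4194304) Yb_s1_350 (by decide +kernel) (GC.forall_els (L := [22]) (forall_cons ⟨Yb_s1_350.inDC' Yc_I.top (Yc_m1.get (i := 22) (by decide +kernel)).top chk812, GC.forall_els (L := [22, 70]) (forall_cons Yc_T1p (forall_cons Yc_T2p forall_nil)) (by decide +kernel)⟩ forall_nil) (by decide +kernel))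
theorem Yc_cs : ∀ p ∈ ([(22, 112), (70, 162)] : List (ℕ × ℕ)), (DC1 (CG.gen R 4190208) (CG.el (R p.1))).ncard ≤ Nat.card (CG.gen R 4190208) * p.2 := (forall_cons Yc_T1n (forall_cons Yc_T2n forall_nil))
theorem Yc_ix : Nat.card (CG.gen R 8384512) ≤ 275 * Nat.card (CG.gen R 4190208) := GC.card_dc [(22, 112), (70, 162)] Yc_dc Yc_cs (by decide +kernel)
theorem Yc_ub : Nat.card (CG.gen R 8384512) ≤ 2694384000 := up_mul Yc_ix Yb_ub (by decide +kernel)
theorem K_m0 : CG.Mem R (CG.gen R 510) 510 := GC.Mem.gen (valp28.sub chk813)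
theorem KinY816 : CG.Mem R (CG.gen R 8384512) 1180591691086172254238 := Yc_s1_607.slp' chk815
theorem KinY819 : CG.Mem R (CG.gen R 8384512) 510 := KinY816.slp' chk818
theorem K_ub : Nat.card (CG.gen R 510) ≤ 2694384000 := (card_le_of_le KinY819.gen_le).trans Yc_ub
theorem pt820e : ∃ x, EP.Rep pt820c x := via_rep _ _ (act2_rep (n := 275) (d := 9) (by decide) (by decide) (c := 0x200) (by decide +kernel))
noncomputable def pt820 := Classical.choose pt820e
theorem pt820r : EP.Rep pt820c pt820 := Classical.choose_spec pt820e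
theorem pt821e : ∃ x, EP.Rep pt821c x := via_rep _ _ (act2_rep (n := 275) (d := 9) (by decide) (by decide) (c := 0x100000) (by decide +kernel))
noncomputable def pt821 := Classical.choose pt821e
theorem pt821r : EP.Rep pt821c pt821 := Classical.choose_spec pt821e
theorem pt822e : ∃ x, EP.Rep pt822c x := via_rep _ _ (act2_rep (n := 275) (d := 9) (by decide) (by decide) (c := 0x400000000000000000000000000000000000000000000000000) (by decide +kernel))
noncomputable def pt822 := Classical.choose pt822e
theorem pt822r : EP.Rep pt822c pt822 := Classical.choose_spec pt822e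
theorem pt823e : ∃ x, EP.Rep pt823c x := via_rep _ _ (act2_rep (n := 275) (d := 9) (by decide) (by decide) (c := 0x10000000000000000000000000000000000000000) (by decide +kernel))
noncomputable def pt823 := Classical.choose pt823e
theorem pt823r : EP.Rep pt823c pt823 := Classical.choose_spec pt823e
theorem pt824e : ∃ x, EP.Rep pt824c x := via_rep _ _ (act2_rep (n := 275) (d := 9) (by decide) (by decide) (c := 0x80000000000000000000000000000000000000000000) (by decide +kernel))
noncomputable def pt824 := Classical.choose pt824e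
theorem pt824r : EP.Rep pt824c pt824 := Classical.choose_spec pt824e
theorem pt825e : ∃ x, EP.Rep pt825c x := via_rep _ _ (act2_rep (n := 275) (d := 9) (by decide) (by decide) (c := 0x1) (by decide +kernel))
noncomputable def pt825 := Classical.choose pt825e
theorem pt825r : EP.Rep pt825c pt825 := Classical.choose_spec pt825e
theorem pt826e : ∃ x, EV.Rep pt826c x := via_rep _ _ (PP.exists_vec P_ok (c := 0x400010004000300000004000400020003000200040002000400030001000400040001000000010004000100010003000400040004000200000003000000030002000300040001000000040003000000020004000200010003000300010003000000040003000400030004000200020001000400030004000200000002000100000004000300000002000300010001000200010004000300030001000400000003000100030000000400000000000000020000000400010002000300000004000300030000000300000001000300030003000300000002000000040001) (by decide +kernel))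
noncomputable def pt826 := Classical.choose pt826e
theorem pt826r : EV.Rep pt826c pt826 := Classical.choose_spec pt826e
theorem K_s0_829 : CG.Mem R (CG.gen R 510) 79861987814378452294292301939198 := K_m0.slp' chk828
theorem K_s0_832 : CG.Mem R (CG.gen R 510) 2594880778667185584863751461405182 := K_s0_829.slp' chk831
theorem K_s0_835 : CG.Mem R (CG.gen R 510) 5191029207934599399128999626018814 := K_s0_832.slp' chk834
theorem K_c0i : CG.Mem R (CG.gen R 510) 5189761557334371169727502922809656 := K_s0_835.sub chk836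
theorem K_c0m : CG.Mem R (CG.gen R 5189761557334371169727502922809656) 5189761557334371169727502922809656 := K_c0i.gen
theorem fx838 : CG.gen R 5189761557334371169727502922809656 ≤ stabilizer _ pt820 := Act.fix_sound K_c0i.top pt820r chk837
theorem cov845 : Cov (CG.gen R 510) (CG.wds R [0]) pt820 275 := Act.cov_of_seen (Act.pieces_sound K_s0_835 K_s0_835.top pt820r chk843) chk844
theorem K_c1i : CG.Mem R (CG.gen R 5189761557334371169727502922809656) 5179620352532545334515529297166592 := K_c0m.sub chk846
theorem K_c1m : CG.Mem R (CG.gen R 5179620352532545334515529297166592) 5179620352532545334515529297166592 := K_c1i.gen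
theorem fx848 : CG.gen R 5179620352532545334515529297166592 ≤ stabilizer _ pt821 := Act.fix_sound K_c1i.top pt821r chk847
theorem cov855 : Cov (CG.gen R 5189761557334371169727502922809656) (CG.wds R [0]) pt821 112 := Act.cov_of_seen (Act.pieces_sound K_c0m K_c0m.top pt821r chk853) chk854
theorem K_c2i : CG.Mem R (CG.gen R 5179620352532545334515529297166592) 5075673003313830523592799634325760 := K_c1m.sub chk856
theorem K_c2m : CG.Mem R (CG.gen R 5075673003313830523592799634325760) 5075673003313830523592799634325760 := K_c2i.gen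
theorem fx858 : CG.gen R 5075673003313830523592799634325760 ≤ stabilizer _ pt822 := Act.fix_sound K_c2i.top pt822r chk857
theorem cov865 : Cov (CG.gen R 5179620352532545334515529297166592) (CG.wds R [0]) pt822 30 := Act.cov_of_seen (Act.pieces_sound K_c1m K_c1m.top pt822r chk863) chk864
theorem K_c3i : CG.Mem R (CG.gen R 5075673003313830523592799634325760) 4548330353618887092570171100889344 := K_c2m.sub chk866
theorem K_c3m : CG.Mem R (CG.gen R 4548330353618887092570171100889344) 4548330353618887092570171100889344 := K_c3i.gen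
theorem fx868 : CG.gen R 4548330353618887092570171100889344 ≤ stabilizer _ pt823 := Act.fix_sound K_c3i.top pt823r chk867
theorem cov875 : Cov (CG.gen R 5075673003313830523592799634325760) (CG.wds R [0]) pt823 54 := Act.cov_of_seen (Act.pieces_sound K_c2m K_c2m.top pt823r chk873) chk874
theorem K_c4i : CG.Mem R (CG.gen R 4548330353618887092570171100889344) 2601219031668326731871234977431552 := K_c3m.sub chk876
theorem K_c4m : CG.Mem R (CG.gen R 2601219031668326731871234977431552) 2601219031668326731871234977431552 := K_c4i.gen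
theorem fx878 : CG.gen R 2601219031668326731871234977431552 ≤ stabilizer _ pt824 := Act.fix_sound K_c4i.top pt824r chk877
theorem cov885 : Cov (CG.gen R 4548330353618887092570171100889344) (CG.wds R [0]) pt824 9 := Act.cov_of_seen (Act.pieces_sound K_c3m K_c3m.top pt824r chk883) chk884
theorem K_c5i : CG.Mem R (CG.gen R 2601219031668326731871234977431552) 2596148429267413814265248164610048 := K_c4m.sub chk886
theorem K_c5m : CG.Mem R (CG.gen R 2596148429267413814265248164610048) 2596148429267413814265248164610048 := K_c5i.gen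
theorem fx888 : CG.gen R 2596148429267413814265248164610048 ≤ stabilizer _ pt825 := Act.fix_sound K_c5i.top pt825r chk887
theorem cov895 : Cov (CG.gen R 2601219031668326731871234977431552) (CG.wds R [0]) pt825 2 := Act.cov_of_seen (Act.pieces_sound K_c4m K_c4m.top pt825r chk893) chk894
theorem K_c6i : CG.Mem R (CG.gen R 2596148429267413814265248164610048) 0 := K_c5m.sub chk896
theorem K_c6m : CG.Mem R (CG.gen R 0) 0 := K_c6i.gen
theorem fx898 : CG.gen R 0 ≤ stabilizer _ pt826 := Act.fix_sound K_c6i.top pt826r chk897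
theorem cov905 : Cov (CG.gen R 2596148429267413814265248164610048) (CG.wds R [0]) pt826 3 := Act.cov_of_seen (Act.pieces_sound K_c5m K_c5m.top pt826r chk903) chk904
theorem K_lb7 : 1 ≤ Nat.card (CG.gen R 0) := Nat.card_pos
theorem K_lo6 : 3 * Nat.card (CG.gen R 0) ≤ Nat.card (CG.gen R 2596148429267413814265248164610048) := cov905.low le_rfl (GC.wds_zero _) K_c6i.gen_le fx898
theorem K_lb6 : 3 ≤ Nat.card (CG.gen R 2596148429267413814265248164610048) := low_step K_lo6 K_lb7 (by decide +kernel)
theorem K_lo5 : 2 * Nat.card (CG.gen R 2596148429267413814265248164610048) ≤ Nat.card (CG.gen R 2601219031668326731871234977431552) := cov895.low le_rfl (GC.wds_zero _) K_c5i.gen_le fx888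
theorem K_lb5 : 6 ≤ Nat.card (CG.gen R 2601219031668326731871234977431552) := low_step K_lo5 K_lb6 (by decide +kernel)
theorem K_lo4 : 9 * Nat.card (CG.gen R 2601219031668326731871234977431552) ≤ Nat.card (CG.gen R 4548330353618887092570171100889344) := cov885.low le_rfl (GC.wds_zero _) K_c4i.gen_le fx878
theorem K_lb4 : 54 ≤ Nat.card (CG.gen R 4548330353618887092570171100889344) := low_step K_lo4 K_lb5 (by decide +kernel)
theorem K_lo3 : 54 * Nat.card (CG.gen R 4548330353618887092570171100889344) ≤ Nat.card (CG.gen R 5075673003313830523592799634325760) := cov875.low le_rfl (GC.wds_zero _) K_c3i.gen_le fx868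
theorem K_lb3 : 2916 ≤ Nat.card (CG.gen R 5075673003313830523592799634325760) := low_step K_lo3 K_lb4 (by decide +kernel)
theorem K_lo2 : 30 * Nat.card (CG.gen R 5075673003313830523592799634325760) ≤ Nat.card (CG.gen R 5179620352532545334515529297166592) := cov865.low le_rfl (GC.wds_zero _) K_c2i.gen_le fx858
theorem K_lb2 : 87480 ≤ Nat.card (CG.gen R 5179620352532545334515529297166592) := low_step K_lo2 K_lb3 (by decide +kernel)
theorem K_lo1 : 112 * Nat.card (CG.gen R 5179620352532545334515529297166592) ≤ Nat.card (CG.gen R 5189761557334371169727502922809656) := cov855.low le_rfl (GC.wds_zero _) K_c1i.gen_le fx848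
theorem K_lb1 : 9797760 ≤ Nat.card (CG.gen R 5189761557334371169727502922809656) := low_step K_lo1 K_lb2 (by decide +kernel)
theorem K_lo0 : 275 * Nat.card (CG.gen R 5189761557334371169727502922809656) ≤ Nat.card (CG.gen R 510) := cov845.low le_rfl (GC.wds_zero _) K_c0i.gen_le fx838
theorem K_lb0 : 2694384000 ≤ Nat.card (CG.gen R 510) := low_step K_lo0 K_lb1 (by decide +kernel)
theorem K_st0 : (CG.gen R 510) ⊓ stabilizer _ pt820 = (CG.gen R 5189761557334371169727502922809656) ∧ (orbit (CG.gen R 510) pt820).ncard = 275 := cov845.stab le_rfl (GC.wds_zero _) K_c0i.gen_le fx838 (up_low K_ub K_lb1 (by decide +kernel))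
theorem K_ub1 : Nat.card (CG.gen R 5189761557334371169727502922809656) ≤ 9797760 := up_step K_lo0 K_ub (by decide +kernel)
theorem K_st1 : (CG.gen R 5189761557334371169727502922809656) ⊓ stabilizer _ pt821 = (CG.gen R 5179620352532545334515529297166592) ∧ (orbit (CG.gen R 5189761557334371169727502922809656) pt821).ncard = 112 := cov855.stab le_rfl (GC.wds_zero _) K_c1i.gen_le fx848 (up_low K_ub1 K_lb2 (by decide +kernel))
theorem K_ub2 : Nat.card (CG.gen R 5179620352532545334515529297166592) ≤ 87480 := up_step K_lo1 K_ub1 (by decide +kernel)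
theorem K_st2 : (CG.gen R 5179620352532545334515529297166592) ⊓ stabilizer _ pt822 = (CG.gen R 5075673003313830523592799634325760) ∧ (orbit (CG.gen R 5179620352532545334515529297166592) pt822).ncard = 30 := cov865.stab le_rfl (GC.wds_zero _) K_c2i.gen_le fx858 (up_low K_ub2 K_lb3 (by decide +kernel))
theorem K_ub3 : Nat.card (CG.gen R 5075673003313830523592799634325760) ≤ 2916 := up_step K_lo2 K_ub2 (by decide +kernel)
theorem K_st3 : (CG.gen R 5075673003313830523592799634325760) ⊓ stabilizer _ pt823 = (CG.gen R 4548330353618887092570171100889344) ∧ (orbit (CG.gen R 5075673003313830523592799634325760) pt823).ncard = 54 := cov875.stab le_rfl (GC.wds_zero _) K_c3i.gen_le fx868 (up_low K_ub3 K_lb4 (by decide +kernel))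
theorem K_ub4 : Nat.card (CG.gen R 4548330353618887092570171100889344) ≤ 54 := up_step K_lo3 K_ub3 (by decide +kernel)
theorem K_st4 : (CG.gen R 4548330353618887092570171100889344) ⊓ stabilizer _ pt824 = (CG.gen R 2601219031668326731871234977431552) ∧ (orbit (CG.gen R 4548330353618887092570171100889344) pt824).ncard = 9 := cov885.stab le_rfl (GC.wds_zero _) K_c4i.gen_le fx878 (up_low K_ub4 K_lb5 (by decide +kernel))
theorem K_ub5 : Nat.card (CG.gen R 2601219031668326731871234977431552) ≤ 6 := up_step K_lo4 K_ub4 (by decide +kernel)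
theorem K_st5 : (CG.gen R 2601219031668326731871234977431552) ⊓ stabilizer _ pt825 = (CG.gen R 2596148429267413814265248164610048) ∧ (orbit (CG.gen R 2601219031668326731871234977431552) pt825).ncard = 2 := cov895.stab le_rfl (GC.wds_zero _) K_c5i.gen_le fx888 (up_low K_ub5 K_lb6 (by decide +kernel))
theorem K_ub6 : Nat.card (CG.gen R 2596148429267413814265248164610048) ≤ 3 := up_step K_lo5 K_ub5 (by decide +kernel)
theorem K_st6 : (CG.gen R 2596148429267413814265248164610048) ⊓ stabilizer _ pt826 = (CG.gen R 0) ∧ (orbit (CG.gen R 2596148429267413814265248164610048) pt826).ncard = 3 := cov905.stab le_rfl (GC.wds_zero _) K_c6i.gen_le fx898 (up_low K_ub6 K_lb7 (by decide +kernel))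
theorem K_ub7 : Nat.card (CG.gen R 0) ≤ 1 := up_step K_lo6 K_ub6 (by decide +kernel)
theorem fx913 : CG.gen R 512 ≤ stabilizer _ pt824 := Act.fix_sound (K_s0_835.sub (M' := 512) (by decide +kernel)).top pt824r chk912
theorem CK4 : Nat.card ((CG.gen R 4548330353618887092570171100889344) ⊓ centralizer {CG.el (R 9)} : Subgroup _) ≤ 6 := up_mul (cent_fix K_st4 (mem_of_gen1 fx913 (x := 9) (by decide +kernel)) (Act.count_fix (Act.pieces_sound K_c3m K_c3m.top pt824r chk910) chk911 (K_s0_835.get (i := 9) (by decide +kernel)).top) (k := 1) (by decide +kernel)) ((card_le_of_le inf_le_left).trans K_ub5) (by decide +kernel)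
theorem fx921 : CG.gen R 512 ≤ stabilizer _ pt823 := Act.fix_sound (K_s0_835.sub (M' := 512) (by decide +kernel)).top pt823r chk920
theorem CK3 : Nat.card ((CG.gen R 5075673003313830523592799634325760) ⊓ centralizer {CG.el (R 9)} : Subgroup _) ≤ 36 := up_mul (cent_fix K_st3 (mem_of_gen1 fx921 (x := 9) (by decide +kernel)) (Act.count_fix (Act.pieces_sound K_c2m K_c2m.top pt823r chk918) chk919 (K_s0_835.get (i := 9) (by decide +kernel)).top) (k := 6) (by decide +kernel)) CK4 (by decide +kernel)
theorem fx929 : CG.gen R 512 ≤ stabilizer _ pt822 := Act.fix_sound (K_s0_835.sub (M' := 512) (by decide +kernel)).top pt822r chk928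
theorem CK2 : Nat.card ((CG.gen R 5179620352532545334515529297166592) ⊓ centralizer {CG.el (R 9)} : Subgroup _) ≤ 216 := up_mul (cent_fix K_st2 (mem_of_gen1 fx929 (x := 9) (by decide +kernel)) (Act.count_fix (Act.pieces_sound K_c1m K_c1m.top pt822r chk926) chk927 (K_s0_835.get (i := 9) (by decide +kernel)).top) (k := 6) (by decide +kernel)) CK3 (by decide +kernel)
theorem fx937 : CG.gen R 512 ≤ stabilizer _ pt821 := Act.fix_sound (K_s0_835.sub (M' := 512) (by decide +kernel)).top pt821r chk936
theorem CK1 : Nat.card ((CG.gen R 5189761557334371169727502922809656) ⊓ centralizer {CG.el (R 9)} : Subgroup _) ≤ 3456 := up_mul (cent_fix K_st1 (mem_of_gen1 fx937 (x := 9) (by decide +kernel)) (Act.count_fix (Act.pieces_sound K_c0m K_c0m.top pt821r chk934) chk935 (K_s0_835.get (i := 9) (by decide +kernel)).top) (k := 16) (by decide +kernel)) CK2 (by decide +kernel)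
theorem fx945 : CG.gen R 512 ≤ stabilizer _ pt820 := Act.fix_sound (K_s0_835.sub (M' := 512) (by decide +kernel)).top pt820r chk944
theorem CK0 : Nat.card ((CG.gen R 510) ⊓ centralizer {CG.el (R 9)} : Subgroup _) ≤ 120960 := up_mul (cent_fix K_st0 (mem_of_gen1 fx945 (x := 9) (by decide +kernel)) (Act.count_fix (Act.pieces_sound K_s0_835 K_s0_835.top pt820r chk942) chk943 (K_s0_835.get (i := 9) (by decide +kernel)).top) (k := 35) (by decide +kernel)) CK1 (by decide +kernel)
theorem Kz_m0 : CG.Mem R (CG.gen R 382) 382 := GC.Mem.gen (valp28.sub chk946)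
theorem pt947e : ∃ x, EP.Rep pt947c x := via_rep _ _ (act2_rep (n := 275) (d := 9) (by decide) (by decide) (c := 0x2000) (by decide +kernel))
noncomputable def pt947 := Classical.choose pt947e
theorem pt947r : EP.Rep pt947c pt947 := Classical.choose_spec pt947e
theorem pt948e : ∃ x, EP.Rep pt948c x := via_rep _ _ (act2_rep (n := 275) (d := 9) (by decide) (by decide) (c := 0x1) (by decide +kernel))
noncomputable def pt948 := Classical.choose pt948e
theorem pt948r : EP.Rep pt948c pt948 := Classical.choose_spec pt948e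
theorem pt949e : ∃ x, EV.Rep pt949c x := via_rep _ _ (PP.exists_vec P_ok (c := 0x400010004000300000004000400020003000200040002000400030001000400040001000000010004000100010003000400040004000200000003000000030002000300040001000000040003000000020004000200010003000300010003000000040003000400030004000200020001000400030004000200000002000100000004000300000002000300010001000200010004000300030001000400000003000100030000000400000000000000020000000400010002000300000004000300030000000300000001000300030003000300000002000000040001) (by decide +kernel))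
noncomputable def pt949 := Classical.choose pt949e
theorem pt949r : EV.Rep pt949c pt949 := Classical.choose_spec pt949e
theorem Kz_s0_952 : CG.Mem R (CG.gen R 382) 1324035698926381045275276563951124862 := Kz_m0.slp' chk951
theorem Kz_c0i : CG.Mem R (CG.gen R 382) 1318843402067846217646746067621904696 := Kz_s0_952.sub chk953
theorem Kz_c0m : CG.Mem R (CG.gen R 1318843402067846217646746067621904696) 1318843402067846217646746067621904696 := Kz_c0i.gen
theorem fx955 : CG.gen R 1318843402067846217646746067621904696 ≤ stabilizer _ pt820 := Act.fix_sound Kz_c0i.top pt820r chk954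
theorem cov962 : Cov (CG.gen R 382) (CG.wds R [0]) pt820 35 := Act.cov_of_seen (Act.pieces_sound Kz_s0_952 Kz_s0_952.top pt820r chk960) chk961
theorem Kz_c1i : CG.Mem R (CG.gen R 1318843402067846217646746067621904696) 1308458808350776562389685074963464448 := Kz_c0m.sub chk963
theorem Kz_c1m : CG.Mem R (CG.gen R 1308458808350776562389685074963464448) 1308458808350776562389685074963464448 := Kz_c1i.gen
theorem fx965 : CG.gen R 1308458808350776562389685074963464448 ≤ stabilizer _ pt821 := Act.fix_sound Kz_c1i.top pt821r chk964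
theorem cov972 : Cov (CG.gen R 1318843402067846217646746067621904696) (CG.wds R [0]) pt821 16 := Act.cov_of_seen (Act.pieces_sound Kz_c0m Kz_c0m.top pt821r chk970) chk971
theorem Kz_c2i : CG.Mem R (CG.gen R 1308458808350776562389685074963464448) 1121536121443522767762587207111540736 := Kz_c1m.sub chk973
theorem Kz_c2m : CG.Mem R (CG.gen R 1121536121443522767762587207111540736) 1121536121443522767762587207111540736 := Kz_c2i.gen
theorem fx975 : CG.gen R 1121536121443522767762587207111540736 ≤ stabilizer _ pt822 := Act.fix_sound Kz_c2i.top pt822r chk974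
theorem cov982 : Cov (CG.gen R 1308458808350776562389685074963464448) (CG.wds R [0]) pt822 6 := Act.cov_of_seen (Act.pieces_sound Kz_c1m Kz_c1m.top pt822r chk980) chk981
theorem Kz_c3i : CG.Mem R (CG.gen R 1121536121443522767762587207111540736) 996920996838686904677855295210258432 := Kz_c2m.sub chk983
theorem Kz_c3m : CG.Mem R (CG.gen R 996920996838686904677855295210258432) 996920996838686904677855295210258432 := Kz_c3i.gen
theorem fx985 : CG.gen R 996920996838686904677855295210258432 ≤ stabilizer _ pt947 := Act.fix_sound Kz_c3i.top pt947r chk984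
theorem cov992 : Cov (CG.gen R 1121536121443522767762587207111540736) (CG.wds R [0]) pt947 6 := Act.cov_of_seen (Act.pieces_sound Kz_c2m Kz_c2m.top pt947r chk990) chk991
theorem Kz_c4i : CG.Mem R (CG.gen R 996920996838686904677855295210258432) 664613997892457936451903530140172288 := Kz_c3m.sub chk993
theorem Kz_c4m : CG.Mem R (CG.gen R 664613997892457936451903530140172288) 664613997892457936451903530140172288 := Kz_c4i.gen
theorem fx995 : CG.gen R 664613997892457936451903530140172288 ≤ stabilizer _ pt948 := Act.fix_sound Kz_c4i.top pt948r chk994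
theorem cov1002 : Cov (CG.gen R 996920996838686904677855295210258432) (CG.wds R [0]) pt948 2 := Act.cov_of_seen (Act.pieces_sound Kz_c3m Kz_c3m.top pt948r chk1000) chk1001
theorem Kz_c5i : CG.Mem R (CG.gen R 664613997892457936451903530140172288) 0 := Kz_c4m.sub chk1003
theorem Kz_c5m : CG.Mem R (CG.gen R 0) 0 := Kz_c5i.gen
theorem fx1005 : CG.gen R 0 ≤ stabilizer _ pt949 := Act.fix_sound Kz_c5i.top pt949r chk1004
theorem cov1012 : Cov (CG.gen R 664613997892457936451903530140172288) (CG.wds R [0]) pt949 3 := Act.cov_of_seen (Act.pieces_sound Kz_c4m Kz_c4m.top pt949r chk1010) chk1011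
theorem Kz_lb6 : 1 ≤ Nat.card (CG.gen R 0) := Nat.card_pos
theorem Kz_lo5 : 3 * Nat.card (CG.gen R 0) ≤ Nat.card (CG.gen R 664613997892457936451903530140172288) := cov1012.low le_rfl (GC.wds_zero _) Kz_c5i.gen_le fx1005
theorem Kz_lb5 : 3 ≤ Nat.card (CG.gen R 664613997892457936451903530140172288) := low_step Kz_lo5 Kz_lb6 (by decide +kernel)
theorem Kz_lo4 : 2 * Nat.card (CG.gen R 664613997892457936451903530140172288) ≤ Nat.card (CG.gen R 996920996838686904677855295210258432) := cov1002.low le_rfl (GC.wds_zero _) Kz_c4i.gen_le fx995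
theorem Kz_lb4 : 6 ≤ Nat.card (CG.gen R 996920996838686904677855295210258432) := low_step Kz_lo4 Kz_lb5 (by decide +kernel)
theorem Kz_lo3 : 6 * Nat.card (CG.gen R 996920996838686904677855295210258432) ≤ Nat.card (CG.gen R 1121536121443522767762587207111540736) := cov992.low le_rfl (GC.wds_zero _) Kz_c3i.gen_le fx985
theorem Kz_lb3 : 36 ≤ Nat.card (CG.gen R 1121536121443522767762587207111540736) := low_step Kz_lo3 Kz_lb4 (by decide +kernel)
theorem Kz_lo2 : 6 * Nat.card (CG.gen R 1121536121443522767762587207111540736) ≤ Nat.card (CG.gen R 1308458808350776562389685074963464448) := cov982.low le_rfl (GC.wds_zero _) Kz_c2i.gen_le fx975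
theorem Kz_lb2 : 216 ≤ Nat.card (CG.gen R 1308458808350776562389685074963464448) := low_step Kz_lo2 Kz_lb3 (by decide +kernel)
theorem Kz_lo1 : 16 * Nat.card (CG.gen R 1308458808350776562389685074963464448) ≤ Nat.card (CG.gen R 1318843402067846217646746067621904696) := cov972.low le_rfl (GC.wds_zero _) Kz_c1i.gen_le fx965
theorem Kz_lb1 : 3456 ≤ Nat.card (CG.gen R 1318843402067846217646746067621904696) := low_step Kz_lo1 Kz_lb2 (by decide +kernel)
theorem Kz_lo0 : 35 * Nat.card (CG.gen R 1318843402067846217646746067621904696) ≤ Nat.card (CG.gen R 382) := cov962.low le_rfl (GC.wds_zero _) Kz_c0i.gen_le fx955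
theorem Kz_lb0 : 120960 ≤ Nat.card (CG.gen R 382) := low_step Kz_lo0 Kz_lb1 (by decide +kernel)
theorem K0le : (CG.gen R 382) ≤ (CG.gen R 510) := (K_s0_835.sub chk1013).gen_le
theorem CKt : (CG.gen R 510) ⊓ centralizer {CG.el (R 9)} = (CG.gen R 382) := cent_eq K0le (Kz_m0.top.commL (K_s0_835.get (i := 9) (by decide +kernel)).top chk1014) CK0 Kz_lb0
theorem pt1015e : ∃ x, EP.Rep pt1015c x := via_rep _ _ (act2_rep (n := 275) (d := 9) (by decide) (by decide) (c := 0x18000d8c220000a020446040082010104040005000001800000001000410400102200) (by decide +kernel))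
noncomputable def pt1015 := Classical.choose pt1015e
theorem pt1015r : EP.Rep pt1015c pt1015 := Classical.choose_spec pt1015e
theorem cov1046 : Cov (CG.gen R 510) (CG.wds R [0]) pt1015 22275 := Act.cov_of_seen (forall_app (Act.pieces_sound K_s0_835 K_s0_835.top pt1015r chk1040) (forall_app (Act.pieces_sound K_s0_835 K_s0_835.top pt1015r chk1042) (Act.pieces_sound K_s0_835 K_s0_835.top pt1015r chk1044))) chk1045
theorem fx1048 : CG.gen R 382 ≤ stabilizer _ pt1015 := Act.fix_sound (valp28.sub chk946) pt1015r chk1047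
theorem Vst : (CG.gen R 510) ⊓ stabilizer _ pt1015 = (CG.gen R 382) ∧ (orbit (CG.gen R 510) pt1015).ncard = 22275 := cov1046.stab le_rfl (GC.wds_zero _) K0le fx1048 (up_low K_ub Kz_lb0 (by decide +kernel))
theorem nine : ∀ k ∈ (CG.gen R 510), Commute (k * CG.el (R 9) * k⁻¹) (CG.el (R 10)) → Commute (k * CG.el (R 9) * k⁻¹) (CG.el (R 11)) →
    ∃ w ∈ ([0, 8670417165793158086765053956, 8670423069898553678894204932, 8670423069903055078422486020, 8878513223578423686495995959300, 8878513223578424813490047812613, 9089062239743849396168908602345478, 9091591348828618973206404869921798, 9091597538529994837676697435770885] : List ℕ), k * CG.el (R 9) * k⁻¹ = CG.wd R w * CG.el (R 9) * (CG.wd R w)⁻¹ :=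
  nine_of K_s0_835 pt1015r Vst CKt (K_s0_835.get (i := 10) (by decide +kernel)) (K_s0_835.get (i := 11) (by decide +kernel)) (Act.count_fix2 (forall_app (Act.pieces_sound K_s0_835 K_s0_835.top pt1015r chk1073) (forall_app (Act.pieces_sound K_s0_835 K_s0_835.top pt1015r chk1075) (forall_app (Act.pieces_sound K_s0_835 K_s0_835.top pt1015r chk1077) (Act.pieces_sound K_s0_835 K_s0_835.top pt1015r chk1079)))) chk1080 (K_s0_835.get (i := 10) (by decide +kernel)).top (K_s0_835.get (i := 11) (by decide +kernel)).top) chk1081 chk1082 (by decide +kernel)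
theorem cardK : Nat.card (CG.gen R 510) = 2694384000 := le_antisymm K_ub K_lb0
theorem val0 : CG.Mem R ⊤ 4094 := (valp28.sub chk1083)
end

end CfsgH6.LyM
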