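import Cfsg.Agent.H6.LyMD0

set_option autoImplicit false
set_option maxRecDepth 100000
set_option linter.all false
set_option Elab.async false

namespace CfsgH6.LyM

open CfsgH5 CfsgH6 Subgroup MulAction Pointwise

noncomputable section

theorem chk2 : band (allL l1 fun e => band (P.canF (force (hd e) R1)) (band (Nat.ble 1 (tl e)) (Nat.beq (powC P.ops (force (hd e) R1) (tl e)) P.ops.one))) (subM 8388606 (insL l1 0)) = true := by decide +kernel
theorem chk5 : band (allL l4 fun e => band (can2 275 (force (hd e) R2)) (band (Nat.ble 1 (tl e)) (Nat.beq (powC (ops2 275) (force (hd e) R2) (tl e)) (ops2 275).one))) (subM 14 (insL l4 0)) = true := by decide +kernel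
theorem chk8 : band (allL l7 fun e => band (can2 275 (force (hd e) R2)) (band (Nat.ble 1 (tl e)) (Nat.beq (powC (ops2 275) (force (hd e) R2) (tl e)) (ops2 275).one))) (subM 112 (insL l7 0)) = true := by decide +kernel
theorem chk11 : band (allL l10 fun e => band (can2 275 (force (hd e) R2)) (band (Nat.ble 1 (tl e)) (Nat.beq (powC (ops2 275) (force (hd e) R2) (tl e)) (ops2 275).one))) (subM 896 (insL l10 0)) = true := by decide +kernel
theorem chk14 : band (allL l13 fun e => band (can2 275 (force (hd e) R2)) (band (Nat.ble 1 (tl e)) (Nat.beq (powC (ops2 275) (force (hd e) R2) (tl e)) (ops2 275).one))) (subM 7168 (insL l13 0)) = true := by decide +kernel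
theorem chk17 : band (allL l16 fun e => band (can2 275 (force (hd e) R2)) (band (Nat.ble 1 (tl e)) (Nat.beq (powC (ops2 275) (force (hd e) R2) (tl e)) (ops2 275).one))) (subM 57344 (insL l16 0)) = true := by decide +kernel
theorem chk20 : band (allL l19 fun e => band (can2 275 (force (hd e) R2)) (band (Nat.ble 1 (tl e)) (Nat.beq (powC (ops2 275) (force (hd e) R2) (tl e)) (ops2 275).one))) (subM 458752 (insL l19 0)) = true := by decide +kernel
theorem chk23 : band (allL l22 fun e => band (can2 275 (force (hd e) R2)) (band (Nat.ble 1 (tl e)) (Nat.beq (powC (ops2 275) (force (hd e) R2) (tl e)) (ops2 275).one))) (subM 3670016 (insL l22 0)) = true := by decide +kernel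
theorem chk26 : band (allL l25 fun e => band (can2 275 (force (hd e) R2)) (band (Nat.ble 1 (tl e)) (Nat.beq (powC (ops2 275) (force (hd e) R2) (tl e)) (ops2 275).one))) (subM 4194304 (insL l25 0)) = true := by decide +kernel
theorem chk29 : subM 4096 8388606 = true := by decide +kernel
theorem chk31 : band (conjB (prodOps 197136 P.ops (ops2 275)) R 0 12 l30) (subM 0 (insL l30 0)) = true := by decide +kernel
theorem chk32 : band (Nat.ble 1 3) (band (subW 0 0) (Nat.beq (powC (prodOps 197136 P.ops (ops2 275)) (R 12) 3) (evalW (prodOps 197136 P.ops (ops2 275)) R 0))) = true := by decide +kernel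
theorem chk33 : subM 12288 8388606 = true := by decide +kernel
theorem chk35 : band (conjB (prodOps 197136 P.ops (ops2 275)) R 4096 13 l34) (subM 4096 (insL l34 0)) = true := by decide +kernel
theorem chk36 : band (Nat.ble 1 3) (band (subW 4096 0) (Nat.beq (powC (prodOps 197136 P.ops (ops2 275)) (R 13) 3) (evalW (prodOps 197136 P.ops (ops2 275)) R 0))) = true := by decide +kernel
theorem chk37 : subM 28672 8388606 = true := by decide +kernel
theorem chk39 : band (conjB (prodOps 197136 P.ops (ops2 275)) R 12288 14 l38) (subM 12288 (insL l38 0)) = true := by decide +kernel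
theorem chk40 : band (Nat.ble 1 3) (band (subW 12288 0) (Nat.beq (powC (prodOps 197136 P.ops (ops2 275)) (R 14) 3) (evalW (prodOps 197136 P.ops (ops2 275)) R 0))) = true := by decide +kernel
theorem chk41 : subM 61440 8388606 = true := by decide +kernel
theorem chk43 : band (conjB (prodOps 197136 P.ops (ops2 275)) R 28672 15 l42) (subM 28672 (insL l42 0)) = true := by decide +kernel
theorem chk44 : band (Nat.ble 1 3) (band (subW 28672 0) (Nat.beq (powC (prodOps 197136 P.ops (ops2 275)) (R 15) 3) (evalW (prodOps 197136 P.ops (ops2 275)) R 0))) = true := by decide +kernel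
theorem chk45 : subM 126976 8388606 = true := by decide +kernel
theorem chk47 : band (conjB (prodOps 197136 P.ops (ops2 275)) R 61440 16 l46) (subM 61440 (insL l46 0)) = true := by decide +kernel
theorem chk48 : band (Nat.ble 1 3) (band (subW 61440 0) (Nat.beq (powC (prodOps 197136 P.ops (ops2 275)) (R 16) 3) (evalW (prodOps 197136 P.ops (ops2 275)) R 0))) = true := by decide +kernel
theorem chk49 : subM 258048 8388606 = true := by decide +kernel
theorem chk51 : band (conjB (prodOps 197136 P.ops (ops2 275)) R 126976 17 l50) (subM 126976 (insL l50 0)) = true := by decide +kernel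
theorem chk52 : band (Nat.ble 1 3) (band (subW 126976 0) (Nat.beq (powC (prodOps 197136 P.ops (ops2 275)) (R 17) 3) (evalW (prodOps 197136 P.ops (ops2 275)) R 0))) = true := by decide +kernel
theorem chk53 : subM 520192 8388606 = true := by decide +kernel
theorem chk55 : band (conjB (prodOps 197136 P.ops (ops2 275)) R 258048 18 l54) (subM 258048 (insL l54 0)) = true := by decide +kernel
theorem chk56 : band (Nat.ble 1 2) (band (subW 258048 12300) (Nat.beq (powC (prodOps 197136 P.ops (ops2 275)) (R 18) 2) (evalW (prodOps 197136 P.ops (ops2 275)) R 12300))) = true := by decide +kernel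
theorem chk57 : subM 1044480 8388606 = true := by decide +kernel
theorem chk59 : band (conjB (prodOps 197136 P.ops (ops2 275)) R 520192 19 l58) (subM 520192 (insL l58 0)) = true := by decide +kernel
theorem chk60 : band (Nat.ble 1 2) (band (subW 520192 14869802945107688347221902354) (Nat.beq (powC (prodOps 197136 P.ops (ops2 275)) (R 19) 2) (evalW (prodOps 197136 P.ops (ops2 275)) R 14869802945107688347221902354))) = true := by decide +kernel
theorem chk61 : subM 2093056 8388606 = true := by decide +kernel
theorem chk64 : band (slp (prodOps 197136 P.ops (ops2 275)) R l63 2093056) (subM 10481664 (insL l63 2093056)) = true := by decide +kernel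
theorem chk66 : subM 9437184 10481664 = true := by decide +kernel
theorem chk68 : band (slp (prodOps 197136 P.ops (ops2 275)) R l67 1044480) (subM 50331648 (insL l67 1044480)) = true := by decide +kernel
theorem chk75 : band (slp (prodOps 197136 P.ops (ops2 275)) R l74 50331648) (subM 520093696 (insL l74 50331648)) = true := by decide +kernel
theorem chk77 : subM 469762048 520093696 = true := by decide +kernel
theorem chk78 : band (fixL (fun c v => (app2 275 276 9) (pr2 197136 c) v) (fun x => x) R [26, 27, 28] pt70c) (subM 469762048 (insL [26, 27, 28] 0)) = true := by decide +kernel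
theorem chk84 : band (pieces (fun c v => (app2 275 276 9) (pr2 197136 c) v) (fun x => x) tab82 R 520093696 [24, 25, 26, 27, 28] pt70c l83) (allL l83 fun p => subW 520093696 p.2.1) = true := by decide +kernel
theorem chk85 : cover 9 [0] (l83) 0 = true := by decide +kernel
theorem chk87 : subM 402653184 469762048 = true := by decide +kernel
theorem chk88 : band (fixL (fun c v => (app2 275 276 9) (pr2 197136 c) v) (fun x => x) R [27, 28] pt71c) (subM 402653184 (insL [27, 28] 0)) = true := by decide +kernel
theorem chk94 : band (pieces (fun c v => (app2 275 276 9) (pr2 197136 c) v) (fun x => x) tab92 R 469762048 [26, 27, 28] pt71c l93) (allL l93 fun p => subW 469762048 p.2.1) = true := by decide +kernel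
theorem chk95 : cover 2 [0] (l93) 0 = true := by decide +kernel
theorem chk97 : subM 268435456 402653184 = true := by decide +kernel
theorem chk98 : band (fixL (fun c v => (app2 275 276 9) (pr2 197136 c) v) (fun x => x) R [28] pt72c) (subM 268435456 (insL [28] 0)) = true := by decide +kernel
theorem chk104 : band (pieces (fun c v => (app2 275 276 9) (pr2 197136 c) v) (fun x => x) tab102 R 402653184 [27, 28] pt72c l103) (allL l103 fun p => subW 402653184 p.2.1) = true := by decide +kernel
theorem chk105 : cover 2 [0] (l103) 0 = true := by decide +kernel
theorem chk107 : subM 0 268435456 = true := by decide +kernel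
theorem chk108 : band (fixL (fun c v => P.app (pr1 197136 c) v) (fun x => x) R [] pt73c) (subM 0 (insL [] 0)) = true := by decide +kernel
theorem chk114 : band (pieces (fun c v => P.app (pr1 197136 c) v) (fun x => x) tab112 R 268435456 [28] pt73c l113) (allL l113 fun p => subW 268435456 p.2.1) = true := by decide +kernel
theorem chk115 : cover 3 [0] (l113) 0 = true := by decide +kernel
theorem chk118 : band (conjB (prodOps 197136 P.ops (ops2 275)) R 1044480 20 l117) (subM 50331648 (insL l117 0)) = true := by decide +kernel
theorem chk119 : band (fixL (fun c v => (app2 275 276 9) (pr2 197136 c) v) (fun x => x) R [24, 25] pt62c) (subM 50331648 (insL [24, 25] 0)) = true := by decide +kernel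
theorem chk143 : band (slp (prodOps 197136 P.ops (ops2 275)) R l142 1044480) (subM 3758096384 (insL l142 1044480)) = true := by decide +kernel
theorem chk150 : band (slp (prodOps 197136 P.ops (ops2 275)) R l149 3758096384) (subM 68182605824 (insL l149 3758096384)) = true := by decide +kernel
theorem chk152 : subM 64424509440 68182605824 = true := by decide +kernel
theorem chk153 : band (fixL (fun c v => (app2 275 276 9) (pr2 197136 c) v) (fun x => x) R [32, 33, 34, 35] pt145c) (subM 64424509440 (insL [32, 33, 34, 35] 0)) = true := by decide +kernel
theorem chk159 : band (pieces (fun c v => (app2 275 276 9) (pr2 197136 c) v) (fun x => x) tab157 R 68182605824 [29, 30, 31, 32, 33, 34, 35] pt145c l158) (allL l158 fun p => subW 68182605824 p.2.1) = true := by decide +kernel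
theorem chk160 : cover 2 [0] (l158) 0 = true := by decide +kernel
theorem chk162 : subM 51539607552 64424509440 = true := by decide +kernel
theorem chk163 : band (fixL (fun c v => (app2 275 276 9) (pr2 197136 c) v) (fun x => x) R [34, 35] pt146c) (subM 51539607552 (insL [34, 35] 0)) = true := by decide +kernel
theorem chk169 : band (pieces (fun c v => (app2 275 276 9) (pr2 197136 c) v) (fun x => x) tab167 R 64424509440 [32, 33, 34, 35] pt146c l168) (allL l168 fun p => subW 64424509440 p.2.1) = true := by decide +kernel
theorem chk170 : cover 9 [0] (l168) 0 = true := by decide +kernel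
theorem chk172 : subM 34359738368 51539607552 = true := by decide +kernel
theorem chk173 : band (fixL (fun c v => (app2 275 276 9) (pr2 197136 c) v) (fun x => x) R [35] pt147c) (subM 34359738368 (insL [35] 0)) = true := by decide +kernel
theorem chk179 : band (pieces (fun c v => (app2 275 276 9) (pr2 197136 c) v) (fun x => x) tab177 R 51539607552 [34, 35] pt147c l178) (allL l178 fun p => subW 51539607552 p.2.1) = true := by decide +kernel
theorem chk180 : cover 2 [0] (l178) 0 = true := by decide +kernel
theorem chk182 : subM 0 34359738368 = true := by decide +kernel
theorem chk183 : band (fixL (fun c v => P.app (pr1 197136 c) v) (fun x => x) R [] pt148c) (subM 0 (insL [] 0)) = true := by decide +kernel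
theorem chk189 : band (pieces (fun c v => P.app (pr1 197136 c) v) (fun x => x) tab187 R 34359738368 [35] pt148c l188) (allL l188 fun p => subW 34359738368 p.2.1) = true := by decide +kernel
theorem chk190 : cover 3 [0] (l188) 0 = true := by decide +kernel
theorem chk193 : band (conjA (prodOps 197136 P.ops (ops2 275)) R 1044480 20 l192) (subM 3758096384 (insL l192 0)) = true := by decide +kernel
theorem chk195 : dcRel (prodOps 197136 P.ops (ops2 275)) R 1044480 9437184 20 20 l194 = true := by decide +kernel
theorem chk200 : band (pieces (fun c v => (app2 275 276 9) (pr2 197136 c) v) (fun x => x) tab198 R 68182605824 [29, 30, 31, 32, 33, 34, 35] pt62c l199) (allL l199 fun p => subW 1044480 p.2.1) = true := by decide +kernel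
theorem chk201 : cover 27 (List.map Prod.fst (l194)) (l199) 0 = true := by decide +kernel
theorem chk203 : allL (List.map Prod.fst (l194)) (subW 1044480) = true := by decide +kernel
theorem chk282 : band (slp (prodOps 197136 P.ops (ops2 275)) R l281 1044480) (subM 2130303778816 (insL l281 1044480)) = true := by decide +kernel
theorem chk289 : band (slp (prodOps 197136 P.ops (ops2 275)) R l288 2130303778816) (subM 70300024700928 (insL l288 2130303778816)) = true := by decide +kernel
theorem chk291 : subM 68169720922112 70300024700928 = true := by decide +kernel
theorem chk292 : band (fixL (fun c v => (app2 275 276 9) (pr2 197136 c) v) (fun x => x) R [41, 42, 43, 44, 45] pt284c) (subM 68169720922112 (insL [41, 42, 43, 44, 45] 0)) = true := by decide +kernel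
theorem chk298 : band (pieces (fun c v => (app2 275 276 9) (pr2 197136 c) v) (fun x => x) tab296 R 70300024700928 [36, 37, 38, 39, 40, 41, 42, 43, 44, 45] pt284c l297) (allL l297 fun p => subW 70300024700928 p.2.1) = true := by decide +kernel
theorem chk299 : cover 27 [0] (l297) 0 = true := by decide +kernel
theorem chk301 : subM 52776558133248 68169720922112 = true := by decide +kernel
theorem chk302 : band (fixL (fun c v => (app2 275 276 9) (pr2 197136 c) v) (fun x => x) R [44, 45] pt285c) (subM 52776558133248 (insL [44, 45] 0)) = true := by decide +kernel
theorem chk308 : band (pieces (fun c v => (app2 275 276 9) (pr2 197136 c) v) (fun x => x) tab306 R 68169720922112 [41, 42, 43, 44, 45] pt285c l307) (allL l307 fun p => subW 68169720922112 p.2.1) = true := by decide +kernel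
theorem chk309 : cover 9 [0] (l307) 0 = true := by decide +kernel
theorem chk311 : subM 35184372088832 52776558133248 = true := by decide +kernel
theorem chk312 : band (fixL (fun c v => (app2 275 276 9) (pr2 197136 c) v) (fun x => x) R [45] pt286c) (subM 35184372088832 (insL [45] 0)) = true := by decide +kernel
theorem chk318 : band (pieces (fun c v => (app2 275 276 9) (pr2 197136 c) v) (fun x => x) tab316 R 52776558133248 [44, 45] pt286c l317) (allL l317 fun p => subW 52776558133248 p.2.1) = true := by decide +kernel
theorem chk319 : cover 2 [0] (l317) 0 = true := by decide +kernel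
theorem chk321 : subM 0 35184372088832 = true := by decide +kernel
theorem chk322 : band (fixL (fun c v => P.app (pr1 197136 c) v) (fun x => x) R [] pt287c) (subM 0 (insL [] 0)) = true := by decide +kernel
theorem chk328 : band (pieces (fun c v => P.app (pr1 197136 c) v) (fun x => x) tab326 R 35184372088832 [45] pt287c l327) (allL l327 fun p => subW 35184372088832 p.2.1) = true := by decide +kernel
theorem chk329 : cover 3 [0] (l327) 0 = true := by decide +kernel
theorem chk332 : band (conjA (prodOps 197136 P.ops (ops2 275)) R 1044480 23 l331) (subM 2130303778816 (insL l331 0)) = true := by decide +kernel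
theorem chk334 : dcRel (prodOps 197136 P.ops (ops2 275)) R 1044480 9437184 23 20 l333 = true := by decide +kernel
theorem chk339 : band (pieces (fun c v => (app2 275 276 9) (pr2 197136 c) v) (fun x => x) tab337 R 70300024700928 [36, 37, 38, 39, 40, 41, 42, 43, 44, 45] pt62c l338) (allL l338 fun p => subW 1044480 p.2.1) = true := by decide +kernel
theorem chk340 : cover 27 (List.map Prod.fst (l333)) (l338) 0 = true := by decide +kernel
theorem chk342 : allL (List.map Prod.fst (l333)) (subW 1044480) = true := by decide +kernel
theorem chk343 : inDC (prodOps 197136 P.ops (ops2 275)) R 1044480 9437184 (R 20) 0 20 = true := by decide +kernel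
theorem chk344 : subM 4190208 8388606 = true := by decide +kernel
theorem chk346 : subM 2093056 4190208 = true := by decide +kernel
theorem chk347 : subM 12578816 (Nat.lor 4190208 10481664) = true := by decide +kernel
theorem chk349 : band (slp (prodOps 197136 P.ops (ops2 275)) R l348 12578816) (subM 70368756756480 (insL l348 12578816)) = true := by decide +kernel
theorem chk351 : subM 70368746274816 70368756756480 = true := by decide +kernel
theorem chk380 : band (slp (prodOps 197136 P.ops (ops2 275)) R l379 10481664) (subM 985162418487296 (insL l379 10481664)) = true := by decide +kernel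
theorem chk387 : band (slp (prodOps 197136 P.ops (ops2 275)) R l386 985162418487296) (subM 17873661021126656 (insL l386 985162418487296)) = true := by decide +kernel
theorem chk389 : subM 16888498602639360 17873661021126656 = true := by decide +kernel
theorem chk390 : band (fixL (fun c v => (app2 275 276 9) (pr2 197136 c) v) (fun x => x) R [50, 51, 52, 53] pt382c) (subM 16888498602639360 (insL [50, 51, 52, 53] 0)) = true := by decide +kernel
theorem chk396 : band (pieces (fun c v => (app2 275 276 9) (pr2 197136 c) v) (fun x => x) tab394 R 17873661021126656 [47, 48, 49, 50, 51, 52, 53] pt382c l395) (allL l395 fun p => subW 17873661021126656 p.2.1) = true := by decide +kernel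
theorem chk397 : cover 27 [0] (l395) 0 = true := by decide +kernel
theorem chk399 : subM 13510798882111488 16888498602639360 = true := by decide +kernel
theorem chk400 : band (fixL (fun c v => (app2 275 276 9) (pr2 197136 c) v) (fun x => x) R [52, 53] pt383c) (subM 13510798882111488 (insL [52, 53] 0)) = true := by decide +kernel
theorem chk406 : band (pieces (fun c v => (app2 275 276 9) (pr2 197136 c) v) (fun x => x) tab404 R 16888498602639360 [50, 51, 52, 53] pt383c l405) (allL l405 fun p => subW 16888498602639360 p.2.1) = true := by decide +kernel
theorem chk407 : cover 18 [0] (l405) 0 = true := by decide +kernel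
theorem chk409 : subM 9007199254740992 13510798882111488 = true := by decide +kernel
theorem chk410 : band (fixL (fun c v => (app2 275 276 9) (pr2 197136 c) v) (fun x => x) R [53] pt384c) (subM 9007199254740992 (insL [53] 0)) = true := by decide +kernel
theorem chk416 : band (pieces (fun c v => (app2 275 276 9) (pr2 197136 c) v) (fun x => x) tab414 R 13510798882111488 [52, 53] pt384c l415) (allL l415 fun p => subW 13510798882111488 p.2.1) = true := by decide +kernel
theorem chk417 : cover 2 [0] (l415) 0 = true := by decide +kernel
theorem chk419 : subM 0 9007199254740992 = true := by decide +kernel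
theorem chk420 : band (fixL (fun c v => P.app (pr1 197136 c) v) (fun x => x) R [] pt385c) (subM 0 (insL [] 0)) = true := by decide +kernel
theorem chk426 : band (pieces (fun c v => P.app (pr1 197136 c) v) (fun x => x) tab424 R 9007199254740992 [53] pt385c l425) (allL l425 fun p => subW 9007199254740992 p.2.1) = true := by decide +kernel
theorem chk427 : cover 3 [0] (l425) 0 = true := by decide +kernel
theorem chk430 : band (conjB (prodOps 197136 P.ops (ops2 275)) R 10481664 21 l429) (subM 985162418487296 (insL l429 0)) = true := by decide +kernel
theorem chk431 : band (fixL (fun c v => (app2 275 276 9) (pr2 197136 c) v) (fun x => x) R [47, 48, 49] pt345c) (subM 985162418487296 (insL [47, 48, 49] 0)) = true := by decide +kernel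
theorem chk461 : band (slp (prodOps 197136 P.ops (ops2 275)) R l460 10481664) (subM 126100789566373888 (insL l460 10481664)) = true := by decide +kernel
theorem chk469 : band (slp (prodOps 197136 P.ops (ops2 275)) R l468 126100789566373888) (subM 18428729675200069632 (insL l468 126100789566373888)) = true := by decide +kernel
theorem chk471 : subM 18302628885633695744 18428729675200069632 = true := by decide +kernel
theorem chk472 : band (fixL (fun c v => (app2 275 276 9) (pr2 197136 c) v) (fun x => x) R [57, 58, 59, 60, 61, 62, 63] pt463c) (subM 18302628885633695744 (insL [57, 58, 59, 60, 61, 62, 63] 0)) = true := by decide +kernel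
theorem chk478 : band (pieces (fun c v => (app2 275 276 9) (pr2 197136 c) v) (fun x => x) tab476 R 18428729675200069632 [54, 55, 56, 57, 58, 59, 60, 61, 62, 63] pt463c l477) (allL l477 fun p => subW 18428729675200069632 p.2.1) = true := by decide +kernel
theorem chk479 : cover 2 [0] (l477) 0 = true := by decide +kernel
theorem chk481 : subM 17870283321406128128 18302628885633695744 = true := by decide +kernel
theorem chk482 : band (fixL (fun c v => (app2 275 276 9) (pr2 197136 c) v) (fun x => x) R [59, 60, 61, 62, 63] pt464c) (subM 17870283321406128128 (insL [59, 60, 61, 62, 63] 0)) = true := by decide +kernel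
theorem chk488 : band (pieces (fun c v => (app2 275 276 9) (pr2 197136 c) v) (fun x => x) tab486 R 18302628885633695744 [57, 58, 59, 60, 61, 62, 63] pt464c l487) (allL l487 fun p => subW 18302628885633695744 p.2.1) = true := by decide +kernel
theorem chk489 : cover 27 [0] (l487) 0 = true := by decide +kernel
theorem chk491 : subM 13835058055282163712 17870283321406128128 = true := by decide +kernel
theorem chk492 : band (fixL (fun c v => (app2 275 276 9) (pr2 197136 c) v) (fun x => x) R [62, 63] pt465c) (subM 13835058055282163712 (insL [62, 63] 0)) = true := by decide +kernel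
theorem chk498 : band (pieces (fun c v => (app2 275 276 9) (pr2 197136 c) v) (fun x => x) tab496 R 17870283321406128128 [59, 60, 61, 62, 63] pt465c l497) (allL l497 fun p => subW 17870283321406128128 p.2.1) = true := by decide +kernel
theorem chk499 : cover 9 [0] (l497) 0 = true := by decide +kernel
theorem chk501 : subM 9223372036854775808 13835058055282163712 = true := by decide +kernel
theorem chk502 : band (fixL (fun c v => (app2 275 276 9) (pr2 197136 c) v) (fun x => x) R [63] pt466c) (subM 9223372036854775808 (insL [63] 0)) = true := by decide +kernel
theorem chk508 : band (pieces (fun c v => (app2 275 276 9) (pr2 197136 c) v) (fun x => x) tab506 R 13835058055282163712 [62, 63] pt466c l507) (allL l507 fun p => subW 13835058055282163712 p.2.1) = true := by decide +kernel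
theorem chk509 : cover 2 [0] (l507) 0 = true := by decide +kernel
theorem chk511 : subM 0 9223372036854775808 = true := by decide +kernel
theorem chk512 : band (fixL (fun c v => P.app (pr1 197136 c) v) (fun x => x) R [] pt467c) (subM 0 (insL [] 0)) = true := by decide +kernel
theorem chk518 : band (pieces (fun c v => P.app (pr1 197136 c) v) (fun x => x) tab516 R 9223372036854775808 [63] pt467c l517) (allL l517 fun p => subW 9223372036854775808 p.2.1) = true := by decide +kernel
theorem chk519 : cover 3 [0] (l517) 0 = true := by decide +kernel
theorem chk522 : band (conjA (prodOps 197136 P.ops (ops2 275)) R 10481664 21 l521) (subM 126100789566373888 (insL l521 0)) = true := by decide +kernel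
theorem chk524 : dcRel (prodOps 197136 P.ops (ops2 275)) R 10481664 70368746274816 21 21 l523 = true := by decide +kernel
theorem chk529 : band (pieces (fun c v => (app2 275 276 9) (pr2 197136 c) v) (fun x => x) tab527 R 18428729675200069632 [54, 55, 56, 57, 58, 59, 60, 61, 62, 63] pt345c l528) (allL l528 fun p => subW 10481664 p.2.1) = true := by decide +kernel
theorem chk530 : cover 30 (List.map Prod.fst (l523)) (l528) 0 = true := by decide +kernel
theorem chk532 : allL (List.map Prod.fst (l523)) (subW 10481664) = true := by decide +kernel
end

end CfsgH6.LyM
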