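import Cfsg.Agent.H6.LyND0

set_option autoImplicit false
set_option maxRecDepth 100000
set_option linter.all false
set_option Elab.async false

namespace CfsgH6.LyN

open CfsgH5 CfsgH6 CfsgLY CfsgLY.M2 Subgroup MulAction Pointwise

noncomputable section

theorem chk276 : band (pieces (fun c v => (app2 275 276 9) (pr2 197136 c) v) (fun x => x) tab274 R 88854531650395451579556377492585239520739328 [39, 38, 141, 145, 140, 142, 138, 143] pt74c l275) (allL l275 fun p => subW 2658455991569831743645886299422851070 p.2.1) = true := by decide +kernel
theorem chk278 : band (pieces (fun c v => (app2 275 276 9) (pr2 197136 c) v) (fun x => x) tab274 R 88854531650395451579556377492585239520739328 [39, 38, 141, 145, 140, 142, 138, 143] pt74c l277) (allL l277 fun p => subW 2658455991569831743645886299422851070 p.2.1) = true := by decide +kernel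
theorem chk279 : cover 15400 [0, 61, 63, 65, 66, 67, 68, 69, 75, 81, 82, 85, 92, 110, 118, 62555] (l275 ++ (l277)) 0 = true := by decide +kernel
theorem chk281 : allL [0, 61, 63, 65, 66, 67, 68, 69, 75, 81, 82, 85, 92, 110, 118, 62555] (subW 2658455991569831743645886299422851070) = true := by decide +kernel
theorem chk286 : band (slp OM R l285 1008806316530991104) (subM 624420865558857447963000112642960438698442752 (insL l285 1008806316530991104)) = true := by decide +kernel
theorem chk288 : subM 535217884764734955396857238543560676143529984 624420865558857447963000112642960438698442752 = true := by decide +kernel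
theorem chk289 : band (fixL (fun c v => (app2 275 276 9) (pr2 197136 c) v) (fun x => x) R [147, 148] pt282c) (subM 535217884764734955396857238543560676143529984 (insL [147, 148] 0)) = true := by decide +kernel
theorem chk295 : band (pieces (fun c v => (app2 275 276 9) (pr2 197136 c) v) (fun x => x) tab293 R 624420865558857447963000112642960438698442752 [57, 58, 59, 146, 147, 148] pt282c l294) (allL l294 fun p => subW 624420865558857447963000112642960438698442752 p.2.1) = true := by decide +kernel
theorem chk296 : cover 75 [0] (l294) 0 = true := by decide +kernel
theorem chk298 : subM 356811923176489970264571492362373784095686656 535217884764734955396857238543560676143529984 = true := by decide +kernel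
theorem chk299 : band (fixL (fun c v => (app2 275 276 9) (pr2 197136 c) v) (fun x => x) R [148] pt283c) (subM 356811923176489970264571492362373784095686656 (insL [148] 0)) = true := by decide +kernel
theorem chk305 : band (pieces (fun c v => (app2 275 276 9) (pr2 197136 c) v) (fun x => x) tab303 R 535217884764734955396857238543560676143529984 [147, 148] pt283c l304) (allL l304 fun p => subW 535217884764734955396857238543560676143529984 p.2.1) = true := by decide +kernel
theorem chk306 : cover 2 [0] (l304) 0 = true := by decide +kernel
theorem chk308 : subM 0 356811923176489970264571492362373784095686656 = true := by decide +kernel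
theorem chk309 : band (fixL (fun c v => (app2 275 276 9) (pr2 197136 c) v) (fun x => x) R [] pt284c) (subM 0 (insL [] 0)) = true := by decide +kernel
theorem chk315 : band (pieces (fun c v => (app2 275 276 9) (pr2 197136 c) v) (fun x => x) tab313 R 356811923176489970264571492362373784095686656 [148] pt284c l314) (allL l314 fun p => subW 356811923176489970264571492362373784095686656 p.2.1) = true := by decide +kernel
theorem chk316 : cover 5 [0] (l314) 0 = true := by decide +kernel
theorem chk342 : band (pieces (fun c v => (app2 275 276 9) (pr2 197136 c) v) (fun x => x) tab340 R 624420865558857447963000112642960438698442752 [57, 58, 59, 146, 147, 148] pt74c l341) (allL l341 fun p => subW 2658455991569831743645886299422851070 p.2.1) = true := by decide +kernel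
theorem chk344 : band (pieces (fun c v => (app2 275 276 9) (pr2 197136 c) v) (fun x => x) tab340 R 624420865558857447963000112642960438698442752 [57, 58, 59, 146, 147, 148] pt74c l343) (allL l343 fun p => subW 2658455991569831743645886299422851070 p.2.1) = true := by decide +kernel
theorem chk345 : cover 15400 [0, 61, 62, 63, 64, 66, 67, 68, 71, 73, 74, 75, 77, 79, 81, 83, 85, 89, 92, 95, 97, 108, 113, 114, 120, 62532, 62534, 62540, 62547, 62553, 62560, 62573, 62577, 62580, 62583, 63567, 63581, 65622] (l341 ++ (l343)) 0 = true := by decide +kernel
theorem chk347 : allL [0, 61, 62, 63, 64, 66, 67, 68, 71, 73, 74, 75, 77, 79, 81, 83, 85, 89, 92, 95, 97, 108, 113, 114, 120, 62532, 62534, 62540, 62547, 62553, 62560, 62573, 62577, 62580, 62583, 63567, 63581, 65622] (subW 2658455991569831743645886299422851070) = true := by decide +kernel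
end

end CfsgH6.LyN
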