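import Cfsg.Agent.H6.LyNK0
import Cfsg.Agent.H6.LyNK1

set_option autoImplicit false
set_option maxRecDepth 100000
set_option linter.all false
set_option Elab.async false

namespace CfsgH6.LyN

open CfsgH5 CfsgH6 CfsgLY CfsgLY.M2 Subgroup MulAction Pointwise

noncomputable section

theorem v0 : CM.Mem R ⊤ 2658455991569831743645886299422851070 := (GC.mem_extR R_eq (by decide +kernel)).2 memM
theorem A_m0 : CM.Mem R (CM.gen R 4503599690285056) 4503599690285056 := GC.Mem.gen (v0.sub chk1)
theorem pt2e : ∃ x, MP.Rep pt2c x := via_rep _ _ (act2_rep (n := 275) (d := 9) (by decide) (by decide) (c := 0x100000) (by decide +kernel))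
noncomputable def pt2 := Classical.choose pt2e
theorem pt2r : MP.Rep pt2c pt2 := Classical.choose_spec pt2e
theorem pt3e : ∃ x, MP.Rep pt3c x := via_rep _ _ (act2_rep (n := 275) (d := 9) (by decide) (by decide) (c := 0x1) (by decide +kernel))
noncomputable def pt3 := Classical.choose pt3e
theorem pt3r : MP.Rep pt3c pt3 := Classical.choose_spec pt3e
theorem pt4e : ∃ x, MP.Rep pt4c x := via_rep _ _ (act2_rep (n := 275) (d := 9) (by decide) (by decide) (c := 0x2) (by decide +kernel))
noncomputable def pt4 := Classical.choose pt4e
theorem pt4r : MP.Rep pt4c pt4 := Classical.choose_spec pt4e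
theorem pt5e : ∃ x, MP.Rep pt5c x := via_rep _ _ (act2_rep (n := 275) (d := 9) (by decide) (by decide) (c := 0x10) (by decide +kernel))
noncomputable def pt5 := Classical.choose pt5e
theorem pt5r : MP.Rep pt5c pt5 := Classical.choose_spec pt5e
theorem pt6e : ∃ x, MP.Rep pt6c x := via_rep _ _ (act2_rep (n := 275) (d := 9) (by decide) (by decide) (c := 0x4) (by decide +kernel))
noncomputable def pt6 := Classical.choose pt6e
theorem pt6r : MP.Rep pt6c pt6 := Classical.choose_spec pt6e
theorem pt7e : ∃ x, MV.Rep pt7c x := via_rep _ _ (PP.exists_vec P_ok (c := 0x400010004000300000004000400020003000200040002000400030001000400040001000000010004000100010003000400040004000200000003000000030002000300040001000000040003000000020004000200010003000300010003000000040003000400030004000200020001000400030004000200000002000100000004000300000002000300010001000200010004000300030001000400000003000100030000000400000000000000020000000400010002000300000004000300030000000300000001000300030003000300000002000000040001) (by decide +kernel))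
noncomputable def pt7 := Classical.choose pt7e
theorem pt7r : MV.Rep pt7c pt7 := Classical.choose_spec pt7e
theorem A_s0_10 : CM.Mem R (CM.gen R 4503599690285056) 677906277850307095180946104342666018816 := A_m0.slp' chk9
theorem A_s0_13 : CM.Mem R (CM.gen R 4503599690285056) 2719600479375937875961193748933275287552 := A_s0_10.slp' chk12
theorem A_c0i : CM.Mem R (CM.gen R 4503599690285056) 2719600479375937875961189245333585002496 := A_s0_13.sub chk14
theorem A_c0m : CM.Mem R (CM.gen R 2719600479375937875961189245333585002496) 2719600479375937875961189245333585002496 := A_c0i.gen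
theorem fx16 : CM.gen R 2719600479375937875961189245333585002496 ≤ stabilizer _ pt2 := Act.fix_sound A_c0i.top pt2r chk15
theorem cov23 : Cov (CM.gen R 4503599690285056) (CM.wds R [0]) pt2 5 := Act.cov_of_seen (Act.pieces_sound A_s0_13 A_s0_13.top pt2r chk21) chk22
theorem A_c1i : CM.Mem R (CM.gen R 2719600479375937875961189245333585002496) 2700991287434949053740535946489660178432 := A_c0m.sub chk24
theorem A_c1m : CM.Mem R (CM.gen R 2700991287434949053740535946489660178432) 2700991287434949053740535946489660178432 := A_c1i.gen
theorem fx26 : CM.gen R 2700991287434949053740535946489660178432 ≤ stabilizer _ pt3 := Act.fix_sound A_c1i.top pt3r chk25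
theorem cov33 : Cov (CM.gen R 2719600479375937875961189245333585002496) (CM.wds R [0]) pt3 108 := Act.cov_of_seen (Act.pieces_sound A_c0m A_c0m.top pt3r chk31) chk32
theorem A_c2i : CM.Mem R (CM.gen R 2700991287434949053740535946489660178432) 2552117751907038475975309555738261585920 := A_c1m.sub chk34
theorem A_c2m : CM.Mem R (CM.gen R 2552117751907038475975309555738261585920) 2552117751907038475975309555738261585920 := A_c2i.gen
theorem fx36 : CM.gen R 2552117751907038475975309555738261585920 ≤ stabilizer _ pt4 := Act.fix_sound A_c2i.top pt4r chk35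
theorem cov43 : Cov (CM.gen R 2700991287434949053740535946489660178432) (CM.wds R [0]) pt4 27 := Act.cov_of_seen (Act.pieces_sound A_c1m A_c1m.top pt4r chk41) chk42
theorem A_c3i : CM.Mem R (CM.gen R 2552117751907038475975309555738261585920) 2381976568446569244243622252022377480192 := A_c2m.sub chk44
theorem A_c3m : CM.Mem R (CM.gen R 2381976568446569244243622252022377480192) 2381976568446569244243622252022377480192 := A_c3i.gen
theorem fx46 : CM.gen R 2381976568446569244243622252022377480192 ≤ stabilizer _ pt5 := Act.fix_sound A_c3i.top pt5r chk45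
theorem cov53 : Cov (CM.gen R 2552117751907038475975309555738261585920) (CM.wds R [0]) pt5 2 := Act.cov_of_seen (Act.pieces_sound A_c2m A_c2m.top pt5r chk51) chk52
theorem A_c4i : CM.Mem R (CM.gen R 2381976568446569244243622252022377480192) 1361129467683753853853498429727072845824 := A_c3m.sub chk54
theorem A_c4m : CM.Mem R (CM.gen R 1361129467683753853853498429727072845824) 1361129467683753853853498429727072845824 := A_c4i.gen
theorem fx56 : CM.gen R 1361129467683753853853498429727072845824 ≤ stabilizer _ pt6 := Act.fix_sound A_c4i.top pt6r chk55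
theorem cov63 : Cov (CM.gen R 2381976568446569244243622252022377480192) (CM.wds R [0]) pt6 4 := Act.cov_of_seen (Act.pieces_sound A_c3m A_c3m.top pt6r chk61) chk62
theorem A_c5i : CM.Mem R (CM.gen R 1361129467683753853853498429727072845824) 0 := A_c4m.sub chk64
theorem A_c5m : CM.Mem R (CM.gen R 0) 0 := A_c5i.gen
theorem fx66 : CM.gen R 0 ≤ stabilizer _ pt7 := Act.fix_sound A_c5i.top pt7r chk65
theorem cov73 : Cov (CM.gen R 1361129467683753853853498429727072845824) (CM.wds R [0]) pt7 3 := Act.cov_of_seen (Act.pieces_sound A_c4m A_c4m.top pt7r chk71) chk72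
theorem A_lb6 : 1 ≤ Nat.card (CM.gen R 0) := Nat.card_pos
theorem A_lo5 : 3 * Nat.card (CM.gen R 0) ≤ Nat.card (CM.gen R 1361129467683753853853498429727072845824) := cov73.low le_rfl (GC.wds_zero _) A_c5i.gen_le fx66
theorem A_lb5 : 3 ≤ Nat.card (CM.gen R 1361129467683753853853498429727072845824) := low_step A_lo5 A_lb6 (by decide +kernel)
theorem A_lo4 : 4 * Nat.card (CM.gen R 1361129467683753853853498429727072845824) ≤ Nat.card (CM.gen R 2381976568446569244243622252022377480192) := cov63.low le_rfl (GC.wds_zero _) A_c4i.gen_le fx56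
theorem A_lb4 : 12 ≤ Nat.card (CM.gen R 2381976568446569244243622252022377480192) := low_step A_lo4 A_lb5 (by decide +kernel)
theorem A_lo3 : 2 * Nat.card (CM.gen R 2381976568446569244243622252022377480192) ≤ Nat.card (CM.gen R 2552117751907038475975309555738261585920) := cov53.low le_rfl (GC.wds_zero _) A_c3i.gen_le fx46
theorem A_lb3 : 24 ≤ Nat.card (CM.gen R 2552117751907038475975309555738261585920) := low_step A_lo3 A_lb4 (by decide +kernel)
theorem A_lo2 : 27 * Nat.card (CM.gen R 2552117751907038475975309555738261585920) ≤ Nat.card (CM.gen R 2700991287434949053740535946489660178432) := cov43.low le_rfl (GC.wds_zero _) A_c2i.gen_le fx36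
theorem A_lb2 : 648 ≤ Nat.card (CM.gen R 2700991287434949053740535946489660178432) := low_step A_lo2 A_lb3 (by decide +kernel)
theorem A_lo1 : 108 * Nat.card (CM.gen R 2700991287434949053740535946489660178432) ≤ Nat.card (CM.gen R 2719600479375937875961189245333585002496) := cov33.low le_rfl (GC.wds_zero _) A_c1i.gen_le fx26
theorem A_lb1 : 69984 ≤ Nat.card (CM.gen R 2719600479375937875961189245333585002496) := low_step A_lo1 A_lb2 (by decide +kernel)
theorem A_lo0 : 5 * Nat.card (CM.gen R 2719600479375937875961189245333585002496) ≤ Nat.card (CM.gen R 4503599690285056) := cov23.low le_rfl (GC.wds_zero _) A_c0i.gen_le fx16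
theorem A_lb0 : 349920 ≤ Nat.card (CM.gen R 4503599690285056) := low_step A_lo0 A_lb1 (by decide +kernel)
theorem pt74e : ∃ x, MP.Rep pt74c x := via_rep _ _ (act2_rep (n := 275) (d := 9) (by decide) (by decide) (c := 0x100000040000000020000000000010000000000000000000000000000000000100000) (by decide +kernel))
noncomputable def pt74 := Classical.choose pt74e
theorem pt74r : MP.Rep pt74c pt74 := Classical.choose_spec pt74e
theorem fx76 : CM.gen R 4503599690285056 ≤ stabilizer _ pt74 := Act.fix_sound (v0.sub chk1) pt74r chk75
theorem cov105 : Cov (CM.gen R 4503599690285056) (CM.wds R [0, 21, 30, 31, 56]) pt74 15400 := Act.cov_of_seen (forall_app (Act.pieces_sound A_s0_13 v0.top pt74r chk101) (Act.pieces_sound A_s0_13 v0.top pt74r chk103)) chk104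
theorem dec1 : Dec ⊤ (CM.gen R 4503599690285056) (CM.wds R [0, 21, 30, 31, 56]) (CM.gen R 4503599690285056) := cov105.dec le_top (Set.subset_univ _) le_top fx76 (up_low ubM' A_lb0 (by decide +kernel))
theorem decT1 (m : M6) : ∃ τ ∈ AA, ∃ l ∈ LW1, ∃ a ∈ AA, m = τ * mw l * a := GC.dec_extR R_eq (by decide +kernel) (by decide +kernel) (by decide +kernel) dec1 m
theorem lbM : 5388768000 ≤ Nat.card (⊤ : Subgroup M6) := low_step (cov105.low le_top (Set.subset_univ _) le_top fx76) A_lb0 (by decide +kernel)
theorem v1 : CM.Mem R ⊤ 2722258935367507707704835131633007853566 := v0.lor' A_s0_13.top (by decide +kernel)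
theorem v4_109 : CM.Mem R ⊤ 1008806316530991104 := v1.slp' chk108
theorem memS4 : CM.Mem RM ⊤ 1008806316530991104 := (GC.mem_extR R_eq (by decide +kernel)).1 v4_109
theorem T2_m0 : CM.Mem R (CM.gen R 30064771072) 30064771072 := GC.Mem.gen (v0.sub chk110)
theorem pt111e : ∃ x, MP.Rep pt111c x := via_rep _ _ (act2_rep (n := 275) (d := 9) (by decide) (by decide) (c := 0x200) (by decide +kernel))
noncomputable def pt111 := Classical.choose pt111e
theorem pt111r : MP.Rep pt111c pt111 := Classical.choose_spec pt111e
theorem pt112e : ∃ x, MP.Rep pt112c x := via_rep _ _ (act2_rep (n := 275) (d := 9) (by decide) (by decide) (c := 0x1000000000000000000000000000000) (by decide +kernel))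
noncomputable def pt112 := Classical.choose pt112e
theorem pt112r : MP.Rep pt112c pt112 := Classical.choose_spec pt112e
theorem pt113e : ∃ x, MP.Rep pt113c x := via_rep _ _ (act2_rep (n := 275) (d := 9) (by decide) (by decide) (c := 0x80000000000000000000000000000000000000000000000000000000000000) (by decide +kernel))
noncomputable def pt113 := Classical.choose pt113e
theorem pt113r : MP.Rep pt113c pt113 := Classical.choose_spec pt113e
theorem pt114e : ∃ x, MP.Rep pt114c x := via_rep _ _ (act2_rep (n := 275) (d := 9) (by decide) (by decide) (c := 0x2000) (by decide +kernel))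
noncomputable def pt114 := Classical.choose pt114e
theorem pt114r : MP.Rep pt114c pt114 := Classical.choose_spec pt114e
theorem pt115e : ∃ x, MP.Rep pt115c x := via_rep _ _ (act2_rep (n := 275) (d := 9) (by decide) (by decide) (c := 0x1) (by decide +kernel))
noncomputable def pt115 := Classical.choose pt115e
theorem pt115r : MP.Rep pt115c pt115 := Classical.choose_spec pt115e
theorem T2_s0_118 : CM.Mem R (CM.gen R 30064771072) 171502312928152985585540802145641243344896 := T2_m0.slp' chk117
theorem T2_s0_121 : CM.Mem R (CM.gen R 30064771072) 345726884791673478878788601150706567610368 := T2_s0_118.slp' chk120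
theorem T2_c0i : CM.Mem R (CM.gen R 30064771072) 345726884791673478878788601150676502839296 := T2_s0_121.sub chk122
theorem T2_c0m : CM.Mem R (CM.gen R 345726884791673478878788601150676502839296) 345726884791673478878788601150676502839296 := T2_c0i.gen
theorem fx124 : CM.gen R 345726884791673478878788601150676502839296 ≤ stabilizer _ pt111 := Act.fix_sound T2_c0i.top pt111r chk123
theorem cov131 : Cov (CM.gen R 30064771072) (CM.wds R [0]) pt111 35 := Act.cov_of_seen (Act.pieces_sound T2_s0_121 T2_s0_121.top pt111r chk129) chk130
theorem T2_c1i : CM.Mem R (CM.gen R 345726884791673478878788601150676502839296) 337560107985570955755667610572314065764352 := T2_c0m.sub chk132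
theorem T2_c1m : CM.Mem R (CM.gen R 337560107985570955755667610572314065764352) 337560107985570955755667610572314065764352 := T2_c1i.gen
theorem fx134 : CM.gen R 337560107985570955755667610572314065764352 ≤ stabilizer _ pt112 := Act.fix_sound T2_c1i.top pt112r chk133
theorem cov141 : Cov (CM.gen R 345726884791673478878788601150676502839296) (CM.wds R [0]) pt112 4 := Act.cov_of_seen (Act.pieces_sound T2_c0m T2_c0m.top pt112r chk139) chk140
theorem T2_c2i : CM.Mem R (CM.gen R 337560107985570955755667610572314065764352) 326671072244100924924839623134497482997760 := T2_c1m.sub chk142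
theorem T2_c2m : CM.Mem R (CM.gen R 326671072244100924924839623134497482997760) 326671072244100924924839623134497482997760 := T2_c2i.gen
theorem fx144 : CM.gen R 326671072244100924924839623134497482997760 ≤ stabilizer _ pt113 := Act.fix_sound T2_c2i.top pt113r chk143
theorem cov151 : Cov (CM.gen R 337560107985570955755667610572314065764352) (CM.wds R [0]) pt113 3 := Act.cov_of_seen (Act.pieces_sound T2_c1m T2_c1m.top pt113r chk149) chk150
theorem T2_c3i : CM.Mem R (CM.gen R 326671072244100924924839623134497482997760) 217780714829400616616559748756331655331840 := T2_c2m.sub chk152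
theorem T2_c3m : CM.Mem R (CM.gen R 217780714829400616616559748756331655331840) 217780714829400616616559748756331655331840 := T2_c3i.gen
theorem fx154 : CM.gen R 217780714829400616616559748756331655331840 ≤ stabilizer _ pt114 := Act.fix_sound T2_c3i.top pt114r chk153
theorem cov161 : Cov (CM.gen R 326671072244100924924839623134497482997760) (CM.wds R [0]) pt114 6 := Act.cov_of_seen (Act.pieces_sound T2_c2m T2_c2m.top pt114r chk159) chk160
theorem T2_c4i : CM.Mem R (CM.gen R 217780714829400616616559748756331655331840) 0 := T2_c3m.sub chk162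
theorem T2_c4m : CM.Mem R (CM.gen R 0) 0 := T2_c4i.gen
theorem fx164 : CM.gen R 0 ≤ stabilizer _ pt115 := Act.fix_sound T2_c4i.top pt115r chk163
theorem cov171 : Cov (CM.gen R 217780714829400616616559748756331655331840) (CM.wds R [0]) pt115 4 := Act.cov_of_seen (Act.pieces_sound T2_c3m T2_c3m.top pt115r chk169) chk170
theorem T2_lb5 : 1 ≤ Nat.card (CM.gen R 0) := Nat.card_pos
theorem T2_lo4 : 4 * Nat.card (CM.gen R 0) ≤ Nat.card (CM.gen R 217780714829400616616559748756331655331840) := cov171.low le_rfl (GC.wds_zero _) T2_c4i.gen_le fx164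
theorem T2_lb4 : 4 ≤ Nat.card (CM.gen R 217780714829400616616559748756331655331840) := low_step T2_lo4 T2_lb5 (by decide +kernel)
theorem T2_lo3 : 6 * Nat.card (CM.gen R 217780714829400616616559748756331655331840) ≤ Nat.card (CM.gen R 326671072244100924924839623134497482997760) := cov161.low le_rfl (GC.wds_zero _) T2_c3i.gen_le fx154
theorem T2_lb3 : 24 ≤ Nat.card (CM.gen R 326671072244100924924839623134497482997760) := low_step T2_lo3 T2_lb4 (by decide +kernel)
theorem T2_lo2 : 3 * Nat.card (CM.gen R 326671072244100924924839623134497482997760) ≤ Nat.card (CM.gen R 337560107985570955755667610572314065764352) := cov151.low le_rfl (GC.wds_zero _) T2_c2i.gen_le fx144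
theorem T2_lb2 : 72 ≤ Nat.card (CM.gen R 337560107985570955755667610572314065764352) := low_step T2_lo2 T2_lb3 (by decide +kernel)
theorem T2_lo1 : 4 * Nat.card (CM.gen R 337560107985570955755667610572314065764352) ≤ Nat.card (CM.gen R 345726884791673478878788601150676502839296) := cov141.low le_rfl (GC.wds_zero _) T2_c1i.gen_le fx134
theorem T2_lb1 : 288 ≤ Nat.card (CM.gen R 345726884791673478878788601150676502839296) := low_step T2_lo1 T2_lb2 (by decide +kernel)
theorem T2_lo0 : 35 * Nat.card (CM.gen R 345726884791673478878788601150676502839296) ≤ Nat.card (CM.gen R 30064771072) := cov131.low le_rfl (GC.wds_zero _) T2_c0i.gen_le fx124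
theorem T2_lb0 : 10080 ≤ Nat.card (CM.gen R 30064771072) := low_step T2_lo0 T2_lb1 (by decide +kernel)
theorem cov202 : Cov (CM.gen R 30064771072) (CM.wds R [0, 61, 63, 66, 67, 68, 85, 107]) pt74 15400 := Act.cov_of_seen (forall_app (Act.pieces_sound T2_s0_121 v0.top pt74r chk196) (forall_app (Act.pieces_sound T2_s0_121 v0.top pt74r chk198) (Act.pieces_sound T2_s0_121 v0.top pt74r chk200))) chk201
theorem dec2 : Dec ⊤ (CM.gen R 30064771072) (CM.wds R [0, 61, 63, 66, 67, 68, 85, 107]) (CM.gen R 4503599690285056) := cov202.dec le_top (Set.subset_univ _) le_top fx76 (up_low ubM' A_lb0 (by decide +kernel))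
theorem decT2 (m : M6) : ∃ τ ∈ S2, ∃ l ∈ LW2, ∃ a ∈ AA, m = τ * mw l * a := GC.dec_extR R_eq (by decide +kernel) (by decide +kernel) (by decide +kernel) dec2 m
theorem lbS2 : 10080 ≤ Nat.card S2 := T2_lb0.trans (card_le_of_le (GC.gen_extR (C := CM) R_eq (M := 30064771072) (by decide +kernel)).le)
theorem T3_m0 : CM.Mem R (CM.gen R 1924145348608) 1924145348608 := GC.Mem.gen (v0.sub chk204)
theorem pt205e : ∃ x, MP.Rep pt205c x := via_rep _ _ (act2_rep (n := 275) (d := 9) (by decide) (by decide) (c := 0x200) (by decide +kernel))
noncomputable def pt205 := Classical.choose pt205e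
theorem pt205r : MP.Rep pt205c pt205 := Classical.choose_spec pt205e
theorem pt206e : ∃ x, MP.Rep pt206c x := via_rep _ _ (act2_rep (n := 275) (d := 9) (by decide) (by decide) (c := 0x2000) (by decide +kernel))
noncomputable def pt206 := Classical.choose pt206e
theorem pt206r : MP.Rep pt206c pt206 := Classical.choose_spec pt206e
theorem pt207e : ∃ x, MP.Rep pt207c x := via_rep _ _ (act2_rep (n := 275) (d := 9) (by decide) (by decide) (c := 0x1) (by decide +kernel))
noncomputable def pt207 := Classical.choose pt207e
theorem pt207r : MP.Rep pt207c pt207 := Classical.choose_spec pt207e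
theorem pt208e : ∃ x, MP.Rep pt208c x := via_rep _ _ (act2_rep (n := 275) (d := 9) (by decide) (by decide) (c := 0x2) (by decide +kernel))
noncomputable def pt208 := Classical.choose pt208e
theorem pt208r : MP.Rep pt208c pt208 := Classical.choose_spec pt208e
theorem T3_s0_211 : CM.Mem R (CM.gen R 1924145348608) 88854531650395451579556377492585239520739328 := T3_m0.slp' chk210
theorem T3_c0i : CM.Mem R (CM.gen R 1924145348608) 88854531650395451579556377492583315375390720 := T3_s0_211.sub chk212
theorem T3_c0m : CM.Mem R (CM.gen R 88854531650395451579556377492583315375390720) 88854531650395451579556377492583315375390720 := T3_c0i.gen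
theorem fx214 : CM.gen R 88854531650395451579556377492583315375390720 ≤ stabilizer _ pt205 := Act.fix_sound T3_c0i.top pt205r chk213
theorem cov221 : Cov (CM.gen R 1924145348608) (CM.wds R [0]) pt205 15 := Act.cov_of_seen (Act.pieces_sound T3_s0_211 T3_s0_211.top pt205r chk219) chk220
theorem T3_c1i : CM.Mem R (CM.gen R 88854531650395451579556377492583315375390720) 84324692781943918753931934718451616944488448 := T3_c0m.sub chk222
theorem T3_c1m : CM.Mem R (CM.gen R 84324692781943918753931934718451616944488448) 84324692781943918753931934718451616944488448 := T3_c1i.gen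
theorem fx224 : CM.gen R 84324692781943918753931934718451616944488448 ≤ stabilizer _ pt206 := Act.fix_sound T3_c1i.top pt206r chk223
theorem cov231 : Cov (CM.gen R 88854531650395451579556377492583315375390720) (CM.wds R [0]) pt206 6 := Act.cov_of_seen (Act.pieces_sound T3_c0m T3_c0m.top pt206r chk229) chk230
theorem T3_c2i : CM.Mem R (CM.gen R 84324692781943918753931934718451616944488448) 22300745198530623141535718272648361505980416 := T3_c1m.sub chk232
theorem T3_c2m : CM.Mem R (CM.gen R 22300745198530623141535718272648361505980416) 22300745198530623141535718272648361505980416 := T3_c2i.gen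
theorem fx234 : CM.gen R 22300745198530623141535718272648361505980416 ≤ stabilizer _ pt207 := Act.fix_sound T3_c2i.top pt207r chk233
theorem cov241 : Cov (CM.gen R 84324692781943918753931934718451616944488448) (CM.wds R [0]) pt207 16 := Act.cov_of_seen (Act.pieces_sound T3_c1m T3_c1m.top pt207r chk239) chk240
theorem T3_c3i : CM.Mem R (CM.gen R 22300745198530623141535718272648361505980416) 0 := T3_c2m.sub chk242
theorem T3_c3m : CM.Mem R (CM.gen R 0) 0 := T3_c3i.gen
theorem fx244 : CM.gen R 0 ≤ stabilizer _ pt208 := Act.fix_sound T3_c3i.top pt208r chk243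
theorem cov251 : Cov (CM.gen R 22300745198530623141535718272648361505980416) (CM.wds R [0]) pt208 2 := Act.cov_of_seen (Act.pieces_sound T3_c2m T3_c2m.top pt208r chk249) chk250
theorem T3_lb4 : 1 ≤ Nat.card (CM.gen R 0) := Nat.card_pos
theorem T3_lo3 : 2 * Nat.card (CM.gen R 0) ≤ Nat.card (CM.gen R 22300745198530623141535718272648361505980416) := cov251.low le_rfl (GC.wds_zero _) T3_c3i.gen_le fx244
theorem T3_lb3 : 2 ≤ Nat.card (CM.gen R 22300745198530623141535718272648361505980416) := low_step T3_lo3 T3_lb4 (by decide +kernel)
theorem T3_lo2 : 16 * Nat.card (CM.gen R 22300745198530623141535718272648361505980416) ≤ Nat.card (CM.gen R 84324692781943918753931934718451616944488448) := cov241.low le_rfl (GC.wds_zero _) T3_c2i.gen_le fx234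
theorem T3_lb2 : 32 ≤ Nat.card (CM.gen R 84324692781943918753931934718451616944488448) := low_step T3_lo2 T3_lb3 (by decide +kernel)
theorem T3_lo1 : 6 * Nat.card (CM.gen R 84324692781943918753931934718451616944488448) ≤ Nat.card (CM.gen R 88854531650395451579556377492583315375390720) := cov231.low le_rfl (GC.wds_zero _) T3_c1i.gen_le fx224
theorem T3_lb1 : 192 ≤ Nat.card (CM.gen R 88854531650395451579556377492583315375390720) := low_step T3_lo1 T3_lb2 (by decide +kernel)
theorem T3_lo0 : 15 * Nat.card (CM.gen R 88854531650395451579556377492583315375390720) ≤ Nat.card (CM.gen R 1924145348608) := cov221.low le_rfl (GC.wds_zero _) T3_c0i.gen_le fx214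
theorem T3_lb0 : 2880 ≤ Nat.card (CM.gen R 1924145348608) := low_step T3_lo0 T3_lb1 (by decide +kernel)
theorem cov280 : Cov (CM.gen R 1924145348608) (CM.wds R [0, 61, 63, 65, 66, 67, 68, 69, 75, 81, 82, 85, 92, 110, 118, 62555]) pt74 15400 := Act.cov_of_seen (forall_app (Act.pieces_sound T3_s0_211 v0.top pt74r chk276) (Act.pieces_sound T3_s0_211 v0.top pt74r chk278)) chk279
theorem dec3 : Dec ⊤ (CM.gen R 1924145348608) (CM.wds R [0, 61, 63, 65, 66, 67, 68, 69, 75, 81, 82, 85, 92, 110, 118, 62555]) (CM.gen R 4503599690285056) := cov280.dec le_top (Set.subset_univ _) le_top fx76 (up_low ubM' A_lb0 (by decide +kernel))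
theorem decT3 (m : M6) : ∃ τ ∈ S3, ∃ l ∈ LW3, ∃ a ∈ AA, m = τ * mw l * a := GC.dec_extR R_eq (by decide +kernel) (by decide +kernel) (by decide +kernel) dec3 m
theorem lbS3 : 2880 ≤ Nat.card S3 := T3_lb0.trans (card_le_of_le (GC.gen_extR (C := CM) R_eq (M := 1924145348608) (by decide +kernel)).le)
theorem T4_m0 : CM.Mem R (CM.gen R 1008806316530991104) 1008806316530991104 := GC.Mem.gen v4_109
theorem pt282e : ∃ x, MP.Rep pt282c x := via_rep _ _ (act2_rep (n := 275) (d := 9) (by decide) (by decide) (c := 0x1) (by decide +kernel))
noncomputable def pt282 := Classical.choose pt282e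
theorem pt282r : MP.Rep pt282c pt282 := Classical.choose_spec pt282e
theorem pt283e : ∃ x, MP.Rep pt283c x := via_rep _ _ (act2_rep (n := 275) (d := 9) (by decide) (by decide) (c := 0x400000000000000000000000000000000) (by decide +kernel))
noncomputable def pt283 := Classical.choose pt283e
theorem pt283r : MP.Rep pt283c pt283 := Classical.choose_spec pt283e
theorem pt284e : ∃ x, MP.Rep pt284c x := via_rep _ _ (act2_rep (n := 275) (d := 9) (by decide) (by decide) (c := 0x2) (by decide +kernel))
noncomputable def pt284 := Classical.choose pt284e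
theorem pt284r : MP.Rep pt284c pt284 := Classical.choose_spec pt284e
theorem T4_s0_287 : CM.Mem R (CM.gen R 1008806316530991104) 624420865558857447963000112642960438698442752 := T4_m0.slp' chk286
theorem T4_c0i : CM.Mem R (CM.gen R 1008806316530991104) 535217884764734955396857238543560676143529984 := T4_s0_287.sub chk288
theorem T4_c0m : CM.Mem R (CM.gen R 535217884764734955396857238543560676143529984) 535217884764734955396857238543560676143529984 := T4_c0i.gen
theorem fx290 : CM.gen R 535217884764734955396857238543560676143529984 ≤ stabilizer _ pt282 := Act.fix_sound T4_c0i.top pt282r chk289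
theorem cov297 : Cov (CM.gen R 1008806316530991104) (CM.wds R [0]) pt282 75 := Act.cov_of_seen (Act.pieces_sound T4_s0_287 T4_s0_287.top pt282r chk295) chk296
theorem T4_c1i : CM.Mem R (CM.gen R 535217884764734955396857238543560676143529984) 356811923176489970264571492362373784095686656 := T4_c0m.sub chk298
theorem T4_c1m : CM.Mem R (CM.gen R 356811923176489970264571492362373784095686656) 356811923176489970264571492362373784095686656 := T4_c1i.gen
theorem fx300 : CM.gen R 356811923176489970264571492362373784095686656 ≤ stabilizer _ pt283 := Act.fix_sound T4_c1i.top pt283r chk299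
theorem cov307 : Cov (CM.gen R 535217884764734955396857238543560676143529984) (CM.wds R [0]) pt283 2 := Act.cov_of_seen (Act.pieces_sound T4_c0m T4_c0m.top pt283r chk305) chk306
theorem T4_c2i : CM.Mem R (CM.gen R 356811923176489970264571492362373784095686656) 0 := T4_c1m.sub chk308
theorem T4_c2m : CM.Mem R (CM.gen R 0) 0 := T4_c2i.gen
theorem fx310 : CM.gen R 0 ≤ stabilizer _ pt284 := Act.fix_sound T4_c2i.top pt284r chk309
theorem cov317 : Cov (CM.gen R 356811923176489970264571492362373784095686656) (CM.wds R [0]) pt284 5 := Act.cov_of_seen (Act.pieces_sound T4_c1m T4_c1m.top pt284r chk315) chk316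
theorem T4_lb3 : 1 ≤ Nat.card (CM.gen R 0) := Nat.card_pos
theorem T4_lo2 : 5 * Nat.card (CM.gen R 0) ≤ Nat.card (CM.gen R 356811923176489970264571492362373784095686656) := cov317.low le_rfl (GC.wds_zero _) T4_c2i.gen_le fx310
theorem T4_lb2 : 5 ≤ Nat.card (CM.gen R 356811923176489970264571492362373784095686656) := low_step T4_lo2 T4_lb3 (by decide +kernel)
theorem T4_lo1 : 2 * Nat.card (CM.gen R 356811923176489970264571492362373784095686656) ≤ Nat.card (CM.gen R 535217884764734955396857238543560676143529984) := cov307.low le_rfl (GC.wds_zero _) T4_c1i.gen_le fx300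
theorem T4_lb1 : 10 ≤ Nat.card (CM.gen R 535217884764734955396857238543560676143529984) := low_step T4_lo1 T4_lb2 (by decide +kernel)
theorem T4_lo0 : 75 * Nat.card (CM.gen R 535217884764734955396857238543560676143529984) ≤ Nat.card (CM.gen R 1008806316530991104) := cov297.low le_rfl (GC.wds_zero _) T4_c0i.gen_le fx290
theorem T4_lb0 : 750 ≤ Nat.card (CM.gen R 1008806316530991104) := low_step T4_lo0 T4_lb1 (by decide +kernel)
theorem cov346 : Cov (CM.gen R 1008806316530991104) (CM.wds R [0, 61, 62, 63, 64, 66, 67, 68, 71, 73, 74, 75, 77, 79, 81, 83, 85, 89, 92, 95, 97, 108, 113, 114, 120, 62532, 62534, 62540, 62547, 62553, 62560, 62573, 62577, 62580, 62583, 63567, 63581, 65622]) pt74 15400 := Act.cov_of_seen (forall_app (Act.pieces_sound T4_s0_287 v0.top pt74r chk342) (Act.pieces_sound T4_s0_287 v0.top pt74r chk344)) chk345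
theorem dec4 : Dec ⊤ (CM.gen R 1008806316530991104) (CM.wds R [0, 61, 62, 63, 64, 66, 67, 68, 71, 73, 74, 75, 77, 79, 81, 83, 85, 89, 92, 95, 97, 108, 113, 114, 120, 62532, 62534, 62540, 62547, 62553, 62560, 62573, 62577, 62580, 62583, 63567, 63581, 65622]) (CM.gen R 4503599690285056) := cov346.dec le_top (Set.subset_univ _) le_top fx76 (up_low ubM' A_lb0 (by decide +kernel))
theorem decT4 (m : M6) : ∃ τ ∈ S4, ∃ l ∈ LW4, ∃ a ∈ AA, m = τ * mw l * a := GC.dec_extR R_eq (by decide +kernel) (by decide +kernel) (by decide +kernel) dec4 m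
theorem lbS4 : 750 ≤ Nat.card S4 := T4_lb0.trans (card_le_of_le (GC.gen_extR (C := CM) R_eq (M := 1008806316530991104) (by decide +kernel)).le)
theorem lbA : 349920 ≤ Nat.card AA := A_lb0.trans (card_le_of_le (GC.gen_extR (C := CM) R_eq (M := 4503599690285056) (by decide +kernel)).le)
end

end CfsgH6.LyN
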