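import Cfsg.Agent.H6.LyND0

set_option autoImplicit false
set_option maxRecDepth 100000
set_option linter.all false
set_option Elab.async false

namespace CfsgH6.LyN

open CfsgH5 CfsgH6 CfsgLY CfsgLY.M2 Subgroup MulAction Pointwise

noncomputable section

theorem chk1 : subM 4503599690285056 2658455991569831743645886299422851070 = true := by decide +kernel
theorem chk9 : band (slp OM R l8 4503599690285056) (subM 677906277850307095180946104342666018816 (insL l8 4503599690285056)) = true := by decide +kernel
theorem chk12 : band (slp OM R l11 677906277850307095180946104342666018816) (subM 2719600479375937875961193748933275287552 (insL l11 677906277850307095180946104342666018816)) = true := by decide +kernel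
theorem chk14 : subM 2719600479375937875961189245333585002496 2719600479375937875961193748933275287552 = true := by decide +kernel
theorem chk15 : band (fixL (fun c v => (app2 275 276 9) (pr2 197136 c) v) (fun x => x) R [121, 122, 123, 124, 125, 126, 127, 128, 129, 130] pt2c) (subM 2719600479375937875961189245333585002496 (insL [121, 122, 123, 124, 125, 126, 127, 128, 129, 130] 0)) = true := by decide +kernel
theorem chk21 : band (pieces (fun c v => (app2 275 276 9) (pr2 197136 c) v) (fun x => x) tab19 R 2719600479375937875961193748933275287552 [22, 23, 24, 25, 52, 121, 122, 123, 124, 125, 126, 127, 128, 129, 130] pt2c l20) (allL l20 fun p => subW 2719600479375937875961193748933275287552 p.2.1) = true := by decide +kernel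
theorem chk22 : cover 5 [0] (l20) 0 = true := by decide +kernel
theorem chk24 : subM 2700991287434949053740535946489660178432 2719600479375937875961189245333585002496 = true := by decide +kernel
theorem chk25 : band (fixL (fun c v => (app2 275 276 9) (pr2 197136 c) v) (fun x => x) R [124, 125, 126, 127, 128, 129, 130] pt3c) (subM 2700991287434949053740535946489660178432 (insL [124, 125, 126, 127, 128, 129, 130] 0)) = true := by decide +kernel
theorem chk31 : band (pieces (fun c v => (app2 275 276 9) (pr2 197136 c) v) (fun x => x) tab29 R 2719600479375937875961189245333585002496 [121, 122, 123, 124, 125, 126, 127, 128, 129, 130] pt3c l30) (allL l30 fun p => subW 2719600479375937875961189245333585002496 p.2.1) = true := by decide +kernel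
theorem chk32 : cover 108 [0] (l30) 0 = true := by decide +kernel
theorem chk34 : subM 2552117751907038475975309555738261585920 2700991287434949053740535946489660178432 = true := by decide +kernel
theorem chk35 : band (fixL (fun c v => (app2 275 276 9) (pr2 197136 c) v) (fun x => x) R [127, 128, 129, 130] pt4c) (subM 2552117751907038475975309555738261585920 (insL [127, 128, 129, 130] 0)) = true := by decide +kernel
theorem chk41 : band (pieces (fun c v => (app2 275 276 9) (pr2 197136 c) v) (fun x => x) tab39 R 2700991287434949053740535946489660178432 [124, 125, 126, 127, 128, 129, 130] pt4c l40) (allL l40 fun p => subW 2700991287434949053740535946489660178432 p.2.1) = true := by decide +kernel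
theorem chk42 : cover 27 [0] (l40) 0 = true := by decide +kernel
theorem chk44 : subM 2381976568446569244243622252022377480192 2552117751907038475975309555738261585920 = true := by decide +kernel
theorem chk45 : band (fixL (fun c v => (app2 275 276 9) (pr2 197136 c) v) (fun x => x) R [128, 129, 130] pt5c) (subM 2381976568446569244243622252022377480192 (insL [128, 129, 130] 0)) = true := by decide +kernel
theorem chk51 : band (pieces (fun c v => (app2 275 276 9) (pr2 197136 c) v) (fun x => x) tab49 R 2552117751907038475975309555738261585920 [127, 128, 129, 130] pt5c l50) (allL l50 fun p => subW 2552117751907038475975309555738261585920 p.2.1) = true := by decide +kernel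
theorem chk52 : cover 2 [0] (l50) 0 = true := by decide +kernel
theorem chk54 : subM 1361129467683753853853498429727072845824 2381976568446569244243622252022377480192 = true := by decide +kernel
theorem chk55 : band (fixL (fun c v => (app2 275 276 9) (pr2 197136 c) v) (fun x => x) R [130] pt6c) (subM 1361129467683753853853498429727072845824 (insL [130] 0)) = true := by decide +kernel
theorem chk61 : band (pieces (fun c v => (app2 275 276 9) (pr2 197136 c) v) (fun x => x) tab59 R 2381976568446569244243622252022377480192 [128, 129, 130] pt6c l60) (allL l60 fun p => subW 2381976568446569244243622252022377480192 p.2.1) = true := by decide +kernel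
theorem chk62 : cover 4 [0] (l60) 0 = true := by decide +kernel
theorem chk64 : subM 0 1361129467683753853853498429727072845824 = true := by decide +kernel
theorem chk65 : band (fixL (fun c v => P.app (pr1 197136 c) v) (fun x => x) R [] pt7c) (subM 0 (insL [] 0)) = true := by decide +kernel
theorem chk71 : band (pieces (fun c v => P.app (pr1 197136 c) v) (fun x => x) tab69 R 1361129467683753853853498429727072845824 [130] pt7c l70) (allL l70 fun p => subW 1361129467683753853853498429727072845824 p.2.1) = true := by decide +kernel
theorem chk72 : cover 3 [0] (l70) 0 = true := by decide +kernel
theorem chk75 : band (fixL (fun c v => (app2 275 276 9) (pr2 197136 c) v) (fun x => x) R [22, 23, 24, 25, 52] pt74c) (subM 4503599690285056 (insL [22, 23, 24, 25, 52] 0)) = true := by decide +kernel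
theorem chk101 : band (pieces (fun c v => (app2 275 276 9) (pr2 197136 c) v) (fun x => x) tab99 R 2719600479375937875961193748933275287552 [123, 25, 129, 52, 121, 24, 126, 127] pt74c l100) (allL l100 fun p => subW 2658455991569831743645886299422851070 p.2.1) = true := by decide +kernel
theorem chk103 : band (pieces (fun c v => (app2 275 276 9) (pr2 197136 c) v) (fun x => x) tab99 R 2719600479375937875961193748933275287552 [123, 25, 129, 52, 121, 24, 126, 127] pt74c l102) (allL l102 fun p => subW 2658455991569831743645886299422851070 p.2.1) = true := by decide +kernel
theorem chk104 : cover 15400 [0, 21, 30, 31, 56] (l100 ++ (l102)) 0 = true := by decide +kernel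
theorem chk106 : allL [0, 21, 30, 31, 56] (subW 2658455991569831743645886299422851070) = true := by decide +kernel
theorem chk108 : band (slp OM R l107 2722258935367507707704835131633007853566) (subM 1008806316530991104 (insL l107 2722258935367507707704835131633007853566)) = true := by decide +kernel
theorem chk110 : subM 30064771072 2658455991569831743645886299422851070 = true := by decide +kernel
theorem chk117 : band (slp OM R l116 30064771072) (subM 171502312928152985585540802145641243344896 (insL l116 30064771072)) = true := by decide +kernel
theorem chk120 : band (slp OM R l119 171502312928152985585540802145641243344896) (subM 345726884791673478878788601150706567610368 (insL l119 171502312928152985585540802145641243344896)) = true := by decide +kernel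
theorem chk122 : subM 345726884791673478878788601150676502839296 345726884791673478878788601150706567610368 = true := by decide +kernel
theorem chk123 : band (fixL (fun c v => (app2 275 276 9) (pr2 197136 c) v) (fun x => x) R [131, 132, 133, 134, 135, 136, 137] pt111c) (subM 345726884791673478878788601150676502839296 (insL [131, 132, 133, 134, 135, 136, 137] 0)) = true := by decide +kernel
theorem chk129 : band (pieces (fun c v => (app2 275 276 9) (pr2 197136 c) v) (fun x => x) tab127 R 345726884791673478878788601150706567610368 [32, 33, 34, 131, 132, 133, 134, 135, 136, 137] pt111c l128) (allL l128 fun p => subW 345726884791673478878788601150706567610368 p.2.1) = true := by decide +kernel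
theorem chk130 : cover 35 [0] (l128) 0 = true := by decide +kernel
theorem chk132 : subM 337560107985570955755667610572314065764352 345726884791673478878788601150676502839296 = true := by decide +kernel
theorem chk133 : band (fixL (fun c v => (app2 275 276 9) (pr2 197136 c) v) (fun x => x) R [133, 134, 135, 136, 137] pt112c) (subM 337560107985570955755667610572314065764352 (insL [133, 134, 135, 136, 137] 0)) = true := by decide +kernel
theorem chk139 : band (pieces (fun c v => (app2 275 276 9) (pr2 197136 c) v) (fun x => x) tab137 R 345726884791673478878788601150676502839296 [131, 132, 133, 134, 135, 136, 137] pt112c l138) (allL l138 fun p => subW 345726884791673478878788601150676502839296 p.2.1) = true := by decide +kernel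
theorem chk140 : cover 4 [0] (l138) 0 = true := by decide +kernel
theorem chk142 : subM 326671072244100924924839623134497482997760 337560107985570955755667610572314065764352 = true := by decide +kernel
theorem chk143 : band (fixL (fun c v => (app2 275 276 9) (pr2 197136 c) v) (fun x => x) R [134, 135, 136, 137] pt113c) (subM 326671072244100924924839623134497482997760 (insL [134, 135, 136, 137] 0)) = true := by decide +kernel
theorem chk149 : band (pieces (fun c v => (app2 275 276 9) (pr2 197136 c) v) (fun x => x) tab147 R 337560107985570955755667610572314065764352 [133, 134, 135, 136, 137] pt113c l148) (allL l148 fun p => subW 337560107985570955755667610572314065764352 p.2.1) = true := by decide +kernel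
theorem chk150 : cover 3 [0] (l148) 0 = true := by decide +kernel
theorem chk152 : subM 217780714829400616616559748756331655331840 326671072244100924924839623134497482997760 = true := by decide +kernel
theorem chk153 : band (fixL (fun c v => (app2 275 276 9) (pr2 197136 c) v) (fun x => x) R [135, 137] pt114c) (subM 217780714829400616616559748756331655331840 (insL [135, 137] 0)) = true := by decide +kernel
theorem chk159 : band (pieces (fun c v => (app2 275 276 9) (pr2 197136 c) v) (fun x => x) tab157 R 326671072244100924924839623134497482997760 [134, 135, 136, 137] pt114c l158) (allL l158 fun p => subW 326671072244100924924839623134497482997760 p.2.1) = true := by decide +kernel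
theorem chk160 : cover 6 [0] (l158) 0 = true := by decide +kernel
theorem chk162 : subM 0 217780714829400616616559748756331655331840 = true := by decide +kernel
theorem chk163 : band (fixL (fun c v => (app2 275 276 9) (pr2 197136 c) v) (fun x => x) R [] pt115c) (subM 0 (insL [] 0)) = true := by decide +kernel
theorem chk169 : band (pieces (fun c v => (app2 275 276 9) (pr2 197136 c) v) (fun x => x) tab167 R 217780714829400616616559748756331655331840 [135, 137] pt115c l168) (allL l168 fun p => subW 217780714829400616616559748756331655331840 p.2.1) = true := by decide +kernel
theorem chk170 : cover 4 [0] (l168) 0 = true := by decide +kernel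
theorem chk196 : band (pieces (fun c v => (app2 275 276 9) (pr2 197136 c) v) (fun x => x) tab194 R 345726884791673478878788601150706567610368 [33, 32, 134, 131, 133, 132, 136, 137] pt74c l195) (allL l195 fun p => subW 2658455991569831743645886299422851070 p.2.1) = true := by decide +kernel
theorem chk198 : band (pieces (fun c v => (app2 275 276 9) (pr2 197136 c) v) (fun x => x) tab194 R 345726884791673478878788601150706567610368 [33, 32, 134, 131, 133, 132, 136, 137] pt74c l197) (allL l197 fun p => subW 2658455991569831743645886299422851070 p.2.1) = true := by decide +kernel
theorem chk200 : band (pieces (fun c v => (app2 275 276 9) (pr2 197136 c) v) (fun x => x) tab194 R 345726884791673478878788601150706567610368 [33, 32, 134, 131, 133, 132, 136, 137] pt74c l199) (allL l199 fun p => subW 2658455991569831743645886299422851070 p.2.1) = true := by decide +kernel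
theorem chk201 : cover 15400 [0, 61, 63, 66, 67, 68, 85, 107] (l195 ++ (l197 ++ (l199))) 0 = true := by decide +kernel
theorem chk203 : allL [0, 61, 63, 66, 67, 68, 85, 107] (subW 2658455991569831743645886299422851070) = true := by decide +kernel
theorem chk204 : subM 1924145348608 2658455991569831743645886299422851070 = true := by decide +kernel
theorem chk210 : band (slp OM R l209 1924145348608) (subM 88854531650395451579556377492585239520739328 (insL l209 1924145348608)) = true := by decide +kernel
theorem chk212 : subM 88854531650395451579556377492583315375390720 88854531650395451579556377492585239520739328 = true := by decide +kernel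
theorem chk213 : band (fixL (fun c v => (app2 275 276 9) (pr2 197136 c) v) (fun x => x) R [138, 139, 140, 141, 142, 143, 144, 145] pt205c) (subM 88854531650395451579556377492583315375390720 (insL [138, 139, 140, 141, 142, 143, 144, 145] 0)) = true := by decide +kernel
theorem chk219 : band (pieces (fun c v => (app2 275 276 9) (pr2 197136 c) v) (fun x => x) tab217 R 88854531650395451579556377492585239520739328 [38, 39, 40, 138, 139, 140, 141, 142, 143, 144, 145] pt205c l218) (allL l218 fun p => subW 88854531650395451579556377492585239520739328 p.2.1) = true := by decide +kernel
theorem chk220 : cover 15 [0] (l218) 0 = true := by decide +kernel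
theorem chk222 : subM 84324692781943918753931934718451616944488448 88854531650395451579556377492583315375390720 = true := by decide +kernel
theorem chk223 : band (fixL (fun c v => (app2 275 276 9) (pr2 197136 c) v) (fun x => x) R [139, 142, 143, 144, 145] pt206c) (subM 84324692781943918753931934718451616944488448 (insL [139, 142, 143, 144, 145] 0)) = true := by decide +kernel
theorem chk229 : band (pieces (fun c v => (app2 275 276 9) (pr2 197136 c) v) (fun x => x) tab227 R 88854531650395451579556377492583315375390720 [138, 139, 140, 141, 142, 143, 144, 145] pt206c l228) (allL l228 fun p => subW 88854531650395451579556377492583315375390720 p.2.1) = true := by decide +kernel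
theorem chk230 : cover 6 [0] (l228) 0 = true := by decide +kernel
theorem chk232 : subM 22300745198530623141535718272648361505980416 84324692781943918753931934718451616944488448 = true := by decide +kernel
theorem chk233 : band (fixL (fun c v => (app2 275 276 9) (pr2 197136 c) v) (fun x => x) R [144] pt207c) (subM 22300745198530623141535718272648361505980416 (insL [144] 0)) = true := by decide +kernel
theorem chk239 : band (pieces (fun c v => (app2 275 276 9) (pr2 197136 c) v) (fun x => x) tab237 R 84324692781943918753931934718451616944488448 [139, 142, 143, 144, 145] pt207c l238) (allL l238 fun p => subW 84324692781943918753931934718451616944488448 p.2.1) = true := by decide +kernel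
theorem chk240 : cover 16 [0] (l238) 0 = true := by decide +kernel
theorem chk242 : subM 0 22300745198530623141535718272648361505980416 = true := by decide +kernel
theorem chk243 : band (fixL (fun c v => (app2 275 276 9) (pr2 197136 c) v) (fun x => x) R [] pt208c) (subM 0 (insL [] 0)) = true := by decide +kernel
theorem chk249 : band (pieces (fun c v => (app2 275 276 9) (pr2 197136 c) v) (fun x => x) tab247 R 22300745198530623141535718272648361505980416 [144] pt208c l248) (allL l248 fun p => subW 22300745198530623141535718272648361505980416 p.2.1) = true := by decide +kernel
theorem chk250 : cover 2 [0] (l248) 0 = true := by decide +kernel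
end

end CfsgH6.LyN
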