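/-
The monomial group is a maximal subgroup of the automorphism group of the lattice.
-/
import Cfsg.Agent.H6.Co2

set_option autoImplicit false
set_option linter.unusedSimpArgs false
set_option linter.unusedVariables false

namespace CfsgH6

open CfsgH5 Cfsg Finset

noncomputable section

/-- minimal vectors of shape `(±4, ±4, 0, …)` -/
def ShA (x : LL) : Prop :=
  sqNorm (x : V) = 32 ∧ ∃ c : LL, (c : V) ∈ stdCross ∧ dotInt (c : V) x = 32

theorem ShA.smul {x : LL} (h : ShA x) {g : Co0} (hg : g ∈ NN) : ShA (g • x) := by
  obtain ⟨h1, c, h2, h3⟩ := h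
  exact ⟨by rwa [co_norm], g • c, NN_cross hg h2, by rwa [co_dot]⟩

theorem ShA.exists {x : LL} (h : ShA x) : ∃ i, (x : V) i = 4 ∨ (x : V) i = -4 := by
  obtain ⟨-, c, ⟨i, s, hs, e⟩, h3⟩ := h
  rw [e, dot_single_left] at h3
  exact ⟨i, by rcases hs with rfl | rfl <;> omega⟩

theorem ShA.std {x : LL} (h : ShA x) : ∃ g ∈ NN, g • x = v0 := by
  obtain ⟨g, hg, h1⟩ := orbN x h.1
  refine ⟨g, hg, h1.resolve_right fun h1 => ?_⟩
  have := (h.smul hg).exists
  rcases h1 with h1 | h1 <;> rw [h1, coe_vec (by decide +kernel)] at this <;> revert this <;>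
    decide +kernel

theorem parity_eq (x : LL) (i j : GolayPt) : (x : V) i % 2 = (x : V) j % 2 := by
  rcases (mem_leech_iff.1 x.2).cases with ⟨c, -, h, -⟩ | ⟨c, -, h, -⟩ <;>
    have h1 := h i <;> have h2 := h j <;> split_ifs at * <;> omega

theorem parity_NN {g : Co0} (hg : g ∈ NN) (x : LL) :
    ((g • x : LL) : V) none % 2 = (x : V) none % 2 := by
  obtain ⟨σ, -, c, -, hm⟩ := mono_of_NN hg
  have := parity_eq x none (σ.symm none)
  rw [hm, signedPerm]
  split_ifs <;> omega

theorem odd_std {x : LL} (hx : sqNorm (x : V) = 32) (h : (x : V) none % 2 = 1) :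
    ∃ g ∈ NN, g • x = vec c0c := by
  obtain ⟨g, hg, h1⟩ := orbN x hx
  have := parity_NN hg x
  rw [h] at this
  refine ⟨g, hg, (h1.resolve_left fun h1 => ?_).resolve_left fun h1 => ?_⟩ <;>
    rw [h1, coe_vec (by decide +kernel)] at this <;> revert this <;> decide +kernel

theorem top_of_ShA {H : Subgroup Co0} (hN : NN ≤ H) {h : Co0} (hh : h ∈ H) (hn : h ∉ NN) {a : LL}
    (h1 : ShA a) (h2 : ShA (h • a)) : H = ⊤ := by
  obtain ⟨m, hm, e1⟩ := h1.std
  obtain ⟨n, hn', e2⟩ := h2.std
  refine eq_top_of_fix hN (h := n * h * m⁻¹) (H.mul_mem (H.mul_mem (hN hn') hh) (H.inv_mem (hN hm)))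
    (fun h3 => hn ?_) (by rw [mul_smul, mul_smul, ← e1, inv_smul_smul, e2, e1])
  rwa [NN.mul_mem_cancel_right (NN.inv_mem hm), NN.mul_mem_cancel_left hn'] at h3

theorem exists_ShA {i j : GolayPt} (hij : i ≠ j) {s t : ℤ} (hs : s = 4 ∨ s = -4) (ht : t = 4 ∨ t = -4) :
    ∃ a : LL, ShA a ∧ ∀ y : V, dotInt y a = s * y i + t * y j := by
  have hm : (Pi.single i s + Pi.single j t : V) ∈ leechLattice := by
    have : (Pi.single i s + Pi.single j t : V) =
        (4 : ℤ) • (Pi.single i (s / 4) + Pi.single j (t / 4) : V) := by
      funext k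
      simp only [Pi.add_apply, Pi.smul_apply, Pi.single_apply, smul_eq_mul]
      split_ifs <;> omega
    rw [this]
    apply four_smul_mem
    simp only [Pi.add_apply, sum_add_distrib, sum_pi_single', mem_univ, if_true]
    omega
  have hd : ∀ y : V, dotInt y (Pi.single i s + Pi.single j t) = s * y i + t * y j := fun y => by
    rw [dot_add_right, dot_single_right, dot_single_right]
  have hc : (Pi.single i (2 * s) : V) ∈ leechLattice := by
    rcases hs with rfl | rfl
    · exact eight_single_mem i
    · have := neg_mem (eight_single_mem i)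
      rwa [← Pi.single_neg] at this
  refine ⟨⟨_, hm⟩, ⟨?_, ⟨_, hc⟩, ⟨i, _, by omega, rfl⟩, ?_⟩, hd⟩
  · rw [sqNorm_eq_dot, hd]
    simp only [Pi.add_apply, Pi.single_apply, hij, hij.symm, if_true, if_false]
    rcases hs with rfl | rfl <;> rcases ht with rfl | rfl <;> rfl
  · rw [hd]
    simp only [Pi.add_apply, Pi.single_apply, hij, hij.symm, if_true, if_false]
    rcases hs with rfl | rfl <;> simp

/-- the code of the translation of the projective line -/
def sigC : ℕ := 0x800080008000800080008000800080008000800080008000800080008000800080008000800080008000800080010000000080008000800080008000800080008000800080008000800080008000800080008000800080008000800100008000800000008000800080008000800080008000800080008000800080008000800080008000800080008000800100008000800080000000800080008000800080008000800080008000800080008000800080008000800080008000800100008000800080008000000080008000800080008000800080008000800080008000800080008000800080008000800100008000800080008000800000008000800080008000800080008000800080008000800080008000800080008000800100008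00080008000800080008000000080008000800080008000800080008000800080008000800080008000800080010000800080008000800080008000800000008000800080008000800080008000800080008000800080008000800080010000800080008000800080008000800080000000800080008000800080008000800080008000800080008000800080010000800080008000800080008000800080008000000080008000800080008000800080008000800080008000800080010000800080008000800080008000800080008000800000008000800080008000800080008000800080008000800080010000800080008000800080008000800080008000800080000000800080008000800080008000800080008000800080010000800080008000800080008000800080008000800080008000000080008000800080008000800080008000800080010000800080008000800080008000800080008000800080008000800000008000800080008000800080008000800080010000800080008000800080008000800080008000800080008000800080000000800080008000800080008000800080010000800080008000800080008000800080008000800080008000800080008000000080008000800080008000800080010000800080008000800080008000800080008000800080008000800080008000800000008000800080008000800080010000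800080008000800080008000800080008000800080008000800080008000800080000000800080008000800080010000800080008000800080008000800080008000800080008000800080008000800080008000000080008000800080010000800080008000800080008000800080008000800080008000800080008000800080008000800000008000800080010000800080008000800080008000800080008000800080008000800080008000800080008000800080000000800080010000800080008000800080008000800080008000800080008000800080008000800080008000800080008000000080010000800080008000800080008000800080008000800080008000800080008000800080008000800080008000800000010000800080008000800080008000800080008000800080008000800080008000800080008000800080008000800080000000800080008000800080008000800080008000800080008000800080008000800080008000800080008000800100008000b0006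

theorem exists_sig : ∃ σ ∈ NN, σ • vec c0c = vec c0c ∧
    ∀ (y : LL) (t : ZMod 23), ((σ • y : LL) : V) (some (t + 1)) = (y : V) (some t) := by
  obtain ⟨σ, hσ, hr⟩ := in_NN (gs := [sigC]) (valid_top (by decide +kernel)) (by decide +kernel) _
    List.mem_cons_self
  refine ⟨σ, hσ.2, hr.vec_eq (by decide +kernel) (by decide +kernel) (by decide +kernel),
    fun y t => ?_⟩
  have h1 : ∀ (t : ZMod 23) i, matOf sigC (some (t + 1)) i = if i = some t then 8 else 0 := by
    decide +kernel
  have := congrFun (hr.2 y) (some (t + 1))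
  simp only [Matrix.mulVec, dotProduct, h1, ite_mul, zero_mul, sum_ite_eq', mem_univ, if_true,
    Pi.smul_apply, smul_eq_mul] at this
  omega

theorem cross_v0 {c : LL} (hc : (c : V) ∈ stdCross) (h : dotInt (v0 : V) c = 32) :
    c = e8 none ∨ c = e8 (some 0) := by
  obtain ⟨i, s, hs, e⟩ := hc
  rw [dot_v0, e] at h
  by_cases h1 : i = none
  · subst h1
    left; apply Subtype.ext
    simp at h
    rw [e, coe_e8]; congr 1; omega
  · by_cases h2 : i = some 0
    · subst h2
      right; apply Subtype.ext
      simp at h
      rw [e, coe_e8]; congr 1; omega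
    · simp [Pi.single_apply, Ne.symm h1, Ne.symm h2] at h

theorem shA_v0 : ShA v0 := ⟨norm_v0, e8 none, e8_cross _, by rw [dot_comm, dot_v0, coe_e8]; simp⟩

theorem sq_add_23 {a b : ℤ} (h1 : -8 ≤ a ∧ a ≤ 8) (h2 : -8 ≤ b ∧ b ≤ 8)
    (h : a ^ 2 + (23 : ℕ) * b ^ 2 = 64) : a % 8 = 0 ∧ b = 0 := by
  obtain ⟨_, _⟩ := h1
  obtain ⟨_, _⟩ := h2
  interval_cases a <;> interval_cases b <;> omega

theorem top_of_odd {H : Subgroup Co0} (hN : NN ≤ H) {h : Co0} (hh : h ∈ H) (hn : h ∉ NN)
    (h1 : h • v0 = vec c0c) : H = ⊤ := by
  obtain ⟨σ, hσ, h2, h3⟩ := exists_sig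
  have h4 : (h⁻¹ * σ * h) • v0 = v0 := by rw [mul_smul, mul_smul, h1, h2, ← h1, inv_smul_smul]
  by_cases hτ : h⁻¹ * σ * h ∈ NN
  swap
  · exact eq_top_of_fix hN (H.mul_mem (H.mul_mem (H.inv_mem hh) (hN hσ)) hh) hτ h4
  exfalso
  generalize hτ' : h⁻¹ * σ * h = τ at *
  have k : ∀ i, dotInt (v0 : V) (e8 i) = 32 → τ • e8 i = e8 none ∨ τ • e8 i = e8 (some 0) :=
    fun i hi => cross_v0 (NN_cross hτ (e8_cross i)) (by rw [co_dot_fix h4, hi])
  have k1 := k none (by rw [dot_v0, coe_e8]; simp)
  have k2 := k (some 0) (by rw [dot_v0, coe_e8]; simp)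
  have k3 : τ • τ • e8 none = e8 none := by
    rcases k1 with k1 | k1
    · rw [k1, k1]
    · rw [k1]
      refine k2.resolve_right fun k2 => ?_
      have := congrFun (congrArg Subtype.val (smul_left_cancel τ (k1.trans k2.symm))) none
      simp [coe_e8] at this
  have k4 : σ • σ • h • e8 none = h • e8 none := by
    nth_rewrite 2 [← k3]
    rw [← hτ']; simp [mul_smul]
  apply hn
  refine mem_NN_of (e8_cross none) ?_
  have hy : sqNorm ((h • e8 none : LL) : V) = 64 := by rw [co_norm, norm_e8]
  generalize h • e8 none = y at *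
  have k5 : ∀ t : ZMod 23, (y : V) (some (t + 1 + 1)) = (y : V) (some t) := fun t => by
    nth_rewrite 1 [← k4]; rw [h3, h3]
  have k6 : ∀ n : ℕ, (y : V) (some ((2 * n : ℕ) : ZMod 23)) = (y : V) (some 0) := fun n => by
    induction n with
    | zero => rfl
    | succ n ih =>
      rw [show ((2 * (n + 1) : ℕ) : ZMod 23) = ((2 * n : ℕ) : ZMod 23) + 1 + 1 by push_cast; ring,
        k5, ih]
  have k7 : ∀ t : ZMod 23, (y : V) (some t) = (y : V) (some 0) := fun t => by
    obtain ⟨n, hn⟩ : ∃ n : Fin 23, ((2 * n.val : ℕ) : ZMod 23) = t := by revert t; decide +kernel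
    rw [← hn, k6]
  have k8 := hy
  rw [sqNorm, Fintype.sum_option] at k8
  simp only [k7, sum_const, card_univ, ZMod.card, nsmul_eq_mul] at k8
  have b1 := bd_of_sqNorm hy.le none
  have b2 := bd_of_sqNorm hy.le (some 0)
  have k9 : (y : V) none % 8 = 0 ∧ (y : V) (some 0) = 0 := sq_add_23 b1 b2 k8
  refine cross_of_mod (fun i => ?_) hy
  cases i with
  | none => exact k9.1
  | some t => rw [k7, k9.2]; rfl

theorem top_of_gt {H : Subgroup Co0} (hN : NN ≤ H) {h : Co0} (hh : h ∈ H) (hn : h ∉ NN) : H = ⊤ := by
  by_cases hodd : ∃ a, ShA a ∧ ((h • a : LL) : V) none % 2 = 1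
  · obtain ⟨a, h1, h2⟩ := hodd
    obtain ⟨m, hm, e1⟩ := h1.std
    obtain ⟨n, hn', e2⟩ := odd_std (by rw [co_norm, h1.1]) h2
    refine top_of_odd hN (h := n * h * m⁻¹) (H.mul_mem (H.mul_mem (hN hn') hh) (H.inv_mem (hN hm)))
      (fun h3 => hn ?_) (by rw [mul_smul, mul_smul, ← e1, inv_smul_smul, e2])
    rwa [NN.mul_mem_cancel_right (NN.inv_mem hm), NN.mul_mem_cancel_left hn'] at h3
  push Not at hodd
  have hd : ∀ a : LL, dotInt ((h⁻¹ • e8 none : LL) : V) a = 8 * ((h • a : LL) : V) none := fun a => by
    rw [← co_dot h, smul_inv_smul, coe_e8, dot_single_left]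
  have hy : sqNorm ((h⁻¹ • e8 none : LL) : V) = 64 := by rw [co_norm, norm_e8]
  have hc : ((h⁻¹ • e8 none : LL) : V) ∉ stdCross := fun hc =>
    hn (NN.inv_mem_iff.1 (mem_NN_of (e8_cross none) hc))
  generalize h⁻¹ • e8 none = y at *
  have k1 : ∀ i j, i ≠ j → ((y : V) i + (y : V) j) % 4 = 0 ∧ ((y : V) i - (y : V) j) % 4 = 0 := by
    intro i j hij
    obtain ⟨a, h1, h2⟩ := exists_ShA hij (Or.inl rfl) (Or.inl rfl)
    obtain ⟨b, h3, h4⟩ := exists_ShA hij (Or.inl rfl) (Or.inr rfl)
    have := hodd a h1; have := hodd b h3
    have := hd a; have := hd b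
    rw [h2] at *; rw [h4] at *
    omega
  have k2 : ∀ i, (y : V) i % 4 = 0 := by
    by_contra hne
    push Not at hne
    obtain ⟨i, hi⟩ := hne
    have k3 : ∀ j, (4 : ℤ) ≤ (y : V) j ^ 2 := fun j => by
      have h5 : 2 ≤ (y : V) j ∨ (y : V) j ≤ -2 := by
        by_cases hij : i = j
        · subst hij
          obtain ⟨k, hk⟩ := exists_ne i
          have := k1 k i hk; omega
        · have := k1 i j hij; omega
      rcases h5 with h | h <;> nlinarith
    have : ∑ j : GolayPt, (4 : ℤ) ≤ sqNorm (y : V) := sum_le_sum fun j _ => k3 j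
    simp at this; omega
  obtain ⟨i, hi⟩ : ∃ i, (y : V) i % 8 ≠ 0 := by
    by_contra h0; push Not at h0; exact hc (cross_of_mod h0 hy)
  have hs : (∑ i, (y : V) i) % 8 = 0 := by
    rcases (mem_leech_iff.1 y.2).cases with ⟨c, -, -, h⟩ | ⟨c, -, h, -⟩
    · exact h
    · have := h none; have := k2 none; split_ifs at * <;> omega
  obtain ⟨j, hj, hj'⟩ : ∃ j, j ≠ i ∧ (y : V) j % 8 ≠ 0 := by
    by_contra h0; push Not at h0
    rw [sum_erase_eq _ i, Int.add_emod, sum_int_mod,
      sum_eq_zero fun j hj => h0 j (mem_erase.1 hj).1] at hs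
    omega
  have b1 := bd_of_sqNorm hy.le i
  have b2 := bd_of_sqNorm hy.le j
  have e1 : (y : V) i = 4 ∨ (y : V) i = -4 := by have := k2 i; omega
  have e2 : (y : V) j = 4 ∨ (y : V) j = -4 := by have := k2 j; omega
  obtain ⟨a, h1, h2⟩ := exists_ShA hj e2 e1
  refine top_of_ShA hN hh hn h1 ⟨by rw [co_norm, h1.1], e8 none, e8_cross _, ?_⟩
  rw [coe_e8, dot_single_left, ← hd, h2]
  rcases e1 with e1 | e1 <;> rcases e2 with e2 | e2 <;> rw [e1, e2] <;> rfl

theorem isCoatom_NN : IsCoatom NN := by
  refine ⟨fun h => ?_, fun H hH => ?_⟩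
  · obtain ⟨ξ, -, hξ⟩ := xi_valid
    have hA : okV xiA = true := by decide +kernel
    have h6 : ξ • vec xiA = e8 none :=
      hξ.smul_eq (okV_norm hA) (bd_of_sqNorm (norm_e8 _).le)
        (by rw [enc_vec (okV_inL hA), enc_e8]; decide +kernel)
    have := NN_cross (g := ξ⁻¹) (h ▸ Subgroup.mem_top _) (e8_cross none)
    rw [← h6, inv_smul_smul, coe_vec (okV_inL hA)] at this
    obtain ⟨i, s, hs, e⟩ := this
    have h7 := congrFun e none
    rw [show dec xiA none = -4 by decide +kernel, Pi.single_apply] at h7
    split_ifs at h7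
    omega
  · obtain ⟨h, hh, hn⟩ := SetLike.exists_of_lt hH
    exact top_of_gt hH.le hh hn

end

end CfsgH6
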