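import Cfsg.Agent.H6.ONK0

set_option autoImplicit false
set_option maxRecDepth 100000
set_option linter.all false

namespace CfsgH6.ON

open CfsgH5 CfsgH6 Subgroup MulAction Pointwise

noncomputable section

theorem B0_m0 : C.Mem R (C.gen R 0) 0 := GC.Mem.gen (GC.Mem.zero ⊤)
theorem val3 : C.Mem R ⊤ 2046 := MC.mem_units (PP.mc P_ok) (PP.can_sound P_ok) chk2
theorem B1_m0 : C.Mem R (C.gen R 2) 2 := GC.Mem.gen (val3.sub chk4)
theorem B1_dvd : Nat.card (C.gen R 2) ∣ 7 := GC.card_ins (dvd_step (B0_m0.pc (m := 7) (w := 0) (val3.get (i := 1) (by decide +kernel)) B0_m0.top chk6 chk7) GC.card_gen_zero (n := 7) (by decide +kernel)) (by decide +kernel)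
theorem B2_m0 : C.Mem R (C.gen R 6) 6 := GC.Mem.gen (val3.sub chk8)
theorem B2_dvd : Nat.card (C.gen R 6) ∣ 49 := GC.card_ins (dvd_step (B1_m0.pc (m := 7) (w := 0) (val3.get (i := 2) (by decide +kernel)) B1_m0.top chk10 chk11) B1_dvd (n := 49) (by decide +kernel)) (by decide +kernel)
theorem B3_m0 : C.Mem R (C.gen R 14) 14 := GC.Mem.gen (val3.sub chk12)
theorem B3_dvd : Nat.card (C.gen R 14) ∣ 343 := GC.card_ins (dvd_step (B2_m0.pc (m := 7) (w := 0) (val3.get (i := 3) (by decide +kernel)) B2_m0.top chk14 chk15) B2_dvd (n := 343) (by decide +kernel)) (by decide +kernel)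
theorem B4_m0 : C.Mem R (C.gen R 30) 30 := GC.Mem.gen (val3.sub chk16)
theorem B4_dvd : Nat.card (C.gen R 30) ∣ 686 := GC.card_ins (dvd_step (B3_m0.pc (m := 2) (w := 0) (val3.get (i := 4) (by decide +kernel)) B3_m0.top chk18 chk19) B3_dvd (n := 686) (by decide +kernel)) (by decide +kernel)
theorem B5_m0 : C.Mem R (C.gen R 62) 62 := GC.Mem.gen (val3.sub chk20)
theorem B5_dvd : Nat.card (C.gen R 62) ∣ 1372 := GC.card_ins (dvd_step (B4_m0.pc (m := 2) (w := 0) (val3.get (i := 5) (by decide +kernel)) B4_m0.top chk22 chk23) B4_dvd (n := 1372) (by decide +kernel)) (by decide +kernel)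
theorem B6_m0 : C.Mem R (C.gen R 126) 126 := GC.Mem.gen (val3.sub chk24)
theorem B6_dvd : Nat.card (C.gen R 126) ∣ 4116 := GC.card_ins (dvd_step (B5_m0.pc (m := 3) (w := 5) (val3.get (i := 6) (by decide +kernel)) B5_m0.top chk26 chk27) B5_dvd (n := 4116) (by decide +kernel)) (by decide +kernel)
theorem B7_m0 : C.Mem R (C.gen R 254) 254 := GC.Mem.gen (val3.sub chk28)
theorem B7_dvd : Nat.card (C.gen R 254) ∣ 8232 := GC.card_ins (dvd_step (B6_m0.pc (m := 2) (w := 4) (val3.get (i := 7) (by decide +kernel)) B6_m0.top chk30 chk31) B6_dvd (n := 8232) (by decide +kernel)) (by decide +kernel)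
theorem B8_m0 : C.Mem R (C.gen R 510) 510 := GC.Mem.gen (val3.sub chk32)
theorem B8_dvd : Nat.card (C.gen R 510) ∣ 24696 := GC.card_ins (dvd_step (B7_m0.pc (m := 3) (w := 0) (val3.get (i := 8) (by decide +kernel)) B7_m0.top chk34 chk35) B7_dvd (n := 24696) (by decide +kernel)) (by decide +kernel)
theorem B8_ub : Nat.card (C.gen R 510) ≤ 24696 := le_of_dvd' B8_dvd (by decide +kernel)
theorem pt37e : ∃ x, A1.Rep pt37c x := (PP.exists_vec P_ok (c := 0x2000006000003000002000001000004000001000001000003000005000000000002000001000003000000000003000002000003000005000002000003000000000003000006000006000002000000000002000004000001000000000001000003000002000000000004000005000005000002000005000004000005000003000006000002) (by decide +kernel)).elim fun x hx => ⟨_, x, hx, rfl⟩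
noncomputable def pt37 := Classical.choose pt37e
theorem pt37r : A1.Rep pt37c pt37 := Classical.choose_spec pt37e
theorem H_m0 : C.Mem R (C.gen R 1022) 1022 := GC.Mem.gen (val3.sub chk36)
theorem H_s0_40 : C.Mem R (C.gen R 1022) 7166 := H_m0.slp' chk39
theorem H_I : C.Mem R (C.gen R 1022) 6656 := H_s0_40.sub chk41
theorem HK_in95 : C.Mem R (C.gen R 510) 122880 := B8_m0.slp' chk94
theorem HK_m0 : C.Mem R (C.gen R 122880) 122880 := GC.Mem.gen HK_in95.top
theorem pt96e : ∃ x, A1.Rep pt96c x := (PP.exists_vec P_ok (c := 0x4000004000003000005000005000004000006000002000006000006000001000003000005000006000002000001000000000004000005000003000005000004000004000003000005000000000004000004000001000004000002000004000005000004000006000000000002000000000003000006000000000002000000000003000004) (by decide +kernel)).elim fun x hx => ⟨_, x, hx, rfl⟩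
noncomputable def pt96 := Classical.choose pt96e
theorem pt96r : A1.Rep pt96c pt96 := Classical.choose_spec pt96e
theorem pt97e : ∃ x, A1.Rep pt97c x := (PP.exists_vec P_ok (c := 0x5000000000000000001000001000004000000000004000005000000000001000001000000000006000003000003000005000004000004000004000002000001000000000003000001000000000001000005000000000003000002000004000002000004000001000004000003000005000003000005000005000003000004000004000001) (by decide +kernel)).elim fun x hx => ⟨_, x, hx, rfl⟩
noncomputable def pt97 := Classical.choose pt97e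
theorem pt97r : A1.Rep pt97c pt97 := Classical.choose_spec pt97e
theorem pt98e : ∃ x, A1.Rep pt98c x := (PP.exists_vec P_ok (c := 0x6000004000006000005000006000000000002000000000004000002000001000000000006000005000004000000000004000004000000000005000005000003000000000000000001000004000005000000000005000004000004000000000001000002000002000004000003000003000004000001000005000004000005000003) (by decide +kernel)).elim fun x hx => ⟨_, x, hx, rfl⟩
noncomputable def pt98 := Classical.choose pt98e
theorem pt98r : A1.Rep pt98c pt98 := Classical.choose_spec pt98e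
theorem pt99e : ∃ x, A0.Rep pt99c x := PP.exists_vec P_ok (c := 0x5000000000000000001000001000004000000000004000005000000000001000001000000000006000003000003000005000004000004000004000002000001000000000003000001000000000001000005000000000003000002000004000002000004000001000004000003000005000003000005000005000003000004000004000001) (by decide +kernel)
noncomputable def pt99 := Classical.choose pt99e
theorem pt99r : A0.Rep pt99c pt99 := Classical.choose_spec pt99e
theorem HK_s0_102 : C.Mem R (C.gen R 122880) 4186112 := HK_m0.slp' chk101
theorem HK_c0i : C.Mem R (C.gen R 122880) 4063232 := HK_s0_102.sub chk103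
theorem HK_c0m : C.Mem R (C.gen R 4063232) 4063232 := HK_c0i.gen
theorem fx105 : C.gen R 4063232 ≤ stabilizer _ pt96 := Act.fix_sound HK_c0i.top pt96r chk104
theorem cov112 : Cov (C.gen R 122880) (C.wds R [0]) pt96 6 := Act.cov_of_seen (Act.pieces_sound HK_s0_102 HK_s0_102.top pt96r chk110) chk111
theorem HK_c1i : C.Mem R (C.gen R 4063232) 786432 := HK_c0m.sub chk113
theorem HK_c1m : C.Mem R (C.gen R 786432) 786432 := HK_c1i.gen
theorem fx115 : C.gen R 786432 ≤ stabilizer _ pt97 := Act.fix_sound HK_c1i.top pt97r chk114
theorem cov122 : Cov (C.gen R 4063232) (C.wds R [0]) pt97 49 := Act.cov_of_seen (Act.pieces_sound HK_c0m HK_c0m.top pt97r chk120) chk121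
theorem HK_c2i : C.Mem R (C.gen R 786432) 524288 := HK_c1m.sub chk123
theorem HK_c2m : C.Mem R (C.gen R 524288) 524288 := HK_c2i.gen
theorem fx125 : C.gen R 524288 ≤ stabilizer _ pt98 := Act.fix_sound HK_c2i.top pt98r chk124
theorem cov132 : Cov (C.gen R 786432) (C.wds R [0]) pt98 2 := Act.cov_of_seen (Act.pieces_sound HK_c1m HK_c1m.top pt98r chk130) chk131
theorem HK_c3i : C.Mem R (C.gen R 524288) 0 := HK_c2m.sub chk133
theorem HK_c3m : C.Mem R (C.gen R 0) 0 := HK_c3i.gen
theorem fx135 : C.gen R 0 ≤ stabilizer _ pt99 := Act.fix_sound HK_c3i.top pt99r chk134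
theorem cov142 : Cov (C.gen R 524288) (C.wds R [0]) pt99 3 := Act.cov_of_seen (Act.pieces_sound HK_c2m HK_c2m.top pt99r chk140) chk141
theorem HK_lb4 : 1 ≤ Nat.card (C.gen R 0) := Nat.card_pos
theorem HK_lo3 : 3 * Nat.card (C.gen R 0) ≤ Nat.card (C.gen R 524288) := cov142.low le_rfl (GC.wds_zero _) HK_c3i.gen_le fx135
theorem HK_lb3 : 3 ≤ Nat.card (C.gen R 524288) := low_step HK_lo3 HK_lb4 (by decide +kernel)
theorem HK_lo2 : 2 * Nat.card (C.gen R 524288) ≤ Nat.card (C.gen R 786432) := cov132.low le_rfl (GC.wds_zero _) HK_c2i.gen_le fx125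
theorem HK_lb2 : 6 ≤ Nat.card (C.gen R 786432) := low_step HK_lo2 HK_lb3 (by decide +kernel)
theorem HK_lo1 : 49 * Nat.card (C.gen R 786432) ≤ Nat.card (C.gen R 4063232) := cov122.low le_rfl (GC.wds_zero _) HK_c1i.gen_le fx115
theorem HK_lb1 : 294 ≤ Nat.card (C.gen R 4063232) := low_step HK_lo1 HK_lb2 (by decide +kernel)
theorem HK_lo0 : 6 * Nat.card (C.gen R 4063232) ≤ Nat.card (C.gen R 122880) := cov112.low le_rfl (GC.wds_zero _) HK_c0i.gen_le fx105
theorem HK_lb0 : 1764 ≤ Nat.card (C.gen R 122880) := low_step HK_lo0 HK_lb1 (by decide +kernel)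
theorem fx146 : C.gen R 122880 ≤ stabilizer _ pt37 := Act.fix_sound HK_in95.top pt37r chk145
theorem H_Kc : ∀ κ ∈ (C.gen R 122880), (C.el (R 9))⁻¹ * κ * C.el (R 9) ∈ (C.gen R 510) := B8_m0.conjB (H_m0.get (i := 9) (by decide +kernel)).top HK_in95.top chk144
theorem HT1_in160 : C.Mem R (C.gen R 510) 12582912 := B8_m0.slp' chk159
theorem HT1_m0 : C.Mem R (C.gen R 12582912) 12582912 := GC.Mem.gen HT1_in160.top
theorem pt161e : ∃ x, A1.Rep pt161c x := (PP.exists_vec P_ok (c := 0x4000004000003000005000005000004000006000002000006000006000001000003000005000006000002000001000000000004000005000003000005000004000004000003000005000000000004000004000001000004000002000004000005000004000006000000000002000000000003000006000000000002000000000003000004) (by decide +kernel)).elim fun x hx => ⟨_, x, hx, rfl⟩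
noncomputable def pt161 := Classical.choose pt161e
theorem pt161r : A1.Rep pt161c pt161 := Classical.choose_spec pt161e
theorem pt162e : ∃ x, A1.Rep pt162c x := (PP.exists_vec P_ok (c := 0x5000000000000000001000001000004000000000004000005000000000001000001000000000006000003000003000005000004000004000004000002000001000000000003000001000000000001000005000000000003000002000004000002000004000001000004000003000005000003000005000005000003000004000004000001) (by decide +kernel)).elim fun x hx => ⟨_, x, hx, rfl⟩
noncomputable def pt162 := Classical.choose pt162e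
theorem pt162r : A1.Rep pt162c pt162 := Classical.choose_spec pt162e
theorem pt163e : ∃ x, A0.Rep pt163c x := PP.exists_vec P_ok (c := 0x5000000000000000001000001000004000000000004000005000000000001000001000000000006000003000003000005000004000004000004000002000001000000000003000001000000000001000005000000000003000002000004000002000004000001000004000003000005000003000005000005000003000004000004000001) (by decide +kernel)
noncomputable def pt163 := Classical.choose pt163e
theorem pt163r : A0.Rep pt163c pt163 := Classical.choose_spec pt163e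
theorem HT1_s0_166 : C.Mem R (C.gen R 12582912) 17175674880 := HT1_m0.slp' chk165
theorem HT1_c0i : C.Mem R (C.gen R 12582912) 17163091968 := HT1_s0_166.sub chk167
theorem HT1_c0m : C.Mem R (C.gen R 17163091968) 17163091968 := HT1_c0i.gen
theorem fx169 : C.gen R 17163091968 ≤ stabilizer _ pt161 := Act.fix_sound HT1_c0i.top pt161r chk168
theorem cov176 : Cov (C.gen R 12582912) (C.wds R [0]) pt161 6 := Act.cov_of_seen (Act.pieces_sound HT1_s0_166 HT1_s0_166.top pt161r chk174) chk175
theorem HT1_c1i : C.Mem R (C.gen R 17163091968) 8623489024 := HT1_c0m.sub chk177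
theorem HT1_c1m : C.Mem R (C.gen R 8623489024) 8623489024 := HT1_c1i.gen
theorem fx179 : C.gen R 8623489024 ≤ stabilizer _ pt162 := Act.fix_sound HT1_c1i.top pt162r chk178
theorem cov186 : Cov (C.gen R 17163091968) (C.wds R [0]) pt162 49 := Act.cov_of_seen (Act.pieces_sound HT1_c0m HT1_c0m.top pt162r chk184) chk185
theorem HT1_c2i : C.Mem R (C.gen R 8623489024) 0 := HT1_c1m.sub chk187
theorem HT1_c2m : C.Mem R (C.gen R 0) 0 := HT1_c2i.gen
theorem fx189 : C.gen R 0 ≤ stabilizer _ pt163 := Act.fix_sound HT1_c2i.top pt163r chk188
theorem cov196 : Cov (C.gen R 8623489024) (C.wds R [0]) pt163 6 := Act.cov_of_seen (Act.pieces_sound HT1_c1m HT1_c1m.top pt163r chk194) chk195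
theorem HT1_lb3 : 1 ≤ Nat.card (C.gen R 0) := Nat.card_pos
theorem HT1_lo2 : 6 * Nat.card (C.gen R 0) ≤ Nat.card (C.gen R 8623489024) := cov196.low le_rfl (GC.wds_zero _) HT1_c2i.gen_le fx189
theorem HT1_lb2 : 6 ≤ Nat.card (C.gen R 8623489024) := low_step HT1_lo2 HT1_lb3 (by decide +kernel)
theorem HT1_lo1 : 49 * Nat.card (C.gen R 8623489024) ≤ Nat.card (C.gen R 17163091968) := cov186.low le_rfl (GC.wds_zero _) HT1_c1i.gen_le fx179
theorem HT1_lb1 : 294 ≤ Nat.card (C.gen R 17163091968) := low_step HT1_lo1 HT1_lb2 (by decide +kernel)
theorem HT1_lo0 : 6 * Nat.card (C.gen R 17163091968) ≤ Nat.card (C.gen R 12582912) := cov176.low le_rfl (GC.wds_zero _) HT1_c0i.gen_le fx169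
theorem HT1_lb0 : 1764 ≤ Nat.card (C.gen R 12582912) := low_step HT1_lo0 HT1_lb1 (by decide +kernel)
theorem H_T1c : ∀ τ ∈ (C.gen R 12582912), C.el (R 9) * τ * (C.el (R 9))⁻¹ ∈ (C.gen R 510) := B8_m0.conjA (H_I.get (i := 9) (by decide +kernel)).top HT1_in160.top chk198
theorem cov207 : Cov (C.gen R 12582912) (C.wds R (List.map Prod.fst (l199))) pt37 14 := Act.cov_of_seen (Act.pieces_sound HT1_s0_166 B8_m0.top pt37r chk205) chk206
theorem H_T1d : Dec (C.gen R 510) (C.gen R 12582912) (C.wds R (List.map Prod.fst (l199))) (C.gen R 122880) := cov207.dec HT1_in160.gen_le (GC.wds_sub B8_m0 chk208) HK_in95.gen_le fx146 (up_low B8_ub HK_lb0 (by decide +kernel))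
theorem H_T1p : ∀ x ∈ DC1 (C.gen R 510) (C.el (R 9)), x * C.el (R 9) ∈ DCs (C.gen R 510) (C.els R 6656) := GC.dc_piece' H_T1d H_T1c H_Kc (B8_m0.dcRel H_I.top (H_I.get (i := 9) (by decide +kernel)).top (H_m0.get (i := 9) (by decide +kernel)).top chk200)
theorem H_T1u : Nat.card (C.gen R 510) ≤ 14 * Nat.card (C.gen R 12582912) := up_low B8_ub HT1_lb0 (by decide +kernel)
theorem H_T1n : (DC1 (C.gen R 510) (C.el (R 9))).ncard ≤ Nat.card (C.gen R 510) * 14 := ncard_DC1 HT1_in160.gen_le H_T1c H_T1u
theorem HT2_in216 : C.Mem R (C.gen R 510) 51539607552 := B8_m0.slp' chk215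
theorem HT2_m0 : C.Mem R (C.gen R 51539607552) 51539607552 := GC.Mem.gen HT2_in216.top
theorem pt217e : ∃ x, A1.Rep pt217c x := (PP.exists_vec P_ok (c := 0x6000004000006000005000006000000000002000000000004000002000001000000000006000005000004000000000004000004000000000005000005000003000000000000000001000004000005000000000005000004000004000000000001000002000002000004000003000003000004000001000005000004000005000003) (by decide +kernel)).elim fun x hx => ⟨_, x, hx, rfl⟩
noncomputable def pt217 := Classical.choose pt217e
theorem pt217r : A1.Rep pt217c pt217 := Classical.choose_spec pt217e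
theorem pt218e : ∃ x, A1.Rep pt218c x := (PP.exists_vec P_ok (c := 0x5000000000000000001000001000004000000000004000005000000000001000001000000000006000003000003000005000004000004000004000002000001000000000003000001000000000001000005000000000003000002000004000002000004000001000004000003000005000003000005000005000003000004000004000001) (by decide +kernel)).elim fun x hx => ⟨_, x, hx, rfl⟩
noncomputable def pt218 := Classical.choose pt218e
theorem pt218r : A1.Rep pt218c pt218 := Classical.choose_spec pt218e
theorem pt219e : ∃ x, A0.Rep pt219c x := PP.exists_vec P_ok (c := 0x5000000000000000001000001000004000000000004000005000000000001000001000000000006000003000003000005000004000004000004000002000001000000000003000001000000000001000005000000000003000002000004000002000004000001000004000003000005000003000005000005000003000004000004000001) (by decide +kernel)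
noncomputable def pt219 := Classical.choose pt219e
theorem pt219r : A0.Rep pt219c pt219 := Classical.choose_spec pt219e
theorem HT2_s0_222 : C.Mem R (C.gen R 51539607552) 2181843386368 := HT2_m0.slp' chk221
theorem HT2_c0i : C.Mem R (C.gen R 51539607552) 2130303778816 := HT2_s0_222.sub chk223
theorem HT2_c0m : C.Mem R (C.gen R 2130303778816) 2130303778816 := HT2_c0i.gen
theorem fx225 : C.gen R 2130303778816 ≤ stabilizer _ pt217 := Act.fix_sound HT2_c0i.top pt217r chk224
theorem cov232 : Cov (C.gen R 51539607552) (C.wds R [0]) pt217 6 := Act.cov_of_seen (Act.pieces_sound HT2_s0_222 HT2_s0_222.top pt217r chk230) chk231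
theorem HT2_c1i : C.Mem R (C.gen R 2130303778816) 137438953472 := HT2_c0m.sub chk233
theorem HT2_c1m : C.Mem R (C.gen R 137438953472) 137438953472 := HT2_c1i.gen
theorem fx235 : C.gen R 137438953472 ≤ stabilizer _ pt218 := Act.fix_sound HT2_c1i.top pt218r chk234
theorem cov242 : Cov (C.gen R 2130303778816) (C.wds R [0]) pt218 14 := Act.cov_of_seen (Act.pieces_sound HT2_c0m HT2_c0m.top pt218r chk240) chk241
theorem HT2_c2i : C.Mem R (C.gen R 137438953472) 0 := HT2_c1m.sub chk243
theorem HT2_c2m : C.Mem R (C.gen R 0) 0 := HT2_c2i.gen
theorem fx245 : C.gen R 0 ≤ stabilizer _ pt219 := Act.fix_sound HT2_c2i.top pt219r chk244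
theorem cov252 : Cov (C.gen R 137438953472) (C.wds R [0]) pt219 3 := Act.cov_of_seen (Act.pieces_sound HT2_c1m HT2_c1m.top pt219r chk250) chk251
theorem HT2_lb3 : 1 ≤ Nat.card (C.gen R 0) := Nat.card_pos
theorem HT2_lo2 : 3 * Nat.card (C.gen R 0) ≤ Nat.card (C.gen R 137438953472) := cov252.low le_rfl (GC.wds_zero _) HT2_c2i.gen_le fx245
theorem HT2_lb2 : 3 ≤ Nat.card (C.gen R 137438953472) := low_step HT2_lo2 HT2_lb3 (by decide +kernel)
theorem HT2_lo1 : 14 * Nat.card (C.gen R 137438953472) ≤ Nat.card (C.gen R 2130303778816) := cov242.low le_rfl (GC.wds_zero _) HT2_c1i.gen_le fx235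
theorem HT2_lb1 : 42 ≤ Nat.card (C.gen R 2130303778816) := low_step HT2_lo1 HT2_lb2 (by decide +kernel)
theorem HT2_lo0 : 6 * Nat.card (C.gen R 2130303778816) ≤ Nat.card (C.gen R 51539607552) := cov232.low le_rfl (GC.wds_zero _) HT2_c0i.gen_le fx225
theorem HT2_lb0 : 252 ≤ Nat.card (C.gen R 51539607552) := low_step HT2_lo0 HT2_lb1 (by decide +kernel)
theorem H_T2c : ∀ τ ∈ (C.gen R 51539607552), C.el (R 11) * τ * (C.el (R 11))⁻¹ ∈ (C.gen R 510) := B8_m0.conjA (H_I.get (i := 11) (by decide +kernel)).top HT2_in216.top chk254
theorem cov263 : Cov (C.gen R 51539607552) (C.wds R (List.map Prod.fst (l255))) pt37 14 := Act.cov_of_seen (Act.pieces_sound HT2_s0_222 B8_m0.top pt37r chk261) chk262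
theorem H_T2d : Dec (C.gen R 510) (C.gen R 51539607552) (C.wds R (List.map Prod.fst (l255))) (C.gen R 122880) := cov263.dec HT2_in216.gen_le (GC.wds_sub B8_m0 chk264) HK_in95.gen_le fx146 (up_low B8_ub HK_lb0 (by decide +kernel))
theorem H_T2p : ∀ x ∈ DC1 (C.gen R 510) (C.el (R 11)), x * C.el (R 9) ∈ DCs (C.gen R 510) (C.els R 6656) := GC.dc_piece' H_T2d H_T2c H_Kc (B8_m0.dcRel H_I.top (H_I.get (i := 11) (by decide +kernel)).top (H_m0.get (i := 9) (by decide +kernel)).top chk256)
theorem H_T2u : Nat.card (C.gen R 510) ≤ 98 * Nat.card (C.gen R 51539607552) := up_low B8_ub HT2_lb0 (by decide +kernel)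
theorem H_T2n : (DC1 (C.gen R 510) (C.el (R 11))).ncard ≤ Nat.card (C.gen R 510) * 98 := ncard_DC1 HT2_in216.gen_le H_T2c H_T2u
theorem HT3_in308 : C.Mem R (C.gen R 510) 15393162788864 := B8_m0.slp' chk307
theorem HT3_m0 : C.Mem R (C.gen R 15393162788864) 15393162788864 := GC.Mem.gen HT3_in308.top
theorem pt309e : ∃ x, A1.Rep pt309c x := (PP.exists_vec P_ok (c := 0x5000000000000000001000001000004000000000004000005000000000001000001000000000006000003000003000005000004000004000004000002000001000000000003000001000000000001000005000000000003000002000004000002000004000001000004000003000005000003000005000005000003000004000004000001) (by decide +kernel)).elim fun x hx => ⟨_, x, hx, rfl⟩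
noncomputable def pt309 := Classical.choose pt309e
theorem pt309r : A1.Rep pt309c pt309 := Classical.choose_spec pt309e
theorem pt310e : ∃ x, A0.Rep pt310c x := PP.exists_vec P_ok (c := 0x5000000000000000001000001000004000000000004000005000000000001000001000000000006000003000003000005000004000004000004000002000001000000000003000001000000000001000005000000000003000002000004000002000004000001000004000003000005000003000005000005000003000004000004000001) (by decide +kernel)
noncomputable def pt310 := Classical.choose pt310e
theorem pt310r : A0.Rep pt310c pt310 := Classical.choose_spec pt310e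
theorem HT3_s0_313 : C.Mem R (C.gen R 15393162788864) 68169720922112 := HT3_m0.slp' chk312
theorem HT3_c0i : C.Mem R (C.gen R 15393162788864) 52776558133248 := HT3_s0_313.sub chk314
theorem HT3_c0m : C.Mem R (C.gen R 52776558133248) 52776558133248 := HT3_c0i.gen
theorem fx316 : C.gen R 52776558133248 ≤ stabilizer _ pt309 := Act.fix_sound HT3_c0i.top pt309r chk315
theorem cov323 : Cov (C.gen R 15393162788864) (C.wds R [0]) pt309 12 := Act.cov_of_seen (Act.pieces_sound HT3_s0_313 HT3_s0_313.top pt309r chk321) chk322
theorem HT3_c1i : C.Mem R (C.gen R 52776558133248) 0 := HT3_c0m.sub chk324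
theorem HT3_c1m : C.Mem R (C.gen R 0) 0 := HT3_c1i.gen
theorem fx326 : C.gen R 0 ≤ stabilizer _ pt310 := Act.fix_sound HT3_c1i.top pt310r chk325
theorem cov333 : Cov (C.gen R 52776558133248) (C.wds R [0]) pt310 6 := Act.cov_of_seen (Act.pieces_sound HT3_c0m HT3_c0m.top pt310r chk331) chk332
theorem HT3_lb2 : 1 ≤ Nat.card (C.gen R 0) := Nat.card_pos
theorem HT3_lo1 : 6 * Nat.card (C.gen R 0) ≤ Nat.card (C.gen R 52776558133248) := cov333.low le_rfl (GC.wds_zero _) HT3_c1i.gen_le fx326
theorem HT3_lb1 : 6 ≤ Nat.card (C.gen R 52776558133248) := low_step HT3_lo1 HT3_lb2 (by decide +kernel)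
theorem HT3_lo0 : 12 * Nat.card (C.gen R 52776558133248) ≤ Nat.card (C.gen R 15393162788864) := cov323.low le_rfl (GC.wds_zero _) HT3_c0i.gen_le fx316
theorem HT3_lb0 : 72 ≤ Nat.card (C.gen R 15393162788864) := low_step HT3_lo0 HT3_lb1 (by decide +kernel)
theorem H_T3c : ∀ τ ∈ (C.gen R 15393162788864), C.el (R 12) * τ * (C.el (R 12))⁻¹ ∈ (C.gen R 510) := B8_m0.conjA (H_I.get (i := 12) (by decide +kernel)).top HT3_in308.top chk335
theorem cov344 : Cov (C.gen R 15393162788864) (C.wds R (List.map Prod.fst (l336))) pt37 14 := Act.cov_of_seen (Act.pieces_sound HT3_s0_313 B8_m0.top pt37r chk342) chk343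
theorem H_T3d : Dec (C.gen R 510) (C.gen R 15393162788864) (C.wds R (List.map Prod.fst (l336))) (C.gen R 122880) := cov344.dec HT3_in308.gen_le (GC.wds_sub B8_m0 chk345) HK_in95.gen_le fx146 (up_low B8_ub HK_lb0 (by decide +kernel))
theorem H_T3p : ∀ x ∈ DC1 (C.gen R 510) (C.el (R 12)), x * C.el (R 9) ∈ DCs (C.gen R 510) (C.els R 6656) := GC.dc_piece' H_T3d H_T3c H_Kc (B8_m0.dcRel H_I.top (H_I.get (i := 12) (by decide +kernel)).top (H_m0.get (i := 9) (by decide +kernel)).top chk337)
theorem H_T3u : Nat.card (C.gen R 510) ≤ 343 * Nat.card (C.gen R 15393162788864) := up_low B8_ub HT3_lb0 (by decide +kernel)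
theorem H_T3n : (DC1 (C.gen R 510) (C.el (R 12))).ncard ≤ Nat.card (C.gen R 510) * 343 := ncard_DC1 HT3_in308.gen_le H_T3c H_T3u
theorem H_dc : ∀ x ∈ (C.gen R 1022), x ∈ DCs (C.gen R 510) (C.els R 6656) := GC.dc_gen (MU := 512) B8_m0 (by decide +kernel) (GC.forall_els (L := [9]) (forall_cons ⟨B8_m0.inDC' H_I.top (H_m0.get (i := 9) (by decide +kernel)).top chk346, GC.forall_els (L := [9, 11, 12]) (forall_cons H_T1p (forall_cons H_T2p (forall_cons H_T3p forall_nil))) (by decide +kernel)⟩ forall_nil) (by decide +kernel))
theorem H_cs : ∀ p ∈ ([(9, 14), (11, 98), (12, 343)] : List (ℕ × ℕ)), (DC1 (C.gen R 510) (C.el (R p.1))).ncard ≤ Nat.card (C.gen R 510) * p.2 := (forall_cons H_T1n (forall_cons H_T2n (forall_cons H_T3n forall_nil)))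
theorem H_ix : Nat.card (C.gen R 1022) ≤ 456 * Nat.card (C.gen R 510) := GC.card_dc [(9, 14), (11, 98), (12, 343)] H_dc H_cs (by decide +kernel)
theorem H_ub : Nat.card (C.gen R 1022) ≤ 11261376 := up_mul H_ix B8_ub (by decide +kernel)
theorem pt347e : ∃ x, A1.Rep pt347c x := (PP.exists_vec P_ok (c := 0x1000003000004000000000005000003000001000005000000000006000001000002000003000001000003000000000003000003000006000005000006000000000005000005000004000001000006000000000003000004000001000001000002000003000003000002000004000006000006000001000001000000000001000006000005) (by decide +kernel)).elim fun x hx => ⟨_, x, hx, rfl⟩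
noncomputable def pt347 := Classical.choose pt347e
theorem pt347r : A1.Rep pt347c pt347 := Classical.choose_spec pt347e
theorem H_s1_350 : C.Mem R (C.gen R 1022) 288160007407541246 := H_s0_40.slp' chk349
theorem G_m0 : C.Mem R (C.gen R 2046) 2046 := GC.Mem.gen val3
theorem G_m1 : C.Mem R (C.gen R 2046) 288160007407542270 := G_m0.lor' (H_s1_350.mono (G_m0.sub chk351).gen_le) chk352
theorem G_s1_355 : C.Mem R (C.gen R 2046) 2305772640469524478 := G_m1.slp' chk354
theorem G_I : C.Mem R (C.gen R 2046) 2017612633061983232 := G_s1_355.sub chk356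
theorem GK_in382 : C.Mem R (C.gen R 1022) 16140901064495857664 := H_s1_350.slp' chk381
theorem GK_m0 : C.Mem R (C.gen R 16140901064495857664) 16140901064495857664 := GC.Mem.gen GK_in382.top
theorem pt383e : ∃ x, A1.Rep pt383c x := (PP.exists_vec P_ok (c := 0x6000001000006000005000000000005000004000002000004000005000001000006000002000000000003000002000001000005000000000001000003000006000006000004000003000000000005000006000002000003000003000005000004000003000005000006000006000002000000000000000004000001000003000004000004) (by decide +kernel)).elim fun x hx => ⟨_, x, hx, rfl⟩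
noncomputable def pt383 := Classical.choose pt383e
theorem pt383r : A1.Rep pt383c pt383 := Classical.choose_spec pt383e
theorem pt384e : ∃ x, A1.Rep pt384c x := (PP.exists_vec P_ok (c := 0x3000004000002000001000005000001000003000003000006000004000003000003000003000001000000000001000002000005000002000006000005000005000006000004000005000003000002000001000005000006000000000000000004000004000003000001000005000005000003000003000000000002000002000002000002) (by decide +kernel)).elim fun x hx => ⟨_, x, hx, rfl⟩
noncomputable def pt384 := Classical.choose pt384e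
theorem pt384r : A1.Rep pt384c pt384 := Classical.choose_spec pt384e
theorem pt385e : ∃ x, A1.Rep pt385c x := (PP.exists_vec P_ok (c := 0x5000000000000000001000001000004000000000004000005000000000001000001000000000006000003000003000005000004000004000004000002000001000000000003000001000000000001000005000000000003000002000004000002000004000001000004000003000005000003000005000005000003000004000004000001) (by decide +kernel)).elim fun x hx => ⟨_, x, hx, rfl⟩
noncomputable def pt385 := Classical.choose pt385e
theorem pt385r : A1.Rep pt385c pt385 := Classical.choose_spec pt385e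
theorem pt386e : ∃ x, A0.Rep pt386c x := PP.exists_vec P_ok (c := 0x5000000000000000001000001000004000000000004000005000000000001000001000000000006000003000003000005000004000004000004000002000001000000000003000001000000000001000005000000000003000002000004000002000004000001000004000003000005000003000005000005000003000004000004000001) (by decide +kernel)
noncomputable def pt386 := Classical.choose pt386e
theorem pt386r : A0.Rep pt386c pt386 := Classical.choose_spec pt386e
theorem GK_s0_389 : C.Mem R (C.gen R 16140901064495857664) 292842062170139131904 := GK_m0.slp' chk388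
theorem GK_c0i : C.Mem R (C.gen R 16140901064495857664) 276701161105643274240 := GK_s0_389.sub chk390
theorem GK_c0m : C.Mem R (C.gen R 276701161105643274240) 276701161105643274240 := GK_c0i.gen
theorem fx392 : C.gen R 276701161105643274240 ≤ stabilizer _ pt383 := Act.fix_sound GK_c0i.top pt383r chk391
theorem cov399 : Cov (C.gen R 16140901064495857664) (C.wds R [0]) pt383 8 := Act.cov_of_seen (Act.pieces_sound GK_s0_389 GK_s0_389.top pt383r chk397) chk398
theorem GK_c1i : C.Mem R (C.gen R 276701161105643274240) 221360928884514619392 := GK_c0m.sub chk400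
theorem GK_c1m : C.Mem R (C.gen R 221360928884514619392) 221360928884514619392 := GK_c1i.gen
theorem fx402 : C.gen R 221360928884514619392 ≤ stabilizer _ pt384 := Act.fix_sound GK_c1i.top pt384r chk401
theorem cov409 : Cov (C.gen R 276701161105643274240) (C.wds R [0]) pt384 42 := Act.cov_of_seen (Act.pieces_sound GK_c0m GK_c0m.top pt384r chk407) chk408
theorem GK_c2i : C.Mem R (C.gen R 221360928884514619392) 147573952589676412928 := GK_c1m.sub chk410
theorem GK_c2m : C.Mem R (C.gen R 147573952589676412928) 147573952589676412928 := GK_c2i.gen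
theorem fx412 : C.gen R 147573952589676412928 ≤ stabilizer _ pt385 := Act.fix_sound GK_c2i.top pt385r chk411
theorem cov419 : Cov (C.gen R 221360928884514619392) (C.wds R [0]) pt385 2 := Act.cov_of_seen (Act.pieces_sound GK_c1m GK_c1m.top pt385r chk417) chk418
theorem GK_c3i : C.Mem R (C.gen R 147573952589676412928) 0 := GK_c2m.sub chk420
theorem GK_c3m : C.Mem R (C.gen R 0) 0 := GK_c3i.gen
theorem fx422 : C.gen R 0 ≤ stabilizer _ pt386 := Act.fix_sound GK_c3i.top pt386r chk421
theorem cov429 : Cov (C.gen R 147573952589676412928) (C.wds R [0]) pt386 3 := Act.cov_of_seen (Act.pieces_sound GK_c2m GK_c2m.top pt386r chk427) chk428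
theorem GK_lb4 : 1 ≤ Nat.card (C.gen R 0) := Nat.card_pos
theorem GK_lo3 : 3 * Nat.card (C.gen R 0) ≤ Nat.card (C.gen R 147573952589676412928) := cov429.low le_rfl (GC.wds_zero _) GK_c3i.gen_le fx422
theorem GK_lb3 : 3 ≤ Nat.card (C.gen R 147573952589676412928) := low_step GK_lo3 GK_lb4 (by decide +kernel)
theorem GK_lo2 : 2 * Nat.card (C.gen R 147573952589676412928) ≤ Nat.card (C.gen R 221360928884514619392) := cov419.low le_rfl (GC.wds_zero _) GK_c2i.gen_le fx412
theorem GK_lb2 : 6 ≤ Nat.card (C.gen R 221360928884514619392) := low_step GK_lo2 GK_lb3 (by decide +kernel)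
theorem GK_lo1 : 42 * Nat.card (C.gen R 221360928884514619392) ≤ Nat.card (C.gen R 276701161105643274240) := cov409.low le_rfl (GC.wds_zero _) GK_c1i.gen_le fx402
theorem GK_lb1 : 252 ≤ Nat.card (C.gen R 276701161105643274240) := low_step GK_lo1 GK_lb2 (by decide +kernel)
theorem GK_lo0 : 8 * Nat.card (C.gen R 276701161105643274240) ≤ Nat.card (C.gen R 16140901064495857664) := cov399.low le_rfl (GC.wds_zero _) GK_c0i.gen_le fx392
theorem GK_lb0 : 2016 ≤ Nat.card (C.gen R 16140901064495857664) := low_step GK_lo0 GK_lb1 (by decide +kernel)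
theorem fx433 : C.gen R 16140901064495857664 ≤ stabilizer _ pt347 := Act.fix_sound GK_in382.top pt347r chk432
theorem G_Kc : ∀ κ ∈ (C.gen R 16140901064495857664), (C.el (R 10))⁻¹ * κ * C.el (R 10) ∈ (C.gen R 1022) := H_s1_350.conjB (G_m1.get (i := 10) (by decide +kernel)).top GK_in382.top chk431
theorem GT1_in458 : C.Mem R (C.gen R 1022) 2066035336255469780992 := H_s1_350.slp' chk457
theorem GT1_m0 : C.Mem R (C.gen R 2066035336255469780992) 2066035336255469780992 := GC.Mem.gen GT1_in458.top
theorem pt459e : ∃ x, A1.Rep pt459c x := (PP.exists_vec P_ok (c := 0x6000001000006000005000000000005000004000002000004000005000001000006000002000000000003000002000001000005000000000001000003000006000006000004000003000000000005000006000002000003000003000005000004000003000005000006000006000002000000000000000004000001000003000004000004) (by decide +kernel)).elim fun x hx => ⟨_, x, hx, rfl⟩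
noncomputable def pt459 := Classical.choose pt459e
theorem pt459r : A1.Rep pt459c pt459 := Classical.choose_spec pt459e
theorem pt460e : ∃ x, A1.Rep pt460c x := (PP.exists_vec P_ok (c := 0x5000000000000000001000001000004000000000004000005000000000001000001000000000006000003000003000005000004000004000004000002000001000000000003000001000000000001000005000000000003000002000004000002000004000001000004000003000005000003000005000005000003000004000004000001) (by decide +kernel)).elim fun x hx => ⟨_, x, hx, rfl⟩
noncomputable def pt460 := Classical.choose pt460e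
theorem pt460r : A1.Rep pt460c pt460 := Classical.choose_spec pt460e
theorem pt461e : ∃ x, A0.Rep pt461c x := PP.exists_vec P_ok (c := 0x5000000000000000001000001000004000000000004000005000000000001000001000000000006000003000003000005000004000004000004000002000001000000000003000001000000000001000005000000000003000002000004000002000004000001000004000003000005000003000005000005000003000004000004000001) (by decide +kernel)
noncomputable def pt461 := Classical.choose pt461e
theorem pt461r : A0.Rep pt461c pt461 := Classical.choose_spec pt461e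
theorem GT1_s0_464 : C.Mem R (C.gen R 2066035336255469780992) 37483783957777808883712 := GT1_m0.slp' chk463
theorem GT1_c0i : C.Mem R (C.gen R 2066035336255469780992) 35417748621522339102720 := GT1_s0_464.sub chk465
theorem GT1_c0m : C.Mem R (C.gen R 35417748621522339102720) 35417748621522339102720 := GT1_c0i.gen
theorem fx467 : C.gen R 35417748621522339102720 ≤ stabilizer _ pt459 := Act.fix_sound GT1_c0i.top pt459r chk466
theorem cov474 : Cov (C.gen R 2066035336255469780992) (C.wds R [0]) pt459 8 := Act.cov_of_seen (Act.pieces_sound GT1_s0_464 GT1_s0_464.top pt459r chk472) chk473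
theorem GT1_c1i : C.Mem R (C.gen R 35417748621522339102720) 18889465931478580854784 := GT1_c0m.sub chk475
theorem GT1_c1m : C.Mem R (C.gen R 18889465931478580854784) 18889465931478580854784 := GT1_c1i.gen
theorem fx477 : C.gen R 18889465931478580854784 ≤ stabilizer _ pt460 := Act.fix_sound GT1_c1i.top pt460r chk476
theorem cov484 : Cov (C.gen R 35417748621522339102720) (C.wds R [0]) pt460 84 := Act.cov_of_seen (Act.pieces_sound GT1_c0m GT1_c0m.top pt460r chk482) chk483
theorem GT1_c2i : C.Mem R (C.gen R 18889465931478580854784) 0 := GT1_c1m.sub chk485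
theorem GT1_c2m : C.Mem R (C.gen R 0) 0 := GT1_c2i.gen
theorem fx487 : C.gen R 0 ≤ stabilizer _ pt461 := Act.fix_sound GT1_c2i.top pt461r chk486
theorem cov494 : Cov (C.gen R 18889465931478580854784) (C.wds R [0]) pt461 3 := Act.cov_of_seen (Act.pieces_sound GT1_c1m GT1_c1m.top pt461r chk492) chk493
theorem GT1_lb3 : 1 ≤ Nat.card (C.gen R 0) := Nat.card_pos
theorem GT1_lo2 : 3 * Nat.card (C.gen R 0) ≤ Nat.card (C.gen R 18889465931478580854784) := cov494.low le_rfl (GC.wds_zero _) GT1_c2i.gen_le fx487
theorem GT1_lb2 : 3 ≤ Nat.card (C.gen R 18889465931478580854784) := low_step GT1_lo2 GT1_lb3 (by decide +kernel)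
theorem GT1_lo1 : 84 * Nat.card (C.gen R 18889465931478580854784) ≤ Nat.card (C.gen R 35417748621522339102720) := cov484.low le_rfl (GC.wds_zero _) GT1_c1i.gen_le fx477
theorem GT1_lb1 : 252 ≤ Nat.card (C.gen R 35417748621522339102720) := low_step GT1_lo1 GT1_lb2 (by decide +kernel)
theorem GT1_lo0 : 8 * Nat.card (C.gen R 35417748621522339102720) ≤ Nat.card (C.gen R 2066035336255469780992) := cov474.low le_rfl (GC.wds_zero _) GT1_c0i.gen_le fx467
theorem GT1_lb0 : 2016 ≤ Nat.card (C.gen R 2066035336255469780992) := low_step GT1_lo0 GT1_lb1 (by decide +kernel)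
theorem G_T1c : ∀ τ ∈ (C.gen R 2066035336255469780992), C.el (R 10) * τ * (C.el (R 10))⁻¹ ∈ (C.gen R 1022) := H_s1_350.conjA (G_I.get (i := 10) (by decide +kernel)).top GT1_in458.top chk496
theorem cov509 : Cov (C.gen R 2066035336255469780992) (C.wds R (List.map Prod.fst (l497))) pt347 5586 := Act.cov_of_seen (Act.pieces_sound GT1_s0_464 H_s1_350.top pt347r chk507) chk508
theorem G_T1d : Dec (C.gen R 1022) (C.gen R 2066035336255469780992) (C.wds R (List.map Prod.fst (l497))) (C.gen R 16140901064495857664) := cov509.dec GT1_in458.gen_le (GC.wds_sub H_s1_350 chk510) GK_in382.gen_le fx433 (up_low H_ub GK_lb0 (by decide +kernel))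
theorem G_T1p : ∀ x ∈ DC1 (C.gen R 1022) (C.el (R 10)), x * C.el (R 10) ∈ DCs (C.gen R 1022) (C.els R 2017612633061983232) := GC.dc_piece' G_T1d G_T1c G_Kc (H_s1_350.dcRel G_I.top (G_I.get (i := 10) (by decide +kernel)).top (G_m1.get (i := 10) (by decide +kernel)).top chk498)
theorem G_T1u : Nat.card (C.gen R 1022) ≤ 5586 * Nat.card (C.gen R 2066035336255469780992) := up_low H_ub GT1_lb0 (by decide +kernel)
theorem G_T1n : (DC1 (C.gen R 1022) (C.el (R 10))).ncard ≤ Nat.card (C.gen R 1022) * 5586 := ncard_DC1 GT1_in458.gen_le G_T1c G_T1u
theorem GT2_in529 : C.Mem R (C.gen R 1022) 113336795588871485128704 := H_s1_350.slp' chk528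
theorem GT2_m0 : C.Mem R (C.gen R 113336795588871485128704) 113336795588871485128704 := GC.Mem.gen GT2_in529.top
theorem pt530e : ∃ x, A1.Rep pt530c x := (PP.exists_vec P_ok (c := 0x5000001000005000003000002000002000002000004000002000003000000000004000005000000000000000004000006000006000003000002000002000001000001000003000003000006000003000005000001000000000006000000000003000001000006000004000001000003000000000002000000000004000006000006000003) (by decide +kernel)).elim fun x hx => ⟨_, x, hx, rfl⟩
noncomputable def pt530 := Classical.choose pt530e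
theorem pt530r : A1.Rep pt530c pt530 := Classical.choose_spec pt530e
theorem pt531e : ∃ x, A1.Rep pt531c x := (PP.exists_vec P_ok (c := 0x1000000000000000003000004000004000003000003000000000003000001000005000000000003000000000000000004000000000005000000000005000003000000000005000003000003000000000003000000000004000005000006000004000005000000000000000001000002000006000000000000000005000006000002000003) (by decide +kernel)).elim fun x hx => ⟨_, x, hx, rfl⟩
noncomputable def pt531 := Classical.choose pt531e
theorem pt531r : A1.Rep pt531c pt531 := Classical.choose_spec pt531e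
theorem pt532e : ∃ x, A0.Rep pt532c x := PP.exists_vec P_ok (c := 0x5000000000000000001000001000004000000000004000005000000000001000001000000000006000003000003000005000004000004000004000002000001000000000003000001000000000001000005000000000003000002000004000002000004000001000004000003000005000003000005000005000003000004000004000001) (by decide +kernel)
noncomputable def pt532 := Classical.choose pt532e
theorem pt532r : A0.Rep pt532c pt532 := Classical.choose_spec pt532e
theorem GT2_s0_535 : C.Mem R (C.gen R 113336795588871485128704) 2380072707366301187702784 := GT2_m0.slp' chk534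
theorem GT2_c0i : C.Mem R (C.gen R 113336795588871485128704) 2266735911777429702574080 := GT2_s0_535.sub chk536
theorem GT2_c0m : C.Mem R (C.gen R 2266735911777429702574080) 2266735911777429702574080 := GT2_c0i.gen
theorem fx538 : C.gen R 2266735911777429702574080 ≤ stabilizer _ pt530 := Act.fix_sound GT2_c0i.top pt530r chk537
theorem cov545 : Cov (C.gen R 113336795588871485128704) (C.wds R [0]) pt530 3 := Act.cov_of_seen (Act.pieces_sound GT2_s0_535 GT2_s0_535.top pt530r chk543) chk544
theorem GT2_c1i : C.Mem R (C.gen R 2266735911777429702574080) 906694364710971881029632 := GT2_c0m.sub chk546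
theorem GT2_c1m : C.Mem R (C.gen R 906694364710971881029632) 906694364710971881029632 := GT2_c1i.gen
theorem fx548 : C.gen R 906694364710971881029632 ≤ stabilizer _ pt531 := Act.fix_sound GT2_c1i.top pt531r chk547
theorem cov555 : Cov (C.gen R 2266735911777429702574080) (C.wds R [0]) pt531 12 := Act.cov_of_seen (Act.pieces_sound GT2_c0m GT2_c0m.top pt531r chk553) chk554
theorem GT2_c2i : C.Mem R (C.gen R 906694364710971881029632) 0 := GT2_c1m.sub chk556
theorem GT2_c2m : C.Mem R (C.gen R 0) 0 := GT2_c2i.gen
theorem fx558 : C.gen R 0 ≤ stabilizer _ pt532 := Act.fix_sound GT2_c2i.top pt532r chk557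
theorem cov565 : Cov (C.gen R 906694364710971881029632) (C.wds R [0]) pt532 6 := Act.cov_of_seen (Act.pieces_sound GT2_c1m GT2_c1m.top pt532r chk563) chk564
theorem GT2_lb3 : 1 ≤ Nat.card (C.gen R 0) := Nat.card_pos
theorem GT2_lo2 : 6 * Nat.card (C.gen R 0) ≤ Nat.card (C.gen R 906694364710971881029632) := cov565.low le_rfl (GC.wds_zero _) GT2_c2i.gen_le fx558
theorem GT2_lb2 : 6 ≤ Nat.card (C.gen R 906694364710971881029632) := low_step GT2_lo2 GT2_lb3 (by decide +kernel)
theorem GT2_lo1 : 12 * Nat.card (C.gen R 906694364710971881029632) ≤ Nat.card (C.gen R 2266735911777429702574080) := cov555.low le_rfl (GC.wds_zero _) GT2_c1i.gen_le fx548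
theorem GT2_lb1 : 72 ≤ Nat.card (C.gen R 2266735911777429702574080) := low_step GT2_lo1 GT2_lb2 (by decide +kernel)
theorem GT2_lo0 : 3 * Nat.card (C.gen R 2266735911777429702574080) ≤ Nat.card (C.gen R 113336795588871485128704) := cov545.low le_rfl (GC.wds_zero _) GT2_c0i.gen_le fx538
theorem GT2_lb0 : 216 ≤ Nat.card (C.gen R 113336795588871485128704) := low_step GT2_lo0 GT2_lb1 (by decide +kernel)
theorem G_T2c : ∀ τ ∈ (C.gen R 113336795588871485128704), C.el (R 58) * τ * (C.el (R 58))⁻¹ ∈ (C.gen R 1022) := H_s1_350.conjA (G_I.get (i := 58) (by decide +kernel)).top GT2_in529.top chk567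
theorem cov584 : Cov (C.gen R 113336795588871485128704) (C.wds R (List.map Prod.fst (l568))) pt347 5586 := Act.cov_of_seen (Act.pieces_sound GT2_s0_535 H_s1_350.top pt347r chk582) chk583
theorem G_T2d : Dec (C.gen R 1022) (C.gen R 113336795588871485128704) (C.wds R (List.map Prod.fst (l568))) (C.gen R 16140901064495857664) := cov584.dec GT2_in529.gen_le (GC.wds_sub H_s1_350 chk585) GK_in382.gen_le fx433 (up_low H_ub GK_lb0 (by decide +kernel))
theorem G_T2p : ∀ x ∈ DC1 (C.gen R 1022) (C.el (R 58)), x * C.el (R 10) ∈ DCs (C.gen R 1022) (C.els R 2017612633061983232) := GC.dc_piece' G_T2d G_T2c G_Kc (H_s1_350.dcRel G_I.top (G_I.get (i := 58) (by decide +kernel)).top (G_m1.get (i := 10) (by decide +kernel)).top chk571)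
theorem G_T2u : Nat.card (C.gen R 1022) ≤ 52136 * Nat.card (C.gen R 113336795588871485128704) := up_low H_ub GT2_lb0 (by decide +kernel)
theorem G_T2n : (DC1 (C.gen R 1022) (C.el (R 58))).ncard ≤ Nat.card (C.gen R 1022) * 52136 := ncard_DC1 GT2_in529.gen_le G_T2c G_T2u
theorem GT3_in610 : C.Mem R (C.gen R 1022) 16924961474604808445886464 := H_s1_350.slp' chk609
theorem GT3_m0 : C.Mem R (C.gen R 16924961474604808445886464) 16924961474604808445886464 := GC.Mem.gen GT3_in610.top
theorem pt611e : ∃ x, A1.Rep pt611c x := (PP.exists_vec P_ok (c := 0x6000001000006000005000000000005000004000002000004000005000001000006000002000000000003000002000001000005000000000001000003000006000006000004000003000000000005000006000002000003000003000005000004000003000005000006000006000002000000000000000004000001000003000004000004) (by decide +kernel)).elim fun x hx => ⟨_, x, hx, rfl⟩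
noncomputable def pt611 := Classical.choose pt611e
theorem pt611r : A1.Rep pt611c pt611 := Classical.choose_spec pt611e
theorem pt612e : ∃ x, A1.Rep pt612c x := (PP.exists_vec P_ok (c := 0x5000000000000000001000001000004000000000004000005000000000001000001000000000006000003000003000005000004000004000004000002000001000000000003000001000000000001000005000000000003000002000004000002000004000001000004000003000005000003000005000005000003000004000004000001) (by decide +kernel)).elim fun x hx => ⟨_, x, hx, rfl⟩
noncomputable def pt612 := Classical.choose pt612e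
theorem pt612r : A1.Rep pt612c pt612 := Classical.choose_spec pt612e
theorem pt613e : ∃ x, A0.Rep pt613c x := PP.exists_vec P_ok (c := 0x5000000000000000001000001000004000000000004000005000000000001000001000000000006000003000003000005000004000004000004000002000001000000000003000001000000000001000005000000000003000002000004000002000004000001000004000003000005000003000005000005000003000004000004000001) (by decide +kernel)
noncomputable def pt613 := Classical.choose pt613e
theorem pt613r : A0.Rep pt613c pt613 := Classical.choose_spec pt613e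
theorem GT3_s0_616 : C.Mem R (C.gen R 16924961474604808445886464) 152324653271443276012978176 := GT3_m0.slp' chk615
theorem GT3_c0i : C.Mem R (C.gen R 16924961474604808445886464) 135399691796838467567091712 := GT3_s0_616.sub chk617
theorem GT3_c0m : C.Mem R (C.gen R 135399691796838467567091712) 135399691796838467567091712 := GT3_c0i.gen
theorem fx619 : C.gen R 135399691796838467567091712 ≤ stabilizer _ pt611 := Act.fix_sound GT3_c0i.top pt611r chk618
theorem cov626 : Cov (C.gen R 16924961474604808445886464) (C.wds R [0]) pt611 16 := Act.cov_of_seen (Act.pieces_sound GT3_s0_616 GT3_s0_616.top pt611r chk624) chk625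
theorem GT3_c1i : C.Mem R (C.gen R 135399691796838467567091712) 77371252455336267181195264 := GT3_c0m.sub chk627
theorem GT3_c1m : C.Mem R (C.gen R 77371252455336267181195264) 77371252455336267181195264 := GT3_c1i.gen
theorem fx629 : C.gen R 77371252455336267181195264 ≤ stabilizer _ pt612 := Act.fix_sound GT3_c1i.top pt612r chk628
theorem cov636 : Cov (C.gen R 135399691796838467567091712) (C.wds R [0]) pt612 4 := Act.cov_of_seen (Act.pieces_sound GT3_c0m GT3_c0m.top pt612r chk634) chk635
theorem GT3_c2i : C.Mem R (C.gen R 77371252455336267181195264) 0 := GT3_c1m.sub chk637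
theorem GT3_c2m : C.Mem R (C.gen R 0) 0 := GT3_c2i.gen
theorem fx639 : C.gen R 0 ≤ stabilizer _ pt613 := Act.fix_sound GT3_c2i.top pt613r chk638
theorem cov646 : Cov (C.gen R 77371252455336267181195264) (C.wds R [0]) pt613 3 := Act.cov_of_seen (Act.pieces_sound GT3_c1m GT3_c1m.top pt613r chk644) chk645
theorem GT3_lb3 : 1 ≤ Nat.card (C.gen R 0) := Nat.card_pos
theorem GT3_lo2 : 3 * Nat.card (C.gen R 0) ≤ Nat.card (C.gen R 77371252455336267181195264) := cov646.low le_rfl (GC.wds_zero _) GT3_c2i.gen_le fx639
theorem GT3_lb2 : 3 ≤ Nat.card (C.gen R 77371252455336267181195264) := low_step GT3_lo2 GT3_lb3 (by decide +kernel)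
theorem GT3_lo1 : 4 * Nat.card (C.gen R 77371252455336267181195264) ≤ Nat.card (C.gen R 135399691796838467567091712) := cov636.low le_rfl (GC.wds_zero _) GT3_c1i.gen_le fx629
theorem GT3_lb1 : 12 ≤ Nat.card (C.gen R 135399691796838467567091712) := low_step GT3_lo1 GT3_lb2 (by decide +kernel)
theorem GT3_lo0 : 16 * Nat.card (C.gen R 135399691796838467567091712) ≤ Nat.card (C.gen R 16924961474604808445886464) := cov626.low le_rfl (GC.wds_zero _) GT3_c0i.gen_le fx619
theorem GT3_lb0 : 192 ≤ Nat.card (C.gen R 16924961474604808445886464) := low_step GT3_lo0 GT3_lb1 (by decide +kernel)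
theorem G_T3c : ∀ τ ∈ (C.gen R 16924961474604808445886464), C.el (R 59) * τ * (C.el (R 59))⁻¹ ∈ (C.gen R 1022) := H_s1_350.conjA (G_I.get (i := 59) (by decide +kernel)).top GT3_in610.top chk648
theorem cov665 : Cov (C.gen R 16924961474604808445886464) (C.wds R (List.map Prod.fst (l649))) pt347 5586 := Act.cov_of_seen (Act.pieces_sound GT3_s0_616 H_s1_350.top pt347r chk663) chk664
theorem G_T3d : Dec (C.gen R 1022) (C.gen R 16924961474604808445886464) (C.wds R (List.map Prod.fst (l649))) (C.gen R 16140901064495857664) := cov665.dec GT3_in610.gen_le (GC.wds_sub H_s1_350 chk666) GK_in382.gen_le fx433 (up_low H_ub GK_lb0 (by decide +kernel))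
theorem G_T3p : ∀ x ∈ DC1 (C.gen R 1022) (C.el (R 59)), x * C.el (R 10) ∈ DCs (C.gen R 1022) (C.els R 2017612633061983232) := GC.dc_piece' G_T3d G_T3c G_Kc (H_s1_350.dcRel G_I.top (G_I.get (i := 59) (by decide +kernel)).top (G_m1.get (i := 10) (by decide +kernel)).top chk652)
theorem G_T3u : Nat.card (C.gen R 1022) ≤ 58653 * Nat.card (C.gen R 16924961474604808445886464) := up_low H_ub GT3_lb0 (by decide +kernel)
theorem G_T3n : (DC1 (C.gen R 1022) (C.el (R 59))).ncard ≤ Nat.card (C.gen R 1022) * 58653 := ncard_DC1 GT3_in610.gen_le G_T3c G_T3u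
theorem GT4_in674 : C.Mem R (C.gen R 1022) 464227514732017603087171584 := H_s1_350.slp' chk673
theorem GT4_m0 : C.Mem R (C.gen R 464227514732017603087171584) 464227514732017603087171584 := GC.Mem.gen GT4_in674.top
theorem pt675e : ∃ x, A1.Rep pt675c x := (PP.exists_vec P_ok (c := 0x4000002000005000003000000000004000005000003000001000003000001000001000000000003000004000006000005000001000000000006000002000003000003000001000005000004000006000003000004000004000004000004000005000002000004000003000006000002000003000004000005000006000002000004) (by decide +kernel)).elim fun x hx => ⟨_, x, hx, rfl⟩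
noncomputable def pt675 := Classical.choose pt675e
theorem pt675r : A1.Rep pt675c pt675 := Classical.choose_spec pt675e
theorem pt676e : ∃ x, A1.Rep pt676c x := (PP.exists_vec P_ok (c := 0x5000000000000000001000001000004000000000004000005000000000001000001000000000006000003000003000005000004000004000004000002000001000000000003000001000000000001000005000000000003000002000004000002000004000001000004000003000005000003000005000005000003000004000004000001) (by decide +kernel)).elim fun x hx => ⟨_, x, hx, rfl⟩
noncomputable def pt676 := Classical.choose pt676e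
theorem pt676r : A1.Rep pt676c pt676 := Classical.choose_spec pt676e
theorem pt677e : ∃ x, A0.Rep pt677c x := PP.exists_vec P_ok (c := 0x5000000000000000001000001000004000000000004000005000000000001000001000000000006000003000003000005000004000004000004000002000001000000000003000001000000000001000005000000000003000002000004000002000004000001000004000003000005000003000005000005000003000004000004000001) (by decide +kernel)
noncomputable def pt677 := Classical.choose pt677e
theorem pt677r : A0.Rep pt677c pt677 := Classical.choose_spec pt677e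
theorem GT4_s0_680 : C.Mem R (C.gen R 464227514732017603087171584) 9748777809372369664830603264 := GT4_m0.slp' chk679
theorem GT4_c0i : C.Mem R (C.gen R 464227514732017603087171584) 9284550294640352061743431680 := GT4_s0_680.sub chk681
theorem GT4_c0m : C.Mem R (C.gen R 9284550294640352061743431680) 9284550294640352061743431680 := GT4_c0i.gen
theorem fx683 : C.gen R 9284550294640352061743431680 ≤ stabilizer _ pt675 := Act.fix_sound GT4_c0i.top pt675r chk682
theorem cov690 : Cov (C.gen R 464227514732017603087171584) (C.wds R [0]) pt675 14 := Act.cov_of_seen (Act.pieces_sound GT4_s0_680 GT4_s0_680.top pt675r chk688) chk689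
theorem GT4_c1i : C.Mem R (C.gen R 9284550294640352061743431680) 4951760157141521099596496896 := GT4_c0m.sub chk691
theorem GT4_c1m : C.Mem R (C.gen R 4951760157141521099596496896) 4951760157141521099596496896 := GT4_c1i.gen
theorem fx693 : C.gen R 4951760157141521099596496896 ≤ stabilizer _ pt676 := Act.fix_sound GT4_c1i.top pt676r chk692
theorem cov700 : Cov (C.gen R 9284550294640352061743431680) (C.wds R [0]) pt676 42 := Act.cov_of_seen (Act.pieces_sound GT4_c0m GT4_c0m.top pt676r chk698) chk699
theorem GT4_c2i : C.Mem R (C.gen R 4951760157141521099596496896) 0 := GT4_c1m.sub chk701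
theorem GT4_c2m : C.Mem R (C.gen R 0) 0 := GT4_c2i.gen
theorem fx703 : C.gen R 0 ≤ stabilizer _ pt677 := Act.fix_sound GT4_c2i.top pt677r chk702
theorem cov710 : Cov (C.gen R 4951760157141521099596496896) (C.wds R [0]) pt677 3 := Act.cov_of_seen (Act.pieces_sound GT4_c1m GT4_c1m.top pt677r chk708) chk709
theorem GT4_lb3 : 1 ≤ Nat.card (C.gen R 0) := Nat.card_pos
theorem GT4_lo2 : 3 * Nat.card (C.gen R 0) ≤ Nat.card (C.gen R 4951760157141521099596496896) := cov710.low le_rfl (GC.wds_zero _) GT4_c2i.gen_le fx703
theorem GT4_lb2 : 3 ≤ Nat.card (C.gen R 4951760157141521099596496896) := low_step GT4_lo2 GT4_lb3 (by decide +kernel)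
theorem GT4_lo1 : 42 * Nat.card (C.gen R 4951760157141521099596496896) ≤ Nat.card (C.gen R 9284550294640352061743431680) := cov700.low le_rfl (GC.wds_zero _) GT4_c1i.gen_le fx693
theorem GT4_lb1 : 126 ≤ Nat.card (C.gen R 9284550294640352061743431680) := low_step GT4_lo1 GT4_lb2 (by decide +kernel)
theorem GT4_lo0 : 14 * Nat.card (C.gen R 9284550294640352061743431680) ≤ Nat.card (C.gen R 464227514732017603087171584) := cov690.low le_rfl (GC.wds_zero _) GT4_c0i.gen_le fx683
theorem GT4_lb0 : 1764 ≤ Nat.card (C.gen R 464227514732017603087171584) := low_step GT4_lo0 GT4_lb1 (by decide +kernel)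
theorem G_T4c : ∀ τ ∈ (C.gen R 464227514732017603087171584), C.el (R 60) * τ * (C.el (R 60))⁻¹ ∈ (C.gen R 1022) := H_s1_350.conjA (G_I.get (i := 60) (by decide +kernel)).top GT4_in674.top chk712
theorem cov725 : Cov (C.gen R 464227514732017603087171584) (C.wds R (List.map Prod.fst (l713))) pt347 5586 := Act.cov_of_seen (Act.pieces_sound GT4_s0_680 H_s1_350.top pt347r chk723) chk724
theorem G_T4d : Dec (C.gen R 1022) (C.gen R 464227514732017603087171584) (C.wds R (List.map Prod.fst (l713))) (C.gen R 16140901064495857664) := cov725.dec GT4_in674.gen_le (GC.wds_sub H_s1_350 chk726) GK_in382.gen_le fx433 (up_low H_ub GK_lb0 (by decide +kernel))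
theorem G_T4p : ∀ x ∈ DC1 (C.gen R 1022) (C.el (R 60)), x * C.el (R 10) ∈ DCs (C.gen R 1022) (C.els R 2017612633061983232) := GC.dc_piece' G_T4d G_T4c G_Kc (H_s1_350.dcRel G_I.top (G_I.get (i := 60) (by decide +kernel)).top (G_m1.get (i := 10) (by decide +kernel)).top chk714)
theorem G_T4u : Nat.card (C.gen R 1022) ≤ 6384 * Nat.card (C.gen R 464227514732017603087171584) := up_low H_ub GT4_lb0 (by decide +kernel)
theorem G_T4n : (DC1 (C.gen R 1022) (C.el (R 60))).ncard ≤ Nat.card (C.gen R 1022) * 6384 := ncard_DC1 GT4_in674.gen_le G_T4c G_T4u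
theorem G_dc : ∀ x ∈ (C.gen R 2046), x ∈ DCs (C.gen R 1022) (C.els R 2017612633061983232) := GC.dc_gen (MU := 1024) H_s1_350 (by decide +kernel) (GC.forall_els (L := [10]) (forall_cons ⟨H_s1_350.inDC' G_I.top (G_m1.get (i := 10) (by decide +kernel)).top chk727, GC.forall_els (L := [10, 58, 59, 60]) (forall_cons G_T1p (forall_cons G_T2p (forall_cons G_T3p (forall_cons G_T4p forall_nil)))) (by decide +kernel)⟩ forall_nil) (by decide +kernel))
theorem G_cs : ∀ p ∈ ([(10, 5586), (58, 52136), (59, 58653), (60, 6384)] : List (ℕ × ℕ)), (DC1 (C.gen R 1022) (C.el (R p.1))).ncard ≤ Nat.card (C.gen R 1022) * p.2 := (forall_cons G_T1n (forall_cons G_T2n (forall_cons G_T3n (forall_cons G_T4n forall_nil))))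
theorem G_ix : Nat.card (C.gen R 2046) ≤ 122760 * Nat.card (C.gen R 1022) := GC.card_dc [(10, 5586), (58, 52136), (59, 58653), (60, 6384)] G_dc G_cs (by decide +kernel)
theorem G_ub : Nat.card (C.gen R 2046) ≤ 1382446517760 := up_mul G_ix H_ub (by decide +kernel)
theorem G_max : ∀ L, (C.gen R 1022) ≤ L → L ≤ (C.gen R 2046) → L = (C.gen R 1022) ∨ L = (C.gen R 2046) := maximal_of_DCs G_dc (H_s1_350.maxChk G_I.top chk729 chk730)
theorem pt731e : ∃ x, A1.Rep pt731c x := (PP.exists_vec P_ok (c := 0x6000004000003000000000002000004000006000002000000000001000006000005000004000006000004000000000004000004000001000002000001000000000002000002000003000006000001000000000004000003000006000006000005000004000004000005000003000001000001000006000006000000000006000001000002) (by decide +kernel)).elim fun x hx => ⟨_, x, hx, rfl⟩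
noncomputable def pt731 := Classical.choose pt731e
theorem pt731r : A1.Rep pt731c pt731 := Classical.choose_spec pt731e
theorem G_s2_734 : C.Mem R (C.gen R 2046) 307009129745080080815452332030 := G_s1_355.slp' chk733
noncomputable def pt735 := C.wd R 10 • pt731
theorem pt735r : A1.Rep pt735c pt735 := Act.appW_ok G_s2_734 chk736 pt731r
theorem pt735g : C.wd R 10 ∈ (C.gen R 2046) := G_s2_734.wd_mem chk736
noncomputable def pt737 := C.wd R 10997313094703 • pt731
theorem pt737r : A1.Rep pt737c pt737 := Act.appW_ok G_s2_734 chk738 pt731r
theorem pt737g : C.wd R 10997313094703 ∈ (C.gen R 2046) := G_s2_734.wd_mem chk738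
noncomputable def pt739 := C.wd R 11263450857661487 • pt731
theorem pt739r : A1.Rep pt739c pt739 := Act.appW_ok G_s2_734 chk740 pt731r
theorem pt739g : C.wd R 11263450857661487 ∈ (C.gen R 2046) := G_s2_734.wd_mem chk740
noncomputable def pt741 := C.wd R 11260100783160327 • pt731
theorem pt741r : A1.Rep pt741c pt741 := Act.appW_ok G_s2_734 chk742 pt731r
theorem pt741g : C.wd R 11260100783160327 ∈ (C.gen R 2046) := G_s2_734.wd_mem chk742
theorem pt743e : ∃ x, A0.Rep pt743c x := PP.exists_vec P_ok (c := 0x5000000000000000001000001000004000000000004000005000000000001000001000000000006000003000003000005000004000004000004000002000001000000000003000001000000000001000005000000000003000002000004000002000004000001000004000003000005000003000005000005000003000004000004000001) (by decide +kernel)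
noncomputable def pt743 := Classical.choose pt743e
theorem pt743r : A0.Rep pt743c pt743 := Classical.choose_spec pt743e
theorem H_s2_746 : C.Mem R (C.gen R 1022) 324201641008369957592789252316158 := H_s1_350.slp' chk745
theorem H_c0i : C.Mem R (C.gen R 1022) 319447951257513809177169207754752 := H_s2_746.sub chk747
theorem H_c0m : C.Mem R (C.gen R 319447951257513809177169207754752) 319447951257513809177169207754752 := H_c0i.gen
theorem fx749 : C.gen R 319447951257513809177169207754752 ≤ stabilizer _ pt735 := Act.fix_sound H_c0i.top pt735r chk748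
theorem cov760 : Cov (C.gen R 1022) (C.wds R [0]) pt735 5586 := Act.cov_of_seen (Act.pieces_sound H_s2_746 H_s2_746.top pt735r chk758) chk759
theorem H_c1i : C.Mem R (C.gen R 319447951257513809177169207754752) 253530120045645880299340641075200 := H_c0m.sub chk761
theorem H_c1m : C.Mem R (C.gen R 253530120045645880299340641075200) 253530120045645880299340641075200 := H_c1i.gen
theorem fx763 : C.gen R 253530120045645880299340641075200 ≤ stabilizer _ pt737 := Act.fix_sound H_c1i.top pt737r chk762
theorem cov770 : Cov (C.gen R 319447951257513809177169207754752) (C.wds R [0]) pt737 168 := Act.cov_of_seen (Act.pieces_sound H_c0m H_c0m.top pt737r chk768) chk769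
theorem H_c2i : C.Mem R (C.gen R 253530120045645880299340641075200) 243388915243820045087367015432192 := H_c1m.sub chk771
theorem H_c2m : C.Mem R (C.gen R 243388915243820045087367015432192) 243388915243820045087367015432192 := H_c2i.gen
theorem fx773 : C.gen R 243388915243820045087367015432192 ≤ stabilizer _ pt739 := Act.fix_sound H_c2i.top pt739r chk772
theorem cov780 : Cov (C.gen R 253530120045645880299340641075200) (C.wds R [0]) pt739 2 := Act.cov_of_seen (Act.pieces_sound H_c1m H_c1m.top pt739r chk778) chk779
theorem H_c3i : C.Mem R (C.gen R 243388915243820045087367015432192) 162259276829213363391578010288128 := H_c2m.sub chk781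
theorem H_c3m : C.Mem R (C.gen R 162259276829213363391578010288128) 162259276829213363391578010288128 := H_c3i.gen
theorem fx783 : C.gen R 162259276829213363391578010288128 ≤ stabilizer _ pt741 := Act.fix_sound H_c3i.top pt741r chk782
theorem cov790 : Cov (C.gen R 243388915243820045087367015432192) (C.wds R [0]) pt741 2 := Act.cov_of_seen (Act.pieces_sound H_c2m H_c2m.top pt741r chk788) chk789
theorem H_c4i : C.Mem R (C.gen R 162259276829213363391578010288128) 0 := H_c3m.sub chk791
theorem H_c4m : C.Mem R (C.gen R 0) 0 := H_c4i.gen
theorem fx793 : C.gen R 0 ≤ stabilizer _ pt743 := Act.fix_sound H_c4i.top pt743r chk792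
theorem cov800 : Cov (C.gen R 162259276829213363391578010288128) (C.wds R [0]) pt743 3 := Act.cov_of_seen (Act.pieces_sound H_c3m H_c3m.top pt743r chk798) chk799
theorem H_lb5 : 1 ≤ Nat.card (C.gen R 0) := Nat.card_pos
theorem H_lo4 : 3 * Nat.card (C.gen R 0) ≤ Nat.card (C.gen R 162259276829213363391578010288128) := cov800.low le_rfl (GC.wds_zero _) H_c4i.gen_le fx793
theorem H_lb4 : 3 ≤ Nat.card (C.gen R 162259276829213363391578010288128) := low_step H_lo4 H_lb5 (by decide +kernel)
theorem H_lo3 : 2 * Nat.card (C.gen R 162259276829213363391578010288128) ≤ Nat.card (C.gen R 243388915243820045087367015432192) := cov790.low le_rfl (GC.wds_zero _) H_c3i.gen_le fx783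
theorem H_lb3 : 6 ≤ Nat.card (C.gen R 243388915243820045087367015432192) := low_step H_lo3 H_lb4 (by decide +kernel)
theorem H_lo2 : 2 * Nat.card (C.gen R 243388915243820045087367015432192) ≤ Nat.card (C.gen R 253530120045645880299340641075200) := cov780.low le_rfl (GC.wds_zero _) H_c2i.gen_le fx773
theorem H_lb2 : 12 ≤ Nat.card (C.gen R 253530120045645880299340641075200) := low_step H_lo2 H_lb3 (by decide +kernel)
theorem H_lo1 : 168 * Nat.card (C.gen R 253530120045645880299340641075200) ≤ Nat.card (C.gen R 319447951257513809177169207754752) := cov770.low le_rfl (GC.wds_zero _) H_c1i.gen_le fx763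
theorem H_lb1 : 2016 ≤ Nat.card (C.gen R 319447951257513809177169207754752) := low_step H_lo1 H_lb2 (by decide +kernel)
theorem H_lo0 : 5586 * Nat.card (C.gen R 319447951257513809177169207754752) ≤ Nat.card (C.gen R 1022) := cov760.low le_rfl (GC.wds_zero _) H_c0i.gen_le fx749
theorem H_lb0 : 11261376 ≤ Nat.card (C.gen R 1022) := low_step H_lo0 H_lb1 (by decide +kernel)
theorem H_st0 : (C.gen R 1022) ⊓ stabilizer _ pt735 = (C.gen R 319447951257513809177169207754752) ∧ (orbit (C.gen R 1022) pt735).ncard = 5586 := cov760.stab le_rfl (GC.wds_zero _) H_c0i.gen_le fx749 (up_low H_ub H_lb1 (by decide +kernel))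
theorem H_ub1 : Nat.card (C.gen R 319447951257513809177169207754752) ≤ 2016 := up_step H_lo0 H_ub (by decide +kernel)
theorem H_st1 : (C.gen R 319447951257513809177169207754752) ⊓ stabilizer _ pt737 = (C.gen R 253530120045645880299340641075200) ∧ (orbit (C.gen R 319447951257513809177169207754752) pt737).ncard = 168 := cov770.stab le_rfl (GC.wds_zero _) H_c1i.gen_le fx763 (up_low H_ub1 H_lb2 (by decide +kernel))
theorem H_ub2 : Nat.card (C.gen R 253530120045645880299340641075200) ≤ 12 := up_step H_lo1 H_ub1 (by decide +kernel)
theorem H_st2 : (C.gen R 253530120045645880299340641075200) ⊓ stabilizer _ pt739 = (C.gen R 243388915243820045087367015432192) ∧ (orbit (C.gen R 253530120045645880299340641075200) pt739).ncard = 2 := cov780.stab le_rfl (GC.wds_zero _) H_c2i.gen_le fx773 (up_low H_ub2 H_lb3 (by decide +kernel))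
theorem H_ub3 : Nat.card (C.gen R 243388915243820045087367015432192) ≤ 6 := up_step H_lo2 H_ub2 (by decide +kernel)
theorem H_st3 : (C.gen R 243388915243820045087367015432192) ⊓ stabilizer _ pt741 = (C.gen R 162259276829213363391578010288128) ∧ (orbit (C.gen R 243388915243820045087367015432192) pt741).ncard = 2 := cov790.stab le_rfl (GC.wds_zero _) H_c3i.gen_le fx783 (up_low H_ub3 H_lb4 (by decide +kernel))
theorem H_ub4 : Nat.card (C.gen R 162259276829213363391578010288128) ≤ 3 := up_step H_lo3 H_ub3 (by decide +kernel)
theorem H_st4 : (C.gen R 162259276829213363391578010288128) ⊓ stabilizer _ pt743 = (C.gen R 0) ∧ (orbit (C.gen R 162259276829213363391578010288128) pt743).ncard = 3 := cov800.stab le_rfl (GC.wds_zero _) H_c4i.gen_le fx793 (up_low H_ub4 H_lb5 (by decide +kernel))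
theorem H_ub5 : Nat.card (C.gen R 0) ≤ 1 := up_step H_lo4 H_ub4 (by decide +kernel)
theorem G_m4 : C.Mem R (C.gen R 2046) 324508650138114749513597297106942 := G_s2_734.lor' (H_s2_746.mono (G_s2_734.sub chk801).gen_le) chk802
theorem Sa0_m0 : C.Mem R (C.gen R 0) 0 := GC.Mem.gen (GC.Mem.zero ⊤)
theorem Sain805 : C.Mem R (C.gen R 2046) 165828980919456057386192726514466816 := G_m4.slp' chk804
theorem Sa1_m0 : C.Mem R (C.gen R 324518553658426726783156020576256) 324518553658426726783156020576256 := GC.Mem.gen (Sain805.top.sub chk806)
theorem Sa1_dvd : Nat.card (C.gen R 324518553658426726783156020576256) ∣ 2 := GC.card_ins (dvd_step (Sa0_m0.pc (m := 2) (w := 0) (Sain805.top.get (i := 108) (by decide +kernel)) Sa0_m0.top chk808 chk809) GC.card_gen_zero (n := 2) (by decide +kernel)) (by decide +kernel)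
theorem Sa2_m0 : C.Mem R (C.gen R 973555660975280180349468061728768) 973555660975280180349468061728768 := GC.Mem.gen (Sain805.top.sub chk810)
theorem Sa2_dvd : Nat.card (C.gen R 973555660975280180349468061728768) ∣ 4 := GC.card_ins (dvd_step (Sa1_m0.pc (m := 2) (w := 0) (Sain805.top.get (i := 109) (by decide +kernel)) Sa1_m0.top chk812 chk813) Sa1_dvd (n := 4) (by decide +kernel)) (by decide +kernel)
theorem Sa3_m0 : C.Mem R (C.gen R 2271629875608987087482092144033792) 2271629875608987087482092144033792 := GC.Mem.gen (Sain805.top.sub chk814)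
theorem Sa3_dvd : Nat.card (C.gen R 2271629875608987087482092144033792) ∣ 8 := GC.card_ins (dvd_step (Sa2_m0.pc (m := 2) (w := 109) (Sain805.top.get (i := 110) (by decide +kernel)) Sa2_m0.top chk816 chk817) Sa2_dvd (n := 8) (by decide +kernel)) (by decide +kernel)
theorem Sa4_m0 : C.Mem R (C.gen R 4867778304876400901747340308643840) 4867778304876400901747340308643840 := GC.Mem.gen (Sain805.top.sub chk818)
theorem Sa4_dvd : Nat.card (C.gen R 4867778304876400901747340308643840) ∣ 16 := GC.card_ins (dvd_step (Sa3_m0.pc (m := 2) (w := 110) (Sain805.top.get (i := 111) (by decide +kernel)) Sa3_m0.top chk820 chk821) Sa3_dvd (n := 16) (by decide +kernel)) (by decide +kernel)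
theorem Sa5_m0 : C.Mem R (C.gen R 10060075163411228530277836637863936) 10060075163411228530277836637863936 := GC.Mem.gen (Sain805.top.sub chk822)
theorem Sa5_dvd : Nat.card (C.gen R 10060075163411228530277836637863936) ∣ 32 := GC.card_ins (dvd_step (Sa4_m0.pc (m := 2) (w := 110701) (Sain805.top.get (i := 112) (by decide +kernel)) Sa4_m0.top chk824 chk825) Sa4_dvd (n := 32) (by decide +kernel)) (by decide +kernel)
theorem Sa6_m0 : C.Mem R (C.gen R 20444668880480883787338829296304128) 20444668880480883787338829296304128 := GC.Mem.gen (Sain805.top.sub chk826)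
theorem Sa6_dvd : Nat.card (C.gen R 20444668880480883787338829296304128) ∣ 64 := GC.card_ins (dvd_step (Sa5_m0.pc (m := 2) (w := 109) (Sain805.top.get (i := 113) (by decide +kernel)) Sa5_m0.top chk828 chk829) Sa5_dvd (n := 64) (by decide +kernel)) (by decide +kernel)
theorem Sa7_m0 : C.Mem R (C.gen R 41213856314620194301460814613184512) 41213856314620194301460814613184512 := GC.Mem.gen (Sain805.top.sub chk830)
theorem Sa7_dvd : Nat.card (C.gen R 41213856314620194301460814613184512) ∣ 128 := GC.card_ins (dvd_step (Sa6_m0.pc (m := 2) (w := 113358961) (Sain805.top.get (i := 114) (by decide +kernel)) Sa6_m0.top chk832 chk833) Sa6_dvd (n := 128) (by decide +kernel)) (by decide +kernel)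
theorem Sa8_m0 : C.Mem R (C.gen R 82752231182898815329704785246945280) 82752231182898815329704785246945280 := GC.Mem.gen (Sain805.top.sub chk834)
theorem Sa8_dvd : Nat.card (C.gen R 82752231182898815329704785246945280) ∣ 256 := GC.card_ins (dvd_step (Sa7_m0.pc (m := 2) (w := 109) (Sain805.top.get (i := 115) (by decide +kernel)) Sa7_m0.top chk836 chk837) Sa7_dvd (n := 256) (by decide +kernel)) (by decide +kernel)
theorem Sa9_m0 : C.Mem R (C.gen R 165828980919456057386192726514466816) 165828980919456057386192726514466816 := GC.Mem.gen (Sain805.top.sub chk838)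
theorem Sa9_dvd : Nat.card (C.gen R 165828980919456057386192726514466816) ∣ 512 := GC.card_ins (dvd_step (Sa8_m0.pc (m := 2) (w := 117154365553) (Sain805.top.get (i := 116) (by decide +kernel)) Sa8_m0.top chk840 chk841) Sa8_dvd (n := 512) (by decide +kernel)) (by decide +kernel)
theorem Sa9_ub : Nat.card (C.gen R 165828980919456057386192726514466816) ≤ 512 := le_of_dvd' Sa9_dvd (by decide +kernel)
theorem pt842e : ∃ x, A0.Rep pt842c x := PP.exists_vec P_ok (c := 0x2000000000005000000000000000005000000000006000004000002000000000003000001000006000000000001000001000000000004000006000004000004000004000000000002000001000002000004000006000006000002000001000002000000000002000003000001000002000005000004000005000000000003000006000000) (by decide +kernel)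
noncomputable def pt842 := Classical.choose pt842e
theorem pt842r : A0.Rep pt842c pt842 := Classical.choose_spec pt842e
theorem Sa9_c0i : C.Mem R (C.gen R 165828980919456057386192726514466816) 0 := Sa9_m0.sub chk843
theorem Sa9_c0m : C.Mem R (C.gen R 0) 0 := Sa9_c0i.gen
theorem fx845 : C.gen R 0 ≤ stabilizer _ pt842 := Act.fix_sound Sa9_c0i.top pt842r chk844
theorem cov852 : Cov (C.gen R 165828980919456057386192726514466816) (C.wds R [0]) pt842 512 := Act.cov_of_seen (Act.pieces_sound Sa9_m0 Sa9_m0.top pt842r chk850) chk851
theorem Sa9_lb1 : 1 ≤ Nat.card (C.gen R 0) := Nat.card_pos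
theorem Sa9_lo0 : 512 * Nat.card (C.gen R 0) ≤ Nat.card (C.gen R 165828980919456057386192726514466816) := cov852.low le_rfl (GC.wds_zero _) Sa9_c0i.gen_le fx845
theorem Sa9_lb0 : 512 ≤ Nat.card (C.gen R 165828980919456057386192726514466816) := low_step Sa9_lo0 Sa9_lb1 (by decide +kernel)
theorem Sb0_m0 : C.Mem R (C.gen R 0) 0 := GC.Mem.gen (GC.Mem.zero ⊤)
theorem Sbin855 : C.Mem R (C.gen R 2046) 5150758483666549007502252358586335232 := G_m4.slp' chk854
theorem Sb1_m0 : C.Mem R (C.gen R 166153499473114484112975882535043072) 166153499473114484112975882535043072 := GC.Mem.gen (Sbin855.top.sub chk856)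
theorem Sb1_dvd : Nat.card (C.gen R 166153499473114484112975882535043072) ∣ 3 := GC.card_ins (dvd_step (Sb0_m0.pc (m := 3) (w := 0) (Sbin855.top.get (i := 117) (by decide +kernel)) Sb0_m0.top chk858 chk859) GC.card_gen_zero (n := 3) (by decide +kernel)) (by decide +kernel)
theorem Sb2_m0 : C.Mem R (C.gen R 498460498419343452338927647605129216) 498460498419343452338927647605129216 := GC.Mem.gen (Sbin855.top.sub chk860)
theorem Sb2_dvd : Nat.card (C.gen R 498460498419343452338927647605129216) ∣ 9 := GC.card_ins (dvd_step (Sb1_m0.pc (m := 3) (w := 0) (Sbin855.top.get (i := 118) (by decide +kernel)) Sb1_m0.top chk862 chk863) Sb1_dvd (n := 9) (by decide +kernel)) (by decide +kernel)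
theorem Sb3_m0 : C.Mem R (C.gen R 1163074496311801388790831177745301504) 1163074496311801388790831177745301504 := GC.Mem.gen (Sbin855.top.sub chk864)
theorem Sb3_dvd : Nat.card (C.gen R 1163074496311801388790831177745301504) ∣ 27 := GC.card_ins (dvd_step (Sb2_m0.pc (m := 3) (w := 0) (Sbin855.top.get (i := 119) (by decide +kernel)) Sb2_m0.top chk866 chk867) Sb2_dvd (n := 27) (by decide +kernel)) (by decide +kernel)
theorem Sb4_m0 : C.Mem R (C.gen R 2492302492096717261694638238025646080) 2492302492096717261694638238025646080 := GC.Mem.gen (Sbin855.top.sub chk868)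
theorem Sb4_dvd : Nat.card (C.gen R 2492302492096717261694638238025646080) ∣ 81 := GC.card_ins (dvd_step (Sb3_m0.pc (m := 3) (w := 0) (Sbin855.top.get (i := 120) (by decide +kernel)) Sb3_m0.top chk870 chk871) Sb3_dvd (n := 81) (by decide +kernel)) (by decide +kernel)
theorem Sb5_m0 : C.Mem R (C.gen R 5150758483666549007502252358586335232) 5150758483666549007502252358586335232 := GC.Mem.gen (Sbin855.top.sub chk872)
theorem Sb5_dvd : Nat.card (C.gen R 5150758483666549007502252358586335232) ∣ 243 := GC.card_ins (dvd_step (Sb4_m0.pc (m := 3) (w := 0) (Sbin855.top.get (i := 121) (by decide +kernel)) Sb4_m0.top chk874 chk875) Sb4_dvd (n := 243) (by decide +kernel)) (by decide +kernel)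
theorem Sb5_ub : Nat.card (C.gen R 5150758483666549007502252358586335232) ≤ 243 := le_of_dvd' Sb5_dvd (by decide +kernel)
theorem pt876e : ∃ x, A0.Rep pt876c x := PP.exists_vec P_ok (c := 0x2000000000005000000000000000005000000000006000004000002000000000003000001000006000000000001000001000000000004000006000004000004000004000000000002000001000002000004000006000006000002000001000002000000000002000003000001000002000005000004000005000000000003000006000000) (by decide +kernel)
noncomputable def pt876 := Classical.choose pt876e
theorem pt876r : A0.Rep pt876c pt876 := Classical.choose_spec pt876e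
theorem Sb5_s0_879 : C.Mem R (C.gen R 5150758483666549007502252358586335232) 10467670466806212499117480599707713536 := Sb5_m0.slp' chk878
theorem Sb5_c0i : C.Mem R (C.gen R 5150758483666549007502252358586335232) 0 := Sb5_s0_879.sub chk880
theorem Sb5_c0m : C.Mem R (C.gen R 0) 0 := Sb5_c0i.gen
theorem fx882 : C.gen R 0 ≤ stabilizer _ pt876 := Act.fix_sound Sb5_c0i.top pt876r chk881
theorem cov889 : Cov (C.gen R 5150758483666549007502252358586335232) (C.wds R [0]) pt876 243 := Act.cov_of_seen (Act.pieces_sound Sb5_s0_879 Sb5_s0_879.top pt876r chk887) chk888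
theorem Sb5_lb1 : 1 ≤ Nat.card (C.gen R 0) := Nat.card_pos
theorem Sb5_lo0 : 243 * Nat.card (C.gen R 0) ≤ Nat.card (C.gen R 5150758483666549007502252358586335232) := cov889.low le_rfl (GC.wds_zero _) Sb5_c0i.gen_le fx882
theorem Sb5_lb0 : 243 ≤ Nat.card (C.gen R 5150758483666549007502252358586335232) := low_step Sb5_lo0 Sb5_lb1 (by decide +kernel)
theorem JB0_m0 : C.Mem R (C.gen R 0) 0 := GC.Mem.gen (GC.Mem.zero ⊤)
theorem Jin892 : C.Mem R (C.gen R 2046) 159507359494189904748456847233641349120 := G_m4.slp' chk891
theorem JB1_m0 : C.Mem R (C.gen R 10633823966279326983230456482242756608) 10633823966279326983230456482242756608 := GC.Mem.gen (Jin892.top.sub chk893)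
theorem JB1_dvd : Nat.card (C.gen R 10633823966279326983230456482242756608) ∣ 19 := GC.card_ins (dvd_step (JB0_m0.pc (m := 19) (w := 0) (Jin892.top.get (i := 123) (by decide +kernel)) JB0_m0.top chk895 chk896) GC.card_gen_zero (n := 19) (by decide +kernel)) (by decide +kernel)
theorem JB2_m0 : C.Mem R (C.gen R 31901471898837980949691369446728269824) 31901471898837980949691369446728269824 := GC.Mem.gen (Jin892.top.sub chk897)
theorem JB2_dvd : Nat.card (C.gen R 31901471898837980949691369446728269824) ∣ 38 := GC.card_ins (dvd_step (JB1_m0.pc (m := 2) (w := 0) (Jin892.top.get (i := 124) (by decide +kernel)) JB1_m0.top chk899 chk900) JB1_dvd (n := 38) (by decide +kernel)) (by decide +kernel)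
theorem JB3_m0 : C.Mem R (C.gen R 74436767763955288882613195375699296256) 74436767763955288882613195375699296256 := GC.Mem.gen (Jin892.top.sub chk901)
theorem JB3_dvd : Nat.card (C.gen R 74436767763955288882613195375699296256) ∣ 114 := GC.card_ins (dvd_step (JB2_m0.pc (m := 3) (w := 181401926099796088014577596905327503832660835429499) (Jin892.top.get (i := 125) (by decide +kernel)) JB2_m0.top chk903 chk904) JB2_dvd (n := 114) (by decide +kernel)) (by decide +kernel)
theorem JB3_ub : Nat.card (C.gen R 74436767763955288882613195375699296256) ≤ 114 := le_of_dvd' JB3_dvd (by decide +kernel)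
theorem pt905e : ∃ x, A1.Rep pt905c x := (PP.exists_vec P_ok (c := 0x1000004000000000000000001000005000006000006000002000002000004000005000006000001000002000000000002000004000002000002000001000005000002000000000004000003000003000002000004000005000001000003000005000002000002000002000006000000000001000001000001000003000001000000) (by decide +kernel)).elim fun x hx => ⟨_, x, hx, rfl⟩
noncomputable def pt905 := Classical.choose pt905e
theorem pt905r : A1.Rep pt905c pt905 := Classical.choose_spec pt905e
theorem J_m0 : C.Mem R (C.gen R 159507359494189904748456847233641349120) 159507359494189904748456847233641349120 := GC.Mem.gen Jin892.top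
theorem J_s0_908 : C.Mem R (C.gen R 159507359494189904748456847233641349120) 89202970160298526286815889860136963781165056 := J_m0.slp' chk907
theorem J_I : C.Mem R (C.gen R 159507359494189904748456847233641349120) 89202895723530762331527007246941588081868800 := J_s0_908.sub chk909
theorem JK_in924 : C.Mem R (C.gen R 74436767763955288882613195375699296256) 267608942382367477698428619271780338071764992 := JB3_m0.slp' chk923
theorem JK_m0 : C.Mem R (C.gen R 267608942382367477698428619271780338071764992) 267608942382367477698428619271780338071764992 := GC.Mem.gen JK_in924.top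
theorem pt925e : ∃ x, A1.Rep pt925c x := (PP.exists_vec P_ok (c := 0x3000006000004000003000000000001000001000005000003000006000001000005000002000002000002000001000001000005000002000002000006000002000006000006000002000000000001000004000002000006000001000003000006000006000000000002000005000004000003000005000003000005000006000005000006) (by decide +kernel)).elim fun x hx => ⟨_, x, hx, rfl⟩
noncomputable def pt925 := Classical.choose pt925e
theorem pt925r : A1.Rep pt925c pt925 := Classical.choose_spec pt925e
theorem pt926e : ∃ x, A1.Rep pt926c x := (PP.exists_vec P_ok (c := 0x1000000000003000000000002000003000004000004000001000003000000000006000001000004000002000001000001000002000004000005000005000001000003000002000000000000000006000004000005000004000006000002000006000002000002000006000006000004000004000002000002000001000003000004000002) (by decide +kernel)).elim fun x hx => ⟨_, x, hx, rfl⟩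
noncomputable def pt926 := Classical.choose pt926e
theorem pt926r : A1.Rep pt926c pt926 := Classical.choose_spec pt926e
theorem JK_s0_929 : C.Mem R (C.gen R 267608942382367477698428619271780338071764992) 624420865558857447963000111634154122167451648 := JK_m0.slp' chk928
theorem JK_c0i : C.Mem R (C.gen R 267608942382367477698428619271780338071764992) 356811923176489970264571492362373784095686656 := JK_s0_929.sub chk930
theorem JK_c0m : C.Mem R (C.gen R 356811923176489970264571492362373784095686656) 356811923176489970264571492362373784095686656 := JK_c0i.gen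
theorem fx932 : C.gen R 356811923176489970264571492362373784095686656 ≤ stabilizer _ pt925 := Act.fix_sound JK_c0i.top pt925r chk931
theorem cov939 : Cov (C.gen R 267608942382367477698428619271780338071764992) (C.wds R [0]) pt925 2 := Act.cov_of_seen (Act.pieces_sound JK_s0_929 JK_s0_929.top pt925r chk937) chk938
theorem JK_c1i : C.Mem R (C.gen R 356811923176489970264571492362373784095686656) 0 := JK_c0m.sub chk940
theorem JK_c1m : C.Mem R (C.gen R 0) 0 := JK_c1i.gen
theorem fx942 : C.gen R 0 ≤ stabilizer _ pt926 := Act.fix_sound JK_c1i.top pt926r chk941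
theorem cov949 : Cov (C.gen R 356811923176489970264571492362373784095686656) (C.wds R [0]) pt926 3 := Act.cov_of_seen (Act.pieces_sound JK_c0m JK_c0m.top pt926r chk947) chk948
theorem JK_lb2 : 1 ≤ Nat.card (C.gen R 0) := Nat.card_pos
theorem JK_lo1 : 3 * Nat.card (C.gen R 0) ≤ Nat.card (C.gen R 356811923176489970264571492362373784095686656) := cov949.low le_rfl (GC.wds_zero _) JK_c1i.gen_le fx942
theorem JK_lb1 : 3 ≤ Nat.card (C.gen R 356811923176489970264571492362373784095686656) := low_step JK_lo1 JK_lb2 (by decide +kernel)
theorem JK_lo0 : 2 * Nat.card (C.gen R 356811923176489970264571492362373784095686656) ≤ Nat.card (C.gen R 267608942382367477698428619271780338071764992) := cov939.low le_rfl (GC.wds_zero _) JK_c0i.gen_le fx932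
theorem JK_lb0 : 6 ≤ Nat.card (C.gen R 267608942382367477698428619271780338071764992) := low_step JK_lo0 JK_lb1 (by decide +kernel)
theorem fx953 : C.gen R 267608942382367477698428619271780338071764992 ≤ stabilizer _ pt905 := Act.fix_sound JK_in924.top pt905r chk952
theorem J_Kc : ∀ κ ∈ (C.gen R 267608942382367477698428619271780338071764992), (C.el (R 126))⁻¹ * κ * C.el (R 126) ∈ (C.gen R 74436767763955288882613195375699296256) := JB3_m0.conjB (J_m0.get (i := 126) (by decide +kernel)).top JK_in924.top chk951
theorem JT1_in960 : C.Mem R (C.gen R 74436767763955288882613195375699296256) 713623846352979940529142984724747568191373312 := JB3_m0.slp' chk959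
theorem JT1_m0 : C.Mem R (C.gen R 713623846352979940529142984724747568191373312) 713623846352979940529142984724747568191373312 := GC.Mem.gen JT1_in960.top
theorem pt961e : ∃ x, A1.Rep pt961c x := (PP.exists_vec P_ok (c := 0x1000000000003000000000002000003000004000004000001000003000000000006000001000004000002000001000001000002000004000005000005000001000003000002000000000000000006000004000005000004000006000002000006000002000002000006000006000004000004000002000002000001000003000004000002) (by decide +kernel)).elim fun x hx => ⟨_, x, hx, rfl⟩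
noncomputable def pt961 := Classical.choose pt961e
theorem pt961r : A1.Rep pt961c pt961 := Classical.choose_spec pt961e
theorem JT1_c0i : C.Mem R (C.gen R 713623846352979940529142984724747568191373312) 0 := JT1_m0.sub chk962
theorem JT1_c0m : C.Mem R (C.gen R 0) 0 := JT1_c0i.gen
theorem fx964 : C.gen R 0 ≤ stabilizer _ pt961 := Act.fix_sound JT1_c0i.top pt961r chk963
theorem cov971 : Cov (C.gen R 713623846352979940529142984724747568191373312) (C.wds R [0]) pt961 6 := Act.cov_of_seen (Act.pieces_sound JT1_m0 JT1_m0.top pt961r chk969) chk970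
theorem JT1_lb1 : 1 ≤ Nat.card (C.gen R 0) := Nat.card_pos
theorem JT1_lo0 : 6 * Nat.card (C.gen R 0) ≤ Nat.card (C.gen R 713623846352979940529142984724747568191373312) := cov971.low le_rfl (GC.wds_zero _) JT1_c0i.gen_le fx964
theorem JT1_lb0 : 6 ≤ Nat.card (C.gen R 713623846352979940529142984724747568191373312) := low_step JT1_lo0 JT1_lb1 (by decide +kernel)
theorem J_T1c : ∀ τ ∈ (C.gen R 713623846352979940529142984724747568191373312), C.el (R 126) * τ * (C.el (R 126))⁻¹ ∈ (C.gen R 74436767763955288882613195375699296256) := JB3_m0.conjA (J_I.get (i := 126) (by decide +kernel)).top JT1_in960.top chk973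
theorem cov982 : Cov (C.gen R 713623846352979940529142984724747568191373312) (C.wds R (List.map Prod.fst (l974))) pt905 19 := Act.cov_of_seen (Act.pieces_sound JT1_m0 JB3_m0.top pt905r chk980) chk981
theorem J_T1d : Dec (C.gen R 74436767763955288882613195375699296256) (C.gen R 713623846352979940529142984724747568191373312) (C.wds R (List.map Prod.fst (l974))) (C.gen R 267608942382367477698428619271780338071764992) := cov982.dec JT1_in960.gen_le (GC.wds_sub JB3_m0 chk983) JK_in924.gen_le fx953 (up_low JB3_ub JK_lb0 (by decide +kernel))
theorem J_T1p : ∀ x ∈ DC1 (C.gen R 74436767763955288882613195375699296256) (C.el (R 126)), x * C.el (R 126) ∈ DCs (C.gen R 74436767763955288882613195375699296256) (C.els R 89202895723530762331527007246941588081868800) := GC.dc_piece' J_T1d J_T1c J_Kc (JB3_m0.dcRel J_I.top (J_I.get (i := 126) (by decide +kernel)).top (J_m0.get (i := 126) (by decide +kernel)).top chk975)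
theorem J_T1u : Nat.card (C.gen R 74436767763955288882613195375699296256) ≤ 19 * Nat.card (C.gen R 713623846352979940529142984724747568191373312) := up_low JB3_ub JT1_lb0 (by decide +kernel)
theorem J_T1n : (DC1 (C.gen R 74436767763955288882613195375699296256) (C.el (R 126))).ncard ≤ Nat.card (C.gen R 74436767763955288882613195375699296256) * 19 := ncard_DC1 JT1_in960.gen_le J_T1c J_T1u
theorem JT2_in986 : C.Mem R (C.gen R 74436767763955288882613195375699296256) 0 := JB3_m0.slp' chk985
theorem JT2_m0 : C.Mem R (C.gen R 0) 0 := GC.Mem.gen JT2_in986.top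
theorem JT2_lb0 : 1 ≤ Nat.card (C.gen R 0) := Nat.card_pos
theorem J_T2c : ∀ τ ∈ (C.gen R 0), C.el (R 127) * τ * (C.el (R 127))⁻¹ ∈ (C.gen R 74436767763955288882613195375699296256) := JB3_m0.conjA (J_I.get (i := 127) (by decide +kernel)).top JT2_in986.top chk988
theorem cov997 : Cov (C.gen R 0) (C.wds R (List.map Prod.fst (l989))) pt905 19 := Act.cov_of_seen (Act.pieces_sound JT2_m0 JB3_m0.top pt905r chk995) chk996
theorem J_T2d : Dec (C.gen R 74436767763955288882613195375699296256) (C.gen R 0) (C.wds R (List.map Prod.fst (l989))) (C.gen R 267608942382367477698428619271780338071764992) := cov997.dec JT2_in986.gen_le (GC.wds_sub JB3_m0 chk998) JK_in924.gen_le fx953 (up_low JB3_ub JK_lb0 (by decide +kernel))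
theorem J_T2p : ∀ x ∈ DC1 (C.gen R 74436767763955288882613195375699296256) (C.el (R 127)), x * C.el (R 126) ∈ DCs (C.gen R 74436767763955288882613195375699296256) (C.els R 89202895723530762331527007246941588081868800) := GC.dc_piece' J_T2d J_T2c J_Kc (JB3_m0.dcRel J_I.top (J_I.get (i := 127) (by decide +kernel)).top (J_m0.get (i := 126) (by decide +kernel)).top chk990)
theorem J_T2u : Nat.card (C.gen R 74436767763955288882613195375699296256) ≤ 114 * Nat.card (C.gen R 0) := up_low JB3_ub JT2_lb0 (by decide +kernel)
theorem J_T2n : (DC1 (C.gen R 74436767763955288882613195375699296256) (C.el (R 127))).ncard ≤ Nat.card (C.gen R 74436767763955288882613195375699296256) * 114 := ncard_DC1 JT2_in986.gen_le J_T2c J_T2u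
theorem JT3_in1001 : C.Mem R (C.gen R 74436767763955288882613195375699296256) 1427247692705959881058285969449495136382746624 := JB3_m0.slp' chk1000
theorem JT3_m0 : C.Mem R (C.gen R 1427247692705959881058285969449495136382746624) 1427247692705959881058285969449495136382746624 := GC.Mem.gen JT3_in1001.top
theorem pt1002e : ∃ x, A1.Rep pt1002c x := (PP.exists_vec P_ok (c := 0x1000000000003000000000002000003000004000004000001000003000000000006000001000004000002000001000001000002000004000005000005000001000003000002000000000000000006000004000005000004000006000002000006000002000002000006000006000004000004000002000002000001000003000004000002) (by decide +kernel)).elim fun x hx => ⟨_, x, hx, rfl⟩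
noncomputable def pt1002 := Classical.choose pt1002e
theorem pt1002r : A1.Rep pt1002c pt1002 := Classical.choose_spec pt1002e
theorem JT3_c0i : C.Mem R (C.gen R 1427247692705959881058285969449495136382746624) 0 := JT3_m0.sub chk1003
theorem JT3_c0m : C.Mem R (C.gen R 0) 0 := JT3_c0i.gen
theorem fx1005 : C.gen R 0 ≤ stabilizer _ pt1002 := Act.fix_sound JT3_c0i.top pt1002r chk1004
theorem cov1012 : Cov (C.gen R 1427247692705959881058285969449495136382746624) (C.wds R [0]) pt1002 3 := Act.cov_of_seen (Act.pieces_sound JT3_m0 JT3_m0.top pt1002r chk1010) chk1011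
theorem JT3_lb1 : 1 ≤ Nat.card (C.gen R 0) := Nat.card_pos
theorem JT3_lo0 : 3 * Nat.card (C.gen R 0) ≤ Nat.card (C.gen R 1427247692705959881058285969449495136382746624) := cov1012.low le_rfl (GC.wds_zero _) JT3_c0i.gen_le fx1005
theorem JT3_lb0 : 3 ≤ Nat.card (C.gen R 1427247692705959881058285969449495136382746624) := low_step JT3_lo0 JT3_lb1 (by decide +kernel)
theorem J_T3c : ∀ τ ∈ (C.gen R 1427247692705959881058285969449495136382746624), C.el (R 128) * τ * (C.el (R 128))⁻¹ ∈ (C.gen R 74436767763955288882613195375699296256) := JB3_m0.conjA (J_I.get (i := 128) (by decide +kernel)).top JT3_in1001.top chk1014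
theorem cov1023 : Cov (C.gen R 1427247692705959881058285969449495136382746624) (C.wds R (List.map Prod.fst (l1015))) pt905 19 := Act.cov_of_seen (Act.pieces_sound JT3_m0 JB3_m0.top pt905r chk1021) chk1022
theorem J_T3d : Dec (C.gen R 74436767763955288882613195375699296256) (C.gen R 1427247692705959881058285969449495136382746624) (C.wds R (List.map Prod.fst (l1015))) (C.gen R 267608942382367477698428619271780338071764992) := cov1023.dec JT3_in1001.gen_le (GC.wds_sub JB3_m0 chk1024) JK_in924.gen_le fx953 (up_low JB3_ub JK_lb0 (by decide +kernel))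
theorem J_T3p : ∀ x ∈ DC1 (C.gen R 74436767763955288882613195375699296256) (C.el (R 128)), x * C.el (R 126) ∈ DCs (C.gen R 74436767763955288882613195375699296256) (C.els R 89202895723530762331527007246941588081868800) := GC.dc_piece' J_T3d J_T3c J_Kc (JB3_m0.dcRel J_I.top (J_I.get (i := 128) (by decide +kernel)).top (J_m0.get (i := 126) (by decide +kernel)).top chk1016)
theorem J_T3u : Nat.card (C.gen R 74436767763955288882613195375699296256) ≤ 38 * Nat.card (C.gen R 1427247692705959881058285969449495136382746624) := up_low JB3_ub JT3_lb0 (by decide +kernel)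
theorem J_T3n : (DC1 (C.gen R 74436767763955288882613195375699296256) (C.el (R 128))).ncard ≤ Nat.card (C.gen R 74436767763955288882613195375699296256) * 38 := ncard_DC1 JT3_in1001.gen_le J_T3c J_T3u
theorem JT4_in1027 : C.Mem R (C.gen R 74436767763955288882613195375699296256) 2854495385411919762116571938898990272765493248 := JB3_m0.slp' chk1026
theorem JT4_m0 : C.Mem R (C.gen R 2854495385411919762116571938898990272765493248) 2854495385411919762116571938898990272765493248 := GC.Mem.gen JT4_in1027.top
theorem pt1028e : ∃ x, A1.Rep pt1028c x := (PP.exists_vec P_ok (c := 0x1000000000003000000000002000003000004000004000001000003000000000006000001000004000002000001000001000002000004000005000005000001000003000002000000000000000006000004000005000004000006000002000006000002000002000006000006000004000004000002000002000001000003000004000002) (by decide +kernel)).elim fun x hx => ⟨_, x, hx, rfl⟩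
noncomputable def pt1028 := Classical.choose pt1028e
theorem pt1028r : A1.Rep pt1028c pt1028 := Classical.choose_spec pt1028e
theorem JT4_c0i : C.Mem R (C.gen R 2854495385411919762116571938898990272765493248) 0 := JT4_m0.sub chk1029
theorem JT4_c0m : C.Mem R (C.gen R 0) 0 := JT4_c0i.gen
theorem fx1031 : C.gen R 0 ≤ stabilizer _ pt1028 := Act.fix_sound JT4_c0i.top pt1028r chk1030
theorem cov1038 : Cov (C.gen R 2854495385411919762116571938898990272765493248) (C.wds R [0]) pt1028 2 := Act.cov_of_seen (Act.pieces_sound JT4_m0 JT4_m0.top pt1028r chk1036) chk1037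
theorem JT4_lb1 : 1 ≤ Nat.card (C.gen R 0) := Nat.card_pos
theorem JT4_lo0 : 2 * Nat.card (C.gen R 0) ≤ Nat.card (C.gen R 2854495385411919762116571938898990272765493248) := cov1038.low le_rfl (GC.wds_zero _) JT4_c0i.gen_le fx1031
theorem JT4_lb0 : 2 ≤ Nat.card (C.gen R 2854495385411919762116571938898990272765493248) := low_step JT4_lo0 JT4_lb1 (by decide +kernel)
theorem J_T4c : ∀ τ ∈ (C.gen R 2854495385411919762116571938898990272765493248), C.el (R 129) * τ * (C.el (R 129))⁻¹ ∈ (C.gen R 74436767763955288882613195375699296256) := JB3_m0.conjA (J_I.get (i := 129) (by decide +kernel)).top JT4_in1027.top chk1040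
theorem cov1049 : Cov (C.gen R 2854495385411919762116571938898990272765493248) (C.wds R (List.map Prod.fst (l1041))) pt905 19 := Act.cov_of_seen (Act.pieces_sound JT4_m0 JB3_m0.top pt905r chk1047) chk1048
theorem J_T4d : Dec (C.gen R 74436767763955288882613195375699296256) (C.gen R 2854495385411919762116571938898990272765493248) (C.wds R (List.map Prod.fst (l1041))) (C.gen R 267608942382367477698428619271780338071764992) := cov1049.dec JT4_in1027.gen_le (GC.wds_sub JB3_m0 chk1050) JK_in924.gen_le fx953 (up_low JB3_ub JK_lb0 (by decide +kernel))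
theorem J_T4p : ∀ x ∈ DC1 (C.gen R 74436767763955288882613195375699296256) (C.el (R 129)), x * C.el (R 126) ∈ DCs (C.gen R 74436767763955288882613195375699296256) (C.els R 89202895723530762331527007246941588081868800) := GC.dc_piece' J_T4d J_T4c J_Kc (JB3_m0.dcRel J_I.top (J_I.get (i := 129) (by decide +kernel)).top (J_m0.get (i := 126) (by decide +kernel)).top chk1042)
theorem J_T4u : Nat.card (C.gen R 74436767763955288882613195375699296256) ≤ 57 * Nat.card (C.gen R 2854495385411919762116571938898990272765493248) := up_low JB3_ub JT4_lb0 (by decide +kernel)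
theorem J_T4n : (DC1 (C.gen R 74436767763955288882613195375699296256) (C.el (R 129))).ncard ≤ Nat.card (C.gen R 74436767763955288882613195375699296256) * 57 := ncard_DC1 JT4_in1027.gen_le J_T4c J_T4u
theorem JT5_in1053 : C.Mem R (C.gen R 74436767763955288882613195375699296256) 0 := JB3_m0.slp' chk1052
theorem JT5_m0 : C.Mem R (C.gen R 0) 0 := GC.Mem.gen JT5_in1053.top
theorem JT5_lb0 : 1 ≤ Nat.card (C.gen R 0) := Nat.card_pos
theorem J_T5c : ∀ τ ∈ (C.gen R 0), C.el (R 130) * τ * (C.el (R 130))⁻¹ ∈ (C.gen R 74436767763955288882613195375699296256) := JB3_m0.conjA (J_I.get (i := 130) (by decide +kernel)).top JT5_in1053.top chk1055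
theorem cov1064 : Cov (C.gen R 0) (C.wds R (List.map Prod.fst (l1056))) pt905 19 := Act.cov_of_seen (Act.pieces_sound JT5_m0 JB3_m0.top pt905r chk1062) chk1063
theorem J_T5d : Dec (C.gen R 74436767763955288882613195375699296256) (C.gen R 0) (C.wds R (List.map Prod.fst (l1056))) (C.gen R 267608942382367477698428619271780338071764992) := cov1064.dec JT5_in1053.gen_le (GC.wds_sub JB3_m0 chk1065) JK_in924.gen_le fx953 (up_low JB3_ub JK_lb0 (by decide +kernel))
theorem J_T5p : ∀ x ∈ DC1 (C.gen R 74436767763955288882613195375699296256) (C.el (R 130)), x * C.el (R 126) ∈ DCs (C.gen R 74436767763955288882613195375699296256) (C.els R 89202895723530762331527007246941588081868800) := GC.dc_piece' J_T5d J_T5c J_Kc (JB3_m0.dcRel J_I.top (J_I.get (i := 130) (by decide +kernel)).top (J_m0.get (i := 126) (by decide +kernel)).top chk1057)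
theorem J_T5u : Nat.card (C.gen R 74436767763955288882613195375699296256) ≤ 114 * Nat.card (C.gen R 0) := up_low JB3_ub JT5_lb0 (by decide +kernel)
theorem J_T5n : (DC1 (C.gen R 74436767763955288882613195375699296256) (C.el (R 130))).ncard ≤ Nat.card (C.gen R 74436767763955288882613195375699296256) * 114 := ncard_DC1 JT5_in1053.gen_le J_T5c J_T5u
theorem JT6_in1068 : C.Mem R (C.gen R 74436767763955288882613195375699296256) 0 := JB3_m0.slp' chk1067
theorem JT6_m0 : C.Mem R (C.gen R 0) 0 := GC.Mem.gen JT6_in1068.top
theorem JT6_lb0 : 1 ≤ Nat.card (C.gen R 0) := Nat.card_pos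
theorem J_T6c : ∀ τ ∈ (C.gen R 0), C.el (R 131) * τ * (C.el (R 131))⁻¹ ∈ (C.gen R 74436767763955288882613195375699296256) := JB3_m0.conjA (J_I.get (i := 131) (by decide +kernel)).top JT6_in1068.top chk1070
theorem cov1079 : Cov (C.gen R 0) (C.wds R (List.map Prod.fst (l1071))) pt905 19 := Act.cov_of_seen (Act.pieces_sound JT6_m0 JB3_m0.top pt905r chk1077) chk1078
theorem J_T6d : Dec (C.gen R 74436767763955288882613195375699296256) (C.gen R 0) (C.wds R (List.map Prod.fst (l1071))) (C.gen R 267608942382367477698428619271780338071764992) := cov1079.dec JT6_in1068.gen_le (GC.wds_sub JB3_m0 chk1080) JK_in924.gen_le fx953 (up_low JB3_ub JK_lb0 (by decide +kernel))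
theorem J_T6p : ∀ x ∈ DC1 (C.gen R 74436767763955288882613195375699296256) (C.el (R 131)), x * C.el (R 126) ∈ DCs (C.gen R 74436767763955288882613195375699296256) (C.els R 89202895723530762331527007246941588081868800) := GC.dc_piece' J_T6d J_T6c J_Kc (JB3_m0.dcRel J_I.top (J_I.get (i := 131) (by decide +kernel)).top (J_m0.get (i := 126) (by decide +kernel)).top chk1072)
theorem J_T6u : Nat.card (C.gen R 74436767763955288882613195375699296256) ≤ 114 * Nat.card (C.gen R 0) := up_low JB3_ub JT6_lb0 (by decide +kernel)
theorem J_T6n : (DC1 (C.gen R 74436767763955288882613195375699296256) (C.el (R 131))).ncard ≤ Nat.card (C.gen R 74436767763955288882613195375699296256) * 114 := ncard_DC1 JT6_in1068.gen_le J_T6c J_T6u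
theorem JT7_in1083 : C.Mem R (C.gen R 74436767763955288882613195375699296256) 0 := JB3_m0.slp' chk1082
theorem JT7_m0 : C.Mem R (C.gen R 0) 0 := GC.Mem.gen JT7_in1083.top
theorem JT7_lb0 : 1 ≤ Nat.card (C.gen R 0) := Nat.card_pos
theorem J_T7c : ∀ τ ∈ (C.gen R 0), C.el (R 132) * τ * (C.el (R 132))⁻¹ ∈ (C.gen R 74436767763955288882613195375699296256) := JB3_m0.conjA (J_I.get (i := 132) (by decide +kernel)).top JT7_in1083.top chk1085
theorem cov1094 : Cov (C.gen R 0) (C.wds R (List.map Prod.fst (l1086))) pt905 19 := Act.cov_of_seen (Act.pieces_sound JT7_m0 JB3_m0.top pt905r chk1092) chk1093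
theorem J_T7d : Dec (C.gen R 74436767763955288882613195375699296256) (C.gen R 0) (C.wds R (List.map Prod.fst (l1086))) (C.gen R 267608942382367477698428619271780338071764992) := cov1094.dec JT7_in1083.gen_le (GC.wds_sub JB3_m0 chk1095) JK_in924.gen_le fx953 (up_low JB3_ub JK_lb0 (by decide +kernel))
theorem J_T7p : ∀ x ∈ DC1 (C.gen R 74436767763955288882613195375699296256) (C.el (R 132)), x * C.el (R 126) ∈ DCs (C.gen R 74436767763955288882613195375699296256) (C.els R 89202895723530762331527007246941588081868800) := GC.dc_piece' J_T7d J_T7c J_Kc (JB3_m0.dcRel J_I.top (J_I.get (i := 132) (by decide +kernel)).top (J_m0.get (i := 126) (by decide +kernel)).top chk1087)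
theorem J_T7u : Nat.card (C.gen R 74436767763955288882613195375699296256) ≤ 114 * Nat.card (C.gen R 0) := up_low JB3_ub JT7_lb0 (by decide +kernel)
theorem J_T7n : (DC1 (C.gen R 74436767763955288882613195375699296256) (C.el (R 132))).ncard ≤ Nat.card (C.gen R 74436767763955288882613195375699296256) * 114 := ncard_DC1 JT7_in1083.gen_le J_T7c J_T7u
theorem JT8_in1098 : C.Mem R (C.gen R 74436767763955288882613195375699296256) 0 := JB3_m0.slp' chk1097
theorem JT8_m0 : C.Mem R (C.gen R 0) 0 := GC.Mem.gen JT8_in1098.top
theorem JT8_lb0 : 1 ≤ Nat.card (C.gen R 0) := Nat.card_pos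
theorem J_T8c : ∀ τ ∈ (C.gen R 0), C.el (R 133) * τ * (C.el (R 133))⁻¹ ∈ (C.gen R 74436767763955288882613195375699296256) := JB3_m0.conjA (J_I.get (i := 133) (by decide +kernel)).top JT8_in1098.top chk1100
theorem cov1109 : Cov (C.gen R 0) (C.wds R (List.map Prod.fst (l1101))) pt905 19 := Act.cov_of_seen (Act.pieces_sound JT8_m0 JB3_m0.top pt905r chk1107) chk1108
theorem J_T8d : Dec (C.gen R 74436767763955288882613195375699296256) (C.gen R 0) (C.wds R (List.map Prod.fst (l1101))) (C.gen R 267608942382367477698428619271780338071764992) := cov1109.dec JT8_in1098.gen_le (GC.wds_sub JB3_m0 chk1110) JK_in924.gen_le fx953 (up_low JB3_ub JK_lb0 (by decide +kernel))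
theorem J_T8p : ∀ x ∈ DC1 (C.gen R 74436767763955288882613195375699296256) (C.el (R 133)), x * C.el (R 126) ∈ DCs (C.gen R 74436767763955288882613195375699296256) (C.els R 89202895723530762331527007246941588081868800) := GC.dc_piece' J_T8d J_T8c J_Kc (JB3_m0.dcRel J_I.top (J_I.get (i := 133) (by decide +kernel)).top (J_m0.get (i := 126) (by decide +kernel)).top chk1102)
theorem J_T8u : Nat.card (C.gen R 74436767763955288882613195375699296256) ≤ 114 * Nat.card (C.gen R 0) := up_low JB3_ub JT8_lb0 (by decide +kernel)
theorem J_T8n : (DC1 (C.gen R 74436767763955288882613195375699296256) (C.el (R 133))).ncard ≤ Nat.card (C.gen R 74436767763955288882613195375699296256) * 114 := ncard_DC1 JT8_in1098.gen_le J_T8c J_T8u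
theorem JT9_in1113 : C.Mem R (C.gen R 74436767763955288882613195375699296256) 5708990770823839524233143877797980545530986496 := JB3_m0.slp' chk1112
theorem JT9_m0 : C.Mem R (C.gen R 5708990770823839524233143877797980545530986496) 5708990770823839524233143877797980545530986496 := GC.Mem.gen JT9_in1113.top
theorem pt1114e : ∃ x, A1.Rep pt1114c x := (PP.exists_vec P_ok (c := 0x1000000000003000000000002000003000004000004000001000003000000000006000001000004000002000001000001000002000004000005000005000001000003000002000000000000000006000004000005000004000006000002000006000002000002000006000006000004000004000002000002000001000003000004000002) (by decide +kernel)).elim fun x hx => ⟨_, x, hx, rfl⟩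
noncomputable def pt1114 := Classical.choose pt1114e
theorem pt1114r : A1.Rep pt1114c pt1114 := Classical.choose_spec pt1114e
theorem JT9_c0i : C.Mem R (C.gen R 5708990770823839524233143877797980545530986496) 0 := JT9_m0.sub chk1115
theorem JT9_c0m : C.Mem R (C.gen R 0) 0 := JT9_c0i.gen
theorem fx1117 : C.gen R 0 ≤ stabilizer _ pt1114 := Act.fix_sound JT9_c0i.top pt1114r chk1116
theorem cov1124 : Cov (C.gen R 5708990770823839524233143877797980545530986496) (C.wds R [0]) pt1114 2 := Act.cov_of_seen (Act.pieces_sound JT9_m0 JT9_m0.top pt1114r chk1122) chk1123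
theorem JT9_lb1 : 1 ≤ Nat.card (C.gen R 0) := Nat.card_pos
theorem JT9_lo0 : 2 * Nat.card (C.gen R 0) ≤ Nat.card (C.gen R 5708990770823839524233143877797980545530986496) := cov1124.low le_rfl (GC.wds_zero _) JT9_c0i.gen_le fx1117
theorem JT9_lb0 : 2 ≤ Nat.card (C.gen R 5708990770823839524233143877797980545530986496) := low_step JT9_lo0 JT9_lb1 (by decide +kernel)
theorem J_T9c : ∀ τ ∈ (C.gen R 5708990770823839524233143877797980545530986496), C.el (R 134) * τ * (C.el (R 134))⁻¹ ∈ (C.gen R 74436767763955288882613195375699296256) := JB3_m0.conjA (J_I.get (i := 134) (by decide +kernel)).top JT9_in1113.top chk1126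
theorem cov1135 : Cov (C.gen R 5708990770823839524233143877797980545530986496) (C.wds R (List.map Prod.fst (l1127))) pt905 19 := Act.cov_of_seen (Act.pieces_sound JT9_m0 JB3_m0.top pt905r chk1133) chk1134
theorem J_T9d : Dec (C.gen R 74436767763955288882613195375699296256) (C.gen R 5708990770823839524233143877797980545530986496) (C.wds R (List.map Prod.fst (l1127))) (C.gen R 267608942382367477698428619271780338071764992) := cov1135.dec JT9_in1113.gen_le (GC.wds_sub JB3_m0 chk1136) JK_in924.gen_le fx953 (up_low JB3_ub JK_lb0 (by decide +kernel))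
theorem J_T9p : ∀ x ∈ DC1 (C.gen R 74436767763955288882613195375699296256) (C.el (R 134)), x * C.el (R 126) ∈ DCs (C.gen R 74436767763955288882613195375699296256) (C.els R 89202895723530762331527007246941588081868800) := GC.dc_piece' J_T9d J_T9c J_Kc (JB3_m0.dcRel J_I.top (J_I.get (i := 134) (by decide +kernel)).top (J_m0.get (i := 126) (by decide +kernel)).top chk1128)
theorem J_T9u : Nat.card (C.gen R 74436767763955288882613195375699296256) ≤ 57 * Nat.card (C.gen R 5708990770823839524233143877797980545530986496) := up_low JB3_ub JT9_lb0 (by decide +kernel)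
theorem J_T9n : (DC1 (C.gen R 74436767763955288882613195375699296256) (C.el (R 134))).ncard ≤ Nat.card (C.gen R 74436767763955288882613195375699296256) * 57 := ncard_DC1 JT9_in1113.gen_le J_T9c J_T9u
theorem JT10_in1139 : C.Mem R (C.gen R 74436767763955288882613195375699296256) 11417981541647679048466287755595961091061972992 := JB3_m0.slp' chk1138
theorem JT10_m0 : C.Mem R (C.gen R 11417981541647679048466287755595961091061972992) 11417981541647679048466287755595961091061972992 := GC.Mem.gen JT10_in1139.top
theorem pt1140e : ∃ x, A1.Rep pt1140c x := (PP.exists_vec P_ok (c := 0x1000000000003000000000002000003000004000004000001000003000000000006000001000004000002000001000001000002000004000005000005000001000003000002000000000000000006000004000005000004000006000002000006000002000002000006000006000004000004000002000002000001000003000004000002) (by decide +kernel)).elim fun x hx => ⟨_, x, hx, rfl⟩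
noncomputable def pt1140 := Classical.choose pt1140e
theorem pt1140r : A1.Rep pt1140c pt1140 := Classical.choose_spec pt1140e
theorem JT10_c0i : C.Mem R (C.gen R 11417981541647679048466287755595961091061972992) 0 := JT10_m0.sub chk1141
theorem JT10_c0m : C.Mem R (C.gen R 0) 0 := JT10_c0i.gen
theorem fx1143 : C.gen R 0 ≤ stabilizer _ pt1140 := Act.fix_sound JT10_c0i.top pt1140r chk1142
theorem cov1150 : Cov (C.gen R 11417981541647679048466287755595961091061972992) (C.wds R [0]) pt1140 2 := Act.cov_of_seen (Act.pieces_sound JT10_m0 JT10_m0.top pt1140r chk1148) chk1149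
theorem JT10_lb1 : 1 ≤ Nat.card (C.gen R 0) := Nat.card_pos
theorem JT10_lo0 : 2 * Nat.card (C.gen R 0) ≤ Nat.card (C.gen R 11417981541647679048466287755595961091061972992) := cov1150.low le_rfl (GC.wds_zero _) JT10_c0i.gen_le fx1143
theorem JT10_lb0 : 2 ≤ Nat.card (C.gen R 11417981541647679048466287755595961091061972992) := low_step JT10_lo0 JT10_lb1 (by decide +kernel)
theorem J_T10c : ∀ τ ∈ (C.gen R 11417981541647679048466287755595961091061972992), C.el (R 135) * τ * (C.el (R 135))⁻¹ ∈ (C.gen R 74436767763955288882613195375699296256) := JB3_m0.conjA (J_I.get (i := 135) (by decide +kernel)).top JT10_in1139.top chk1152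
theorem cov1161 : Cov (C.gen R 11417981541647679048466287755595961091061972992) (C.wds R (List.map Prod.fst (l1153))) pt905 19 := Act.cov_of_seen (Act.pieces_sound JT10_m0 JB3_m0.top pt905r chk1159) chk1160
theorem J_T10d : Dec (C.gen R 74436767763955288882613195375699296256) (C.gen R 11417981541647679048466287755595961091061972992) (C.wds R (List.map Prod.fst (l1153))) (C.gen R 267608942382367477698428619271780338071764992) := cov1161.dec JT10_in1139.gen_le (GC.wds_sub JB3_m0 chk1162) JK_in924.gen_le fx953 (up_low JB3_ub JK_lb0 (by decide +kernel))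
theorem J_T10p : ∀ x ∈ DC1 (C.gen R 74436767763955288882613195375699296256) (C.el (R 135)), x * C.el (R 126) ∈ DCs (C.gen R 74436767763955288882613195375699296256) (C.els R 89202895723530762331527007246941588081868800) := GC.dc_piece' J_T10d J_T10c J_Kc (JB3_m0.dcRel J_I.top (J_I.get (i := 135) (by decide +kernel)).top (J_m0.get (i := 126) (by decide +kernel)).top chk1154)
theorem J_T10u : Nat.card (C.gen R 74436767763955288882613195375699296256) ≤ 57 * Nat.card (C.gen R 11417981541647679048466287755595961091061972992) := up_low JB3_ub JT10_lb0 (by decide +kernel)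
theorem J_T10n : (DC1 (C.gen R 74436767763955288882613195375699296256) (C.el (R 135))).ncard ≤ Nat.card (C.gen R 74436767763955288882613195375699296256) * 57 := ncard_DC1 JT10_in1139.gen_le J_T10c J_T10u
theorem JT11_in1165 : C.Mem R (C.gen R 74436767763955288882613195375699296256) 0 := JB3_m0.slp' chk1164
theorem JT11_m0 : C.Mem R (C.gen R 0) 0 := GC.Mem.gen JT11_in1165.top
theorem JT11_lb0 : 1 ≤ Nat.card (C.gen R 0) := Nat.card_pos
theorem J_T11c : ∀ τ ∈ (C.gen R 0), C.el (R 136) * τ * (C.el (R 136))⁻¹ ∈ (C.gen R 74436767763955288882613195375699296256) := JB3_m0.conjA (J_I.get (i := 136) (by decide +kernel)).top JT11_in1165.top chk1167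
theorem cov1176 : Cov (C.gen R 0) (C.wds R (List.map Prod.fst (l1168))) pt905 19 := Act.cov_of_seen (Act.pieces_sound JT11_m0 JB3_m0.top pt905r chk1174) chk1175
theorem J_T11d : Dec (C.gen R 74436767763955288882613195375699296256) (C.gen R 0) (C.wds R (List.map Prod.fst (l1168))) (C.gen R 267608942382367477698428619271780338071764992) := cov1176.dec JT11_in1165.gen_le (GC.wds_sub JB3_m0 chk1177) JK_in924.gen_le fx953 (up_low JB3_ub JK_lb0 (by decide +kernel))
theorem J_T11p : ∀ x ∈ DC1 (C.gen R 74436767763955288882613195375699296256) (C.el (R 136)), x * C.el (R 126) ∈ DCs (C.gen R 74436767763955288882613195375699296256) (C.els R 89202895723530762331527007246941588081868800) := GC.dc_piece' J_T11d J_T11c J_Kc (JB3_m0.dcRel J_I.top (J_I.get (i := 136) (by decide +kernel)).top (J_m0.get (i := 126) (by decide +kernel)).top chk1169)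
theorem J_T11u : Nat.card (C.gen R 74436767763955288882613195375699296256) ≤ 114 * Nat.card (C.gen R 0) := up_low JB3_ub JT11_lb0 (by decide +kernel)
theorem J_T11n : (DC1 (C.gen R 74436767763955288882613195375699296256) (C.el (R 136))).ncard ≤ Nat.card (C.gen R 74436767763955288882613195375699296256) * 114 := ncard_DC1 JT11_in1165.gen_le J_T11c J_T11u
theorem JT12_in1180 : C.Mem R (C.gen R 74436767763955288882613195375699296256) 22835963083295358096932575511191922182123945984 := JB3_m0.slp' chk1179
theorem JT12_m0 : C.Mem R (C.gen R 22835963083295358096932575511191922182123945984) 22835963083295358096932575511191922182123945984 := GC.Mem.gen JT12_in1180.top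
theorem pt1181e : ∃ x, A1.Rep pt1181c x := (PP.exists_vec P_ok (c := 0x1000000000003000000000002000003000004000004000001000003000000000006000001000004000002000001000001000002000004000005000005000001000003000002000000000000000006000004000005000004000006000002000006000002000002000006000006000004000004000002000002000001000003000004000002) (by decide +kernel)).elim fun x hx => ⟨_, x, hx, rfl⟩
noncomputable def pt1181 := Classical.choose pt1181e
theorem pt1181r : A1.Rep pt1181c pt1181 := Classical.choose_spec pt1181e
theorem JT12_c0i : C.Mem R (C.gen R 22835963083295358096932575511191922182123945984) 0 := JT12_m0.sub chk1182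
theorem JT12_c0m : C.Mem R (C.gen R 0) 0 := JT12_c0i.gen
theorem fx1184 : C.gen R 0 ≤ stabilizer _ pt1181 := Act.fix_sound JT12_c0i.top pt1181r chk1183
theorem cov1191 : Cov (C.gen R 22835963083295358096932575511191922182123945984) (C.wds R [0]) pt1181 3 := Act.cov_of_seen (Act.pieces_sound JT12_m0 JT12_m0.top pt1181r chk1189) chk1190
theorem JT12_lb1 : 1 ≤ Nat.card (C.gen R 0) := Nat.card_pos
theorem JT12_lo0 : 3 * Nat.card (C.gen R 0) ≤ Nat.card (C.gen R 22835963083295358096932575511191922182123945984) := cov1191.low le_rfl (GC.wds_zero _) JT12_c0i.gen_le fx1184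
theorem JT12_lb0 : 3 ≤ Nat.card (C.gen R 22835963083295358096932575511191922182123945984) := low_step JT12_lo0 JT12_lb1 (by decide +kernel)
theorem J_T12c : ∀ τ ∈ (C.gen R 22835963083295358096932575511191922182123945984), C.el (R 137) * τ * (C.el (R 137))⁻¹ ∈ (C.gen R 74436767763955288882613195375699296256) := JB3_m0.conjA (J_I.get (i := 137) (by decide +kernel)).top JT12_in1180.top chk1193
theorem cov1202 : Cov (C.gen R 22835963083295358096932575511191922182123945984) (C.wds R (List.map Prod.fst (l1194))) pt905 19 := Act.cov_of_seen (Act.pieces_sound JT12_m0 JB3_m0.top pt905r chk1200) chk1201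
theorem J_T12d : Dec (C.gen R 74436767763955288882613195375699296256) (C.gen R 22835963083295358096932575511191922182123945984) (C.wds R (List.map Prod.fst (l1194))) (C.gen R 267608942382367477698428619271780338071764992) := cov1202.dec JT12_in1180.gen_le (GC.wds_sub JB3_m0 chk1203) JK_in924.gen_le fx953 (up_low JB3_ub JK_lb0 (by decide +kernel))
theorem J_T12p : ∀ x ∈ DC1 (C.gen R 74436767763955288882613195375699296256) (C.el (R 137)), x * C.el (R 126) ∈ DCs (C.gen R 74436767763955288882613195375699296256) (C.els R 89202895723530762331527007246941588081868800) := GC.dc_piece' J_T12d J_T12c J_Kc (JB3_m0.dcRel J_I.top (J_I.get (i := 137) (by decide +kernel)).top (J_m0.get (i := 126) (by decide +kernel)).top chk1195)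
theorem J_T12u : Nat.card (C.gen R 74436767763955288882613195375699296256) ≤ 38 * Nat.card (C.gen R 22835963083295358096932575511191922182123945984) := up_low JB3_ub JT12_lb0 (by decide +kernel)
theorem J_T12n : (DC1 (C.gen R 74436767763955288882613195375699296256) (C.el (R 137))).ncard ≤ Nat.card (C.gen R 74436767763955288882613195375699296256) * 38 := ncard_DC1 JT12_in1180.gen_le J_T12c J_T12u
theorem JT13_in1206 : C.Mem R (C.gen R 74436767763955288882613195375699296256) 0 := JB3_m0.slp' chk1205
theorem JT13_m0 : C.Mem R (C.gen R 0) 0 := GC.Mem.gen JT13_in1206.top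
theorem JT13_lb0 : 1 ≤ Nat.card (C.gen R 0) := Nat.card_pos
theorem J_T13c : ∀ τ ∈ (C.gen R 0), C.el (R 138) * τ * (C.el (R 138))⁻¹ ∈ (C.gen R 74436767763955288882613195375699296256) := JB3_m0.conjA (J_I.get (i := 138) (by decide +kernel)).top JT13_in1206.top chk1208
theorem cov1217 : Cov (C.gen R 0) (C.wds R (List.map Prod.fst (l1209))) pt905 19 := Act.cov_of_seen (Act.pieces_sound JT13_m0 JB3_m0.top pt905r chk1215) chk1216
theorem J_T13d : Dec (C.gen R 74436767763955288882613195375699296256) (C.gen R 0) (C.wds R (List.map Prod.fst (l1209))) (C.gen R 267608942382367477698428619271780338071764992) := cov1217.dec JT13_in1206.gen_le (GC.wds_sub JB3_m0 chk1218) JK_in924.gen_le fx953 (up_low JB3_ub JK_lb0 (by decide +kernel))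
theorem J_T13p : ∀ x ∈ DC1 (C.gen R 74436767763955288882613195375699296256) (C.el (R 138)), x * C.el (R 126) ∈ DCs (C.gen R 74436767763955288882613195375699296256) (C.els R 89202895723530762331527007246941588081868800) := GC.dc_piece' J_T13d J_T13c J_Kc (JB3_m0.dcRel J_I.top (J_I.get (i := 138) (by decide +kernel)).top (J_m0.get (i := 126) (by decide +kernel)).top chk1210)
theorem J_T13u : Nat.card (C.gen R 74436767763955288882613195375699296256) ≤ 114 * Nat.card (C.gen R 0) := up_low JB3_ub JT13_lb0 (by decide +kernel)
theorem J_T13n : (DC1 (C.gen R 74436767763955288882613195375699296256) (C.el (R 138))).ncard ≤ Nat.card (C.gen R 74436767763955288882613195375699296256) * 114 := ncard_DC1 JT13_in1206.gen_le J_T13c J_T13u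
theorem JT14_in1221 : C.Mem R (C.gen R 74436767763955288882613195375699296256) 45671926166590716193865151022383844364247891968 := JB3_m0.slp' chk1220
theorem JT14_m0 : C.Mem R (C.gen R 45671926166590716193865151022383844364247891968) 45671926166590716193865151022383844364247891968 := GC.Mem.gen JT14_in1221.top
theorem pt1222e : ∃ x, A1.Rep pt1222c x := (PP.exists_vec P_ok (c := 0x1000000000003000000000002000003000004000004000001000003000000000006000001000004000002000001000001000002000004000005000005000001000003000002000000000000000006000004000005000004000006000002000006000002000002000006000006000004000004000002000002000001000003000004000002) (by decide +kernel)).elim fun x hx => ⟨_, x, hx, rfl⟩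
noncomputable def pt1222 := Classical.choose pt1222e
theorem pt1222r : A1.Rep pt1222c pt1222 := Classical.choose_spec pt1222e
theorem JT14_c0i : C.Mem R (C.gen R 45671926166590716193865151022383844364247891968) 0 := JT14_m0.sub chk1223
theorem JT14_c0m : C.Mem R (C.gen R 0) 0 := JT14_c0i.gen
theorem fx1225 : C.gen R 0 ≤ stabilizer _ pt1222 := Act.fix_sound JT14_c0i.top pt1222r chk1224
theorem cov1232 : Cov (C.gen R 45671926166590716193865151022383844364247891968) (C.wds R [0]) pt1222 2 := Act.cov_of_seen (Act.pieces_sound JT14_m0 JT14_m0.top pt1222r chk1230) chk1231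
theorem JT14_lb1 : 1 ≤ Nat.card (C.gen R 0) := Nat.card_pos
theorem JT14_lo0 : 2 * Nat.card (C.gen R 0) ≤ Nat.card (C.gen R 45671926166590716193865151022383844364247891968) := cov1232.low le_rfl (GC.wds_zero _) JT14_c0i.gen_le fx1225
theorem JT14_lb0 : 2 ≤ Nat.card (C.gen R 45671926166590716193865151022383844364247891968) := low_step JT14_lo0 JT14_lb1 (by decide +kernel)
theorem J_T14c : ∀ τ ∈ (C.gen R 45671926166590716193865151022383844364247891968), C.el (R 139) * τ * (C.el (R 139))⁻¹ ∈ (C.gen R 74436767763955288882613195375699296256) := JB3_m0.conjA (J_I.get (i := 139) (by decide +kernel)).top JT14_in1221.top chk1234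
theorem cov1243 : Cov (C.gen R 45671926166590716193865151022383844364247891968) (C.wds R (List.map Prod.fst (l1235))) pt905 19 := Act.cov_of_seen (Act.pieces_sound JT14_m0 JB3_m0.top pt905r chk1241) chk1242
theorem J_T14d : Dec (C.gen R 74436767763955288882613195375699296256) (C.gen R 45671926166590716193865151022383844364247891968) (C.wds R (List.map Prod.fst (l1235))) (C.gen R 267608942382367477698428619271780338071764992) := cov1243.dec JT14_in1221.gen_le (GC.wds_sub JB3_m0 chk1244) JK_in924.gen_le fx953 (up_low JB3_ub JK_lb0 (by decide +kernel))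
theorem J_T14p : ∀ x ∈ DC1 (C.gen R 74436767763955288882613195375699296256) (C.el (R 139)), x * C.el (R 126) ∈ DCs (C.gen R 74436767763955288882613195375699296256) (C.els R 89202895723530762331527007246941588081868800) := GC.dc_piece' J_T14d J_T14c J_Kc (JB3_m0.dcRel J_I.top (J_I.get (i := 139) (by decide +kernel)).top (J_m0.get (i := 126) (by decide +kernel)).top chk1236)
theorem J_T14u : Nat.card (C.gen R 74436767763955288882613195375699296256) ≤ 57 * Nat.card (C.gen R 45671926166590716193865151022383844364247891968) := up_low JB3_ub JT14_lb0 (by decide +kernel)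
theorem J_T14n : (DC1 (C.gen R 74436767763955288882613195375699296256) (C.el (R 139))).ncard ≤ Nat.card (C.gen R 74436767763955288882613195375699296256) * 57 := ncard_DC1 JT14_in1221.gen_le J_T14c J_T14u
theorem JT15_in1247 : C.Mem R (C.gen R 74436767763955288882613195375699296256) 91343852333181432387730302044767688728495783936 := JB3_m0.slp' chk1246
theorem JT15_m0 : C.Mem R (C.gen R 91343852333181432387730302044767688728495783936) 91343852333181432387730302044767688728495783936 := GC.Mem.gen JT15_in1247.top
theorem pt1248e : ∃ x, A1.Rep pt1248c x := (PP.exists_vec P_ok (c := 0x1000000000003000000000002000003000004000004000001000003000000000006000001000004000002000001000001000002000004000005000005000001000003000002000000000000000006000004000005000004000006000002000006000002000002000006000006000004000004000002000002000001000003000004000002) (by decide +kernel)).elim fun x hx => ⟨_, x, hx, rfl⟩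
noncomputable def pt1248 := Classical.choose pt1248e
theorem pt1248r : A1.Rep pt1248c pt1248 := Classical.choose_spec pt1248e
theorem JT15_c0i : C.Mem R (C.gen R 91343852333181432387730302044767688728495783936) 0 := JT15_m0.sub chk1249
theorem JT15_c0m : C.Mem R (C.gen R 0) 0 := JT15_c0i.gen
theorem fx1251 : C.gen R 0 ≤ stabilizer _ pt1248 := Act.fix_sound JT15_c0i.top pt1248r chk1250
theorem cov1258 : Cov (C.gen R 91343852333181432387730302044767688728495783936) (C.wds R [0]) pt1248 3 := Act.cov_of_seen (Act.pieces_sound JT15_m0 JT15_m0.top pt1248r chk1256) chk1257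
theorem JT15_lb1 : 1 ≤ Nat.card (C.gen R 0) := Nat.card_pos
theorem JT15_lo0 : 3 * Nat.card (C.gen R 0) ≤ Nat.card (C.gen R 91343852333181432387730302044767688728495783936) := cov1258.low le_rfl (GC.wds_zero _) JT15_c0i.gen_le fx1251
theorem JT15_lb0 : 3 ≤ Nat.card (C.gen R 91343852333181432387730302044767688728495783936) := low_step JT15_lo0 JT15_lb1 (by decide +kernel)
theorem J_T15c : ∀ τ ∈ (C.gen R 91343852333181432387730302044767688728495783936), C.el (R 140) * τ * (C.el (R 140))⁻¹ ∈ (C.gen R 74436767763955288882613195375699296256) := JB3_m0.conjA (J_I.get (i := 140) (by decide +kernel)).top JT15_in1247.top chk1260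
theorem cov1269 : Cov (C.gen R 91343852333181432387730302044767688728495783936) (C.wds R (List.map Prod.fst (l1261))) pt905 19 := Act.cov_of_seen (Act.pieces_sound JT15_m0 JB3_m0.top pt905r chk1267) chk1268
theorem J_T15d : Dec (C.gen R 74436767763955288882613195375699296256) (C.gen R 91343852333181432387730302044767688728495783936) (C.wds R (List.map Prod.fst (l1261))) (C.gen R 267608942382367477698428619271780338071764992) := cov1269.dec JT15_in1247.gen_le (GC.wds_sub JB3_m0 chk1270) JK_in924.gen_le fx953 (up_low JB3_ub JK_lb0 (by decide +kernel))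
theorem J_T15p : ∀ x ∈ DC1 (C.gen R 74436767763955288882613195375699296256) (C.el (R 140)), x * C.el (R 126) ∈ DCs (C.gen R 74436767763955288882613195375699296256) (C.els R 89202895723530762331527007246941588081868800) := GC.dc_piece' J_T15d J_T15c J_Kc (JB3_m0.dcRel J_I.top (J_I.get (i := 140) (by decide +kernel)).top (J_m0.get (i := 126) (by decide +kernel)).top chk1262)
theorem J_T15u : Nat.card (C.gen R 74436767763955288882613195375699296256) ≤ 38 * Nat.card (C.gen R 91343852333181432387730302044767688728495783936) := up_low JB3_ub JT15_lb0 (by decide +kernel)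
theorem J_T15n : (DC1 (C.gen R 74436767763955288882613195375699296256) (C.el (R 140))).ncard ≤ Nat.card (C.gen R 74436767763955288882613195375699296256) * 38 := ncard_DC1 JT15_in1247.gen_le J_T15c J_T15u
theorem JT16_in1273 : C.Mem R (C.gen R 74436767763955288882613195375699296256) 0 := JB3_m0.slp' chk1272
theorem JT16_m0 : C.Mem R (C.gen R 0) 0 := GC.Mem.gen JT16_in1273.top
theorem JT16_lb0 : 1 ≤ Nat.card (C.gen R 0) := Nat.card_pos
theorem J_T16c : ∀ τ ∈ (C.gen R 0), C.el (R 141) * τ * (C.el (R 141))⁻¹ ∈ (C.gen R 74436767763955288882613195375699296256) := JB3_m0.conjA (J_I.get (i := 141) (by decide +kernel)).top JT16_in1273.top chk1275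
theorem cov1284 : Cov (C.gen R 0) (C.wds R (List.map Prod.fst (l1276))) pt905 19 := Act.cov_of_seen (Act.pieces_sound JT16_m0 JB3_m0.top pt905r chk1282) chk1283
theorem J_T16d : Dec (C.gen R 74436767763955288882613195375699296256) (C.gen R 0) (C.wds R (List.map Prod.fst (l1276))) (C.gen R 267608942382367477698428619271780338071764992) := cov1284.dec JT16_in1273.gen_le (GC.wds_sub JB3_m0 chk1285) JK_in924.gen_le fx953 (up_low JB3_ub JK_lb0 (by decide +kernel))
theorem J_T16p : ∀ x ∈ DC1 (C.gen R 74436767763955288882613195375699296256) (C.el (R 141)), x * C.el (R 126) ∈ DCs (C.gen R 74436767763955288882613195375699296256) (C.els R 89202895723530762331527007246941588081868800) := GC.dc_piece' J_T16d J_T16c J_Kc (JB3_m0.dcRel J_I.top (J_I.get (i := 141) (by decide +kernel)).top (J_m0.get (i := 126) (by decide +kernel)).top chk1277)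
theorem J_T16u : Nat.card (C.gen R 74436767763955288882613195375699296256) ≤ 114 * Nat.card (C.gen R 0) := up_low JB3_ub JT16_lb0 (by decide +kernel)
theorem J_T16n : (DC1 (C.gen R 74436767763955288882613195375699296256) (C.el (R 141))).ncard ≤ Nat.card (C.gen R 74436767763955288882613195375699296256) * 114 := ncard_DC1 JT16_in1273.gen_le J_T16c J_T16u
theorem JT17_in1288 : C.Mem R (C.gen R 74436767763955288882613195375699296256) 0 := JB3_m0.slp' chk1287
theorem JT17_m0 : C.Mem R (C.gen R 0) 0 := GC.Mem.gen JT17_in1288.top
theorem JT17_lb0 : 1 ≤ Nat.card (C.gen R 0) := Nat.card_pos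
theorem J_T17c : ∀ τ ∈ (C.gen R 0), C.el (R 142) * τ * (C.el (R 142))⁻¹ ∈ (C.gen R 74436767763955288882613195375699296256) := JB3_m0.conjA (J_I.get (i := 142) (by decide +kernel)).top JT17_in1288.top chk1290
theorem cov1299 : Cov (C.gen R 0) (C.wds R (List.map Prod.fst (l1291))) pt905 19 := Act.cov_of_seen (Act.pieces_sound JT17_m0 JB3_m0.top pt905r chk1297) chk1298
theorem J_T17d : Dec (C.gen R 74436767763955288882613195375699296256) (C.gen R 0) (C.wds R (List.map Prod.fst (l1291))) (C.gen R 267608942382367477698428619271780338071764992) := cov1299.dec JT17_in1288.gen_le (GC.wds_sub JB3_m0 chk1300) JK_in924.gen_le fx953 (up_low JB3_ub JK_lb0 (by decide +kernel))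
theorem J_T17p : ∀ x ∈ DC1 (C.gen R 74436767763955288882613195375699296256) (C.el (R 142)), x * C.el (R 126) ∈ DCs (C.gen R 74436767763955288882613195375699296256) (C.els R 89202895723530762331527007246941588081868800) := GC.dc_piece' J_T17d J_T17c J_Kc (JB3_m0.dcRel J_I.top (J_I.get (i := 142) (by decide +kernel)).top (J_m0.get (i := 126) (by decide +kernel)).top chk1292)
theorem J_T17u : Nat.card (C.gen R 74436767763955288882613195375699296256) ≤ 114 * Nat.card (C.gen R 0) := up_low JB3_ub JT17_lb0 (by decide +kernel)
theorem J_T17n : (DC1 (C.gen R 74436767763955288882613195375699296256) (C.el (R 142))).ncard ≤ Nat.card (C.gen R 74436767763955288882613195375699296256) * 114 := ncard_DC1 JT17_in1288.gen_le J_T17c J_T17u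
theorem JT18_in1303 : C.Mem R (C.gen R 74436767763955288882613195375699296256) 182687704666362864775460604089535377456991567872 := JB3_m0.slp' chk1302
theorem JT18_m0 : C.Mem R (C.gen R 182687704666362864775460604089535377456991567872) 182687704666362864775460604089535377456991567872 := GC.Mem.gen JT18_in1303.top
theorem pt1304e : ∃ x, A1.Rep pt1304c x := (PP.exists_vec P_ok (c := 0x1000000000003000000000002000003000004000004000001000003000000000006000001000004000002000001000001000002000004000005000005000001000003000002000000000000000006000004000005000004000006000002000006000002000002000006000006000004000004000002000002000001000003000004000002) (by decide +kernel)).elim fun x hx => ⟨_, x, hx, rfl⟩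
noncomputable def pt1304 := Classical.choose pt1304e
theorem pt1304r : A1.Rep pt1304c pt1304 := Classical.choose_spec pt1304e
theorem JT18_c0i : C.Mem R (C.gen R 182687704666362864775460604089535377456991567872) 0 := JT18_m0.sub chk1305
theorem JT18_c0m : C.Mem R (C.gen R 0) 0 := JT18_c0i.gen
theorem fx1307 : C.gen R 0 ≤ stabilizer _ pt1304 := Act.fix_sound JT18_c0i.top pt1304r chk1306
theorem cov1314 : Cov (C.gen R 182687704666362864775460604089535377456991567872) (C.wds R [0]) pt1304 2 := Act.cov_of_seen (Act.pieces_sound JT18_m0 JT18_m0.top pt1304r chk1312) chk1313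
theorem JT18_lb1 : 1 ≤ Nat.card (C.gen R 0) := Nat.card_pos
theorem JT18_lo0 : 2 * Nat.card (C.gen R 0) ≤ Nat.card (C.gen R 182687704666362864775460604089535377456991567872) := cov1314.low le_rfl (GC.wds_zero _) JT18_c0i.gen_le fx1307
theorem JT18_lb0 : 2 ≤ Nat.card (C.gen R 182687704666362864775460604089535377456991567872) := low_step JT18_lo0 JT18_lb1 (by decide +kernel)
theorem J_T18c : ∀ τ ∈ (C.gen R 182687704666362864775460604089535377456991567872), C.el (R 143) * τ * (C.el (R 143))⁻¹ ∈ (C.gen R 74436767763955288882613195375699296256) := JB3_m0.conjA (J_I.get (i := 143) (by decide +kernel)).top JT18_in1303.top chk1316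
theorem cov1325 : Cov (C.gen R 182687704666362864775460604089535377456991567872) (C.wds R (List.map Prod.fst (l1317))) pt905 19 := Act.cov_of_seen (Act.pieces_sound JT18_m0 JB3_m0.top pt905r chk1323) chk1324
theorem J_T18d : Dec (C.gen R 74436767763955288882613195375699296256) (C.gen R 182687704666362864775460604089535377456991567872) (C.wds R (List.map Prod.fst (l1317))) (C.gen R 267608942382367477698428619271780338071764992) := cov1325.dec JT18_in1303.gen_le (GC.wds_sub JB3_m0 chk1326) JK_in924.gen_le fx953 (up_low JB3_ub JK_lb0 (by decide +kernel))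
theorem J_T18p : ∀ x ∈ DC1 (C.gen R 74436767763955288882613195375699296256) (C.el (R 143)), x * C.el (R 126) ∈ DCs (C.gen R 74436767763955288882613195375699296256) (C.els R 89202895723530762331527007246941588081868800) := GC.dc_piece' J_T18d J_T18c J_Kc (JB3_m0.dcRel J_I.top (J_I.get (i := 143) (by decide +kernel)).top (J_m0.get (i := 126) (by decide +kernel)).top chk1318)
theorem J_T18u : Nat.card (C.gen R 74436767763955288882613195375699296256) ≤ 57 * Nat.card (C.gen R 182687704666362864775460604089535377456991567872) := up_low JB3_ub JT18_lb0 (by decide +kernel)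
theorem J_T18n : (DC1 (C.gen R 74436767763955288882613195375699296256) (C.el (R 143))).ncard ≤ Nat.card (C.gen R 74436767763955288882613195375699296256) * 57 := ncard_DC1 JT18_in1303.gen_le J_T18c J_T18u
theorem JT19_in1329 : C.Mem R (C.gen R 74436767763955288882613195375699296256) 365375409332725729550921208179070754913983135744 := JB3_m0.slp' chk1328
theorem JT19_m0 : C.Mem R (C.gen R 365375409332725729550921208179070754913983135744) 365375409332725729550921208179070754913983135744 := GC.Mem.gen JT19_in1329.top
theorem pt1330e : ∃ x, A1.Rep pt1330c x := (PP.exists_vec P_ok (c := 0x1000000000003000000000002000003000004000004000001000003000000000006000001000004000002000001000001000002000004000005000005000001000003000002000000000000000006000004000005000004000006000002000006000002000002000006000006000004000004000002000002000001000003000004000002) (by decide +kernel)).elim fun x hx => ⟨_, x, hx, rfl⟩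
noncomputable def pt1330 := Classical.choose pt1330e
theorem pt1330r : A1.Rep pt1330c pt1330 := Classical.choose_spec pt1330e
theorem JT19_c0i : C.Mem R (C.gen R 365375409332725729550921208179070754913983135744) 0 := JT19_m0.sub chk1331
theorem JT19_c0m : C.Mem R (C.gen R 0) 0 := JT19_c0i.gen
theorem fx1333 : C.gen R 0 ≤ stabilizer _ pt1330 := Act.fix_sound JT19_c0i.top pt1330r chk1332
theorem cov1340 : Cov (C.gen R 365375409332725729550921208179070754913983135744) (C.wds R [0]) pt1330 2 := Act.cov_of_seen (Act.pieces_sound JT19_m0 JT19_m0.top pt1330r chk1338) chk1339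
theorem JT19_lb1 : 1 ≤ Nat.card (C.gen R 0) := Nat.card_pos
theorem JT19_lo0 : 2 * Nat.card (C.gen R 0) ≤ Nat.card (C.gen R 365375409332725729550921208179070754913983135744) := cov1340.low le_rfl (GC.wds_zero _) JT19_c0i.gen_le fx1333
theorem JT19_lb0 : 2 ≤ Nat.card (C.gen R 365375409332725729550921208179070754913983135744) := low_step JT19_lo0 JT19_lb1 (by decide +kernel)
theorem J_T19c : ∀ τ ∈ (C.gen R 365375409332725729550921208179070754913983135744), C.el (R 144) * τ * (C.el (R 144))⁻¹ ∈ (C.gen R 74436767763955288882613195375699296256) := JB3_m0.conjA (J_I.get (i := 144) (by decide +kernel)).top JT19_in1329.top chk1342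
theorem cov1351 : Cov (C.gen R 365375409332725729550921208179070754913983135744) (C.wds R (List.map Prod.fst (l1343))) pt905 19 := Act.cov_of_seen (Act.pieces_sound JT19_m0 JB3_m0.top pt905r chk1349) chk1350
theorem J_T19d : Dec (C.gen R 74436767763955288882613195375699296256) (C.gen R 365375409332725729550921208179070754913983135744) (C.wds R (List.map Prod.fst (l1343))) (C.gen R 267608942382367477698428619271780338071764992) := cov1351.dec JT19_in1329.gen_le (GC.wds_sub JB3_m0 chk1352) JK_in924.gen_le fx953 (up_low JB3_ub JK_lb0 (by decide +kernel))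
theorem J_T19p : ∀ x ∈ DC1 (C.gen R 74436767763955288882613195375699296256) (C.el (R 144)), x * C.el (R 126) ∈ DCs (C.gen R 74436767763955288882613195375699296256) (C.els R 89202895723530762331527007246941588081868800) := GC.dc_piece' J_T19d J_T19c J_Kc (JB3_m0.dcRel J_I.top (J_I.get (i := 144) (by decide +kernel)).top (J_m0.get (i := 126) (by decide +kernel)).top chk1344)
theorem J_T19u : Nat.card (C.gen R 74436767763955288882613195375699296256) ≤ 57 * Nat.card (C.gen R 365375409332725729550921208179070754913983135744) := up_low JB3_ub JT19_lb0 (by decide +kernel)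
theorem J_T19n : (DC1 (C.gen R 74436767763955288882613195375699296256) (C.el (R 144))).ncard ≤ Nat.card (C.gen R 74436767763955288882613195375699296256) * 57 := ncard_DC1 JT19_in1329.gen_le J_T19c J_T19u
theorem JT20_in1355 : C.Mem R (C.gen R 74436767763955288882613195375699296256) 730750818665451459101842416358141509827966271488 := JB3_m0.slp' chk1354
theorem JT20_m0 : C.Mem R (C.gen R 730750818665451459101842416358141509827966271488) 730750818665451459101842416358141509827966271488 := GC.Mem.gen JT20_in1355.top
theorem pt1356e : ∃ x, A1.Rep pt1356c x := (PP.exists_vec P_ok (c := 0x1000000000003000000000002000003000004000004000001000003000000000006000001000004000002000001000001000002000004000005000005000001000003000002000000000000000006000004000005000004000006000002000006000002000002000006000006000004000004000002000002000001000003000004000002) (by decide +kernel)).elim fun x hx => ⟨_, x, hx, rfl⟩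
noncomputable def pt1356 := Classical.choose pt1356e
theorem pt1356r : A1.Rep pt1356c pt1356 := Classical.choose_spec pt1356e
theorem JT20_c0i : C.Mem R (C.gen R 730750818665451459101842416358141509827966271488) 0 := JT20_m0.sub chk1357
theorem JT20_c0m : C.Mem R (C.gen R 0) 0 := JT20_c0i.gen
theorem fx1359 : C.gen R 0 ≤ stabilizer _ pt1356 := Act.fix_sound JT20_c0i.top pt1356r chk1358
theorem cov1366 : Cov (C.gen R 730750818665451459101842416358141509827966271488) (C.wds R [0]) pt1356 3 := Act.cov_of_seen (Act.pieces_sound JT20_m0 JT20_m0.top pt1356r chk1364) chk1365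
theorem JT20_lb1 : 1 ≤ Nat.card (C.gen R 0) := Nat.card_pos
theorem JT20_lo0 : 3 * Nat.card (C.gen R 0) ≤ Nat.card (C.gen R 730750818665451459101842416358141509827966271488) := cov1366.low le_rfl (GC.wds_zero _) JT20_c0i.gen_le fx1359
theorem JT20_lb0 : 3 ≤ Nat.card (C.gen R 730750818665451459101842416358141509827966271488) := low_step JT20_lo0 JT20_lb1 (by decide +kernel)
theorem J_T20c : ∀ τ ∈ (C.gen R 730750818665451459101842416358141509827966271488), C.el (R 145) * τ * (C.el (R 145))⁻¹ ∈ (C.gen R 74436767763955288882613195375699296256) := JB3_m0.conjA (J_I.get (i := 145) (by decide +kernel)).top JT20_in1355.top chk1368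
theorem cov1377 : Cov (C.gen R 730750818665451459101842416358141509827966271488) (C.wds R (List.map Prod.fst (l1369))) pt905 19 := Act.cov_of_seen (Act.pieces_sound JT20_m0 JB3_m0.top pt905r chk1375) chk1376
theorem J_T20d : Dec (C.gen R 74436767763955288882613195375699296256) (C.gen R 730750818665451459101842416358141509827966271488) (C.wds R (List.map Prod.fst (l1369))) (C.gen R 267608942382367477698428619271780338071764992) := cov1377.dec JT20_in1355.gen_le (GC.wds_sub JB3_m0 chk1378) JK_in924.gen_le fx953 (up_low JB3_ub JK_lb0 (by decide +kernel))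
theorem J_T20p : ∀ x ∈ DC1 (C.gen R 74436767763955288882613195375699296256) (C.el (R 145)), x * C.el (R 126) ∈ DCs (C.gen R 74436767763955288882613195375699296256) (C.els R 89202895723530762331527007246941588081868800) := GC.dc_piece' J_T20d J_T20c J_Kc (JB3_m0.dcRel J_I.top (J_I.get (i := 145) (by decide +kernel)).top (J_m0.get (i := 126) (by decide +kernel)).top chk1370)
theorem J_T20u : Nat.card (C.gen R 74436767763955288882613195375699296256) ≤ 38 * Nat.card (C.gen R 730750818665451459101842416358141509827966271488) := up_low JB3_ub JT20_lb0 (by decide +kernel)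
theorem J_T20n : (DC1 (C.gen R 74436767763955288882613195375699296256) (C.el (R 145))).ncard ≤ Nat.card (C.gen R 74436767763955288882613195375699296256) * 38 := ncard_DC1 JT20_in1355.gen_le J_T20c J_T20u
theorem J_dc : ∀ x ∈ (C.gen R 159507359494189904748456847233641349120), x ∈ DCs (C.gen R 74436767763955288882613195375699296256) (C.els R 89202895723530762331527007246941588081868800) := GC.dc_gen (MU := 85070591730234615865843651857942052864) JB3_m0 (by decide +kernel) (GC.forall_els (L := [126]) (forall_cons ⟨JB3_m0.inDC' J_I.top (J_m0.get (i := 126) (by decide +kernel)).top chk1379, GC.forall_els (L := [126, 127, 128, 129, 130, 131, 132, 133, 134, 135, 136, 137, 138, 139, 140, 141, 142, 143, 144, 145]) (forall_cons J_T1p (forall_cons J_T2p (forall_cons J_T3p (forall_cons J_T4p (forall_cons J_T5p (forall_cons J_T6p (forall_cons J_T7p (forall_cons J_T8p (forall_cons J_T9p (forall_cons J_T10p (forall_cons J_T11p (forall_cons J_T12p (forall_cons J_T13p (forall_cons J_T14p (forall_cons J_T15p (forall_cons J_T16p (forall_cons J_T17p (forall_cons J_T18p (forall_cons J_T19p (forall_cons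 J_T20p forall_nil)))))))))))))))))))) (by decide +kernel)⟩ forall_nil) (by decide +kernel))
theorem J_cs : ∀ p ∈ ([(126, 19), (127, 114), (128, 38), (129, 57), (130, 114), (131, 114), (132, 114), (133, 114), (134, 57), (135, 57), (136, 114), (137, 38), (138, 114), (139, 57), (140, 38), (141, 114), (142, 114), (143, 57), (144, 57), (145, 38)] : List (ℕ × ℕ)), (DC1 (C.gen R 74436767763955288882613195375699296256) (C.el (R p.1))).ncard ≤ Nat.card (C.gen R 74436767763955288882613195375699296256) * p.2 := (forall_cons J_T1n (forall_cons J_T2n (forall_cons J_T3n (forall_cons J_T4n (forall_cons J_T5n (forall_cons J_T6n (forall_cons J_T7n (forall_cons J_T8n (forall_cons J_T9n (forall_cons J_T10n (forall_cons J_T11n (forall_cons J_T12n (forall_cons J_T13n (forall_cons J_T14n (forall_cons J_T15n (forall_cons J_T16n (forall_cons J_T17n (forall_cons J_T18n (forall_cons J_T19n (forall_cons J_T20n forall_nil))))))))))))))))))))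
theorem J_ix : Nat.card (C.gen R 159507359494189904748456847233641349120) ≤ 1540 * Nat.card (C.gen R 74436767763955288882613195375699296256) := GC.card_dc [(126, 19), (127, 114), (128, 38), (129, 57), (130, 114), (131, 114), (132, 114), (133, 114), (134, 57), (135, 57), (136, 114), (137, 38), (138, 114), (139, 57), (140, 38), (141, 114), (142, 114), (143, 57), (144, 57), (145, 38)] J_dc J_cs (by decide +kernel)
theorem J_ub : Nat.card (C.gen R 159507359494189904748456847233641349120) ≤ 175560 := up_mul J_ix JB3_ub (by decide +kernel)
theorem J_max : ∀ L, (C.gen R 74436767763955288882613195375699296256) ≤ L → L ≤ (C.gen R 159507359494189904748456847233641349120) → L = (C.gen R 74436767763955288882613195375699296256) ∨ L = (C.gen R 159507359494189904748456847233641349120) := maximal_of_DCs J_dc (JB3_m0.maxChk J_I.top chk1381 chk1382)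
theorem pt1383e : ∃ x, A1.Rep pt1383c x := (PP.exists_vec P_ok (c := 0x1000006000003000002000001000004000002000004000005000003000006000002000002000005000002000001000006000002000006000000000002000000000003000001000004000006000004000006000001000005000006000000000001000004000005000006000001000002000005000002000001000006000000000002000000) (by decide +kernel)).elim fun x hx => ⟨_, x, hx, rfl⟩
noncomputable def pt1383 := Classical.choose pt1383e
theorem pt1383r : A1.Rep pt1383c pt1383 := Classical.choose_spec pt1383e
theorem J_s1_1386 : C.Mem R (C.gen R 159507359494189904748456847233641349120) 21922613762933704071581559306634105431802769309696 := J_s0_908.slp' chk1385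
noncomputable def pt1387 := C.wd R 138710432776352 • pt1383
theorem pt1387r : A1.Rep pt1387c pt1387 := Act.appW_ok J_s1_1386 chk1388 pt1383r
theorem pt1387g : C.wd R 138710432776352 ∈ (C.gen R 159507359494189904748456847233641349120) := J_s1_1386.wd_mem chk1388
noncomputable def pt1389 := C.wd R 183701080362877091 • pt1383
theorem pt1389r : A1.Rep pt1389c pt1389 := Act.appW_ok J_s1_1386 chk1390 pt1383r
theorem pt1389g : C.wd R 183701080362877091 ∈ (C.gen R 159507359494189904748456847233641349120) := J_s1_1386.wd_mem chk1390
theorem JB3_s0_1393 : C.Mem R (C.gen R 74436767763955288882613195375699296256) 23384026197368883459022912612343141509870619983872 := JB3_m0.slp' chk1392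
theorem JB3_c0i : C.Mem R (C.gen R 74436767763955288882613195375699296256) 23384026197294446691258957323460528314494920687616 := JB3_s0_1393.sub chk1394
theorem JB3_c0m : C.Mem R (C.gen R 23384026197294446691258957323460528314494920687616) 23384026197294446691258957323460528314494920687616 := JB3_c0i.gen
theorem fx1396 : C.gen R 23384026197294446691258957323460528314494920687616 ≤ stabilizer _ pt1387 := Act.fix_sound JB3_c0i.top pt1387r chk1395
theorem cov1403 : Cov (C.gen R 74436767763955288882613195375699296256) (C.wds R [0]) pt1387 19 := Act.cov_of_seen (Act.pieces_sound JB3_s0_1393 JB3_s0_1393.top pt1387r chk1401) chk1402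
theorem JB3_c1i : C.Mem R (C.gen R 23384026197294446691258957323460528314494920687616) 0 := JB3_c0m.sub chk1404
theorem JB3_c1m : C.Mem R (C.gen R 0) 0 := JB3_c1i.gen
theorem fx1406 : C.gen R 0 ≤ stabilizer _ pt1389 := Act.fix_sound JB3_c1i.top pt1389r chk1405
theorem cov1413 : Cov (C.gen R 23384026197294446691258957323460528314494920687616) (C.wds R [0]) pt1389 6 := Act.cov_of_seen (Act.pieces_sound JB3_c0m JB3_c0m.top pt1389r chk1411) chk1412
theorem JB3_lb2 : 1 ≤ Nat.card (C.gen R 0) := Nat.card_pos
theorem JB3_lo1 : 6 * Nat.card (C.gen R 0) ≤ Nat.card (C.gen R 23384026197294446691258957323460528314494920687616) := cov1413.low le_rfl (GC.wds_zero _) JB3_c1i.gen_le fx1406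
theorem JB3_lb1 : 6 ≤ Nat.card (C.gen R 23384026197294446691258957323460528314494920687616) := low_step JB3_lo1 JB3_lb2 (by decide +kernel)
theorem JB3_lo0 : 19 * Nat.card (C.gen R 23384026197294446691258957323460528314494920687616) ≤ Nat.card (C.gen R 74436767763955288882613195375699296256) := cov1403.low le_rfl (GC.wds_zero _) JB3_c0i.gen_le fx1396
theorem JB3_lb0 : 114 ≤ Nat.card (C.gen R 74436767763955288882613195375699296256) := low_step JB3_lo0 JB3_lb1 (by decide +kernel)
theorem JB3_st0 : (C.gen R 74436767763955288882613195375699296256) ⊓ stabilizer _ pt1387 = (C.gen R 23384026197294446691258957323460528314494920687616) ∧ (orbit (C.gen R 74436767763955288882613195375699296256) pt1387).ncard = 19 := cov1403.stab le_rfl (GC.wds_zero _) JB3_c0i.gen_le fx1396 (up_low JB3_ub JB3_lb1 (by decide +kernel))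
theorem JB3_ub1 : Nat.card (C.gen R 23384026197294446691258957323460528314494920687616) ≤ 6 := up_step JB3_lo0 JB3_ub (by decide +kernel)
theorem JB3_st1 : (C.gen R 23384026197294446691258957323460528314494920687616) ⊓ stabilizer _ pt1389 = (C.gen R 0) ∧ (orbit (C.gen R 23384026197294446691258957323460528314494920687616) pt1389).ncard = 6 := cov1413.stab le_rfl (GC.wds_zero _) JB3_c1i.gen_le fx1406 (up_low JB3_ub1 JB3_lb2 (by decide +kernel))
theorem JB3_ub2 : Nat.card (C.gen R 0) ≤ 1 := up_step JB3_lo1 JB3_ub1 (by decide +kernel)
theorem cov1420 : Cov (C.gen R 159507359494189904748456847233641349120) (C.wds R [0]) pt1383 1540 := Act.cov_of_seen (Act.pieces_sound J_s1_1386 J_s1_1386.top pt1383r chk1418) chk1419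
theorem fx1422 : C.gen R 74436767763955288882613195375699296256 ≤ stabilizer _ pt1383 := Act.fix_sound (Jin892.top.sub chk901) pt1383r chk1421
theorem J_cov : Cov (C.gen R 159507359494189904748456847233641349120) (C.wds R [0]) pt1383 1540 := cov1420
theorem J_lo : 1540 * Nat.card (C.gen R 74436767763955288882613195375699296256) ≤ Nat.card (C.gen R 159507359494189904748456847233641349120) := cov1420.low le_rfl (GC.wds_zero _) (J_s1_1386.sub chk1423).gen_le fx1422
theorem J_lb : 175560 ≤ Nat.card (C.gen R 159507359494189904748456847233641349120) := low_step J_lo JB3_lb0 (by decide +kernel)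
theorem Jcore (N : Subgroup _) (h : N ≤ (C.gen R 74436767763955288882613195375699296256)) (hN : NormBy (C.gen R 159507359494189904748456847233641349120) N) : N ≤ (C.gen R 0) := (le_next JB3_st1 (le_next JB3_st0 h (hN.fix (h.trans fx1422) pt1387g)) (hN.fix (h.trans fx1422) pt1389g))
theorem J_m3 : C.Mem R (C.gen R 159507359494189904748456847233641349120) 45306639960228150762840516630094633746297689997312 := J_s1_1386.lor' (JB3_s0_1393.mono (J_s1_1386.sub chk1424).gen_le) chk1425
theorem J_s3_1428 : C.Mem R (C.gen R 159507359494189904748456847233641349120) 92074692354817044145358431277015690375287531372544 := J_m3.slp' chk1427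
theorem J_s4_1431 : C.Mem R (C.gen R 159507359494189904748456847233641349120) 372683006722350404440465919158542030149226579623936 := J_s3_1428.slp' chk1430
theorem Jncl (N : Subgroup _) (hN : NormBy (C.gen R 159507359494189904748456847233641349120) N) (hz : C.el (R 165) ∈ N) : C.gen R 159507359494189904748456847233641349120 ≤ N := by
  have h0 := (GC.Mem.single (J_s4_1431.get (i := 165) (by decide +kernel)).top hz).lor' (J_s4_1431.nconj (GC.Mem.single (J_s4_1431.get (i := 165) (by decide +kernel)).top hz) hN (J_s4_1431.sub chk1432).top chk1434) (M'' := 327376366762122253677625402528447396402928889626624) (by decide +kernel)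
  have h1 := J_s4_1431.ncop h0 hN chk1436
  exact h1.gen_le
theorem Jdich (N : Subgroup _) (h : N ≤ (C.gen R 159507359494189904748456847233641349120)) (hN : NormBy (C.gen R 159507359494189904748456847233641349120) N) : N ≤ (C.gen R 0) ∨ N = (C.gen R 159507359494189904748456847233641349120) :=
  normal_dichotomy (J_s4_1431.sub chk1438).gen_le J_max Jcore (p := 11) (k := 1) (n := 1540) (by norm_num)
    (eq_mul_of J_ub J_lb JB3_ub JB3_lb0 (by decide +kernel)) (by norm_num)
    (not_dvd_of J_ub J_lb (by decide +kernel)) (J_s4_1431.get (i := 165) (by decide +kernel)).el_mem ((J_s4_1431.get (i := 165) (by decide +kernel)).prime_dvd (by norm_num) chk1437).1.1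
    (fun N _ hN hz => Jncl N hN hz) N h hN
theorem Jsimple : IsSimpleGroup (C.gen R 159507359494189904748456847233641349120) := simple_of_dichotomy (ne_bot_of J_lb (by decide +kernel)) fun N h hN => GC.gen_zero (C := C) (R := R) ▸ Jdich N h hN
theorem Jcard : Nat.card (C.gen R 159507359494189904748456847233641349120) = 175560 := le_antisymm J_ub J_lb
theorem MB0_m0 : C.Mem R (C.gen R 0) 0 := GC.Mem.gen (GC.Mem.zero ⊤)
theorem Min1441 : C.Mem R (C.gen R 2046) 47516341232902315676638201281271793535053678837235712 := G_m4.slp' chk1440
theorem MB1_m0 : C.Mem R (C.gen R 374144419156711147060143317175368453031918731001856) 374144419156711147060143317175368453031918731001856 := GC.Mem.gen (Min1441.top.sub chk1442)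
theorem MB1_dvd : Nat.card (C.gen R 374144419156711147060143317175368453031918731001856) ∣ 3 := GC.card_ins (dvd_step (MB0_m0.pc (m := 3) (w := 0) (Min1441.top.get (i := 168) (by decide +kernel)) MB0_m0.top chk1444 chk1445) GC.card_gen_zero (n := 3) (by decide +kernel)) (by decide +kernel)
theorem MB2_m0 : C.Mem R (C.gen R 1122433257470133441180429951526105359095756193005568) 1122433257470133441180429951526105359095756193005568 := GC.Mem.gen (Min1441.top.sub chk1446)
theorem MB2_dvd : Nat.card (C.gen R 1122433257470133441180429951526105359095756193005568) ∣ 9 := GC.card_ins (dvd_step (MB1_m0.pc (m := 3) (w := 0) (Min1441.top.get (i := 169) (by decide +kernel)) MB1_m0.top chk1448 chk1449) MB1_dvd (n := 9) (by decide +kernel)) (by decide +kernel)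
theorem MB3_m0 : C.Mem R (C.gen R 2619010934096978029421003220227579171223431117012992) 2619010934096978029421003220227579171223431117012992 := GC.Mem.gen (Min1441.top.sub chk1450)
theorem MB3_dvd : Nat.card (C.gen R 2619010934096978029421003220227579171223431117012992) ∣ 18 := GC.card_ins (dvd_step (MB2_m0.pc (m := 2) (w := 0) (Min1441.top.get (i := 170) (by decide +kernel)) MB2_m0.top chk1452 chk1453) MB2_dvd (n := 18) (by decide +kernel)) (by decide +kernel)
theorem MB4_m0 : C.Mem R (C.gen R 5612166287350667205902149757630526795478780965027840) 5612166287350667205902149757630526795478780965027840 := GC.Mem.gen (Min1441.top.sub chk1454)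
theorem MB4_dvd : Nat.card (C.gen R 5612166287350667205902149757630526795478780965027840) ∣ 36 := GC.card_ins (dvd_step (MB3_m0.pc (m := 2) (w := 170) (Min1441.top.get (i := 171) (by decide +kernel)) MB3_m0.top chk1456 chk1457) MB3_dvd (n := 36) (by decide +kernel)) (by decide +kernel)
theorem MB5_m0 : C.Mem R (C.gen R 11598476993858045558864442832436422043989480661057536) 11598476993858045558864442832436422043989480661057536 := GC.Mem.gen (Min1441.top.sub chk1458)
theorem MB5_dvd : Nat.card (C.gen R 11598476993858045558864442832436422043989480661057536) ∣ 72 := GC.card_ins (dvd_step (MB4_m0.pc (m := 2) (w := 183786184873) (Min1441.top.get (i := 172) (by decide +kernel)) MB4_m0.top chk1460 chk1461) MB4_dvd (n := 72) (by decide +kernel)) (by decide +kernel)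
theorem MB6_m0 : C.Mem R (C.gen R 23571098406872802264789028982048212541010880053116928) 23571098406872802264789028982048212541010880053116928 := GC.Mem.gen (Min1441.top.sub chk1462)
theorem MB6_dvd : Nat.card (C.gen R 23571098406872802264789028982048212541010880053116928) ∣ 144 := GC.card_ins (dvd_step (MB5_m0.pc (m := 2) (w := 170) (Min1441.top.get (i := 173) (by decide +kernel)) MB5_m0.top chk1464 chk1465) MB5_dvd (n := 144) (by decide +kernel)) (by decide +kernel)
theorem MB6_ub : Nat.card (C.gen R 23571098406872802264789028982048212541010880053116928) ≤ 144 := le_of_dvd' MB6_dvd (by decide +kernel)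
theorem pt1466e : ∃ x, A1.Rep pt1466c x := (PP.exists_vec P_ok (c := 0x5000004000006000002000000000000000002000004000003000000000003000006000004000003000005000004000003000002000001000002000005000005000005000006000005000000000004000006000003000002000001000005000001000006000004000003000006000006000003000002000004000000000003000004000004) (by decide +kernel)).elim fun x hx => ⟨_, x, hx, rfl⟩
noncomputable def pt1466 := Classical.choose pt1466e
theorem pt1466r : A1.Rep pt1466c pt1466 := Classical.choose_spec pt1466e
theorem M_m0 : C.Mem R (C.gen R 47516341232902315676638201281271793535053678837235712) 47516341232902315676638201281271793535053678837235712 := GC.Mem.gen Min1441.top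
theorem M_s0_1469 : C.Mem R (C.gen R 47516341232902315676638201281271793535053678837235712) 95406826884961342500336545879718955523139276405473280 := M_m0.slp' chk1468
theorem M_I : C.Mem R (C.gen R 47516341232902315676638201281271793535053678837235712) 71835728478088540235547516897670742982128396352356352 := M_s0_1469.sub chk1470
theorem MK_in1497 : C.Mem R (C.gen R 23571098406872802264789028982048212541010880053116928) 287342913912354160942190067590682971928513585409425408 := MB6_m0.slp' chk1496
theorem MK_m0 : C.Mem R (C.gen R 287342913912354160942190067590682971928513585409425408) 287342913912354160942190067590682971928513585409425408 := GC.Mem.gen MK_in1497.top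
theorem pt1498e : ∃ x, A1.Rep pt1498c x := (PP.exists_vec P_ok (c := 0x5000002000002000000000001000006000000000005000006000002000004000003000001000004000003000002000006000005000001000000000000000006000006000002000006000003000005000001000006000000000003000006000002000005000003000000000001000004000005000001000006000004000002000001000002) (by decide +kernel)).elim fun x hx => ⟨_, x, hx, rfl⟩
noncomputable def pt1498 := Classical.choose pt1498e
theorem pt1498r : A1.Rep pt1498c pt1498 := Classical.choose_spec pt1498e
theorem pt1499e : ∃ x, A1.Rep pt1499c x := (PP.exists_vec P_ok (c := 0x1000004000001000005000001000001000003000002000000000000000004000000000000000001000001000006000002000006000001000003000001000004000002000000000003000004000004000002000005000003000001000005000000000001000005000000000001000006000001000006000005000001000000000005000005) (by decide +kernel)).elim fun x hx => ⟨_, x, hx, rfl⟩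
noncomputable def pt1499 := Classical.choose pt1499e
theorem pt1499r : A1.Rep pt1499c pt1499 := Classical.choose_spec pt1499e
theorem MK_s0_1502 : C.Mem R (C.gen R 287342913912354160942190067590682971928513585409425408) 670466799128826375531776824378260267833198365955325952 := MK_m0.slp' chk1501
theorem MK_c0i : C.Mem R (C.gen R 287342913912354160942190067590682971928513585409425408) 383123885216472214589586756787577295904684780545900544 := MK_s0_1502.sub chk1503
theorem MK_c0m : C.Mem R (C.gen R 383123885216472214589586756787577295904684780545900544) 383123885216472214589586756787577295904684780545900544 := MK_c0i.gen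
theorem fx1505 : C.gen R 383123885216472214589586756787577295904684780545900544 ≤ stabilizer _ pt1498 := Act.fix_sound MK_c0i.top pt1498r chk1504
theorem cov1512 : Cov (C.gen R 287342913912354160942190067590682971928513585409425408) (C.wds R [0]) pt1498 4 := Act.cov_of_seen (Act.pieces_sound MK_s0_1502 MK_s0_1502.top pt1498r chk1510) chk1511
theorem MK_c1i : C.Mem R (C.gen R 383123885216472214589586756787577295904684780545900544) 0 := MK_c0m.sub chk1513
theorem MK_c1m : C.Mem R (C.gen R 0) 0 := MK_c1i.gen
theorem fx1515 : C.gen R 0 ≤ stabilizer _ pt1499 := Act.fix_sound MK_c1i.top pt1499r chk1514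
theorem cov1522 : Cov (C.gen R 383123885216472214589586756787577295904684780545900544) (C.wds R [0]) pt1499 2 := Act.cov_of_seen (Act.pieces_sound MK_c0m MK_c0m.top pt1499r chk1520) chk1521
theorem MK_lb2 : 1 ≤ Nat.card (C.gen R 0) := Nat.card_pos
theorem MK_lo1 : 2 * Nat.card (C.gen R 0) ≤ Nat.card (C.gen R 383123885216472214589586756787577295904684780545900544) := cov1522.low le_rfl (GC.wds_zero _) MK_c1i.gen_le fx1515
theorem MK_lb1 : 2 ≤ Nat.card (C.gen R 383123885216472214589586756787577295904684780545900544) := low_step MK_lo1 MK_lb2 (by decide +kernel)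
theorem MK_lo0 : 4 * Nat.card (C.gen R 383123885216472214589586756787577295904684780545900544) ≤ Nat.card (C.gen R 287342913912354160942190067590682971928513585409425408) := cov1512.low le_rfl (GC.wds_zero _) MK_c0i.gen_le fx1505
theorem MK_lb0 : 8 ≤ Nat.card (C.gen R 287342913912354160942190067590682971928513585409425408) := low_step MK_lo0 MK_lb1 (by decide +kernel)
theorem fx1526 : C.gen R 287342913912354160942190067590682971928513585409425408 ≤ stabilizer _ pt1466 := Act.fix_sound MK_in1497.top pt1466r chk1525
theorem M_Kc : ∀ κ ∈ (C.gen R 287342913912354160942190067590682971928513585409425408), (C.el (R 174))⁻¹ * κ * C.el (R 174) ∈ (C.gen R 23571098406872802264789028982048212541010880053116928) := MB6_m0.conjB (M_m0.get (i := 174) (by decide +kernel)).top MK_in1497.top chk1524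
theorem MT1_in1541 : C.Mem R (C.gen R 23571098406872802264789028982048212541010880053116928) 2298743311298833287537520540725463775428108683275403264 := MB6_m0.slp' chk1540
theorem MT1_m0 : C.Mem R (C.gen R 2298743311298833287537520540725463775428108683275403264) 2298743311298833287537520540725463775428108683275403264 := GC.Mem.gen MT1_in1541.top
theorem pt1542e : ∃ x, A1.Rep pt1542c x := (PP.exists_vec P_ok (c := 0x4000001000002000002000004000001000001000000000001000006000005000005000000000000000004000003000002000003000005000003000003000003000005000006000006000000000002000000000002000002000000000006000004000003000000000001000003000001000006000004000002000000000000000005000006) (by decide +kernel)).elim fun x hx => ⟨_, x, hx, rfl⟩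
noncomputable def pt1542 := Classical.choose pt1542e
theorem pt1542r : A1.Rep pt1542c pt1542 := Classical.choose_spec pt1542e
theorem MT1_c0i : C.Mem R (C.gen R 2298743311298833287537520540725463775428108683275403264) 0 := MT1_m0.sub chk1543
theorem MT1_c0m : C.Mem R (C.gen R 0) 0 := MT1_c0i.gen
theorem fx1545 : C.gen R 0 ≤ stabilizer _ pt1542 := Act.fix_sound MT1_c0i.top pt1542r chk1544
theorem cov1552 : Cov (C.gen R 2298743311298833287537520540725463775428108683275403264) (C.wds R [0]) pt1542 8 := Act.cov_of_seen (Act.pieces_sound MT1_m0 MT1_m0.top pt1542r chk1550) chk1551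
theorem MT1_lb1 : 1 ≤ Nat.card (C.gen R 0) := Nat.card_pos
theorem MT1_lo0 : 8 * Nat.card (C.gen R 0) ≤ Nat.card (C.gen R 2298743311298833287537520540725463775428108683275403264) := cov1552.low le_rfl (GC.wds_zero _) MT1_c0i.gen_le fx1545
theorem MT1_lb0 : 8 ≤ Nat.card (C.gen R 2298743311298833287537520540725463775428108683275403264) := low_step MT1_lo0 MT1_lb1 (by decide +kernel)
theorem M_T1c : ∀ τ ∈ (C.gen R 2298743311298833287537520540725463775428108683275403264), C.el (R 174) * τ * (C.el (R 174))⁻¹ ∈ (C.gen R 23571098406872802264789028982048212541010880053116928) := MB6_m0.conjA (M_I.get (i := 174) (by decide +kernel)).top MT1_in1541.top chk1554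
theorem cov1563 : Cov (C.gen R 2298743311298833287537520540725463775428108683275403264) (C.wds R (List.map Prod.fst (l1555))) pt1466 18 := Act.cov_of_seen (Act.pieces_sound MT1_m0 MB6_m0.top pt1466r chk1561) chk1562
theorem M_T1d : Dec (C.gen R 23571098406872802264789028982048212541010880053116928) (C.gen R 2298743311298833287537520540725463775428108683275403264) (C.wds R (List.map Prod.fst (l1555))) (C.gen R 287342913912354160942190067590682971928513585409425408) := cov1563.dec MT1_in1541.gen_le (GC.wds_sub MB6_m0 chk1564) MK_in1497.gen_le fx1526 (up_low MB6_ub MK_lb0 (by decide +kernel))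
theorem M_T1p : ∀ x ∈ DC1 (C.gen R 23571098406872802264789028982048212541010880053116928) (C.el (R 174)), x * C.el (R 174) ∈ DCs (C.gen R 23571098406872802264789028982048212541010880053116928) (C.els R 71835728478088540235547516897670742982128396352356352) := GC.dc_piece' M_T1d M_T1c M_Kc (MB6_m0.dcRel M_I.top (M_I.get (i := 174) (by decide +kernel)).top (M_m0.get (i := 174) (by decide +kernel)).top chk1556)
theorem M_T1u : Nat.card (C.gen R 23571098406872802264789028982048212541010880053116928) ≤ 18 * Nat.card (C.gen R 2298743311298833287537520540725463775428108683275403264) := up_low MB6_ub MT1_lb0 (by decide +kernel)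
theorem M_T1n : (DC1 (C.gen R 23571098406872802264789028982048212541010880053116928) (C.el (R 174))).ncard ≤ Nat.card (C.gen R 23571098406872802264789028982048212541010880053116928) * 18 := ncard_DC1 MT1_in1541.gen_le M_T1c M_T1u
theorem MT2_in1579 : C.Mem R (C.gen R 23571098406872802264789028982048212541010880053116928) 9194973245195333150150082162901855101712434733101613056 := MB6_m0.slp' chk1578
theorem MT2_m0 : C.Mem R (C.gen R 9194973245195333150150082162901855101712434733101613056) 9194973245195333150150082162901855101712434733101613056 := GC.Mem.gen MT2_in1579.top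
theorem pt1580e : ∃ x, A1.Rep pt1580c x := (PP.exists_vec P_ok (c := 0x4000001000002000002000004000001000001000000000001000006000005000005000000000000000004000003000002000003000005000003000003000003000005000006000006000000000002000000000002000002000000000006000004000003000000000001000003000001000006000004000002000000000000000005000006) (by decide +kernel)).elim fun x hx => ⟨_, x, hx, rfl⟩
noncomputable def pt1580 := Classical.choose pt1580e
theorem pt1580r : A1.Rep pt1580c pt1580 := Classical.choose_spec pt1580e
theorem MT2_c0i : C.Mem R (C.gen R 9194973245195333150150082162901855101712434733101613056) 0 := MT2_m0.sub chk1581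
theorem MT2_c0m : C.Mem R (C.gen R 0) 0 := MT2_c0i.gen
theorem fx1583 : C.gen R 0 ≤ stabilizer _ pt1580 := Act.fix_sound MT2_c0i.top pt1580r chk1582
theorem cov1590 : Cov (C.gen R 9194973245195333150150082162901855101712434733101613056) (C.wds R [0]) pt1580 4 := Act.cov_of_seen (Act.pieces_sound MT2_m0 MT2_m0.top pt1580r chk1588) chk1589
theorem MT2_lb1 : 1 ≤ Nat.card (C.gen R 0) := Nat.card_pos
theorem MT2_lo0 : 4 * Nat.card (C.gen R 0) ≤ Nat.card (C.gen R 9194973245195333150150082162901855101712434733101613056) := cov1590.low le_rfl (GC.wds_zero _) MT2_c0i.gen_le fx1583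
theorem MT2_lb0 : 4 ≤ Nat.card (C.gen R 9194973245195333150150082162901855101712434733101613056) := low_step MT2_lo0 MT2_lb1 (by decide +kernel)
theorem M_T2c : ∀ τ ∈ (C.gen R 9194973245195333150150082162901855101712434733101613056), C.el (R 175) * τ * (C.el (R 175))⁻¹ ∈ (C.gen R 23571098406872802264789028982048212541010880053116928) := MB6_m0.conjA (M_I.get (i := 175) (by decide +kernel)).top MT2_in1579.top chk1592
theorem cov1601 : Cov (C.gen R 9194973245195333150150082162901855101712434733101613056) (C.wds R (List.map Prod.fst (l1593))) pt1466 18 := Act.cov_of_seen (Act.pieces_sound MT2_m0 MB6_m0.top pt1466r chk1599) chk1600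
theorem M_T2d : Dec (C.gen R 23571098406872802264789028982048212541010880053116928) (C.gen R 9194973245195333150150082162901855101712434733101613056) (C.wds R (List.map Prod.fst (l1593))) (C.gen R 287342913912354160942190067590682971928513585409425408) := cov1601.dec MT2_in1579.gen_le (GC.wds_sub MB6_m0 chk1602) MK_in1497.gen_le fx1526 (up_low MB6_ub MK_lb0 (by decide +kernel))
theorem M_T2p : ∀ x ∈ DC1 (C.gen R 23571098406872802264789028982048212541010880053116928) (C.el (R 175)), x * C.el (R 174) ∈ DCs (C.gen R 23571098406872802264789028982048212541010880053116928) (C.els R 71835728478088540235547516897670742982128396352356352) := GC.dc_piece' M_T2d M_T2c M_Kc (MB6_m0.dcRel M_I.top (M_I.get (i := 175) (by decide +kernel)).top (M_m0.get (i := 174) (by decide +kernel)).top chk1594)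
theorem M_T2u : Nat.card (C.gen R 23571098406872802264789028982048212541010880053116928) ≤ 36 * Nat.card (C.gen R 9194973245195333150150082162901855101712434733101613056) := up_low MB6_ub MT2_lb0 (by decide +kernel)
theorem M_T2n : (DC1 (C.gen R 23571098406872802264789028982048212541010880053116928) (C.el (R 175))).ncard ≤ Nat.card (C.gen R 23571098406872802264789028982048212541010880053116928) * 36 := ncard_DC1 MT2_in1579.gen_le M_T2c M_T2u
theorem M_dc : ∀ x ∈ (C.gen R 47516341232902315676638201281271793535053678837235712), x ∈ DCs (C.gen R 23571098406872802264789028982048212541010880053116928) (C.els R 71835728478088540235547516897670742982128396352356352) := GC.dc_gen (MU := 23945242826029513411849172299223580994042798784118784) MB6_m0 (by decide +kernel) (GC.forall_els (L := [174]) (forall_cons ⟨MB6_m0.inDC' M_I.top (M_m0.get (i := 174) (by decide +kernel)).top chk1603, GC.forall_els (L := [174, 175]) (forall_cons M_T1p (forall_cons M_T2p forall_nil)) (by decide +kernel)⟩ forall_nil) (by decide +kernel))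
theorem M_cs : ∀ p ∈ ([(174, 18), (175, 36)] : List (ℕ × ℕ)), (DC1 (C.gen R 23571098406872802264789028982048212541010880053116928) (C.el (R p.1))).ncard ≤ Nat.card (C.gen R 23571098406872802264789028982048212541010880053116928) * p.2 := (forall_cons M_T1n (forall_cons M_T2n forall_nil))
theorem M_ix : Nat.card (C.gen R 47516341232902315676638201281271793535053678837235712) ≤ 55 * Nat.card (C.gen R 23571098406872802264789028982048212541010880053116928) := GC.card_dc [(174, 18), (175, 36)] M_dc M_cs (by decide +kernel)
theorem M_ub : Nat.card (C.gen R 47516341232902315676638201281271793535053678837235712) ≤ 7920 := up_mul M_ix MB6_ub (by decide +kernel)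
theorem M_max : ∀ L, (C.gen R 23571098406872802264789028982048212541010880053116928) ≤ L → L ≤ (C.gen R 47516341232902315676638201281271793535053678837235712) → L = (C.gen R 23571098406872802264789028982048212541010880053116928) ∨ L = (C.gen R 47516341232902315676638201281271793535053678837235712) := maximal_of_DCs M_dc (MB6_m0.maxChk M_I.top chk1605 chk1606)
theorem pt1607e : ∃ x, A1.Rep pt1607c x := (PP.exists_vec P_ok (c := 0x1000002000003000001000003000000000000000001000005000005000004000004000005000003000003000001000004000000000001000003000001000005000001000004000006000005000003000004000002000003000004000004000000000000000001000004000003000001000005000003000005000000000002000000000003) (by decide +kernel)).elim fun x hx => ⟨_, x, hx, rfl⟩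
noncomputable def pt1607 := Classical.choose pt1607e
theorem pt1607r : A1.Rep pt1607c pt1607 := Classical.choose_spec pt1607e
theorem M_s1_1610 : C.Mem R (C.gen R 47516341232902315676638201281271793535053678837235712) 36875299807666293943100665197487139362372878208811925504 := M_s0_1469.slp' chk1609
noncomputable def pt1611 := C.wd R 187023155383 • pt1607
theorem pt1611r : A1.Rep pt1611c pt1611 := Act.appW_ok M_s1_1610 chk1612 pt1607r
theorem pt1611g : C.wd R 187023155383 ∈ (C.gen R 47516341232902315676638201281271793535053678837235712) := M_s1_1610.wd_mem chk1612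
noncomputable def pt1613 := C.wd R 187013717176 • pt1607
theorem pt1613r : A1.Rep pt1613c pt1613 := Act.appW_ok M_s1_1610 chk1614 pt1607r
theorem pt1613g : C.wd R 187013717176 ∈ (C.gen R 47516341232902315676638201281271793535053678837235712) := M_s1_1610.wd_mem chk1614
noncomputable def pt1615 := C.wd R 191502046378158 • pt1607
theorem pt1615r : A1.Rep pt1615c pt1615 := Act.appW_ok M_s1_1610 chk1616 pt1607r
theorem pt1615g : C.wd R 191502046378158 ∈ (C.gen R 47516341232902315676638201281271793535053678837235712) := M_s1_1610.wd_mem chk1616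
theorem MB6_s0_1619 : C.Mem R (C.gen R 23571098406872802264789028982048212541010880053116928) 343302572252365977074534523110651305343138574249180004352 := MB6_m0.slp' chk1618
theorem MB6_c0i : C.Mem R (C.gen R 23571098406872802264789028982048212541010880053116928) 343279001153959104272269734081669257130597563369126887424 := MB6_s0_1619.sub chk1620
theorem MB6_c0m : C.Mem R (C.gen R 343279001153959104272269734081669257130597563369126887424) 343279001153959104272269734081669257130597563369126887424 := MB6_c0i.gen
theorem fx1622 : C.gen R 343279001153959104272269734081669257130597563369126887424 ≤ stabilizer _ pt1611 := Act.fix_sound MB6_c0i.top pt1611r chk1621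
theorem cov1629 : Cov (C.gen R 23571098406872802264789028982048212541010880053116928) (C.wds R [0]) pt1611 18 := Act.cov_of_seen (Act.pieces_sound MB6_s0_1619 MB6_s0_1619.top pt1611r chk1627) chk1628
theorem MB6_c1i : C.Mem R (C.gen R 343279001153959104272269734081669257130597563369126887424) 196159429230833773869868419475239575503198607639501078528 := MB6_c0m.sub chk1630
theorem MB6_c1m : C.Mem R (C.gen R 196159429230833773869868419475239575503198607639501078528) 196159429230833773869868419475239575503198607639501078528 := MB6_c1i.gen
theorem fx1632 : C.gen R 196159429230833773869868419475239575503198607639501078528 ≤ stabilizer _ pt1613 := Act.fix_sound MB6_c1i.top pt1613r chk1631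
theorem cov1639 : Cov (C.gen R 343279001153959104272269734081669257130597563369126887424) (C.wds R [0]) pt1613 4 := Act.cov_of_seen (Act.pieces_sound MB6_c0m MB6_c0m.top pt1613r chk1637) chk1638
theorem MB6_c2i : C.Mem R (C.gen R 196159429230833773869868419475239575503198607639501078528) 0 := MB6_c1m.sub chk1640
theorem MB6_c2m : C.Mem R (C.gen R 0) 0 := MB6_c2i.gen
theorem fx1642 : C.gen R 0 ≤ stabilizer _ pt1615 := Act.fix_sound MB6_c2i.top pt1615r chk1641
theorem cov1649 : Cov (C.gen R 196159429230833773869868419475239575503198607639501078528) (C.wds R [0]) pt1615 2 := Act.cov_of_seen (Act.pieces_sound MB6_c1m MB6_c1m.top pt1615r chk1647) chk1648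
theorem MB6_lb3 : 1 ≤ Nat.card (C.gen R 0) := Nat.card_pos
theorem MB6_lo2 : 2 * Nat.card (C.gen R 0) ≤ Nat.card (C.gen R 196159429230833773869868419475239575503198607639501078528) := cov1649.low le_rfl (GC.wds_zero _) MB6_c2i.gen_le fx1642
theorem MB6_lb2 : 2 ≤ Nat.card (C.gen R 196159429230833773869868419475239575503198607639501078528) := low_step MB6_lo2 MB6_lb3 (by decide +kernel)
theorem MB6_lo1 : 4 * Nat.card (C.gen R 196159429230833773869868419475239575503198607639501078528) ≤ Nat.card (C.gen R 343279001153959104272269734081669257130597563369126887424) := cov1639.low le_rfl (GC.wds_zero _) MB6_c1i.gen_le fx1632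
theorem MB6_lb1 : 8 ≤ Nat.card (C.gen R 343279001153959104272269734081669257130597563369126887424) := low_step MB6_lo1 MB6_lb2 (by decide +kernel)
theorem MB6_lo0 : 18 * Nat.card (C.gen R 343279001153959104272269734081669257130597563369126887424) ≤ Nat.card (C.gen R 23571098406872802264789028982048212541010880053116928) := cov1629.low le_rfl (GC.wds_zero _) MB6_c0i.gen_le fx1622
theorem MB6_lb0 : 144 ≤ Nat.card (C.gen R 23571098406872802264789028982048212541010880053116928) := low_step MB6_lo0 MB6_lb1 (by decide +kernel)
theorem MB6_st0 : (C.gen R 23571098406872802264789028982048212541010880053116928) ⊓ stabilizer _ pt1611 = (C.gen R 343279001153959104272269734081669257130597563369126887424) ∧ (orbit (C.gen R 23571098406872802264789028982048212541010880053116928) pt1611).ncard = 18 := cov1629.stab le_rfl (GC.wds_zero _) MB6_c0i.gen_le fx1622 (up_low MB6_ub MB6_lb1 (by decide +kernel))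
theorem MB6_ub1 : Nat.card (C.gen R 343279001153959104272269734081669257130597563369126887424) ≤ 8 := up_step MB6_lo0 MB6_ub (by decide +kernel)
theorem MB6_st1 : (C.gen R 343279001153959104272269734081669257130597563369126887424) ⊓ stabilizer _ pt1613 = (C.gen R 196159429230833773869868419475239575503198607639501078528) ∧ (orbit (C.gen R 343279001153959104272269734081669257130597563369126887424) pt1613).ncard = 4 := cov1639.stab le_rfl (GC.wds_zero _) MB6_c1i.gen_le fx1632 (up_low MB6_ub1 MB6_lb2 (by decide +kernel))
theorem MB6_ub2 : Nat.card (C.gen R 196159429230833773869868419475239575503198607639501078528) ≤ 2 := up_step MB6_lo1 MB6_ub1 (by decide +kernel)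
theorem MB6_st2 : (C.gen R 196159429230833773869868419475239575503198607639501078528) ⊓ stabilizer _ pt1615 = (C.gen R 0) ∧ (orbit (C.gen R 196159429230833773869868419475239575503198607639501078528) pt1615).ncard = 2 := cov1649.stab le_rfl (GC.wds_zero _) MB6_c2i.gen_le fx1642 (up_low MB6_ub2 MB6_lb3 (by decide +kernel))
theorem MB6_ub3 : Nat.card (C.gen R 0) ≤ 1 := up_step MB6_lo2 MB6_ub2 (by decide +kernel)
theorem cov1656 : Cov (C.gen R 47516341232902315676638201281271793535053678837235712) (C.wds R [0]) pt1607 55 := Act.cov_of_seen (Act.pieces_sound M_s1_1610 M_s1_1610.top pt1607r chk1654) chk1655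
theorem fx1658 : C.gen R 23571098406872802264789028982048212541010880053116928 ≤ stabilizer _ pt1607 := Act.fix_sound (Min1441.top.sub chk1462) pt1607r chk1657
theorem M_cov : Cov (C.gen R 47516341232902315676638201281271793535053678837235712) (C.wds R [0]) pt1607 55 := cov1656
theorem M_lo : 55 * Nat.card (C.gen R 23571098406872802264789028982048212541010880053116928) ≤ Nat.card (C.gen R 47516341232902315676638201281271793535053678837235712) := cov1656.low le_rfl (GC.wds_zero _) (M_s1_1610.sub chk1659).gen_le fx1658
theorem M_lb : 7920 ≤ Nat.card (C.gen R 47516341232902315676638201281271793535053678837235712) := low_step M_lo MB6_lb0 (by decide +kernel)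
theorem Mcore (N : Subgroup _) (h : N ≤ (C.gen R 23571098406872802264789028982048212541010880053116928)) (hN : NormBy (C.gen R 47516341232902315676638201281271793535053678837235712) N) : N ≤ (C.gen R 0) := (le_next MB6_st2 (le_next MB6_st1 (le_next MB6_st0 h (hN.fix (h.trans fx1658) pt1611g)) (hN.fix (h.trans fx1658) pt1613g)) (hN.fix (h.trans fx1658) pt1615g))
theorem M_m3 : C.Mem R (C.gen R 47516341232902315676638201281271793535053678837235712) 380154300961625398215370399279156396492970441577938812928 := M_s1_1610.lor' (MB6_s0_1619.mono (M_s1_1610.sub chk1660).gen_le) chk1661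
theorem M_s3_1664 : C.Mem R (C.gen R 47516341232902315676638201281271793535053678837235712) 772473159423292945955107238229635547499367656856940969984 := M_m3.slp' chk1663
theorem M_s4_1667 : C.Mem R (C.gen R 47516341232902315676638201281271793535053678837235712) 3126386310193298232393528271932510453537750948530953912320 := M_s3_1664.slp' chk1666
theorem Mncl (N : Subgroup _) (hN : NormBy (C.gen R 47516341232902315676638201281271793535053678837235712) N) (hz : C.el (R 188) ∈ N) : C.gen R 47516341232902315676638201281271793535053678837235712 ≤ N := by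
  have h0 := (GC.Mem.single (M_s4_1667.get (i := 188) (by decide +kernel)).top hz).lor' (M_s4_1667.nconj (GC.Mem.single (M_s4_1667.get (i := 188) (by decide +kernel)).top hz) hN (M_s4_1667.sub chk1668).top chk1670) (M'' := 2746232009231672834178157872653354057044780506953015099392) (by decide +kernel)
  have h1 := M_s4_1667.ncop h0 hN chk1672
  exact h1.gen_le
theorem Mdich (N : Subgroup _) (h : N ≤ (C.gen R 47516341232902315676638201281271793535053678837235712)) (hN : NormBy (C.gen R 47516341232902315676638201281271793535053678837235712) N) : N ≤ (C.gen R 0) ∨ N = (C.gen R 47516341232902315676638201281271793535053678837235712) :=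
  normal_dichotomy (M_s4_1667.sub chk1674).gen_le M_max Mcore (p := 11) (k := 1) (n := 55) (by norm_num)
    (eq_mul_of M_ub M_lb MB6_ub MB6_lb0 (by decide +kernel)) (by norm_num)
    (not_dvd_of M_ub M_lb (by decide +kernel)) (M_s4_1667.get (i := 188) (by decide +kernel)).el_mem ((M_s4_1667.get (i := 188) (by decide +kernel)).prime_dvd (by norm_num) chk1673).1.1
    (fun N _ hN hz => Mncl N hN hz) N h hN
theorem Msimple : IsSimpleGroup (C.gen R 47516341232902315676638201281271793535053678837235712) := simple_of_dichotomy (ne_bot_of M_lb (by decide +kernel)) fun N h hN => GC.gen_zero (C := C) (R := R) ▸ Mdich N h hN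
theorem Mcard : Nat.card (C.gen R 47516341232902315676638201281271793535053678837235712) = 7920 := le_antisymm M_ub M_lb
theorem G_s4_1677 : C.Mem R (C.gen R 2046) 3138550867693340381917895036112483346165927235829314363390 := G_m4.slp' chk1676
theorem G_lb : 1382446517760 ≤ Nat.card (C.gen R 2046) := Nat.le_of_dvd Nat.card_pos (lcm_step (lcm_step (lcm_step (lcm_step (dvd_of_sub (G_s4_1677.sub chk1678).gen_le H_ub H_lb0) (dvd_of_sub Jin892.gen_le J_ub J_lb) (n := 619375680) (by decide +kernel)) (dvd_of_sub Sain805.gen_le Sa9_ub Sa9_lb0) (n := 4955005440) (by decide +kernel)) (dvd_of_sub Sbin855.gen_le Sb5_ub Sb5_lb0) (n := 44595048960) (by decide +kernel)) ((G_s4_1677.get (i := 191) (by decide +kernel)).prime_dvd (p := 31) (by norm_num) chk1679).2 (n := 1382446517760) (by decide +kernel))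
theorem G_ex1 (N : Subgroup _) (h : N ≤ (C.gen R 1022)) (hN : NormBy (C.gen R 2046) N) : N ≤ (C.gen R 2066035336255469780992) := GC.exact_dc [(10, 5586), (58, 52136), (59, 58653), (60, 6384)] G_dc G_cs (n := 122760) (by decide +kernel) (up_mul (le_refl _) H_ub (n := 1382446517760) (by decide +kernel) |>.trans G_lb) (p := (10, 5586)) (by decide) GT1_in458.gen_le G_T1c G_T1u N (G_s4_1677.get (i := 10) (by decide +kernel)).el_mem h hN
theorem fx1681 : C.gen R 2066035336255469780992 ≤ stabilizer _ pt731 := Act.fix_sound GT1_in458.top pt731r chk1680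
theorem core (N : Subgroup _) (h : N ≤ (C.gen R 1022)) (hN : NormBy (C.gen R 2046) N) : N ≤ (C.gen R 162259276829213363391578010288128) := (le_next H_st3 (le_next H_st2 (le_next H_st1 (le_next H_st0 h (hN.fix ((G_ex1 N h hN).trans fx1681) pt735g)) (hN.fix ((G_ex1 N h hN).trans fx1681) pt737g)) (hN.fix ((G_ex1 N h hN).trans fx1681) pt739g)) (hN.fix ((G_ex1 N h hN).trans fx1681) pt741g))
theorem G_s5_1684 : C.Mem R (C.gen R 2046) 21969856073853382673425263305735482594472993569221417902078 := G_s4_1677.slp' chk1683
theorem ncl (N : Subgroup _) (hN : NormBy (C.gen R 2046) N) (hz : C.el (R 191) ∈ N) : C.gen R 2046 ≤ N := by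
  have h0 := (GC.Mem.single (G_s5_1684.get (i := 191) (by decide +kernel)).top hz).lor' (G_s5_1684.nconj (GC.Mem.single (G_s5_1684.get (i := 191) (by decide +kernel)).top hz) hN (G_s5_1684.sub chk1685).top chk1687) (M'' := 21969856073853382673425262981226832456358244055624120795136) (by decide +kernel)
  have h1 := G_s5_1684.ncop h0 hN chk1689
  exact h1.gen_le
theorem dich (N : Subgroup _) (h : N ≤ (C.gen R 2046)) (hN : NormBy (C.gen R 2046) N) : N ≤ (C.gen R 162259276829213363391578010288128) ∨ N = (C.gen R 2046) :=
  normal_dichotomy (G_s5_1684.sub chk1691).gen_le G_max core (p := 31) (k := 1) (n := 122760) (by norm_num)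
    (eq_mul_of G_ub G_lb H_ub H_lb0 (by decide +kernel)) (by norm_num)
    (not_dvd_of G_ub G_lb (by decide +kernel)) (G_s5_1684.get (i := 191) (by decide +kernel)).el_mem ((G_s5_1684.get (i := 191) (by decide +kernel)).prime_dvd (by norm_num) chk1690).1.1
    (fun N _ hN hz => ncl N hN hz) N h hN
theorem cen_c : ∀ y ∈ (C.gen R 162259276829213363391578010288128), ∀ g ∈ (C.gen R 2046), g * y = y * g := comm_genL (L := [107]) (forall_cons (G_m0.top.commL (G_s5_1684.get (i := 107) (by decide +kernel)).top chk1692) forall_nil) (by decide +kernel)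
theorem cen_le : (C.gen R 162259276829213363391578010288128) ≤ (C.gen R 2046) := (G_s5_1684.sub (by decide +kernel)).gen_le
theorem cen : center (C.gen R 2046) = (C.gen R 162259276829213363391578010288128).subgroupOf (C.gen R 2046) ∧ IsSimpleGroup ((C.gen R 2046) ⧸ center (C.gen R 2046)) :=
  center_of_dichotomy cen_c ⟨_, (G_s5_1684.get (i := 9) (by decide +kernel)).el_mem, _, (G_s5_1684.get (i := 10) (by decide +kernel)).el_mem, ((G_s5_1684.get (i := 9) (by decide +kernel)).top.not_comm (G_s5_1684.get (i := 10) (by decide +kernel)).top chk1693)⟩ dich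
theorem cardG : Nat.card (C.gen R 2046) = 1382446517760 := le_antisymm G_ub G_lb
theorem cardH : Nat.card (C.gen R 1022) = 11261376 := le_antisymm H_ub H_lb0
theorem cardZ : Nat.card (C.gen R 162259276829213363391578010288128) = 3 := le_antisymm H_ub4 H_lb4
theorem Z_le : (C.gen R 162259276829213363391578010288128) ≤ (C.gen R 1022) := (H_s2_746.sub (by decide +kernel)).gen_le
theorem main : ∃ G H Z J M : Subgroup (Matrix (Fin 45) (Fin 45) (ZMod 7))ˣ, H ≤ G ∧ Z ≤ H ∧ J ≤ G ∧ M ≤ G ∧
    (center G = Z.subgroupOf G ∧ IsSimpleGroup (G ⧸ center G)) ∧ (∀ N, N ≤ G → NormBy G N → N ≤ Z ∨ N = G) ∧ Nat.card Z = 3 ∧ Nat.card H = 11261376 ∧ Nat.card G = 1382446517760 ∧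
    (IsSimpleGroup J ∧ Nat.card J = 175560) ∧ (IsSimpleGroup M ∧ Nat.card M = 7920) :=
  ⟨_, _, _, _, _, (G_s5_1684.sub chk1694).gen_le, Z_le, Jin892.gen_le, Min1441.gen_le, cen, dich, cardZ, cardH, cardG, ⟨Jsimple, Jcard⟩, Msimple, Mcard⟩
end

end CfsgH6.ON
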