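import Cfsg.Agent.H6.OND0

set_option autoImplicit false
set_option maxRecDepth 100000
set_option linter.all false

namespace CfsgH6.ON

open CfsgH5 CfsgH6 Subgroup MulAction Pointwise

noncomputable section

theorem chk2 : band (allL l1 fun e => band (P.can (force (hd e) R)) (band (Nat.ble 1 (tl e)) (Nat.beq (powC P.ops (force (hd e) R) (tl e)) P.ops.one))) (subM 2046 (insL l1 0)) = true := by decide +kernel
theorem chk4 : subM 2 2046 = true := by decide +kernel
theorem chk6 : band (conjB P.ops R 0 1 l5) (subM 0 (insL l5 0)) = true := by decide +kernel
theorem chk7 : band (Nat.ble 1 7) (band (subW 0 0) (Nat.beq (powC P.ops (R 1) 7) (evalW P.ops R 0))) = true := by decide +kernel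
theorem chk8 : subM 6 2046 = true := by decide +kernel
theorem chk10 : band (conjB P.ops R 2 2 l9) (subM 2 (insL l9 0)) = true := by decide +kernel
theorem chk11 : band (Nat.ble 1 7) (band (subW 2 0) (Nat.beq (powC P.ops (R 2) 7) (evalW P.ops R 0))) = true := by decide +kernel
theorem chk12 : subM 14 2046 = true := by decide +kernel
theorem chk14 : band (conjB P.ops R 6 3 l13) (subM 6 (insL l13 0)) = true := by decide +kernel
theorem chk15 : band (Nat.ble 1 7) (band (subW 6 0) (Nat.beq (powC P.ops (R 3) 7) (evalW P.ops R 0))) = true := by decide +kernel
theorem chk16 : subM 30 2046 = true := by decide +kernel
theorem chk18 : band (conjB P.ops R 14 4 l17) (subM 14 (insL l17 0)) = true := by decide +kernel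
theorem chk19 : band (Nat.ble 1 2) (band (subW 14 0) (Nat.beq (powC P.ops (R 4) 2) (evalW P.ops R 0))) = true := by decide +kernel
theorem chk20 : subM 62 2046 = true := by decide +kernel
theorem chk22 : band (conjB P.ops R 30 5 l21) (subM 30 (insL l21 0)) = true := by decide +kernel
theorem chk23 : band (Nat.ble 1 2) (band (subW 30 0) (Nat.beq (powC P.ops (R 5) 2) (evalW P.ops R 0))) = true := by decide +kernel
theorem chk24 : subM 126 2046 = true := by decide +kernel
theorem chk26 : band (conjB P.ops R 62 6 l25) (subM 62 (insL l25 0)) = true := by decide +kernel
theorem chk27 : band (Nat.ble 1 3) (band (subW 62 5) (Nat.beq (powC P.ops (R 6) 3) (evalW P.ops R 5))) = true := by decide +kernel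
theorem chk28 : subM 254 2046 = true := by decide +kernel
theorem chk30 : band (conjB P.ops R 126 7 l29) (subM 126 (insL l29 0)) = true := by decide +kernel
theorem chk31 : band (Nat.ble 1 2) (band (subW 126 4) (Nat.beq (powC P.ops (R 7) 2) (evalW P.ops R 4))) = true := by decide +kernel
theorem chk32 : subM 510 2046 = true := by decide +kernel
theorem chk34 : band (conjB P.ops R 254 8 l33) (subM 254 (insL l33 0)) = true := by decide +kernel
theorem chk35 : band (Nat.ble 1 3) (band (subW 254 0) (Nat.beq (powC P.ops (R 8) 3) (evalW P.ops R 0))) = true := by decide +kernel
theorem chk36 : subM 1022 2046 = true := by decide +kernel
theorem chk39 : band (slp P.ops R l38 1022) (subM 7166 (insL l38 1022)) = true := by decide +kernel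
theorem chk41 : subM 6656 7166 = true := by decide +kernel
theorem chk94 : band (slp P.ops R l93 510) (subM 122880 (insL l93 510)) = true := by decide +kernel
theorem chk101 : band (slp P.ops R l100 122880) (subM 4186112 (insL l100 122880)) = true := by decide +kernel
theorem chk103 : subM 4063232 4186112 = true := by decide +kernel
theorem chk104 : band (fixL P.app (keyL P.app (fun x => x) A1s 5) R [17, 18, 19, 20, 21] pt96c) (subM 4063232 (insL [17, 18, 19, 20, 21] 0)) = true := by decide +kernel
theorem chk110 : band (pieces P.app (keyL P.app (fun x => x) A1s 5) tab108 R 4186112 [13, 14, 15, 16, 17, 18, 19, 20, 21] pt96c l109) (allL l109 fun p => subW 4186112 p.2.1) = true := by decide +kernel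
theorem chk111 : cover 6 [0] (l109) 0 = true := by decide +kernel
theorem chk113 : subM 786432 4063232 = true := by decide +kernel
theorem chk114 : band (fixL P.app (keyL P.app (fun x => x) A1s 5) R [18, 19] pt97c) (subM 786432 (insL [18, 19] 0)) = true := by decide +kernel
theorem chk120 : band (pieces P.app (keyL P.app (fun x => x) A1s 5) tab118 R 4063232 [17, 18, 19, 20, 21] pt97c l119) (allL l119 fun p => subW 4063232 p.2.1) = true := by decide +kernel
theorem chk121 : cover 49 [0] (l119) 0 = true := by decide +kernel
theorem chk123 : subM 524288 786432 = true := by decide +kernel
theorem chk124 : band (fixL P.app (keyL P.app (fun x => x) A1s 5) R [19] pt98c) (subM 524288 (insL [19] 0)) = true := by decide +kernel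
theorem chk130 : band (pieces P.app (keyL P.app (fun x => x) A1s 5) tab128 R 786432 [18, 19] pt98c l129) (allL l129 fun p => subW 786432 p.2.1) = true := by decide +kernel
theorem chk131 : cover 2 [0] (l129) 0 = true := by decide +kernel
theorem chk133 : subM 0 524288 = true := by decide +kernel
theorem chk134 : band (fixL P.app (fun x => x) R [] pt99c) (subM 0 (insL [] 0)) = true := by decide +kernel
theorem chk140 : band (pieces P.app (fun x => x) tab138 R 524288 [19] pt99c l139) (allL l139 fun p => subW 524288 p.2.1) = true := by decide +kernel
theorem chk141 : cover 3 [0] (l139) 0 = true := by decide +kernel
theorem chk144 : band (conjB P.ops R 510 9 l143) (subM 122880 (insL l143 0)) = true := by decide +kernel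
theorem chk145 : band (fixL P.app (keyL P.app (fun x => x) A1s 5) R [13, 14, 15, 16] pt37c) (subM 122880 (insL [13, 14, 15, 16] 0)) = true := by decide +kernel
theorem chk159 : band (slp P.ops R l158 510) (subM 12582912 (insL l158 510)) = true := by decide +kernel
theorem chk165 : band (slp P.ops R l164 12582912) (subM 17175674880 (insL l164 12582912)) = true := by decide +kernel
theorem chk167 : subM 17163091968 17175674880 = true := by decide +kernel
theorem chk168 : band (fixL P.app (keyL P.app (fun x => x) A1s 5) R [24, 25, 26, 27, 28, 29, 30, 31, 32, 33] pt161c) (subM 17163091968 (insL [24, 25, 26, 27, 28, 29, 30, 31, 32, 33] 0)) = true := by decide +kernel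
theorem chk174 : band (pieces P.app (keyL P.app (fun x => x) A1s 5) tab172 R 17175674880 [22, 23, 24, 25, 26, 27, 28, 29, 30, 31, 32, 33] pt161c l173) (allL l173 fun p => subW 17175674880 p.2.1) = true := by decide +kernel
theorem chk175 : cover 6 [0] (l173) 0 = true := by decide +kernel
theorem chk177 : subM 8623489024 17163091968 = true := by decide +kernel
theorem chk178 : band (fixL P.app (keyL P.app (fun x => x) A1s 5) R [25, 33] pt162c) (subM 8623489024 (insL [25, 33] 0)) = true := by decide +kernel
theorem chk184 : band (pieces P.app (keyL P.app (fun x => x) A1s 5) tab182 R 17163091968 [24, 25, 26, 27, 28, 29, 30, 31, 32, 33] pt162c l183) (allL l183 fun p => subW 17163091968 p.2.1) = true := by decide +kernel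
theorem chk185 : cover 49 [0] (l183) 0 = true := by decide +kernel
theorem chk187 : subM 0 8623489024 = true := by decide +kernel
theorem chk188 : band (fixL P.app (fun x => x) R [] pt163c) (subM 0 (insL [] 0)) = true := by decide +kernel
theorem chk194 : band (pieces P.app (fun x => x) tab192 R 8623489024 [25, 33] pt163c l193) (allL l193 fun p => subW 8623489024 p.2.1) = true := by decide +kernel
theorem chk195 : cover 6 [0] (l193) 0 = true := by decide +kernel
theorem chk198 : band (conjA P.ops R 510 9 l197) (subM 12582912 (insL l197 0)) = true := by decide +kernel
theorem chk200 : dcRel P.ops R 510 6656 9 9 l199 = true := by decide +kernel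
theorem chk205 : band (pieces P.app (keyL P.app (fun x => x) A1s 5) tab203 R 17175674880 [22, 23, 24, 25, 26, 27, 28, 29, 30, 31, 32, 33] pt37c l204) (allL l204 fun p => subW 510 p.2.1) = true := by decide +kernel
theorem chk206 : cover 14 (List.map Prod.fst (l199)) (l204) 0 = true := by decide +kernel
theorem chk208 : allL (List.map Prod.fst (l199)) (subW 510) = true := by decide +kernel
theorem chk215 : band (slp P.ops R l214 510) (subM 51539607552 (insL l214 510)) = true := by decide +kernel
theorem chk221 : band (slp P.ops R l220 51539607552) (subM 2181843386368 (insL l220 51539607552)) = true := by decide +kernel
theorem chk223 : subM 2130303778816 2181843386368 = true := by decide +kernel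
theorem chk224 : band (fixL P.app (keyL P.app (fun x => x) A1s 5) R [36, 37, 38, 39, 40] pt217c) (subM 2130303778816 (insL [36, 37, 38, 39, 40] 0)) = true := by decide +kernel
theorem chk230 : band (pieces P.app (keyL P.app (fun x => x) A1s 5) tab228 R 2181843386368 [34, 35, 36, 37, 38, 39, 40] pt217c l229) (allL l229 fun p => subW 2181843386368 p.2.1) = true := by decide +kernel
theorem chk231 : cover 6 [0] (l229) 0 = true := by decide +kernel
theorem chk233 : subM 137438953472 2130303778816 = true := by decide +kernel
theorem chk234 : band (fixL P.app (keyL P.app (fun x => x) A1s 5) R [37] pt218c) (subM 137438953472 (insL [37] 0)) = true := by decide +kernel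
theorem chk240 : band (pieces P.app (keyL P.app (fun x => x) A1s 5) tab238 R 2130303778816 [36, 37, 38, 39, 40] pt218c l239) (allL l239 fun p => subW 2130303778816 p.2.1) = true := by decide +kernel
theorem chk241 : cover 14 [0] (l239) 0 = true := by decide +kernel
theorem chk243 : subM 0 137438953472 = true := by decide +kernel
theorem chk244 : band (fixL P.app (fun x => x) R [] pt219c) (subM 0 (insL [] 0)) = true := by decide +kernel
theorem chk250 : band (pieces P.app (fun x => x) tab248 R 137438953472 [37] pt219c l249) (allL l249 fun p => subW 137438953472 p.2.1) = true := by decide +kernel
theorem chk251 : cover 3 [0] (l249) 0 = true := by decide +kernel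
theorem chk254 : band (conjA P.ops R 510 11 l253) (subM 51539607552 (insL l253 0)) = true := by decide +kernel
theorem chk256 : dcRel P.ops R 510 6656 11 9 l255 = true := by decide +kernel
theorem chk261 : band (pieces P.app (keyL P.app (fun x => x) A1s 5) tab259 R 2181843386368 [34, 35, 36, 37, 38, 39, 40] pt37c l260) (allL l260 fun p => subW 510 p.2.1) = true := by decide +kernel
theorem chk262 : cover 14 (List.map Prod.fst (l255)) (l260) 0 = true := by decide +kernel
theorem chk264 : allL (List.map Prod.fst (l255)) (subW 510) = true := by decide +kernel
theorem chk307 : band (slp P.ops R l306 510) (subM 15393162788864 (insL l306 510)) = true := by decide +kernel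
theorem chk312 : band (slp P.ops R l311 15393162788864) (subM 68169720922112 (insL l311 15393162788864)) = true := by decide +kernel
theorem chk314 : subM 52776558133248 68169720922112 = true := by decide +kernel
theorem chk315 : band (fixL P.app (keyL P.app (fun x => x) A1s 5) R [44, 45] pt309c) (subM 52776558133248 (insL [44, 45] 0)) = true := by decide +kernel
theorem chk321 : band (pieces P.app (keyL P.app (fun x => x) A1s 5) tab319 R 68169720922112 [41, 42, 43, 44, 45] pt309c l320) (allL l320 fun p => subW 68169720922112 p.2.1) = true := by decide +kernel
theorem chk322 : cover 12 [0] (l320) 0 = true := by decide +kernel
theorem chk324 : subM 0 52776558133248 = true := by decide +kernel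
theorem chk325 : band (fixL P.app (fun x => x) R [] pt310c) (subM 0 (insL [] 0)) = true := by decide +kernel
theorem chk331 : band (pieces P.app (fun x => x) tab329 R 52776558133248 [44, 45] pt310c l330) (allL l330 fun p => subW 52776558133248 p.2.1) = true := by decide +kernel
theorem chk332 : cover 6 [0] (l330) 0 = true := by decide +kernel
theorem chk335 : band (conjA P.ops R 510 12 l334) (subM 15393162788864 (insL l334 0)) = true := by decide +kernel
theorem chk337 : dcRel P.ops R 510 6656 12 9 l336 = true := by decide +kernel
theorem chk342 : band (pieces P.app (keyL P.app (fun x => x) A1s 5) tab340 R 68169720922112 [41, 42, 43, 44, 45] pt37c l341) (allL l341 fun p => subW 510 p.2.1) = true := by decide +kernel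
theorem chk343 : cover 14 (List.map Prod.fst (l336)) (l341) 0 = true := by decide +kernel
theorem chk345 : allL (List.map Prod.fst (l336)) (subW 510) = true := by decide +kernel
theorem chk346 : inDC P.ops R 510 6656 (R 9) 0 9 = true := by decide +kernel
theorem chk349 : band (slp P.ops R l348 7166) (subM 288160007407541246 (insL l348 7166)) = true := by decide +kernel
theorem chk351 : subM 1022 2046 = true := by decide +kernel
theorem chk352 : subM 288160007407542270 (Nat.lor 2046 288160007407541246) = true := by decide +kernel
theorem chk354 : band (slp P.ops R l353 288160007407542270) (subM 2305772640469524478 (insL l353 288160007407542270)) = true := by decide +kernel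
theorem chk356 : subM 2017612633061983232 2305772640469524478 = true := by decide +kernel
theorem chk381 : band (slp P.ops R l380 288160007407541246) (subM 16140901064495857664 (insL l380 288160007407541246)) = true := by decide +kernel
theorem chk388 : band (slp P.ops R l387 16140901064495857664) (subM 292842062170139131904 (insL l387 16140901064495857664)) = true := by decide +kernel
theorem chk390 : subM 276701161105643274240 292842062170139131904 = true := by decide +kernel
theorem chk391 : band (fixL P.app (keyL P.app (fun x => x) A1s 5) R [64, 65, 66, 67] pt383c) (subM 276701161105643274240 (insL [64, 65, 66, 67] 0)) = true := by decide +kernel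
theorem chk397 : band (pieces P.app (keyL P.app (fun x => x) A1s 5) tab395 R 292842062170139131904 [61, 62, 63, 64, 65, 66, 67] pt383c l396) (allL l396 fun p => subW 292842062170139131904 p.2.1) = true := by decide +kernel
theorem chk398 : cover 8 [0] (l396) 0 = true := by decide +kernel
theorem chk400 : subM 221360928884514619392 276701161105643274240 = true := by decide +kernel
theorem chk401 : band (fixL P.app (keyL P.app (fun x => x) A1s 5) R [66, 67] pt384c) (subM 221360928884514619392 (insL [66, 67] 0)) = true := by decide +kernel
theorem chk407 : band (pieces P.app (keyL P.app (fun x => x) A1s 5) tab405 R 276701161105643274240 [64, 65, 66, 67] pt384c l406) (allL l406 fun p => subW 276701161105643274240 p.2.1) = true := by decide +kernel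
theorem chk408 : cover 42 [0] (l406) 0 = true := by decide +kernel
theorem chk410 : subM 147573952589676412928 221360928884514619392 = true := by decide +kernel
theorem chk411 : band (fixL P.app (keyL P.app (fun x => x) A1s 5) R [67] pt385c) (subM 147573952589676412928 (insL [67] 0)) = true := by decide +kernel
theorem chk417 : band (pieces P.app (keyL P.app (fun x => x) A1s 5) tab415 R 221360928884514619392 [66, 67] pt385c l416) (allL l416 fun p => subW 221360928884514619392 p.2.1) = true := by decide +kernel
theorem chk418 : cover 2 [0] (l416) 0 = true := by decide +kernel
theorem chk420 : subM 0 147573952589676412928 = true := by decide +kernel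
theorem chk421 : band (fixL P.app (fun x => x) R [] pt386c) (subM 0 (insL [] 0)) = true := by decide +kernel
theorem chk427 : band (pieces P.app (fun x => x) tab425 R 147573952589676412928 [67] pt386c l426) (allL l426 fun p => subW 147573952589676412928 p.2.1) = true := by decide +kernel
theorem chk428 : cover 3 [0] (l426) 0 = true := by decide +kernel
theorem chk431 : band (conjB P.ops R 288160007407541246 10 l430) (subM 16140901064495857664 (insL l430 0)) = true := by decide +kernel
theorem chk432 : band (fixL P.app (keyL P.app (fun x => x) A1s 5) R [61, 62, 63] pt347c) (subM 16140901064495857664 (insL [61, 62, 63] 0)) = true := by decide +kernel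
theorem chk457 : band (slp P.ops R l456 288160007407541246) (subM 2066035336255469780992 (insL l456 288160007407541246)) = true := by decide +kernel
theorem chk463 : band (slp P.ops R l462 2066035336255469780992) (subM 37483783957777808883712 (insL l462 2066035336255469780992)) = true := by decide +kernel
theorem chk465 : subM 35417748621522339102720 37483783957777808883712 = true := by decide +kernel
theorem chk466 : band (fixL P.app (keyL P.app (fun x => x) A1s 5) R [71, 72, 73, 74] pt459c) (subM 35417748621522339102720 (insL [71, 72, 73, 74] 0)) = true := by decide +kernel
theorem chk472 : band (pieces P.app (keyL P.app (fun x => x) A1s 5) tab470 R 37483783957777808883712 [68, 69, 70, 71, 72, 73, 74] pt459c l471) (allL l471 fun p => subW 37483783957777808883712 p.2.1) = true := by decide +kernel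
theorem chk473 : cover 8 [0] (l471) 0 = true := by decide +kernel
theorem chk475 : subM 18889465931478580854784 35417748621522339102720 = true := by decide +kernel
theorem chk476 : band (fixL P.app (keyL P.app (fun x => x) A1s 5) R [74] pt460c) (subM 18889465931478580854784 (insL [74] 0)) = true := by decide +kernel
theorem chk482 : band (pieces P.app (keyL P.app (fun x => x) A1s 5) tab480 R 35417748621522339102720 [71, 72, 73, 74] pt460c l481) (allL l481 fun p => subW 35417748621522339102720 p.2.1) = true := by decide +kernel
theorem chk483 : cover 84 [0] (l481) 0 = true := by decide +kernel
theorem chk485 : subM 0 18889465931478580854784 = true := by decide +kernel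
theorem chk486 : band (fixL P.app (fun x => x) R [] pt461c) (subM 0 (insL [] 0)) = true := by decide +kernel
theorem chk492 : band (pieces P.app (fun x => x) tab490 R 18889465931478580854784 [74] pt461c l491) (allL l491 fun p => subW 18889465931478580854784 p.2.1) = true := by decide +kernel
theorem chk493 : cover 3 [0] (l491) 0 = true := by decide +kernel
theorem chk496 : band (conjA P.ops R 288160007407541246 10 l495) (subM 2066035336255469780992 (insL l495 0)) = true := by decide +kernel
theorem chk498 : dcRel P.ops R 288160007407541246 2017612633061983232 10 10 l497 = true := by decide +kernel
theorem chk507 : band (pieces P.app (keyL P.app (fun x => x) A1s 5) tab505 R 37483783957777808883712 [68, 69, 70, 71, 72, 73, 74] pt347c l506) (allL l506 fun p => subW 288160007407541246 p.2.1) = true := by decide +kernel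
theorem chk508 : cover 5586 (List.map Prod.fst (l497)) (l506) 0 = true := by decide +kernel
theorem chk510 : allL (List.map Prod.fst (l497)) (subW 288160007407541246) = true := by decide +kernel
theorem chk528 : band (slp P.ops R l527 288160007407541246) (subM 113336795588871485128704 (insL l527 288160007407541246)) = true := by decide +kernel
theorem chk534 : band (slp P.ops R l533 113336795588871485128704) (subM 2380072707366301187702784 (insL l533 113336795588871485128704)) = true := by decide +kernel
theorem chk536 : subM 2266735911777429702574080 2380072707366301187702784 = true := by decide +kernel
theorem chk537 : band (fixL P.app (keyL P.app (fun x => x) A1s 5) R [77, 78, 79, 80] pt530c) (subM 2266735911777429702574080 (insL [77, 78, 79, 80] 0)) = true := by decide +kernel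
theorem chk543 : band (pieces P.app (keyL P.app (fun x => x) A1s 5) tab541 R 2380072707366301187702784 [75, 76, 77, 78, 79, 80] pt530c l542) (allL l542 fun p => subW 2380072707366301187702784 p.2.1) = true := by decide +kernel
theorem chk544 : cover 3 [0] (l542) 0 = true := by decide +kernel
theorem chk546 : subM 906694364710971881029632 2266735911777429702574080 = true := by decide +kernel
theorem chk547 : band (fixL P.app (keyL P.app (fun x => x) A1s 5) R [78, 79] pt531c) (subM 906694364710971881029632 (insL [78, 79] 0)) = true := by decide +kernel
theorem chk553 : band (pieces P.app (keyL P.app (fun x => x) A1s 5) tab551 R 2266735911777429702574080 [77, 78, 79, 80] pt531c l552) (allL l552 fun p => subW 2266735911777429702574080 p.2.1) = true := by decide +kernel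
theorem chk554 : cover 12 [0] (l552) 0 = true := by decide +kernel
theorem chk556 : subM 0 906694364710971881029632 = true := by decide +kernel
theorem chk557 : band (fixL P.app (fun x => x) R [] pt532c) (subM 0 (insL [] 0)) = true := by decide +kernel
theorem chk563 : band (pieces P.app (fun x => x) tab561 R 906694364710971881029632 [78, 79] pt532c l562) (allL l562 fun p => subW 906694364710971881029632 p.2.1) = true := by decide +kernel
theorem chk564 : cover 6 [0] (l562) 0 = true := by decide +kernel
theorem chk567 : band (conjA P.ops R 288160007407541246 58 l566) (subM 113336795588871485128704 (insL l566 0)) = true := by decide +kernel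
theorem chk571 : dcRel P.ops R 288160007407541246 2017612633061983232 58 10 l568 = true := by decide +kernel
theorem chk582 : band (pieces P.app (keyL P.app (fun x => x) A1s 5) tab578 R 2380072707366301187702784 [75, 76, 77, 78, 79, 80] pt347c l579) (allL l579 fun p => subW 288160007407541246 p.2.1) = true := by decide +kernel
theorem chk583 : cover 5586 (List.map Prod.fst (l568)) (l579) 0 = true := by decide +kernel
theorem chk585 : allL (List.map Prod.fst (l568)) (subW 288160007407541246) = true := by decide +kernel
theorem chk609 : band (slp P.ops R l608 288160007407541246) (subM 16924961474604808445886464 (insL l608 288160007407541246)) = true := by decide +kernel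
theorem chk615 : band (slp P.ops R l614 16924961474604808445886464) (subM 152324653271443276012978176 (insL l614 16924961474604808445886464)) = true := by decide +kernel
theorem chk617 : subM 135399691796838467567091712 152324653271443276012978176 = true := by decide +kernel
theorem chk618 : band (fixL P.app (keyL P.app (fun x => x) A1s 5) R [84, 85, 86] pt611c) (subM 135399691796838467567091712 (insL [84, 85, 86] 0)) = true := by decide +kernel
theorem chk624 : band (pieces P.app (keyL P.app (fun x => x) A1s 5) tab622 R 152324653271443276012978176 [81, 82, 83, 84, 85, 86] pt611c l623) (allL l623 fun p => subW 152324653271443276012978176 p.2.1) = true := by decide +kernel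
theorem chk625 : cover 16 [0] (l623) 0 = true := by decide +kernel
theorem chk627 : subM 77371252455336267181195264 135399691796838467567091712 = true := by decide +kernel
theorem chk628 : band (fixL P.app (keyL P.app (fun x => x) A1s 5) R [86] pt612c) (subM 77371252455336267181195264 (insL [86] 0)) = true := by decide +kernel
theorem chk634 : band (pieces P.app (keyL P.app (fun x => x) A1s 5) tab632 R 135399691796838467567091712 [84, 85, 86] pt612c l633) (allL l633 fun p => subW 135399691796838467567091712 p.2.1) = true := by decide +kernel
theorem chk635 : cover 4 [0] (l633) 0 = true := by decide +kernel
theorem chk637 : subM 0 77371252455336267181195264 = true := by decide +kernel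
theorem chk638 : band (fixL P.app (fun x => x) R [] pt613c) (subM 0 (insL [] 0)) = true := by decide +kernel
theorem chk644 : band (pieces P.app (fun x => x) tab642 R 77371252455336267181195264 [86] pt613c l643) (allL l643 fun p => subW 77371252455336267181195264 p.2.1) = true := by decide +kernel
theorem chk645 : cover 3 [0] (l643) 0 = true := by decide +kernel
theorem chk648 : band (conjA P.ops R 288160007407541246 59 l647) (subM 16924961474604808445886464 (insL l647 0)) = true := by decide +kernel
theorem chk652 : dcRel P.ops R 288160007407541246 2017612633061983232 59 10 l649 = true := by decide +kernel
theorem chk663 : band (pieces P.app (keyL P.app (fun x => x) A1s 5) tab659 R 152324653271443276012978176 [81, 82, 83, 84, 85, 86] pt347c l660) (allL l660 fun p => subW 288160007407541246 p.2.1) = true := by decide +kernel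
theorem chk664 : cover 5586 (List.map Prod.fst (l649)) (l660) 0 = true := by decide +kernel
theorem chk666 : allL (List.map Prod.fst (l649)) (subW 288160007407541246) = true := by decide +kernel
theorem chk673 : band (slp P.ops R l672 288160007407541246) (subM 464227514732017603087171584 (insL l672 288160007407541246)) = true := by decide +kernel
theorem chk679 : band (slp P.ops R l678 464227514732017603087171584) (subM 9748777809372369664830603264 (insL l678 464227514732017603087171584)) = true := by decide +kernel
theorem chk681 : subM 9284550294640352061743431680 9748777809372369664830603264 = true := by decide +kernel
theorem chk682 : band (fixL P.app (keyL P.app (fun x => x) A1s 5) R [89, 90, 91, 92] pt675c) (subM 9284550294640352061743431680 (insL [89, 90, 91, 92] 0)) = true := by decide +kernel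
theorem chk688 : band (pieces P.app (keyL P.app (fun x => x) A1s 5) tab686 R 9748777809372369664830603264 [87, 88, 89, 90, 91, 92] pt675c l687) (allL l687 fun p => subW 9748777809372369664830603264 p.2.1) = true := by decide +kernel
theorem chk689 : cover 14 [0] (l687) 0 = true := by decide +kernel
theorem chk691 : subM 4951760157141521099596496896 9284550294640352061743431680 = true := by decide +kernel
theorem chk692 : band (fixL P.app (keyL P.app (fun x => x) A1s 5) R [92] pt676c) (subM 4951760157141521099596496896 (insL [92] 0)) = true := by decide +kernel
theorem chk698 : band (pieces P.app (keyL P.app (fun x => x) A1s 5) tab696 R 9284550294640352061743431680 [89, 90, 91, 92] pt676c l697) (allL l697 fun p => subW 9284550294640352061743431680 p.2.1) = true := by decide +kernel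
theorem chk699 : cover 42 [0] (l697) 0 = true := by decide +kernel
theorem chk701 : subM 0 4951760157141521099596496896 = true := by decide +kernel
theorem chk702 : band (fixL P.app (fun x => x) R [] pt677c) (subM 0 (insL [] 0)) = true := by decide +kernel
theorem chk708 : band (pieces P.app (fun x => x) tab706 R 4951760157141521099596496896 [92] pt677c l707) (allL l707 fun p => subW 4951760157141521099596496896 p.2.1) = true := by decide +kernel
theorem chk709 : cover 3 [0] (l707) 0 = true := by decide +kernel
theorem chk712 : band (conjA P.ops R 288160007407541246 60 l711) (subM 464227514732017603087171584 (insL l711 0)) = true := by decide +kernel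
theorem chk714 : dcRel P.ops R 288160007407541246 2017612633061983232 60 10 l713 = true := by decide +kernel
theorem chk723 : band (pieces P.app (keyL P.app (fun x => x) A1s 5) tab721 R 9748777809372369664830603264 [87, 88, 89, 90, 91, 92] pt347c l722) (allL l722 fun p => subW 288160007407541246 p.2.1) = true := by decide +kernel
theorem chk724 : cover 5586 (List.map Prod.fst (l713)) (l722) 0 = true := by decide +kernel
theorem chk726 : allL (List.map Prod.fst (l713)) (subW 288160007407541246) = true := by decide +kernel
theorem chk727 : inDC P.ops R 288160007407541246 2017612633061983232 (R 10) 0 10 = true := by decide +kernel
theorem chk729 : band (maxChk P.ops R 288160007407541246 2046 l728) (subM 2017612633061983232 (insL (l728.map Prod.fst) 0)) = true := by decide +kernel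
theorem chk730 : allL l728 (fun p => Nat.blt p.1 1024) = true := by decide +kernel
theorem chk733 : band (slp P.ops R l732 2305772640469524478) (subM 307009129745080080815452332030 (insL l732 2305772640469524478)) = true := by decide +kernel
theorem chk736 : subW 307009129745080080815452332030 10 = true := by decide +kernel
theorem chk738 : subW 307009129745080080815452332030 10997313094703 = true := by decide +kernel
theorem chk740 : subW 307009129745080080815452332030 11263450857661487 = true := by decide +kernel
theorem chk742 : subW 307009129745080080815452332030 11260100783160327 = true := by decide +kernel
theorem chk745 : band (slp P.ops R l744 288160007407541246) (subM 324201641008369957592789252316158 (insL l744 288160007407541246)) = true := by decide +kernel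
theorem chk747 : subM 319447951257513809177169207754752 324201641008369957592789252316158 = true := by decide +kernel
theorem chk748 : band (fixL P.app (keyL P.app (fun x => x) A1s 5) R [102, 103, 104, 105, 106, 107] pt735c) (subM 319447951257513809177169207754752 (insL [102, 103, 104, 105, 106, 107] 0)) = true := by decide +kernel
theorem chk758 : band (pieces P.app (keyL P.app (fun x => x) A1s 5) tab756 R 324201641008369957592789252316158 [1, 2, 3, 7, 8, 9, 98, 99, 100, 101, 102, 103, 104, 105, 106, 107] pt735c l757) (allL l757 fun p => subW 324201641008369957592789252316158 p.2.1) = true := by decide +kernel
theorem chk759 : cover 5586 [0] (l757) 0 = true := by decide +kernel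
theorem chk761 : subM 253530120045645880299340641075200 319447951257513809177169207754752 = true := by decide +kernel
theorem chk762 : band (fixL P.app (keyL P.app (fun x => x) A1s 5) R [103, 106, 107] pt737c) (subM 253530120045645880299340641075200 (insL [103, 106, 107] 0)) = true := by decide +kernel
theorem chk768 : band (pieces P.app (keyL P.app (fun x => x) A1s 5) tab766 R 319447951257513809177169207754752 [102, 103, 104, 105, 106, 107] pt737c l767) (allL l767 fun p => subW 319447951257513809177169207754752 p.2.1) = true := by decide +kernel
theorem chk769 : cover 168 [0] (l767) 0 = true := by decide +kernel
theorem chk771 : subM 243388915243820045087367015432192 253530120045645880299340641075200 = true := by decide +kernel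
theorem chk772 : band (fixL P.app (keyL P.app (fun x => x) A1s 5) R [106, 107] pt739c) (subM 243388915243820045087367015432192 (insL [106, 107] 0)) = true := by decide +kernel
theorem chk778 : band (pieces P.app (keyL P.app (fun x => x) A1s 5) tab776 R 253530120045645880299340641075200 [103, 106, 107] pt739c l777) (allL l777 fun p => subW 253530120045645880299340641075200 p.2.1) = true := by decide +kernel
theorem chk779 : cover 2 [0] (l777) 0 = true := by decide +kernel
theorem chk781 : subM 162259276829213363391578010288128 243388915243820045087367015432192 = true := by decide +kernel
theorem chk782 : band (fixL P.app (keyL P.app (fun x => x) A1s 5) R [107] pt741c) (subM 162259276829213363391578010288128 (insL [107] 0)) = true := by decide +kernel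
theorem chk788 : band (pieces P.app (keyL P.app (fun x => x) A1s 5) tab786 R 243388915243820045087367015432192 [106, 107] pt741c l787) (allL l787 fun p => subW 243388915243820045087367015432192 p.2.1) = true := by decide +kernel
theorem chk789 : cover 2 [0] (l787) 0 = true := by decide +kernel
theorem chk791 : subM 0 162259276829213363391578010288128 = true := by decide +kernel
theorem chk792 : band (fixL P.app (fun x => x) R [] pt743c) (subM 0 (insL [] 0)) = true := by decide +kernel
theorem chk798 : band (pieces P.app (fun x => x) tab796 R 162259276829213363391578010288128 [107] pt743c l797) (allL l797 fun p => subW 162259276829213363391578010288128 p.2.1) = true := by decide +kernel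
theorem chk799 : cover 3 [0] (l797) 0 = true := by decide +kernel
theorem chk801 : subM 1022 307009129745080080815452332030 = true := by decide +kernel
theorem chk802 : subM 324508650138114749513597297106942 (Nat.lor 307009129745080080815452332030 324201641008369957592789252316158) = true := by decide +kernel
theorem chk804 : band (slp P.ops R l803 324508650138114749513597297106942) (subM 165828980919456057386192726514466816 (insL l803 324508650138114749513597297106942)) = true := by decide +kernel
theorem chk806 : subM 324518553658426726783156020576256 165828980919456057386192726514466816 = true := by decide +kernel
theorem chk808 : band (conjB P.ops R 0 108 l807) (subM 0 (insL l807 0)) = true := by decide +kernel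
theorem chk809 : band (Nat.ble 1 2) (band (subW 0 0) (Nat.beq (powC P.ops (R 108) 2) (evalW P.ops R 0))) = true := by decide +kernel
theorem chk810 : subM 973555660975280180349468061728768 165828980919456057386192726514466816 = true := by decide +kernel
theorem chk812 : band (conjB P.ops R 324518553658426726783156020576256 109 l811) (subM 324518553658426726783156020576256 (insL l811 0)) = true := by decide +kernel
theorem chk813 : band (Nat.ble 1 2) (band (subW 324518553658426726783156020576256 0) (Nat.beq (powC P.ops (R 109) 2) (evalW P.ops R 0))) = true := by decide +kernel
theorem chk814 : subM 2271629875608987087482092144033792 165828980919456057386192726514466816 = true := by decide +kernel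
theorem chk816 : band (conjB P.ops R 973555660975280180349468061728768 110 l815) (subM 973555660975280180349468061728768 (insL l815 0)) = true := by decide +kernel
theorem chk817 : band (Nat.ble 1 2) (band (subW 973555660975280180349468061728768 109) (Nat.beq (powC P.ops (R 110) 2) (evalW P.ops R 109))) = true := by decide +kernel
theorem chk818 : subM 4867778304876400901747340308643840 165828980919456057386192726514466816 = true := by decide +kernel
theorem chk820 : band (conjB P.ops R 2271629875608987087482092144033792 111 l819) (subM 2271629875608987087482092144033792 (insL l819 0)) = true := by decide +kernel
theorem chk821 : band (Nat.ble 1 2) (band (subW 2271629875608987087482092144033792 110) (Nat.beq (powC P.ops (R 111) 2) (evalW P.ops R 110))) = true := by decide +kernel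
theorem chk822 : subM 10060075163411228530277836637863936 165828980919456057386192726514466816 = true := by decide +kernel
theorem chk824 : band (conjB P.ops R 4867778304876400901747340308643840 112 l823) (subM 4867778304876400901747340308643840 (insL l823 0)) = true := by decide +kernel
theorem chk825 : band (Nat.ble 1 2) (band (subW 4867778304876400901747340308643840 110701) (Nat.beq (powC P.ops (R 112) 2) (evalW P.ops R 110701))) = true := by decide +kernel
theorem chk826 : subM 20444668880480883787338829296304128 165828980919456057386192726514466816 = true := by decide +kernel
theorem chk828 : band (conjB P.ops R 10060075163411228530277836637863936 113 l827) (subM 10060075163411228530277836637863936 (insL l827 0)) = true := by decide +kernel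
theorem chk829 : band (Nat.ble 1 2) (band (subW 10060075163411228530277836637863936 109) (Nat.beq (powC P.ops (R 113) 2) (evalW P.ops R 109))) = true := by decide +kernel
theorem chk830 : subM 41213856314620194301460814613184512 165828980919456057386192726514466816 = true := by decide +kernel
theorem chk832 : band (conjB P.ops R 20444668880480883787338829296304128 114 l831) (subM 20444668880480883787338829296304128 (insL l831 0)) = true := by decide +kernel
theorem chk833 : band (Nat.ble 1 2) (band (subW 20444668880480883787338829296304128 113358961) (Nat.beq (powC P.ops (R 114) 2) (evalW P.ops R 113358961))) = true := by decide +kernel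
theorem chk834 : subM 82752231182898815329704785246945280 165828980919456057386192726514466816 = true := by decide +kernel
theorem chk836 : band (conjB P.ops R 41213856314620194301460814613184512 115 l835) (subM 41213856314620194301460814613184512 (insL l835 0)) = true := by decide +kernel
theorem chk837 : band (Nat.ble 1 2) (band (subW 41213856314620194301460814613184512 109) (Nat.beq (powC P.ops (R 115) 2) (evalW P.ops R 109))) = true := by decide +kernel
theorem chk838 : subM 165828980919456057386192726514466816 165828980919456057386192726514466816 = true := by decide +kernel
theorem chk840 : band (conjB P.ops R 82752231182898815329704785246945280 116 l839) (subM 82752231182898815329704785246945280 (insL l839 0)) = true := by decide +kernel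
theorem chk841 : band (Nat.ble 1 2) (band (subW 82752231182898815329704785246945280 117154365553) (Nat.beq (powC P.ops (R 116) 2) (evalW P.ops R 117154365553))) = true := by decide +kernel
theorem chk843 : subM 0 165828980919456057386192726514466816 = true := by decide +kernel
theorem chk844 : band (fixL P.app (fun x => x) R [] pt842c) (subM 0 (insL [] 0)) = true := by decide +kernel
theorem chk850 : band (pieces P.app (fun x => x) tab848 R 165828980919456057386192726514466816 [108, 109, 110, 111, 112, 113, 114, 115, 116] pt842c l849) (allL l849 fun p => subW 165828980919456057386192726514466816 p.2.1) = true := by decide +kernel
theorem chk851 : cover 512 [0] (l849) 0 = true := by decide +kernel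
theorem chk854 : band (slp P.ops R l853 324508650138114749513597297106942) (subM 5150758483666549007502252358586335232 (insL l853 324508650138114749513597297106942)) = true := by decide +kernel
theorem chk856 : subM 166153499473114484112975882535043072 5150758483666549007502252358586335232 = true := by decide +kernel
theorem chk858 : band (conjB P.ops R 0 117 l857) (subM 0 (insL l857 0)) = true := by decide +kernel
theorem chk859 : band (Nat.ble 1 3) (band (subW 0 0) (Nat.beq (powC P.ops (R 117) 3) (evalW P.ops R 0))) = true := by decide +kernel
theorem chk860 : subM 498460498419343452338927647605129216 5150758483666549007502252358586335232 = true := by decide +kernel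
theorem chk862 : band (conjB P.ops R 166153499473114484112975882535043072 118 l861) (subM 166153499473114484112975882535043072 (insL l861 0)) = true := by decide +kernel
theorem chk863 : band (Nat.ble 1 3) (band (subW 166153499473114484112975882535043072 0) (Nat.beq (powC P.ops (R 118) 3) (evalW P.ops R 0))) = true := by decide +kernel
theorem chk864 : subM 1163074496311801388790831177745301504 5150758483666549007502252358586335232 = true := by decide +kernel
theorem chk866 : band (conjB P.ops R 498460498419343452338927647605129216 119 l865) (subM 498460498419343452338927647605129216 (insL l865 0)) = true := by decide +kernel
theorem chk867 : band (Nat.ble 1 3) (band (subW 498460498419343452338927647605129216 0) (Nat.beq (powC P.ops (R 119) 3) (evalW P.ops R 0))) = true := by decide +kernel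
theorem chk868 : subM 2492302492096717261694638238025646080 5150758483666549007502252358586335232 = true := by decide +kernel
theorem chk870 : band (conjB P.ops R 1163074496311801388790831177745301504 120 l869) (subM 1163074496311801388790831177745301504 (insL l869 0)) = true := by decide +kernel
theorem chk871 : band (Nat.ble 1 3) (band (subW 1163074496311801388790831177745301504 0) (Nat.beq (powC P.ops (R 120) 3) (evalW P.ops R 0))) = true := by decide +kernel
theorem chk872 : subM 5150758483666549007502252358586335232 5150758483666549007502252358586335232 = true := by decide +kernel
theorem chk874 : band (conjB P.ops R 2492302492096717261694638238025646080 121 l873) (subM 2492302492096717261694638238025646080 (insL l873 0)) = true := by decide +kernel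
theorem chk875 : band (Nat.ble 1 3) (band (subW 2492302492096717261694638238025646080 0) (Nat.beq (powC P.ops (R 121) 3) (evalW P.ops R 0))) = true := by decide +kernel
theorem chk878 : band (slp P.ops R l877 5150758483666549007502252358586335232) (subM 10467670466806212499117480599707713536 (insL l877 5150758483666549007502252358586335232)) = true := by decide +kernel
theorem chk880 : subM 0 10467670466806212499117480599707713536 = true := by decide +kernel
theorem chk881 : band (fixL P.app (fun x => x) R [] pt876c) (subM 0 (insL [] 0)) = true := by decide +kernel
theorem chk887 : band (pieces P.app (fun x => x) tab885 R 10467670466806212499117480599707713536 [117, 118, 119, 120, 121, 122] pt876c l886) (allL l886 fun p => subW 10467670466806212499117480599707713536 p.2.1) = true := by decide +kernel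
theorem chk888 : cover 243 [0] (l886) 0 = true := by decide +kernel
theorem chk891 : band (slp P.ops R l890 324508650138114749513597297106942) (subM 159507359494189904748456847233641349120 (insL l890 324508650138114749513597297106942)) = true := by decide +kernel
theorem chk893 : subM 10633823966279326983230456482242756608 159507359494189904748456847233641349120 = true := by decide +kernel
theorem chk895 : band (conjB P.ops R 0 123 l894) (subM 0 (insL l894 0)) = true := by decide +kernel
theorem chk896 : band (Nat.ble 1 19) (band (subW 0 0) (Nat.beq (powC P.ops (R 123) 19) (evalW P.ops R 0))) = true := by decide +kernel
theorem chk897 : subM 31901471898837980949691369446728269824 159507359494189904748456847233641349120 = true := by decide +kernel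
theorem chk899 : band (conjB P.ops R 10633823966279326983230456482242756608 124 l898) (subM 10633823966279326983230456482242756608 (insL l898 0)) = true := by decide +kernel
theorem chk900 : band (Nat.ble 1 2) (band (subW 10633823966279326983230456482242756608 0) (Nat.beq (powC P.ops (R 124) 2) (evalW P.ops R 0))) = true := by decide +kernel
theorem chk901 : subM 74436767763955288882613195375699296256 159507359494189904748456847233641349120 = true := by decide +kernel
theorem chk903 : band (conjB P.ops R 31901471898837980949691369446728269824 125 l902) (subM 31901471898837980949691369446728269824 (insL l902 0)) = true := by decide +kernel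
theorem chk904 : band (Nat.ble 1 3) (band (subW 31901471898837980949691369446728269824 181401926099796088014577596905327503832660835429499) (Nat.beq (powC P.ops (R 125) 3) (evalW P.ops R 181401926099796088014577596905327503832660835429499))) = true := by decide +kernel
theorem chk907 : band (slp P.ops R l906 159507359494189904748456847233641349120) (subM 89202970160298526286815889860136963781165056 (insL l906 159507359494189904748456847233641349120)) = true := by decide +kernel
theorem chk909 : subM 89202895723530762331527007246941588081868800 89202970160298526286815889860136963781165056 = true := by decide +kernel
theorem chk923 : band (slp P.ops R l922 74436767763955288882613195375699296256) (subM 267608942382367477698428619271780338071764992 (insL l922 74436767763955288882613195375699296256)) = true := by decide +kernel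
theorem chk928 : band (slp P.ops R l927 267608942382367477698428619271780338071764992) (subM 624420865558857447963000111634154122167451648 (insL l927 267608942382367477698428619271780338071764992)) = true := by decide +kernel
theorem chk930 : subM 356811923176489970264571492362373784095686656 624420865558857447963000111634154122167451648 = true := by decide +kernel
theorem chk931 : band (fixL P.app (keyL P.app (fun x => x) A1s 5) R [148] pt925c) (subM 356811923176489970264571492362373784095686656 (insL [148] 0)) = true := by decide +kernel
theorem chk937 : band (pieces P.app (keyL P.app (fun x => x) A1s 5) tab935 R 624420865558857447963000111634154122167451648 [146, 147, 148] pt925c l936) (allL l936 fun p => subW 624420865558857447963000111634154122167451648 p.2.1) = true := by decide +kernel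
theorem chk938 : cover 2 [0] (l936) 0 = true := by decide +kernel
theorem chk940 : subM 0 356811923176489970264571492362373784095686656 = true := by decide +kernel
theorem chk941 : band (fixL P.app (keyL P.app (fun x => x) A1s 5) R [] pt926c) (subM 0 (insL [] 0)) = true := by decide +kernel
theorem chk947 : band (pieces P.app (keyL P.app (fun x => x) A1s 5) tab945 R 356811923176489970264571492362373784095686656 [148] pt926c l946) (allL l946 fun p => subW 356811923176489970264571492362373784095686656 p.2.1) = true := by decide +kernel
theorem chk948 : cover 3 [0] (l946) 0 = true := by decide +kernel
theorem chk951 : band (conjB P.ops R 74436767763955288882613195375699296256 126 l950) (subM 267608942382367477698428619271780338071764992 (insL l950 0)) = true := by decide +kernel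
theorem chk952 : band (fixL P.app (keyL P.app (fun x => x) A1s 5) R [146, 147] pt905c) (subM 267608942382367477698428619271780338071764992 (insL [146, 147] 0)) = true := by decide +kernel
theorem chk959 : band (slp P.ops R l958 74436767763955288882613195375699296256) (subM 713623846352979940529142984724747568191373312 (insL l958 74436767763955288882613195375699296256)) = true := by decide +kernel
theorem chk962 : subM 0 713623846352979940529142984724747568191373312 = true := by decide +kernel
theorem chk963 : band (fixL P.app (keyL P.app (fun x => x) A1s 5) R [] pt961c) (subM 0 (insL [] 0)) = true := by decide +kernel
theorem chk969 : band (pieces P.app (keyL P.app (fun x => x) A1s 5) tab967 R 713623846352979940529142984724747568191373312 [149] pt961c l968) (allL l968 fun p => subW 713623846352979940529142984724747568191373312 p.2.1) = true := by decide +kernel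
theorem chk970 : cover 6 [0] (l968) 0 = true := by decide +kernel
theorem chk973 : band (conjA P.ops R 74436767763955288882613195375699296256 126 l972) (subM 713623846352979940529142984724747568191373312 (insL l972 0)) = true := by decide +kernel
theorem chk975 : dcRel P.ops R 74436767763955288882613195375699296256 89202895723530762331527007246941588081868800 126 126 l974 = true := by decide +kernel
theorem chk980 : band (pieces P.app (keyL P.app (fun x => x) A1s 5) tab978 R 713623846352979940529142984724747568191373312 [149] pt905c l979) (allL l979 fun p => subW 74436767763955288882613195375699296256 p.2.1) = true := by decide +kernel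
theorem chk981 : cover 19 (List.map Prod.fst (l974)) (l979) 0 = true := by decide +kernel
theorem chk983 : allL (List.map Prod.fst (l974)) (subW 74436767763955288882613195375699296256) = true := by decide +kernel
theorem chk985 : band (slp P.ops R l984 74436767763955288882613195375699296256) (subM 0 (insL l984 74436767763955288882613195375699296256)) = true := by decide +kernel
theorem chk988 : band (conjA P.ops R 74436767763955288882613195375699296256 127 l987) (subM 0 (insL l987 0)) = true := by decide +kernel
theorem chk990 : dcRel P.ops R 74436767763955288882613195375699296256 89202895723530762331527007246941588081868800 127 126 l989 = true := by decide +kernel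
theorem chk995 : band (pieces P.app (keyL P.app (fun x => x) A1s 5) tab993 R 0 [] pt905c l994) (allL l994 fun p => subW 74436767763955288882613195375699296256 p.2.1) = true := by decide +kernel
theorem chk996 : cover 19 (List.map Prod.fst (l989)) (l994) 0 = true := by decide +kernel
theorem chk998 : allL (List.map Prod.fst (l989)) (subW 74436767763955288882613195375699296256) = true := by decide +kernel
theorem chk1000 : band (slp P.ops R l999 74436767763955288882613195375699296256) (subM 1427247692705959881058285969449495136382746624 (insL l999 74436767763955288882613195375699296256)) = true := by decide +kernel
theorem chk1003 : subM 0 1427247692705959881058285969449495136382746624 = true := by decide +kernel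
theorem chk1004 : band (fixL P.app (keyL P.app (fun x => x) A1s 5) R [] pt1002c) (subM 0 (insL [] 0)) = true := by decide +kernel
theorem chk1010 : band (pieces P.app (keyL P.app (fun x => x) A1s 5) tab1008 R 1427247692705959881058285969449495136382746624 [150] pt1002c l1009) (allL l1009 fun p => subW 1427247692705959881058285969449495136382746624 p.2.1) = true := by decide +kernel
theorem chk1011 : cover 3 [0] (l1009) 0 = true := by decide +kernel
theorem chk1014 : band (conjA P.ops R 74436767763955288882613195375699296256 128 l1013) (subM 1427247692705959881058285969449495136382746624 (insL l1013 0)) = true := by decide +kernel
theorem chk1016 : dcRel P.ops R 74436767763955288882613195375699296256 89202895723530762331527007246941588081868800 128 126 l1015 = true := by decide +kernel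
theorem chk1021 : band (pieces P.app (keyL P.app (fun x => x) A1s 5) tab1019 R 1427247692705959881058285969449495136382746624 [150] pt905c l1020) (allL l1020 fun p => subW 74436767763955288882613195375699296256 p.2.1) = true := by decide +kernel
theorem chk1022 : cover 19 (List.map Prod.fst (l1015)) (l1020) 0 = true := by decide +kernel
theorem chk1024 : allL (List.map Prod.fst (l1015)) (subW 74436767763955288882613195375699296256) = true := by decide +kernel
theorem chk1026 : band (slp P.ops R l1025 74436767763955288882613195375699296256) (subM 2854495385411919762116571938898990272765493248 (insL l1025 74436767763955288882613195375699296256)) = true := by decide +kernel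
theorem chk1029 : subM 0 2854495385411919762116571938898990272765493248 = true := by decide +kernel
theorem chk1030 : band (fixL P.app (keyL P.app (fun x => x) A1s 5) R [] pt1028c) (subM 0 (insL [] 0)) = true := by decide +kernel
theorem chk1036 : band (pieces P.app (keyL P.app (fun x => x) A1s 5) tab1034 R 2854495385411919762116571938898990272765493248 [151] pt1028c l1035) (allL l1035 fun p => subW 2854495385411919762116571938898990272765493248 p.2.1) = true := by decide +kernel
theorem chk1037 : cover 2 [0] (l1035) 0 = true := by decide +kernel
theorem chk1040 : band (conjA P.ops R 74436767763955288882613195375699296256 129 l1039) (subM 2854495385411919762116571938898990272765493248 (insL l1039 0)) = true := by decide +kernel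
theorem chk1042 : dcRel P.ops R 74436767763955288882613195375699296256 89202895723530762331527007246941588081868800 129 126 l1041 = true := by decide +kernel
theorem chk1047 : band (pieces P.app (keyL P.app (fun x => x) A1s 5) tab1045 R 2854495385411919762116571938898990272765493248 [151] pt905c l1046) (allL l1046 fun p => subW 74436767763955288882613195375699296256 p.2.1) = true := by decide +kernel
theorem chk1048 : cover 19 (List.map Prod.fst (l1041)) (l1046) 0 = true := by decide +kernel
theorem chk1050 : allL (List.map Prod.fst (l1041)) (subW 74436767763955288882613195375699296256) = true := by decide +kernel
theorem chk1052 : band (slp P.ops R l1051 74436767763955288882613195375699296256) (subM 0 (insL l1051 74436767763955288882613195375699296256)) = true := by decide +kernel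
theorem chk1055 : band (conjA P.ops R 74436767763955288882613195375699296256 130 l1054) (subM 0 (insL l1054 0)) = true := by decide +kernel
theorem chk1057 : dcRel P.ops R 74436767763955288882613195375699296256 89202895723530762331527007246941588081868800 130 126 l1056 = true := by decide +kernel
theorem chk1062 : band (pieces P.app (keyL P.app (fun x => x) A1s 5) tab1060 R 0 [] pt905c l1061) (allL l1061 fun p => subW 74436767763955288882613195375699296256 p.2.1) = true := by decide +kernel
theorem chk1063 : cover 19 (List.map Prod.fst (l1056)) (l1061) 0 = true := by decide +kernel
theorem chk1065 : allL (List.map Prod.fst (l1056)) (subW 74436767763955288882613195375699296256) = true := by decide +kernel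
theorem chk1067 : band (slp P.ops R l1066 74436767763955288882613195375699296256) (subM 0 (insL l1066 74436767763955288882613195375699296256)) = true := by decide +kernel
theorem chk1070 : band (conjA P.ops R 74436767763955288882613195375699296256 131 l1069) (subM 0 (insL l1069 0)) = true := by decide +kernel
theorem chk1072 : dcRel P.ops R 74436767763955288882613195375699296256 89202895723530762331527007246941588081868800 131 126 l1071 = true := by decide +kernel
theorem chk1077 : band (pieces P.app (keyL P.app (fun x => x) A1s 5) tab1075 R 0 [] pt905c l1076) (allL l1076 fun p => subW 74436767763955288882613195375699296256 p.2.1) = true := by decide +kernel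
theorem chk1078 : cover 19 (List.map Prod.fst (l1071)) (l1076) 0 = true := by decide +kernel
theorem chk1080 : allL (List.map Prod.fst (l1071)) (subW 74436767763955288882613195375699296256) = true := by decide +kernel
theorem chk1082 : band (slp P.ops R l1081 74436767763955288882613195375699296256) (subM 0 (insL l1081 74436767763955288882613195375699296256)) = true := by decide +kernel
theorem chk1085 : band (conjA P.ops R 74436767763955288882613195375699296256 132 l1084) (subM 0 (insL l1084 0)) = true := by decide +kernel
theorem chk1087 : dcRel P.ops R 74436767763955288882613195375699296256 89202895723530762331527007246941588081868800 132 126 l1086 = true := by decide +kernel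
theorem chk1092 : band (pieces P.app (keyL P.app (fun x => x) A1s 5) tab1090 R 0 [] pt905c l1091) (allL l1091 fun p => subW 74436767763955288882613195375699296256 p.2.1) = true := by decide +kernel
theorem chk1093 : cover 19 (List.map Prod.fst (l1086)) (l1091) 0 = true := by decide +kernel
theorem chk1095 : allL (List.map Prod.fst (l1086)) (subW 74436767763955288882613195375699296256) = true := by decide +kernel
theorem chk1097 : band (slp P.ops R l1096 74436767763955288882613195375699296256) (subM 0 (insL l1096 74436767763955288882613195375699296256)) = true := by decide +kernel
theorem chk1100 : band (conjA P.ops R 74436767763955288882613195375699296256 133 l1099) (subM 0 (insL l1099 0)) = true := by decide +kernel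
theorem chk1102 : dcRel P.ops R 74436767763955288882613195375699296256 89202895723530762331527007246941588081868800 133 126 l1101 = true := by decide +kernel
theorem chk1107 : band (pieces P.app (keyL P.app (fun x => x) A1s 5) tab1105 R 0 [] pt905c l1106) (allL l1106 fun p => subW 74436767763955288882613195375699296256 p.2.1) = true := by decide +kernel
theorem chk1108 : cover 19 (List.map Prod.fst (l1101)) (l1106) 0 = true := by decide +kernel
theorem chk1110 : allL (List.map Prod.fst (l1101)) (subW 74436767763955288882613195375699296256) = true := by decide +kernel
theorem chk1112 : band (slp P.ops R l1111 74436767763955288882613195375699296256) (subM 5708990770823839524233143877797980545530986496 (insL l1111 74436767763955288882613195375699296256)) = true := by decide +kernel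
theorem chk1115 : subM 0 5708990770823839524233143877797980545530986496 = true := by decide +kernel
theorem chk1116 : band (fixL P.app (keyL P.app (fun x => x) A1s 5) R [] pt1114c) (subM 0 (insL [] 0)) = true := by decide +kernel
theorem chk1122 : band (pieces P.app (keyL P.app (fun x => x) A1s 5) tab1120 R 5708990770823839524233143877797980545530986496 [152] pt1114c l1121) (allL l1121 fun p => subW 5708990770823839524233143877797980545530986496 p.2.1) = true := by decide +kernel
theorem chk1123 : cover 2 [0] (l1121) 0 = true := by decide +kernel
theorem chk1126 : band (conjA P.ops R 74436767763955288882613195375699296256 134 l1125) (subM 5708990770823839524233143877797980545530986496 (insL l1125 0)) = true := by decide +kernel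
theorem chk1128 : dcRel P.ops R 74436767763955288882613195375699296256 89202895723530762331527007246941588081868800 134 126 l1127 = true := by decide +kernel
theorem chk1133 : band (pieces P.app (keyL P.app (fun x => x) A1s 5) tab1131 R 5708990770823839524233143877797980545530986496 [152] pt905c l1132) (allL l1132 fun p => subW 74436767763955288882613195375699296256 p.2.1) = true := by decide +kernel
theorem chk1134 : cover 19 (List.map Prod.fst (l1127)) (l1132) 0 = true := by decide +kernel
theorem chk1136 : allL (List.map Prod.fst (l1127)) (subW 74436767763955288882613195375699296256) = true := by decide +kernel
theorem chk1138 : band (slp P.ops R l1137 74436767763955288882613195375699296256) (subM 11417981541647679048466287755595961091061972992 (insL l1137 74436767763955288882613195375699296256)) = true := by decide +kernel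
theorem chk1141 : subM 0 11417981541647679048466287755595961091061972992 = true := by decide +kernel
theorem chk1142 : band (fixL P.app (keyL P.app (fun x => x) A1s 5) R [] pt1140c) (subM 0 (insL [] 0)) = true := by decide +kernel
theorem chk1148 : band (pieces P.app (keyL P.app (fun x => x) A1s 5) tab1146 R 11417981541647679048466287755595961091061972992 [153] pt1140c l1147) (allL l1147 fun p => subW 11417981541647679048466287755595961091061972992 p.2.1) = true := by decide +kernel
theorem chk1149 : cover 2 [0] (l1147) 0 = true := by decide +kernel
theorem chk1152 : band (conjA P.ops R 74436767763955288882613195375699296256 135 l1151) (subM 11417981541647679048466287755595961091061972992 (insL l1151 0)) = true := by decide +kernel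
theorem chk1154 : dcRel P.ops R 74436767763955288882613195375699296256 89202895723530762331527007246941588081868800 135 126 l1153 = true := by decide +kernel
theorem chk1159 : band (pieces P.app (keyL P.app (fun x => x) A1s 5) tab1157 R 11417981541647679048466287755595961091061972992 [153] pt905c l1158) (allL l1158 fun p => subW 74436767763955288882613195375699296256 p.2.1) = true := by decide +kernel
theorem chk1160 : cover 19 (List.map Prod.fst (l1153)) (l1158) 0 = true := by decide +kernel
theorem chk1162 : allL (List.map Prod.fst (l1153)) (subW 74436767763955288882613195375699296256) = true := by decide +kernel
theorem chk1164 : band (slp P.ops R l1163 74436767763955288882613195375699296256) (subM 0 (insL l1163 74436767763955288882613195375699296256)) = true := by decide +kernel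
theorem chk1167 : band (conjA P.ops R 74436767763955288882613195375699296256 136 l1166) (subM 0 (insL l1166 0)) = true := by decide +kernel
theorem chk1169 : dcRel P.ops R 74436767763955288882613195375699296256 89202895723530762331527007246941588081868800 136 126 l1168 = true := by decide +kernel
theorem chk1174 : band (pieces P.app (keyL P.app (fun x => x) A1s 5) tab1172 R 0 [] pt905c l1173) (allL l1173 fun p => subW 74436767763955288882613195375699296256 p.2.1) = true := by decide +kernel
theorem chk1175 : cover 19 (List.map Prod.fst (l1168)) (l1173) 0 = true := by decide +kernel
theorem chk1177 : allL (List.map Prod.fst (l1168)) (subW 74436767763955288882613195375699296256) = true := by decide +kernel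
theorem chk1179 : band (slp P.ops R l1178 74436767763955288882613195375699296256) (subM 22835963083295358096932575511191922182123945984 (insL l1178 74436767763955288882613195375699296256)) = true := by decide +kernel
theorem chk1182 : subM 0 22835963083295358096932575511191922182123945984 = true := by decide +kernel
theorem chk1183 : band (fixL P.app (keyL P.app (fun x => x) A1s 5) R [] pt1181c) (subM 0 (insL [] 0)) = true := by decide +kernel
theorem chk1189 : band (pieces P.app (keyL P.app (fun x => x) A1s 5) tab1187 R 22835963083295358096932575511191922182123945984 [154] pt1181c l1188) (allL l1188 fun p => subW 22835963083295358096932575511191922182123945984 p.2.1) = true := by decide +kernel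
theorem chk1190 : cover 3 [0] (l1188) 0 = true := by decide +kernel
theorem chk1193 : band (conjA P.ops R 74436767763955288882613195375699296256 137 l1192) (subM 22835963083295358096932575511191922182123945984 (insL l1192 0)) = true := by decide +kernel
theorem chk1195 : dcRel P.ops R 74436767763955288882613195375699296256 89202895723530762331527007246941588081868800 137 126 l1194 = true := by decide +kernel
theorem chk1200 : band (pieces P.app (keyL P.app (fun x => x) A1s 5) tab1198 R 22835963083295358096932575511191922182123945984 [154] pt905c l1199) (allL l1199 fun p => subW 74436767763955288882613195375699296256 p.2.1) = true := by decide +kernel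
theorem chk1201 : cover 19 (List.map Prod.fst (l1194)) (l1199) 0 = true := by decide +kernel
theorem chk1203 : allL (List.map Prod.fst (l1194)) (subW 74436767763955288882613195375699296256) = true := by decide +kernel
theorem chk1205 : band (slp P.ops R l1204 74436767763955288882613195375699296256) (subM 0 (insL l1204 74436767763955288882613195375699296256)) = true := by decide +kernel
theorem chk1208 : band (conjA P.ops R 74436767763955288882613195375699296256 138 l1207) (subM 0 (insL l1207 0)) = true := by decide +kernel
theorem chk1210 : dcRel P.ops R 74436767763955288882613195375699296256 89202895723530762331527007246941588081868800 138 126 l1209 = true := by decide +kernel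
theorem chk1215 : band (pieces P.app (keyL P.app (fun x => x) A1s 5) tab1213 R 0 [] pt905c l1214) (allL l1214 fun p => subW 74436767763955288882613195375699296256 p.2.1) = true := by decide +kernel
theorem chk1216 : cover 19 (List.map Prod.fst (l1209)) (l1214) 0 = true := by decide +kernel
theorem chk1218 : allL (List.map Prod.fst (l1209)) (subW 74436767763955288882613195375699296256) = true := by decide +kernel
theorem chk1220 : band (slp P.ops R l1219 74436767763955288882613195375699296256) (subM 45671926166590716193865151022383844364247891968 (insL l1219 74436767763955288882613195375699296256)) = true := by decide +kernel
theorem chk1223 : subM 0 45671926166590716193865151022383844364247891968 = true := by decide +kernel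
theorem chk1224 : band (fixL P.app (keyL P.app (fun x => x) A1s 5) R [] pt1222c) (subM 0 (insL [] 0)) = true := by decide +kernel
theorem chk1230 : band (pieces P.app (keyL P.app (fun x => x) A1s 5) tab1228 R 45671926166590716193865151022383844364247891968 [155] pt1222c l1229) (allL l1229 fun p => subW 45671926166590716193865151022383844364247891968 p.2.1) = true := by decide +kernel
theorem chk1231 : cover 2 [0] (l1229) 0 = true := by decide +kernel
theorem chk1234 : band (conjA P.ops R 74436767763955288882613195375699296256 139 l1233) (subM 45671926166590716193865151022383844364247891968 (insL l1233 0)) = true := by decide +kernel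
theorem chk1236 : dcRel P.ops R 74436767763955288882613195375699296256 89202895723530762331527007246941588081868800 139 126 l1235 = true := by decide +kernel
theorem chk1241 : band (pieces P.app (keyL P.app (fun x => x) A1s 5) tab1239 R 45671926166590716193865151022383844364247891968 [155] pt905c l1240) (allL l1240 fun p => subW 74436767763955288882613195375699296256 p.2.1) = true := by decide +kernel
theorem chk1242 : cover 19 (List.map Prod.fst (l1235)) (l1240) 0 = true := by decide +kernel
theorem chk1244 : allL (List.map Prod.fst (l1235)) (subW 74436767763955288882613195375699296256) = true := by decide +kernel
theorem chk1246 : band (slp P.ops R l1245 74436767763955288882613195375699296256) (subM 91343852333181432387730302044767688728495783936 (insL l1245 74436767763955288882613195375699296256)) = true := by decide +kernel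
theorem chk1249 : subM 0 91343852333181432387730302044767688728495783936 = true := by decide +kernel
theorem chk1250 : band (fixL P.app (keyL P.app (fun x => x) A1s 5) R [] pt1248c) (subM 0 (insL [] 0)) = true := by decide +kernel
theorem chk1256 : band (pieces P.app (keyL P.app (fun x => x) A1s 5) tab1254 R 91343852333181432387730302044767688728495783936 [156] pt1248c l1255) (allL l1255 fun p => subW 91343852333181432387730302044767688728495783936 p.2.1) = true := by decide +kernel
theorem chk1257 : cover 3 [0] (l1255) 0 = true := by decide +kernel
theorem chk1260 : band (conjA P.ops R 74436767763955288882613195375699296256 140 l1259) (subM 91343852333181432387730302044767688728495783936 (insL l1259 0)) = true := by decide +kernel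
theorem chk1262 : dcRel P.ops R 74436767763955288882613195375699296256 89202895723530762331527007246941588081868800 140 126 l1261 = true := by decide +kernel
theorem chk1267 : band (pieces P.app (keyL P.app (fun x => x) A1s 5) tab1265 R 91343852333181432387730302044767688728495783936 [156] pt905c l1266) (allL l1266 fun p => subW 74436767763955288882613195375699296256 p.2.1) = true := by decide +kernel
theorem chk1268 : cover 19 (List.map Prod.fst (l1261)) (l1266) 0 = true := by decide +kernel
theorem chk1270 : allL (List.map Prod.fst (l1261)) (subW 74436767763955288882613195375699296256) = true := by decide +kernel
theorem chk1272 : band (slp P.ops R l1271 74436767763955288882613195375699296256) (subM 0 (insL l1271 74436767763955288882613195375699296256)) = true := by decide +kernel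
theorem chk1275 : band (conjA P.ops R 74436767763955288882613195375699296256 141 l1274) (subM 0 (insL l1274 0)) = true := by decide +kernel
theorem chk1277 : dcRel P.ops R 74436767763955288882613195375699296256 89202895723530762331527007246941588081868800 141 126 l1276 = true := by decide +kernel
theorem chk1282 : band (pieces P.app (keyL P.app (fun x => x) A1s 5) tab1280 R 0 [] pt905c l1281) (allL l1281 fun p => subW 74436767763955288882613195375699296256 p.2.1) = true := by decide +kernel
theorem chk1283 : cover 19 (List.map Prod.fst (l1276)) (l1281) 0 = true := by decide +kernel
theorem chk1285 : allL (List.map Prod.fst (l1276)) (subW 74436767763955288882613195375699296256) = true := by decide +kernel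
theorem chk1287 : band (slp P.ops R l1286 74436767763955288882613195375699296256) (subM 0 (insL l1286 74436767763955288882613195375699296256)) = true := by decide +kernel
theorem chk1290 : band (conjA P.ops R 74436767763955288882613195375699296256 142 l1289) (subM 0 (insL l1289 0)) = true := by decide +kernel
theorem chk1292 : dcRel P.ops R 74436767763955288882613195375699296256 89202895723530762331527007246941588081868800 142 126 l1291 = true := by decide +kernel
theorem chk1297 : band (pieces P.app (keyL P.app (fun x => x) A1s 5) tab1295 R 0 [] pt905c l1296) (allL l1296 fun p => subW 74436767763955288882613195375699296256 p.2.1) = true := by decide +kernel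
theorem chk1298 : cover 19 (List.map Prod.fst (l1291)) (l1296) 0 = true := by decide +kernel
theorem chk1300 : allL (List.map Prod.fst (l1291)) (subW 74436767763955288882613195375699296256) = true := by decide +kernel
theorem chk1302 : band (slp P.ops R l1301 74436767763955288882613195375699296256) (subM 182687704666362864775460604089535377456991567872 (insL l1301 74436767763955288882613195375699296256)) = true := by decide +kernel
theorem chk1305 : subM 0 182687704666362864775460604089535377456991567872 = true := by decide +kernel
theorem chk1306 : band (fixL P.app (keyL P.app (fun x => x) A1s 5) R [] pt1304c) (subM 0 (insL [] 0)) = true := by decide +kernel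
theorem chk1312 : band (pieces P.app (keyL P.app (fun x => x) A1s 5) tab1310 R 182687704666362864775460604089535377456991567872 [157] pt1304c l1311) (allL l1311 fun p => subW 182687704666362864775460604089535377456991567872 p.2.1) = true := by decide +kernel
theorem chk1313 : cover 2 [0] (l1311) 0 = true := by decide +kernel
theorem chk1316 : band (conjA P.ops R 74436767763955288882613195375699296256 143 l1315) (subM 182687704666362864775460604089535377456991567872 (insL l1315 0)) = true := by decide +kernel
theorem chk1318 : dcRel P.ops R 74436767763955288882613195375699296256 89202895723530762331527007246941588081868800 143 126 l1317 = true := by decide +kernel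
theorem chk1323 : band (pieces P.app (keyL P.app (fun x => x) A1s 5) tab1321 R 182687704666362864775460604089535377456991567872 [157] pt905c l1322) (allL l1322 fun p => subW 74436767763955288882613195375699296256 p.2.1) = true := by decide +kernel
theorem chk1324 : cover 19 (List.map Prod.fst (l1317)) (l1322) 0 = true := by decide +kernel
theorem chk1326 : allL (List.map Prod.fst (l1317)) (subW 74436767763955288882613195375699296256) = true := by decide +kernel
theorem chk1328 : band (slp P.ops R l1327 74436767763955288882613195375699296256) (subM 365375409332725729550921208179070754913983135744 (insL l1327 74436767763955288882613195375699296256)) = true := by decide +kernel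
theorem chk1331 : subM 0 365375409332725729550921208179070754913983135744 = true := by decide +kernel
theorem chk1332 : band (fixL P.app (keyL P.app (fun x => x) A1s 5) R [] pt1330c) (subM 0 (insL [] 0)) = true := by decide +kernel
theorem chk1338 : band (pieces P.app (keyL P.app (fun x => x) A1s 5) tab1336 R 365375409332725729550921208179070754913983135744 [158] pt1330c l1337) (allL l1337 fun p => subW 365375409332725729550921208179070754913983135744 p.2.1) = true := by decide +kernel
theorem chk1339 : cover 2 [0] (l1337) 0 = true := by decide +kernel
theorem chk1342 : band (conjA P.ops R 74436767763955288882613195375699296256 144 l1341) (subM 365375409332725729550921208179070754913983135744 (insL l1341 0)) = true := by decide +kernel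
theorem chk1344 : dcRel P.ops R 74436767763955288882613195375699296256 89202895723530762331527007246941588081868800 144 126 l1343 = true := by decide +kernel
theorem chk1349 : band (pieces P.app (keyL P.app (fun x => x) A1s 5) tab1347 R 365375409332725729550921208179070754913983135744 [158] pt905c l1348) (allL l1348 fun p => subW 74436767763955288882613195375699296256 p.2.1) = true := by decide +kernel
theorem chk1350 : cover 19 (List.map Prod.fst (l1343)) (l1348) 0 = true := by decide +kernel
theorem chk1352 : allL (List.map Prod.fst (l1343)) (subW 74436767763955288882613195375699296256) = true := by decide +kernel
theorem chk1354 : band (slp P.ops R l1353 74436767763955288882613195375699296256) (subM 730750818665451459101842416358141509827966271488 (insL l1353 74436767763955288882613195375699296256)) = true := by decide +kernel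
theorem chk1357 : subM 0 730750818665451459101842416358141509827966271488 = true := by decide +kernel
theorem chk1358 : band (fixL P.app (keyL P.app (fun x => x) A1s 5) R [] pt1356c) (subM 0 (insL [] 0)) = true := by decide +kernel
theorem chk1364 : band (pieces P.app (keyL P.app (fun x => x) A1s 5) tab1362 R 730750818665451459101842416358141509827966271488 [159] pt1356c l1363) (allL l1363 fun p => subW 730750818665451459101842416358141509827966271488 p.2.1) = true := by decide +kernel
theorem chk1365 : cover 3 [0] (l1363) 0 = true := by decide +kernel
theorem chk1368 : band (conjA P.ops R 74436767763955288882613195375699296256 145 l1367) (subM 730750818665451459101842416358141509827966271488 (insL l1367 0)) = true := by decide +kernel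
theorem chk1370 : dcRel P.ops R 74436767763955288882613195375699296256 89202895723530762331527007246941588081868800 145 126 l1369 = true := by decide +kernel
theorem chk1375 : band (pieces P.app (keyL P.app (fun x => x) A1s 5) tab1373 R 730750818665451459101842416358141509827966271488 [159] pt905c l1374) (allL l1374 fun p => subW 74436767763955288882613195375699296256 p.2.1) = true := by decide +kernel
theorem chk1376 : cover 19 (List.map Prod.fst (l1369)) (l1374) 0 = true := by decide +kernel
theorem chk1378 : allL (List.map Prod.fst (l1369)) (subW 74436767763955288882613195375699296256) = true := by decide +kernel
theorem chk1379 : inDC P.ops R 74436767763955288882613195375699296256 89202895723530762331527007246941588081868800 (R 126) 0 126 = true := by decide +kernel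
theorem chk1381 : band (maxChk P.ops R 74436767763955288882613195375699296256 159507359494189904748456847233641349120 l1380) (subM 89202895723530762331527007246941588081868800 (insL (l1380.map Prod.fst) 0)) = true := by decide +kernel
theorem chk1382 : allL l1380 (fun p => Nat.blt p.1 1024) = true := by decide +kernel
theorem chk1385 : band (slp P.ops R l1384 89202970160298526286815889860136963781165056) (subM 21922613762933704071581559306634105431802769309696 (insL l1384 89202970160298526286815889860136963781165056)) = true := by decide +kernel
theorem chk1388 : subW 21922613762933704071581559306634105431802769309696 138710432776352 = true := by decide +kernel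
theorem chk1390 : subW 21922613762933704071581559306634105431802769309696 183701080362877091 = true := by decide +kernel
theorem chk1392 : band (slp P.ops R l1391 74436767763955288882613195375699296256) (subM 23384026197368883459022912612343141509870619983872 (insL l1391 74436767763955288882613195375699296256)) = true := by decide +kernel
theorem chk1394 : subM 23384026197294446691258957323460528314494920687616 23384026197368883459022912612343141509870619983872 = true := by decide +kernel
theorem chk1395 : band (fixL P.app (keyL P.app (fun x => x) A1s 5) R [164] pt1387c) (subM 23384026197294446691258957323460528314494920687616 (insL [164] 0)) = true := by decide +kernel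
theorem chk1401 : band (pieces P.app (keyL P.app (fun x => x) A1s 5) tab1399 R 23384026197368883459022912612343141509870619983872 [123, 124, 125, 164] pt1387c l1400) (allL l1400 fun p => subW 23384026197368883459022912612343141509870619983872 p.2.1) = true := by decide +kernel
theorem chk1402 : cover 19 [0] (l1400) 0 = true := by decide +kernel
theorem chk1404 : subM 0 23384026197294446691258957323460528314494920687616 = true := by decide +kernel
theorem chk1405 : band (fixL P.app (keyL P.app (fun x => x) A1s 5) R [] pt1389c) (subM 0 (insL [] 0)) = true := by decide +kernel
theorem chk1411 : band (pieces P.app (keyL P.app (fun x => x) A1s 5) tab1409 R 23384026197294446691258957323460528314494920687616 [164] pt1389c l1410) (allL l1410 fun p => subW 23384026197294446691258957323460528314494920687616 p.2.1) = true := by decide +kernel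
theorem chk1412 : cover 6 [0] (l1410) 0 = true := by decide +kernel
theorem chk1418 : band (pieces P.app (keyL P.app (fun x => x) A1s 5) tab1416 R 21922613762933704071581559306634105431802769309696 [160, 161, 126, 162, 163] pt1383c l1417) (allL l1417 fun p => subW 21922613762933704071581559306634105431802769309696 p.2.1) = true := by decide +kernel
theorem chk1419 : cover 1540 [0] (l1417) 0 = true := by decide +kernel
theorem chk1421 : band (fixL P.app (keyL P.app (fun x => x) A1s 5) R [123, 124, 125] pt1383c) (subM 74436767763955288882613195375699296256 (insL [123, 124, 125] 0)) = true := by decide +kernel
theorem chk1423 : subM 74436767763955288882613195375699296256 21922613762933704071581559306634105431802769309696 = true := by decide +kernel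
theorem chk1424 : subM 74436767763955288882613195375699296256 21922613762933704071581559306634105431802769309696 = true := by decide +kernel
theorem chk1425 : subM 45306639960228150762840516630094633746297689997312 (Nat.lor 21922613762933704071581559306634105431802769309696 23384026197368883459022912612343141509870619983872) = true := by decide +kernel
theorem chk1427 : band (slp P.ops R l1426 45306639960228150762840516630094633746297689997312) (subM 92074692354817044145358431277015690375287531372544 (insL l1426 45306639960228150762840516630094633746297689997312)) = true := by decide +kernel
theorem chk1430 : band (slp P.ops R l1429 92074692354817044145358431277015690375287531372544) (subM 372683006722350404440465919158542030149226579623936 (insL l1429 92074692354817044145358431277015690375287531372544)) = true := by decide +kernel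
theorem chk1432 : subM 280608314367533360295107487881526339773939048251392 372683006722350404440465919158542030149226579623936 = true := by decide +kernel
theorem chk1434 : band (nconj P.ops R 372683006722350404440465919158542030149226579623936 (ins 0 165) l1433) (subM 280608314367533360295107487881526339773939048251392 (insL l1433 (ins 0 165))) = true := by decide +kernel
theorem chk1436 : band (ncop P.ops R 372683006722350404440465919158542030149226579623936 327376366762122253677625402528447396402928889626624 l1435) (subM 159507359494189904748456847233641349120 (insL (l1435.map Prod.fst) 327376366762122253677625402528447396402928889626624)) = true := by decide +kernel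
theorem chk1437 : band (Nat.beq (powC P.ops (R 165) 11) P.ops.one) (bnot (Nat.beq (R 165) P.ops.one)) = true := by decide +kernel
theorem chk1438 : subM 74436767763955288882613195375699296256 372683006722350404440465919158542030149226579623936 = true := by decide +kernel
theorem chk1440 : band (slp P.ops R l1439 324508650138114749513597297106942) (subM 47516341232902315676638201281271793535053678837235712 (insL l1439 324508650138114749513597297106942)) = true := by decide +kernel
theorem chk1442 : subM 374144419156711147060143317175368453031918731001856 47516341232902315676638201281271793535053678837235712 = true := by decide +kernel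
theorem chk1444 : band (conjB P.ops R 0 168 l1443) (subM 0 (insL l1443 0)) = true := by decide +kernel
theorem chk1445 : band (Nat.ble 1 3) (band (subW 0 0) (Nat.beq (powC P.ops (R 168) 3) (evalW P.ops R 0))) = true := by decide +kernel
theorem chk1446 : subM 1122433257470133441180429951526105359095756193005568 47516341232902315676638201281271793535053678837235712 = true := by decide +kernel
theorem chk1448 : band (conjB P.ops R 374144419156711147060143317175368453031918731001856 169 l1447) (subM 374144419156711147060143317175368453031918731001856 (insL l1447 0)) = true := by decide +kernel
theorem chk1449 : band (Nat.ble 1 3) (band (subW 374144419156711147060143317175368453031918731001856 0) (Nat.beq (powC P.ops (R 169) 3) (evalW P.ops R 0))) = true := by decide +kernel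
theorem chk1450 : subM 2619010934096978029421003220227579171223431117012992 47516341232902315676638201281271793535053678837235712 = true := by decide +kernel
theorem chk1452 : band (conjB P.ops R 1122433257470133441180429951526105359095756193005568 170 l1451) (subM 1122433257470133441180429951526105359095756193005568 (insL l1451 0)) = true := by decide +kernel
theorem chk1453 : band (Nat.ble 1 2) (band (subW 1122433257470133441180429951526105359095756193005568 0) (Nat.beq (powC P.ops (R 170) 2) (evalW P.ops R 0))) = true := by decide +kernel
theorem chk1454 : subM 5612166287350667205902149757630526795478780965027840 47516341232902315676638201281271793535053678837235712 = true := by decide +kernel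
theorem chk1456 : band (conjB P.ops R 2619010934096978029421003220227579171223431117012992 171 l1455) (subM 2619010934096978029421003220227579171223431117012992 (insL l1455 0)) = true := by decide +kernel
theorem chk1457 : band (Nat.ble 1 2) (band (subW 2619010934096978029421003220227579171223431117012992 170) (Nat.beq (powC P.ops (R 171) 2) (evalW P.ops R 170))) = true := by decide +kernel
theorem chk1458 : subM 11598476993858045558864442832436422043989480661057536 47516341232902315676638201281271793535053678837235712 = true := by decide +kernel
theorem chk1460 : band (conjB P.ops R 5612166287350667205902149757630526795478780965027840 172 l1459) (subM 5612166287350667205902149757630526795478780965027840 (insL l1459 0)) = true := by decide +kernel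
theorem chk1461 : band (Nat.ble 1 2) (band (subW 5612166287350667205902149757630526795478780965027840 183786184873) (Nat.beq (powC P.ops (R 172) 2) (evalW P.ops R 183786184873))) = true := by decide +kernel
theorem chk1462 : subM 23571098406872802264789028982048212541010880053116928 47516341232902315676638201281271793535053678837235712 = true := by decide +kernel
theorem chk1464 : band (conjB P.ops R 11598476993858045558864442832436422043989480661057536 173 l1463) (subM 11598476993858045558864442832436422043989480661057536 (insL l1463 0)) = true := by decide +kernel
theorem chk1465 : band (Nat.ble 1 2) (band (subW 11598476993858045558864442832436422043989480661057536 170) (Nat.beq (powC P.ops (R 173) 2) (evalW P.ops R 170))) = true := by decide +kernel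
theorem chk1468 : band (slp P.ops R l1467 47516341232902315676638201281271793535053678837235712) (subM 95406826884961342500336545879718955523139276405473280 (insL l1467 47516341232902315676638201281271793535053678837235712)) = true := by decide +kernel
theorem chk1470 : subM 71835728478088540235547516897670742982128396352356352 95406826884961342500336545879718955523139276405473280 = true := by decide +kernel
theorem chk1496 : band (slp P.ops R l1495 23571098406872802264789028982048212541010880053116928) (subM 287342913912354160942190067590682971928513585409425408 (insL l1495 23571098406872802264789028982048212541010880053116928)) = true := by decide +kernel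
theorem chk1501 : band (slp P.ops R l1500 287342913912354160942190067590682971928513585409425408) (subM 670466799128826375531776824378260267833198365955325952 (insL l1500 287342913912354160942190067590682971928513585409425408)) = true := by decide +kernel
theorem chk1503 : subM 383123885216472214589586756787577295904684780545900544 670466799128826375531776824378260267833198365955325952 = true := by decide +kernel
theorem chk1504 : band (fixL P.app (keyL P.app (fun x => x) A1s 5) R [178] pt1498c) (subM 383123885216472214589586756787577295904684780545900544 (insL [178] 0)) = true := by decide +kernel
theorem chk1510 : band (pieces P.app (keyL P.app (fun x => x) A1s 5) tab1508 R 670466799128826375531776824378260267833198365955325952 [176, 177, 178] pt1498c l1509) (allL l1509 fun p => subW 670466799128826375531776824378260267833198365955325952 p.2.1) = true := by decide +kernel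
theorem chk1511 : cover 4 [0] (l1509) 0 = true := by decide +kernel
theorem chk1513 : subM 0 383123885216472214589586756787577295904684780545900544 = true := by decide +kernel
theorem chk1514 : band (fixL P.app (keyL P.app (fun x => x) A1s 5) R [] pt1499c) (subM 0 (insL [] 0)) = true := by decide +kernel
theorem chk1520 : band (pieces P.app (keyL P.app (fun x => x) A1s 5) tab1518 R 383123885216472214589586756787577295904684780545900544 [178] pt1499c l1519) (allL l1519 fun p => subW 383123885216472214589586756787577295904684780545900544 p.2.1) = true := by decide +kernel
theorem chk1521 : cover 2 [0] (l1519) 0 = true := by decide +kernel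
theorem chk1524 : band (conjB P.ops R 23571098406872802264789028982048212541010880053116928 174 l1523) (subM 287342913912354160942190067590682971928513585409425408 (insL l1523 0)) = true := by decide +kernel
theorem chk1525 : band (fixL P.app (keyL P.app (fun x => x) A1s 5) R [176, 177] pt1466c) (subM 287342913912354160942190067590682971928513585409425408 (insL [176, 177] 0)) = true := by decide +kernel
theorem chk1540 : band (slp P.ops R l1539 23571098406872802264789028982048212541010880053116928) (subM 2298743311298833287537520540725463775428108683275403264 (insL l1539 23571098406872802264789028982048212541010880053116928)) = true := by decide +kernel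
theorem chk1543 : subM 0 2298743311298833287537520540725463775428108683275403264 = true := by decide +kernel
theorem chk1544 : band (fixL P.app (keyL P.app (fun x => x) A1s 5) R [] pt1542c) (subM 0 (insL [] 0)) = true := by decide +kernel
theorem chk1550 : band (pieces P.app (keyL P.app (fun x => x) A1s 5) tab1548 R 2298743311298833287537520540725463775428108683275403264 [179, 180] pt1542c l1549) (allL l1549 fun p => subW 2298743311298833287537520540725463775428108683275403264 p.2.1) = true := by decide +kernel
theorem chk1551 : cover 8 [0] (l1549) 0 = true := by decide +kernel
theorem chk1554 : band (conjA P.ops R 23571098406872802264789028982048212541010880053116928 174 l1553) (subM 2298743311298833287537520540725463775428108683275403264 (insL l1553 0)) = true := by decide +kernel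
theorem chk1556 : dcRel P.ops R 23571098406872802264789028982048212541010880053116928 71835728478088540235547516897670742982128396352356352 174 174 l1555 = true := by decide +kernel
theorem chk1561 : band (pieces P.app (keyL P.app (fun x => x) A1s 5) tab1559 R 2298743311298833287537520540725463775428108683275403264 [179, 180] pt1466c l1560) (allL l1560 fun p => subW 23571098406872802264789028982048212541010880053116928 p.2.1) = true := by decide +kernel
theorem chk1562 : cover 18 (List.map Prod.fst (l1555)) (l1560) 0 = true := by decide +kernel
theorem chk1564 : allL (List.map Prod.fst (l1555)) (subW 23571098406872802264789028982048212541010880053116928) = true := by decide +kernel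
theorem chk1578 : band (slp P.ops R l1577 23571098406872802264789028982048212541010880053116928) (subM 9194973245195333150150082162901855101712434733101613056 (insL l1577 23571098406872802264789028982048212541010880053116928)) = true := by decide +kernel
theorem chk1581 : subM 0 9194973245195333150150082162901855101712434733101613056 = true := by decide +kernel
theorem chk1582 : band (fixL P.app (keyL P.app (fun x => x) A1s 5) R [] pt1580c) (subM 0 (insL [] 0)) = true := by decide +kernel
theorem chk1588 : band (pieces P.app (keyL P.app (fun x => x) A1s 5) tab1586 R 9194973245195333150150082162901855101712434733101613056 [181, 182] pt1580c l1587) (allL l1587 fun p => subW 9194973245195333150150082162901855101712434733101613056 p.2.1) = true := by decide +kernel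
theorem chk1589 : cover 4 [0] (l1587) 0 = true := by decide +kernel
theorem chk1592 : band (conjA P.ops R 23571098406872802264789028982048212541010880053116928 175 l1591) (subM 9194973245195333150150082162901855101712434733101613056 (insL l1591 0)) = true := by decide +kernel
theorem chk1594 : dcRel P.ops R 23571098406872802264789028982048212541010880053116928 71835728478088540235547516897670742982128396352356352 175 174 l1593 = true := by decide +kernel
theorem chk1599 : band (pieces P.app (keyL P.app (fun x => x) A1s 5) tab1597 R 9194973245195333150150082162901855101712434733101613056 [181, 182] pt1466c l1598) (allL l1598 fun p => subW 23571098406872802264789028982048212541010880053116928 p.2.1) = true := by decide +kernel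
theorem chk1600 : cover 18 (List.map Prod.fst (l1593)) (l1598) 0 = true := by decide +kernel
theorem chk1602 : allL (List.map Prod.fst (l1593)) (subW 23571098406872802264789028982048212541010880053116928) = true := by decide +kernel
theorem chk1603 : inDC P.ops R 23571098406872802264789028982048212541010880053116928 71835728478088540235547516897670742982128396352356352 (R 174) 0 174 = true := by decide +kernel
theorem chk1605 : band (maxChk P.ops R 23571098406872802264789028982048212541010880053116928 47516341232902315676638201281271793535053678837235712 l1604) (subM 71835728478088540235547516897670742982128396352356352 (insL (l1604.map Prod.fst) 0)) = true := by decide +kernel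
theorem chk1606 : allL l1604 (fun p => Nat.blt p.1 1024) = true := by decide +kernel
theorem chk1609 : band (slp P.ops R l1608 95406826884961342500336545879718955523139276405473280) (subM 36875299807666293943100665197487139362372878208811925504 (insL l1608 95406826884961342500336545879718955523139276405473280)) = true := by decide +kernel
theorem chk1612 : subW 36875299807666293943100665197487139362372878208811925504 187023155383 = true := by decide +kernel
theorem chk1614 : subW 36875299807666293943100665197487139362372878208811925504 187013717176 = true := by decide +kernel
theorem chk1616 : subW 36875299807666293943100665197487139362372878208811925504 191502046378158 = true := by decide +kernel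
theorem chk1618 : band (slp P.ops R l1617 23571098406872802264789028982048212541010880053116928) (subM 343302572252365977074534523110651305343138574249180004352 (insL l1617 23571098406872802264789028982048212541010880053116928)) = true := by decide +kernel
theorem chk1620 : subM 343279001153959104272269734081669257130597563369126887424 343302572252365977074534523110651305343138574249180004352 = true := by decide +kernel
theorem chk1621 : band (fixL P.app (keyL P.app (fun x => x) A1s 5) R [185, 186, 187] pt1611c) (subM 343279001153959104272269734081669257130597563369126887424 (insL [185, 186, 187] 0)) = true := by decide +kernel
theorem chk1627 : band (pieces P.app (keyL P.app (fun x => x) A1s 5) tab1625 R 343302572252365977074534523110651305343138574249180004352 [168, 169, 170, 171, 172, 173, 185, 186, 187] pt1611c l1626) (allL l1626 fun p => subW 343302572252365977074534523110651305343138574249180004352 p.2.1) = true := by decide +kernel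
theorem chk1628 : cover 18 [0] (l1626) 0 = true := by decide +kernel
theorem chk1630 : subM 196159429230833773869868419475239575503198607639501078528 343279001153959104272269734081669257130597563369126887424 = true := by decide +kernel
theorem chk1631 : band (fixL P.app (keyL P.app (fun x => x) A1s 5) R [187] pt1613c) (subM 196159429230833773869868419475239575503198607639501078528 (insL [187] 0)) = true := by decide +kernel
theorem chk1637 : band (pieces P.app (keyL P.app (fun x => x) A1s 5) tab1635 R 343279001153959104272269734081669257130597563369126887424 [185, 186, 187] pt1613c l1636) (allL l1636 fun p => subW 343279001153959104272269734081669257130597563369126887424 p.2.1) = true := by decide +kernel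
theorem chk1638 : cover 4 [0] (l1636) 0 = true := by decide +kernel
theorem chk1640 : subM 0 196159429230833773869868419475239575503198607639501078528 = true := by decide +kernel
theorem chk1641 : band (fixL P.app (keyL P.app (fun x => x) A1s 5) R [] pt1615c) (subM 0 (insL [] 0)) = true := by decide +kernel
theorem chk1647 : band (pieces P.app (keyL P.app (fun x => x) A1s 5) tab1645 R 196159429230833773869868419475239575503198607639501078528 [187] pt1615c l1646) (allL l1646 fun p => subW 196159429230833773869868419475239575503198607639501078528 p.2.1) = true := by decide +kernel
theorem chk1648 : cover 2 [0] (l1646) 0 = true := by decide +kernel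
theorem chk1654 : band (pieces P.app (keyL P.app (fun x => x) A1s 5) tab1652 R 36875299807666293943100665197487139362372878208811925504 [183, 184, 174] pt1607c l1653) (allL l1653 fun p => subW 36875299807666293943100665197487139362372878208811925504 p.2.1) = true := by decide +kernel
theorem chk1655 : cover 55 [0] (l1653) 0 = true := by decide +kernel
theorem chk1657 : band (fixL P.app (keyL P.app (fun x => x) A1s 5) R [168, 169, 170, 171, 172, 173] pt1607c) (subM 23571098406872802264789028982048212541010880053116928 (insL [168, 169, 170, 171, 172, 173] 0)) = true := by decide +kernel
theorem chk1659 : subM 23571098406872802264789028982048212541010880053116928 36875299807666293943100665197487139362372878208811925504 = true := by decide +kernel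
theorem chk1660 : subM 23571098406872802264789028982048212541010880053116928 36875299807666293943100665197487139362372878208811925504 = true := by decide +kernel
theorem chk1661 : subM 380154300961625398215370399279156396492970441577938812928 (Nat.lor 36875299807666293943100665197487139362372878208811925504 343302572252365977074534523110651305343138574249180004352) = true := by decide +kernel
theorem chk1663 : band (slp P.ops R l1662 380154300961625398215370399279156396492970441577938812928) (subM 772473159423292945955107238229635547499367656856940969984 (insL l1662 380154300961625398215370399279156396492970441577938812928)) = true := by decide +kernel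
theorem chk1666 : band (slp P.ops R l1665 772473159423292945955107238229635547499367656856940969984) (subM 3126386310193298232393528271932510453537750948530953912320 (insL l1665 772473159423292945955107238229635547499367656856940969984)) = true := by decide +kernel
theorem chk1668 : subM 2353913150770005286438421033702874906038383291674012942336 3126386310193298232393528271932510453537750948530953912320 = true := by decide +kernel
theorem chk1670 : band (nconj P.ops R 3126386310193298232393528271932510453537750948530953912320 (ins 0 188) l1669) (subM 2353913150770005286438421033702874906038383291674012942336 (insL l1669 (ins 0 188))) = true := by decide +kernel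
theorem chk1672 : band (ncop P.ops R 3126386310193298232393528271932510453537750948530953912320 2746232009231672834178157872653354057044780506953015099392 l1671) (subM 47516341232902315676638201281271793535053678837235712 (insL (l1671.map Prod.fst) 2746232009231672834178157872653354057044780506953015099392)) = true := by decide +kernel
theorem chk1673 : band (Nat.beq (powC P.ops (R 188) 11) P.ops.one) (bnot (Nat.beq (R 188) P.ops.one)) = true := by decide +kernel
theorem chk1674 : subM 23571098406872802264789028982048212541010880053116928 3126386310193298232393528271932510453537750948530953912320 = true := by decide +kernel
theorem chk1676 : band (slp P.ops R l1675 324508650138114749513597297106942) (subM 3138550867693340381917895036112483346165927235829314363390 (insL l1675 324508650138114749513597297106942)) = true := by decide +kernel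
theorem chk1678 : subM 1022 3138550867693340381917895036112483346165927235829314363390 = true := by decide +kernel
theorem chk1679 : band (Nat.beq (powC P.ops (R 191) 31) P.ops.one) (bnot (Nat.beq (R 191) P.ops.one)) = true := by decide +kernel
theorem chk1680 : band (fixL P.app (keyL P.app (fun x => x) A1s 5) R [68, 69, 70] pt731c) (subM 2066035336255469780992 (insL [68, 69, 70] 0)) = true := by decide +kernel
theorem chk1683 : band (slp P.ops R l1682 3138550867693340381917895036112483346165927235829314363390) (subM 21969856073853382673425263305735482594472993569221417902078 (insL l1682 3138550867693340381917895036112483346165927235829314363390)) = true := by decide +kernel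
theorem chk1685 : subM 18831305206160042291507368269622999248307066333392103538688 21969856073853382673425263305735482594472993569221417902078 = true := by decide +kernel
theorem chk1687 : band (nconj P.ops R 21969856073853382673425263305735482594472993569221417902078 (ins 0 191) l1686) (subM 18831305206160042291507368269622999248307066333392103538688 (insL l1686 (ins 0 191))) = true := by decide +kernel
theorem chk1689 : band (ncop P.ops R 21969856073853382673425263305735482594472993569221417902078 21969856073853382673425262981226832456358244055624120795136 l1688) (subM 2046 (insL (l1688.map Prod.fst) 21969856073853382673425262981226832456358244055624120795136)) = true := by decide +kernel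
theorem chk1690 : band (Nat.beq (powC P.ops (R 191) 31) P.ops.one) (bnot (Nat.beq (R 191) P.ops.one)) = true := by decide +kernel
theorem chk1691 : subM 1022 21969856073853382673425263305735482594472993569221417902078 = true := by decide +kernel
theorem chk1692 : band (commL P.ops R 107 [1, 2, 3, 4, 5, 6, 7, 8, 9, 10]) (subM 2046 (insL [1, 2, 3, 4, 5, 6, 7, 8, 9, 10] 0)) = true := by decide +kernel
theorem chk1693 : bnot (Nat.beq (P.ops.mul (R 9) (R 10)) (P.ops.mul (R 10) (R 9))) = true := by decide +kernel
theorem chk1694 : subM 1022 21969856073853382673425263305735482594472993569221417902078 = true := by decide +kernel
end

end CfsgH6.ON
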