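/-
First pass over the minimal vectors: part 1.
-/
import Cfsg.Agent.H6.PA0

set_option autoImplicit false
set_option linter.unusedSimpArgs false
set_option linter.unusedVariables false
set_option maxRecDepth 100000

namespace CfsgH6

open CfsgH5 Cfsg Finset

noncomputable section

theorem pA_0 : sumP fA 8 0 = 0x2e0000000000000000000000000000000000000000000000016800000000000000000000000000000000000000000000000264000000000000000000000000000000000000000000000001680000000000000000000000000000000000000000000000002e00000000000000000000000000000000000000000000000000000000000000000000000000000000000000000000000000000 := by decide +kernel

theorem pA_1 : sumP fA 8 256 = 0x1a000000000000000000000000000000000000000000000000f8000000000000000000000000000000000000000000000001dc000000000000000000000000000000000000000000000000f80000000000000000000000000000000000000000000000001a00000000000000000000000000000000000000000000000000000000000000000000000000000000000000000000000000000 := by decide +kernel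

theorem pA_2 : sumP fA 8 512 = 0x1a000000000000000000000000000000000000000000000000f8000000000000000000000000000000000000000000000001dc000000000000000000000000000000000000000000000000f80000000000000000000000000000000000000000000000001a00000000000000000000000000000000000000000000000000000000000000000000000000000000000000000000000000000 := by decide +kernel

theorem pA_3 : sumP fA 8 768 = 0xe000000000000000000000000000000000000000000000000a800000000000000000000000000000000000000000000000154000000000000000000000000000000000000000000000000a80000000000000000000000000000000000000000000000000e00000000000000000000000000000000000000000000000000000000000000000000000000000000000000000000000000000 := by decide +kernel

theorem pA_a : sumA fA = 0x10000000000000000000000000000000000000000000000000000000000000000000000000000000000000000000000000058000000000000000000000000000000000000000000000000000000000000000000000000000000000000000000000000039e00000000000000000000000000000000000000000000000000000000000000000000000000000000000000000000000000580000000000000000000000000000000000000000000000000000000000000000000000000000000000000000000000000001 := by decide +kernel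

end

end CfsgH6
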