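import Cfsg.Agent.H6.RuD0

set_option autoImplicit false
set_option maxRecDepth 100000
set_option linter.all false

namespace CfsgH6.Ru

open CfsgH5 CfsgH6 Subgroup MulAction Pointwise

noncomputable section

theorem chk2 : band (allL l1 fun e => band (can2 28 (force (hd e) R)) (band (Nat.ble 1 (tl e)) (Nat.beq (powC (ops2 28) (force (hd e) R) (tl e)) (ops2 28).one))) (subM 65534 (insL l1 0)) = true := by decide +kernel
theorem chk4 : subM 16 65534 = true := by decide +kernel
theorem chk6 : band (conjB (ops2 28) R 0 4 l5) (subM 0 (insL l5 0)) = true := by decide +kernel
theorem chk7 : band (Nat.ble 1 2) (band (subW 0 0) (Nat.beq (powC (ops2 28) (R 4) 2) (evalW (ops2 28) R 0))) = true := by decide +kernel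
theorem chk8 : subM 48 65534 = true := by decide +kernel
theorem chk10 : band (conjB (ops2 28) R 16 5 l9) (subM 16 (insL l9 0)) = true := by decide +kernel
theorem chk11 : band (Nat.ble 1 2) (band (subW 16 0) (Nat.beq (powC (ops2 28) (R 5) 2) (evalW (ops2 28) R 0))) = true := by decide +kernel
theorem chk12 : subM 112 65534 = true := by decide +kernel
theorem chk14 : band (conjB (ops2 28) R 48 6 l13) (subM 48 (insL l13 0)) = true := by decide +kernel
theorem chk15 : band (Nat.ble 1 2) (band (subW 48 0) (Nat.beq (powC (ops2 28) (R 6) 2) (evalW (ops2 28) R 0))) = true := by decide +kernel
theorem chk16 : subM 240 65534 = true := by decide +kernel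
theorem chk18 : band (conjB (ops2 28) R 112 7 l17) (subM 112 (insL l17 0)) = true := by decide +kernel
theorem chk19 : band (Nat.ble 1 2) (band (subW 112 0) (Nat.beq (powC (ops2 28) (R 7) 2) (evalW (ops2 28) R 0))) = true := by decide +kernel
theorem chk20 : subM 496 65534 = true := by decide +kernel
theorem chk22 : band (conjB (ops2 28) R 240 8 l21) (subM 240 (insL l21 0)) = true := by decide +kernel
theorem chk23 : band (Nat.ble 1 2) (band (subW 240 0) (Nat.beq (powC (ops2 28) (R 8) 2) (evalW (ops2 28) R 0))) = true := by decide +kernel
theorem chk24 : subM 1008 65534 = true := by decide +kernel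
theorem chk26 : band (conjB (ops2 28) R 496 9 l25) (subM 496 (insL l25 0)) = true := by decide +kernel
theorem chk27 : band (Nat.ble 1 2) (band (subW 496 8) (Nat.beq (powC (ops2 28) (R 9) 2) (evalW (ops2 28) R 8))) = true := by decide +kernel
theorem chk28 : subM 2032 65534 = true := by decide +kernel
theorem chk30 : band (conjB (ops2 28) R 1008 10 l29) (subM 1008 (insL l29 0)) = true := by decide +kernel
theorem chk31 : band (Nat.ble 1 2) (band (subW 1008 8800393238535) (Nat.beq (powC (ops2 28) (R 10) 2) (evalW (ops2 28) R 8800393238535))) = true := by decide +kernel
theorem chk32 : subM 4080 65534 = true := by decide +kernel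
theorem chk34 : band (conjB (ops2 28) R 2032 11 l33) (subM 2032 (insL l33 0)) = true := by decide +kernel
theorem chk35 : band (Nat.ble 1 2) (band (subW 2032 8392709) (Nat.beq (powC (ops2 28) (R 11) 2) (evalW (ops2 28) R 8392709))) = true := by decide +kernel
theorem chk36 : subM 8176 65534 = true := by decide +kernel
theorem chk38 : band (conjB (ops2 28) R 4080 12 l37) (subM 4080 (insL l37 0)) = true := by decide +kernel
theorem chk39 : band (Nat.ble 1 2) (band (subW 4080 0) (Nat.beq (powC (ops2 28) (R 12) 2) (evalW (ops2 28) R 0))) = true := by decide +kernel
theorem chk40 : subM 16368 65534 = true := by decide +kernel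
theorem chk42 : band (conjB (ops2 28) R 8176 13 l41) (subM 8176 (insL l41 0)) = true := by decide +kernel
theorem chk43 : band (Nat.ble 1 5) (band (subW 8176 0) (Nat.beq (powC (ops2 28) (R 13) 5) (evalW (ops2 28) R 0))) = true := by decide +kernel
theorem chk44 : subM 32752 65534 = true := by decide +kernel
theorem chk46 : band (conjB (ops2 28) R 16368 14 l45) (subM 16368 (insL l45 0)) = true := by decide +kernel
theorem chk47 : band (Nat.ble 1 2) (band (subW 16368 8199) (Nat.beq (powC (ops2 28) (R 14) 2) (evalW (ops2 28) R 8199))) = true := by decide +kernel
theorem chk48 : subM 65520 65534 = true := by decide +kernel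
theorem chk50 : band (conjB (ops2 28) R 32752 15 l49) (subM 32752 (insL l49 0)) = true := by decide +kernel
theorem chk51 : band (Nat.ble 1 2) (band (subW 32752 14) (Nat.beq (powC (ops2 28) (R 15) 2) (evalW (ops2 28) R 14))) = true := by decide +kernel
theorem chk52 : subM 65522 65534 = true := by decide +kernel
theorem chk55 : band (slp (ops2 28) R l54 65522) (subM 524274 (insL l54 65522)) = true := by decide +kernel
theorem chk57 : subM 458754 524274 = true := by decide +kernel
theorem chk81 : band (slp (ops2 28) R l80 65520) (subM 3670016 (insL l80 65520)) = true := by decide +kernel
theorem chk87 : band (slp (ops2 28) R l86 3670016) (subM 536346624 (insL l86 3670016)) = true := by decide +kernel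
theorem chk89 : subM 532676608 536346624 = true := by decide +kernel
theorem chk90 : band (fixL (app2 28 29 5) (fun x => x) R [22, 23, 24, 25, 26, 27, 28] pt83c) (subM 532676608 (insL [22, 23, 24, 25, 26, 27, 28] 0)) = true := by decide +kernel
theorem chk96 : band (pieces (app2 28 29 5) (fun x => x) tab94 R 536346624 [19, 20, 21, 22, 23, 24, 25, 26, 27, 28] pt83c l95) (allL l95 fun p => subW 536346624 p.2.1) = true := by decide +kernel
theorem chk97 : cover 8 [0] (l95) 0 = true := by decide +kernel
theorem chk99 : subM 16777216 532676608 = true := by decide +kernel
theorem chk100 : band (fixL (app2 28 29 5) (fun x => x) R [24] pt84c) (subM 16777216 (insL [24] 0)) = true := by decide +kernel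
theorem chk106 : band (pieces (app2 28 29 5) (fun x => x) tab104 R 532676608 [22, 23, 24, 25, 26, 27, 28] pt84c l105) (allL l105 fun p => subW 532676608 p.2.1) = true := by decide +kernel
theorem chk107 : cover 64 [0] (l105) 0 = true := by decide +kernel
theorem chk109 : subM 0 16777216 = true := by decide +kernel
theorem chk110 : band (fixL (app2 28 29 5) (fun x => x) R [] pt85c) (subM 0 (insL [] 0)) = true := by decide +kernel
theorem chk116 : band (pieces (app2 28 29 5) (fun x => x) tab114 R 16777216 [24] pt85c l115) (allL l115 fun p => subW 16777216 p.2.1) = true := by decide +kernel
theorem chk117 : cover 2 [0] (l115) 0 = true := by decide +kernel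
theorem chk120 : band (conjB (ops2 28) R 65520 1 l119) (subM 3670016 (insL l119 0)) = true := by decide +kernel
theorem chk121 : band (fixL (app2 28 29 5) (fun x => x) R [19, 20, 21] pt53c) (subM 3670016 (insL [19, 20, 21] 0)) = true := by decide +kernel
theorem chk135 : band (slp (ops2 28) R l134 65520) (subM 1610612736 (insL l134 65520)) = true := by decide +kernel
theorem chk141 : band (slp (ops2 28) R l140 1610612736) (subM 274341036032 (insL l140 1610612736)) = true := by decide +kernel
theorem chk143 : subM 272730423296 274341036032 = true := by decide +kernel
theorem chk144 : band (fixL (app2 28 29 5) (fun x => x) R [31, 32, 33, 34, 35, 36, 37] pt137c) (subM 272730423296 (insL [31, 32, 33, 34, 35, 36, 37] 0)) = true := by decide +kernel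
theorem chk150 : band (pieces (app2 28 29 5) (fun x => x) tab148 R 274341036032 [29, 30, 31, 32, 33, 34, 35, 36, 37] pt137c l149) (allL l149 fun p => subW 274341036032 p.2.1) = true := by decide +kernel
theorem chk151 : cover 8 [0] (l149) 0 = true := by decide +kernel
theorem chk153 : subM 77309411328 272730423296 = true := by decide +kernel
theorem chk154 : band (fixL (app2 28 29 5) (fun x => x) R [33, 36] pt138c) (subM 77309411328 (insL [33, 36] 0)) = true := by decide +kernel
theorem chk160 : band (pieces (app2 28 29 5) (fun x => x) tab158 R 272730423296 [31, 32, 33, 34, 35, 36, 37] pt138c l159) (allL l159 fun p => subW 272730423296 p.2.1) = true := by decide +kernel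
theorem chk161 : cover 32 [0] (l159) 0 = true := by decide +kernel
theorem chk163 : subM 0 77309411328 = true := by decide +kernel
theorem chk164 : band (fixL (app2 28 29 5) (fun x => x) R [] pt139c) (subM 0 (insL [] 0)) = true := by decide +kernel
theorem chk170 : band (pieces (app2 28 29 5) (fun x => x) tab168 R 77309411328 [33, 36] pt139c l169) (allL l169 fun p => subW 77309411328 p.2.1) = true := by decide +kernel
theorem chk171 : cover 4 [0] (l169) 0 = true := by decide +kernel
theorem chk174 : band (conjA (ops2 28) R 65520 1 l173) (subM 1610612736 (insL l173 0)) = true := by decide +kernel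
theorem chk176 : dcRel (ops2 28) R 65520 458754 1 1 l175 = true := by decide +kernel
theorem chk181 : band (pieces (app2 28 29 5) (fun x => x) tab179 R 274341036032 [29, 30, 31, 32, 33, 34, 35, 36, 37] pt53c l180) (allL l180 fun p => subW 65520 p.2.1) = true := by decide +kernel
theorem chk182 : cover 10 (List.map Prod.fst (l175)) (l180) 0 = true := by decide +kernel
theorem chk184 : allL (List.map Prod.fst (l175)) (subW 65520) = true := by decide +kernel
theorem chk210 : band (slp (ops2 28) R l209 65520) (subM 1924145348608 (insL l209 65520)) = true := by decide +kernel
theorem chk216 : band (slp (ops2 28) R l215 1924145348608) (subM 34909494181888 (insL l215 1924145348608)) = true := by decide +kernel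
theorem chk218 : subM 32985348833280 34909494181888 = true := by decide +kernel
theorem chk219 : band (fixL (app2 28 29 5) (fun x => x) R [41, 42, 43, 44] pt212c) (subM 32985348833280 (insL [41, 42, 43, 44] 0)) = true := by decide +kernel
theorem chk225 : band (pieces (app2 28 29 5) (fun x => x) tab223 R 34909494181888 [38, 39, 40, 41, 42, 43, 44] pt212c l224) (allL l224 fun p => subW 34909494181888 p.2.1) = true := by decide +kernel
theorem chk226 : cover 8 [0] (l224) 0 = true := by decide +kernel
theorem chk228 : subM 17592186044416 32985348833280 = true := by decide +kernel
theorem chk229 : band (fixL (app2 28 29 5) (fun x => x) R [44] pt213c) (subM 17592186044416 (insL [44] 0)) = true := by decide +kernel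
theorem chk235 : band (pieces (app2 28 29 5) (fun x => x) tab233 R 32985348833280 [41, 42, 43, 44] pt213c l234) (allL l234 fun p => subW 32985348833280 p.2.1) = true := by decide +kernel
theorem chk236 : cover 8 [0] (l234) 0 = true := by decide +kernel
theorem chk238 : subM 0 17592186044416 = true := by decide +kernel
theorem chk239 : band (fixL (app2 28 29 5) (fun x => x) R [] pt214c) (subM 0 (insL [] 0)) = true := by decide +kernel
theorem chk245 : band (pieces (app2 28 29 5) (fun x => x) tab243 R 17592186044416 [44] pt214c l244) (allL l244 fun p => subW 17592186044416 p.2.1) = true := by decide +kernel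
theorem chk246 : cover 2 [0] (l244) 0 = true := by decide +kernel
theorem chk249 : band (conjA (ops2 28) R 65520 16 l248) (subM 1924145348608 (insL l248 0)) = true := by decide +kernel
theorem chk251 : dcRel (ops2 28) R 65520 458754 16 1 l250 = true := by decide +kernel
theorem chk256 : band (pieces (app2 28 29 5) (fun x => x) tab254 R 34909494181888 [38, 39, 40, 41, 42, 43, 44] pt53c l255) (allL l255 fun p => subW 65520 p.2.1) = true := by decide +kernel
theorem chk257 : cover 10 (List.map Prod.fst (l250)) (l255) 0 = true := by decide +kernel
theorem chk259 : allL (List.map Prod.fst (l250)) (subW 65520) = true := by decide +kernel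
theorem chk289 : band (slp (ops2 28) R l288 65520) (subM 246290604621824 (insL l288 65520)) = true := by decide +kernel
theorem chk294 : band (slp (ops2 28) R l293 246290604621824) (subM 2216615441596416 (insL l293 246290604621824)) = true := by decide +kernel
theorem chk296 : subM 1970324836974592 2216615441596416 = true := by decide +kernel
theorem chk297 : band (fixL (app2 28 29 5) (fun x => x) R [48, 49, 50] pt291c) (subM 1970324836974592 (insL [48, 49, 50] 0)) = true := by decide +kernel
theorem chk303 : band (pieces (app2 28 29 5) (fun x => x) tab301 R 2216615441596416 [45, 46, 47, 48, 49, 50] pt291c l302) (allL l302 fun p => subW 2216615441596416 p.2.1) = true := by decide +kernel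
theorem chk304 : cover 2 [0] (l302) 0 = true := by decide +kernel
theorem chk306 : subM 0 1970324836974592 = true := by decide +kernel
theorem chk307 : band (fixL (app2 28 29 5) (fun x => x) R [] pt292c) (subM 0 (insL [] 0)) = true := by decide +kernel
theorem chk313 : band (pieces (app2 28 29 5) (fun x => x) tab311 R 1970324836974592 [48, 49, 50] pt292c l312) (allL l312 fun p => subW 1970324836974592 p.2.1) = true := by decide +kernel
theorem chk314 : cover 8 [0] (l312) 0 = true := by decide +kernel
theorem chk317 : band (conjA (ops2 28) R 65520 17 l316) (subM 246290604621824 (insL l316 0)) = true := by decide +kernel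
theorem chk319 : dcRel (ops2 28) R 65520 458754 17 1 l318 = true := by decide +kernel
theorem chk324 : band (pieces (app2 28 29 5) (fun x => x) tab322 R 2216615441596416 [45, 46, 47, 48, 49, 50] pt53c l323) (allL l323 fun p => subW 65520 p.2.1) = true := by decide +kernel
theorem chk325 : cover 10 (List.map Prod.fst (l318)) (l323) 0 = true := by decide +kernel
theorem chk327 : allL (List.map Prod.fst (l318)) (subW 65520) = true := by decide +kernel
theorem chk345 : band (slp (ops2 28) R l344 65520) (subM 6755399441055744 (insL l344 65520)) = true := by decide +kernel
theorem chk350 : band (slp (ops2 28) R l349 6755399441055744) (subM 15762598695796736 (insL l349 6755399441055744)) = true := by decide +kernel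
theorem chk352 : subM 9007199254740992 15762598695796736 = true := by decide +kernel
theorem chk353 : band (fixL (app2 28 29 5) (fun x => x) R [53] pt347c) (subM 9007199254740992 (insL [53] 0)) = true := by decide +kernel
theorem chk359 : band (pieces (app2 28 29 5) (fun x => x) tab357 R 15762598695796736 [51, 52, 53] pt347c l358) (allL l358 fun p => subW 15762598695796736 p.2.1) = true := by decide +kernel
theorem chk360 : cover 5 [0] (l358) 0 = true := by decide +kernel
theorem chk362 : subM 0 9007199254740992 = true := by decide +kernel
theorem chk363 : band (fixL (app2 28 29 5) (fun x => x) R [] pt348c) (subM 0 (insL [] 0)) = true := by decide +kernel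
theorem chk369 : band (pieces (app2 28 29 5) (fun x => x) tab367 R 9007199254740992 [53] pt348c l368) (allL l368 fun p => subW 9007199254740992 p.2.1) = true := by decide +kernel
theorem chk370 : cover 2 [0] (l368) 0 = true := by decide +kernel
theorem chk373 : band (conjA (ops2 28) R 65520 18 l372) (subM 6755399441055744 (insL l372 0)) = true := by decide +kernel
theorem chk375 : dcRel (ops2 28) R 65520 458754 18 1 l374 = true := by decide +kernel
theorem chk380 : band (pieces (app2 28 29 5) (fun x => x) tab378 R 15762598695796736 [51, 52, 53] pt53c l379) (allL l379 fun p => subW 65520 p.2.1) = true := by decide +kernel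
theorem chk381 : cover 10 (List.map Prod.fst (l374)) (l379) 0 = true := by decide +kernel
theorem chk383 : allL (List.map Prod.fst (l374)) (subW 65520) = true := by decide +kernel
theorem chk384 : inDC (ops2 28) R 65520 458754 (R 1) 0 1 = true := by decide +kernel
theorem chk386 : band (maxChk (ops2 28) R 65520 65522 l385) (subM 458754 (insL (l385.map Prod.fst) 0)) = true := by decide +kernel
theorem chk387 : allL l385 (fun p => Nat.blt p.1 1024) = true := by decide +kernel
theorem chk390 : band (slp (ops2 28) R l389 524274) (subM 126100789566898162 (insL l389 524274)) = true := by decide +kernel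
theorem chk393 : subW 126100789566898162 1157550310455 = true := by decide +kernel
theorem chk395 : subW 126100789566898162 1130421303 = true := by decide +kernel
theorem chk397 : subW 126100789566898162 63109827467992119 = true := by decide +kernel
theorem chk399 : band (slp (ops2 28) R l398 65520) (subM 9079256848778985456 (insL l398 65520)) = true := by decide +kernel
theorem chk401 : subM 9079256848778919936 9079256848778985456 = true := by decide +kernel
theorem chk402 : band (fixL (app2 28 29 5) (fun x => x) R [57, 58, 59, 60, 61, 62] pt392c) (subM 9079256848778919936 (insL [57, 58, 59, 60, 61, 62] 0)) = true := by decide +kernel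
theorem chk408 : band (pieces (app2 28 29 5) (fun x => x) tab406 R 9079256848778985456 [4, 5, 6, 9, 10, 11, 12, 13, 14, 15, 57, 58, 59, 60, 61, 62] pt392c l407) (allL l407 fun p => subW 9079256848778985456 p.2.1) = true := by decide +kernel
theorem chk409 : cover 80 [0] (l407) 0 = true := by decide +kernel
theorem chk411 : subM 7782220156096217088 9079256848778919936 = true := by decide +kernel
theorem chk412 : band (fixL (app2 28 29 5) (fun x => x) R [58, 59, 61, 62] pt394c) (subM 7782220156096217088 (insL [58, 59, 61, 62] 0)) = true := by decide +kernel
theorem chk418 : band (pieces (app2 28 29 5) (fun x => x) tab416 R 9079256848778919936 [57, 58, 59, 60, 61, 62] pt394c l417) (allL l417 fun p => subW 9079256848778919936 p.2.1) = true := by decide +kernel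
theorem chk419 : cover 8 [0] (l417) 0 = true := by decide +kernel
theorem chk421 : subM 0 7782220156096217088 = true := by decide +kernel
theorem chk422 : band (fixL (app2 28 29 5) (fun x => x) R [] pt396c) (subM 0 (insL [] 0)) = true := by decide +kernel
theorem chk428 : band (pieces (app2 28 29 5) (fun x => x) tab426 R 7782220156096217088 [58, 59, 61, 62] pt396c l427) (allL l427 fun p => subW 7782220156096217088 p.2.1) = true := by decide +kernel
theorem chk429 : cover 16 [0] (l427) 0 = true := by decide +kernel
theorem chk435 : band (pieces (app2 28 29 5) (fun x => x) tab433 R 126100789566898162 [54, 55, 1, 56] pt388c l434) (allL l434 fun p => subW 126100789566898162 p.2.1) = true := by decide +kernel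
theorem chk436 : cover 1755 [0] (l434) 0 = true := by decide +kernel
theorem chk438 : band (fixL (app2 28 29 5) (fun x => x) R [4, 5, 6, 7, 8, 9, 10, 11, 12, 13, 14, 15] pt388c) (subM 65520 (insL [4, 5, 6, 7, 8, 9, 10, 11, 12, 13, 14, 15] 0)) = true := by decide +kernel
theorem chk440 : subM 65520 126100789566898162 = true := by decide +kernel
theorem chk441 : subM 65520 126100789566898162 = true := by decide +kernel
theorem chk442 : subM 9205357638345818098 (Nat.lor 126100789566898162 9079256848778985456) = true := by decide +kernel
theorem chk444 : band (slp (ops2 28) R l443 9205357638345818098) (subM 18428729675200593906 (insL l443 9205357638345818098)) = true := by decide +kernel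
theorem chk447 : band (slp (ops2 28) R l446 18428729675200593906) (subM 73768961896329248754 (insL l446 18428729675200593906)) = true := by decide +kernel
theorem chk449 : subM 55340232221128654848 73768961896329248754 = true := by decide +kernel
theorem chk451 : band (nconj (ops2 28) R 73768961896329248754 (ins 0 63) l450) (subM 55340232221128654848 (insL l450 (ins 0 63))) = true := by decide +kernel
theorem chk453 : band (ncop (ops2 28) R 73768961896329248754 64563604257983430656 l452) (subM 65522 (insL (l452.map Prod.fst) 64563604257983430656)) = true := by decide +kernel
theorem chk454 : band (Nat.beq (powC (ops2 28) (R 63) 13) (ops2 28).one) (bnot (Nat.beq (R 63) (ops2 28).one)) = true := by decide +kernel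
theorem chk455 : subM 65520 73768961896329248754 = true := by decide +kernel
theorem chk456 : subM 65526 65534 = true := by decide +kernel
theorem chk457 : subM 65522 65526 = true := by decide +kernel
theorem chk458 : subM 73768961896329248758 (Nat.lor 65526 73768961896329248754) = true := by decide +kernel
theorem chk460 : band (conjB (ops2 28) R 73768961896329248754 2 l459) (subM 65522 (insL l459 0)) = true := by decide +kernel
theorem chk461 : band (Nat.ble 1 2) (band (subW 73768961896329248754 77173184341732499417952438959584895032) (Nat.beq (powC (ops2 28) (R 2) 2) (evalW (ops2 28) R 77173184341732499417952438959584895032))) = true := by decide +kernel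
theorem chk464 : band (slp (ops2 28) R l463 73768961896329248758) (subM 37778913848558652751862 (insL l463 73768961896329248758)) = true := by decide +kernel
theorem chk466 : subM 65526 65534 = true := by decide +kernel
theorem chk467 : subM 37778913848558652751870 (Nat.lor 65534 37778913848558652751862) = true := by decide +kernel
theorem chk469 : band (slp (ops2 28) R l468 37778913848558652751870) (subM 75557845711515814461438 (insL l468 37778913848558652751870)) = true := by decide +kernel
theorem chk471 : subM 37778931862957161709576 75557845711515814461438 = true := by decide +kernel
theorem chk480 : band (slp (ops2 28) R l479 37778913848558652751862) (subM 226673591177742970257408 (insL l479 37778913848558652751862)) = true := by decide +kernel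
theorem chk487 : band (slp (ops2 28) R l486 226673591177742970257408) (subM 77295694591610352857776128 (insL l486 226673591177742970257408)) = true := by decide +kernel
theorem chk489 : subM 77069021000432609887518720 77295694591610352857776128 = true := by decide +kernel
theorem chk490 : band (fixL (app2 28 29 5) (fun x => x) R [78, 79, 80, 81, 82, 83, 84, 85] pt482c) (subM 77069021000432609887518720 (insL [78, 79, 80, 81, 82, 83, 84, 85] 0)) = true := by decide +kernel
theorem chk496 : band (pieces (app2 28 29 5) (fun x => x) tab494 R 77295694591610352857776128 [76, 77, 78, 79, 80, 81, 82, 83, 84, 85] pt482c l495) (allL l495 fun p => subW 77295694591610352857776128 p.2.1) = true := by decide +kernel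
theorem chk497 : cover 10 [0] (l495) 0 = true := by decide +kernel
theorem chk499 : subM 69513234627841177545605120 77069021000432609887518720 = true := by decide +kernel
theorem chk500 : band (fixL (app2 28 29 5) (fun x => x) R [79, 80, 83, 84, 85] pt483c) (subM 69513234627841177545605120 (insL [79, 80, 83, 84, 85] 0)) = true := by decide +kernel
theorem chk506 : band (pieces (app2 28 29 5) (fun x => x) tab504 R 77069021000432609887518720 [78, 79, 80, 81, 82, 83, 84, 85] pt483c l505) (allL l505 fun p => subW 77069021000432609887518720 p.2.1) = true := by decide +kernel
theorem chk507 : cover 8 [0] (l505) 0 = true := by decide +kernel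
theorem chk509 : subM 38685626227668133590597632 69513234627841177545605120 = true := by decide +kernel
theorem chk510 : band (fixL (app2 28 29 5) (fun x => x) R [85] pt484c) (subM 38685626227668133590597632 (insL [85] 0)) = true := by decide +kernel
theorem chk516 : band (pieces (app2 28 29 5) (fun x => x) tab514 R 69513234627841177545605120 [79, 80, 83, 84, 85] pt484c l515) (allL l515 fun p => subW 69513234627841177545605120 p.2.1) = true := by decide +kernel
theorem chk517 : cover 128 [0] (l515) 0 = true := by decide +kernel
theorem chk519 : subM 0 38685626227668133590597632 = true := by decide +kernel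
theorem chk520 : band (fixL (app2 28 29 5) (fun x => x) R [] pt485c) (subM 0 (insL [] 0)) = true := by decide +kernel
theorem chk526 : band (pieces (app2 28 29 5) (fun x => x) tab524 R 38685626227668133590597632 [85] pt485c l525) (allL l525 fun p => subW 38685626227668133590597632 p.2.1) = true := by decide +kernel
theorem chk527 : cover 2 [0] (l525) 0 = true := by decide +kernel
theorem chk530 : band (conjB (ops2 28) R 37778913848558652751862 3 l529) (subM 226673591177742970257408 (insL l529 0)) = true := by decide +kernel
theorem chk531 : band (fixL (app2 28 29 5) (fun x => x) R [76, 77] pt462c) (subM 226673591177742970257408 (insL [76, 77] 0)) = true := by decide +kernel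
theorem chk560 : band (slp (ops2 28) R l559 37778913848558652751862) (subM 541598767187353870268366848 (insL l559 37778913848558652751862)) = true := by decide +kernel
theorem chk567 : band (slp (ops2 28) R l566 541598767187353870268366848) (subM 158378953776073338919906705408 (insL l566 541598767187353870268366848)) = true := by decide +kernel
theorem chk569 : subM 157837355008885985049638338560 158378953776073338919906705408 = true := by decide +kernel
theorem chk570 : band (fixL (app2 28 29 5) (fun x => x) R [89, 90, 91, 92, 93, 94, 95, 96] pt562c) (subM 157837355008885985049638338560 (insL [89, 90, 91, 92, 93, 94, 95, 96] 0)) = true := by decide +kernel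
theorem chk576 : band (pieces (app2 28 29 5) (fun x => x) tab574 R 158378953776073338919906705408 [86, 87, 88, 89, 90, 91, 92, 93, 94, 95, 96] pt562c l575) (allL l575 fun p => subW 158378953776073338919906705408 p.2.1) = true := by decide +kernel
theorem chk577 : cover 10 [0] (l575) 0 = true := by decide +kernel
theorem chk579 : subM 154742504910672534362390528000 157837355008885985049638338560 = true := by decide +kernel
theorem chk580 : band (fixL (app2 28 29 5) (fun x => x) R [90, 92, 93, 94, 95, 96] pt563c) (subM 154742504910672534362390528000 (insL [90, 92, 93, 94, 95, 96] 0)) = true := by decide +kernel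
theorem chk586 : band (pieces (app2 28 29 5) (fun x => x) tab584 R 157837355008885985049638338560 [89, 90, 91, 92, 93, 94, 95, 96] pt563c l585) (allL l585 fun p => subW 157837355008885985049638338560 p.2.1) = true := by decide +kernel
theorem chk587 : cover 8 [0] (l585) 0 = true := by decide +kernel
theorem chk589 : subM 79228162514264337593543950336 154742504910672534362390528000 = true := by decide +kernel
theorem chk590 : band (fixL (app2 28 29 5) (fun x => x) R [96] pt564c) (subM 79228162514264337593543950336 (insL [96] 0)) = true := by decide +kernel
theorem chk596 : band (pieces (app2 28 29 5) (fun x => x) tab594 R 154742504910672534362390528000 [90, 92, 93, 94, 95, 96] pt564c l595) (allL l595 fun p => subW 154742504910672534362390528000 p.2.1) = true := by decide +kernel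
theorem chk597 : cover 128 [0] (l595) 0 = true := by decide +kernel
theorem chk599 : subM 0 79228162514264337593543950336 = true := by decide +kernel
theorem chk600 : band (fixL (app2 28 29 5) (fun x => x) R [] pt565c) (subM 0 (insL [] 0)) = true := by decide +kernel
theorem chk606 : band (pieces (app2 28 29 5) (fun x => x) tab604 R 79228162514264337593543950336 [96] pt565c l605) (allL l605 fun p => subW 79228162514264337593543950336 p.2.1) = true := by decide +kernel
theorem chk607 : cover 2 [0] (l605) 0 = true := by decide +kernel
theorem chk610 : band (conjA (ops2 28) R 37778913848558652751862 3 l609) (subM 541598767187353870268366848 (insL l609 0)) = true := by decide +kernel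
theorem chk612 : dcRel (ops2 28) R 37778913848558652751862 37778931862957161709576 3 3 l611 = true := by decide +kernel
theorem chk617 : band (pieces (app2 28 29 5) (fun x => x) tab615 R 158378953776073338919906705408 [86, 87, 88, 89, 90, 91, 92, 93, 94, 95, 96] pt462c l616) (allL l616 fun p => subW 37778913848558652751862 p.2.1) = true := by decide +kernel
theorem chk618 : cover 1755 (List.map Prod.fst (l611)) (l616) 0 = true := by decide +kernel
theorem chk620 : allL (List.map Prod.fst (l611)) (subW 37778913848558652751862) = true := by decide +kernel
theorem chk622 : band (slp (ops2 28) R l621 37778913848558652751862) (subM 475368975085586025561263702016 (insL l621 37778913848558652751862)) = true := by decide +kernel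
theorem chk627 : band (slp (ops2 28) R l626 475368975085586025561263702016) (subM 40406362882274812172707414671360 (insL l626 475368975085586025561263702016)) = true := by decide +kernel
theorem chk629 : subM 38029518006846882044901096161280 40406362882274812172707414671360 = true := by decide +kernel
theorem chk630 : band (fixL (app2 28 29 5) (fun x => x) R [101, 102, 103, 104] pt624c) (subM 38029518006846882044901096161280 (insL [101, 102, 103, 104] 0)) = true := by decide +kernel
theorem chk636 : band (pieces (app2 28 29 5) (fun x => x) tab634 R 40406362882274812172707414671360 [97, 98, 99, 100, 101, 102, 103, 104] pt624c l635) (allL l635 fun p => subW 40406362882274812172707414671360 p.2.1) = true := by decide +kernel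
theorem chk637 : cover 78 [0] (l635) 0 = true := by decide +kernel
theorem chk639 : subM 0 38029518006846882044901096161280 = true := by decide +kernel
theorem chk640 : band (fixL (app2 28 29 5) (fun x => x) R [] pt625c) (subM 0 (insL [] 0)) = true := by decide +kernel
theorem chk646 : band (pieces (app2 28 29 5) (fun x => x) tab644 R 38029518006846882044901096161280 [101, 102, 103, 104] pt625c l645) (allL l645 fun p => subW 38029518006846882044901096161280 p.2.1) = true := by decide +kernel
theorem chk647 : cover 200 [0] (l645) 0 = true := by decide +kernel
theorem chk650 : band (conjA (ops2 28) R 37778913848558652751862 75 l649) (subM 475368975085586025561263702016 (insL l649 0)) = true := by decide +kernel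
theorem chk652 : dcRel (ops2 28) R 37778913848558652751862 37778931862957161709576 75 3 l651 = true := by decide +kernel
theorem chk657 : band (pieces (app2 28 29 5) (fun x => x) tab655 R 40406362882274812172707414671360 [97, 98, 99, 100, 101, 102, 103, 104] pt462c l656) (allL l656 fun p => subW 37778913848558652751862 p.2.1) = true := by decide +kernel
theorem chk658 : cover 1755 (List.map Prod.fst (l651)) (l656) 0 = true := by decide +kernel
theorem chk660 : allL (List.map Prod.fst (l651)) (subW 37778913848558652751862) = true := by decide +kernel
theorem chk661 : inDC (ops2 28) R 37778913848558652751862 37778931862957161709576 (R 3) 0 3 = true := by decide +kernel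
theorem chk663 : band (maxChk (ops2 28) R 37778913848558652751862 65534 l662) (subM 37778931862957161709576 (insL (l662.map Prod.fst) 0)) = true := by decide +kernel
theorem chk664 : allL l662 (fun p => Nat.blt p.1 1024) = true := by decide +kernel
theorem chk667 : band (slp (ops2 28) R l666 75557845711515814461438) (subM 608472288185107958429933353041918 (insL l666 75557845711515814461438)) = true := by decide +kernel
theorem chk670 : subW 608472288185107958429933353041918 3579353566490503275 = true := by decide +kernel
theorem chk672 : subW 608472288185107958429933353041918 3578225468743093355 = true := by decide +kernel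
theorem chk674 : subW 608472288185107958429933353041918 123480938245895752810 = true := by decide +kernel
theorem chk676 : subW 608472288185107958429933353041918 3412461727851 = true := by decide +kernel
theorem chk678 : band (slp (ops2 28) R l677 37778913848558652751862) (subM 1328578958677636798364089306891943926 (insL l677 37778913848558652751862)) = true := by decide +kernel
theorem chk680 : subM 1328578958677599019450240748239192064 1328578958677636798364089306891943926 = true := by decide +kernel
theorem chk681 : band (fixL (app2 28 29 5) (fun x => x) R [109, 110, 111, 112, 113, 114, 115, 116, 117, 118, 119] pt669c) (subM 1328578958677599019450240748239192064 (insL [109, 110, 111, 112, 113, 114, 115, 116, 117, 118, 119] 0)) = true := by decide +kernel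
theorem chk687 : band (pieces (app2 28 29 5) (fun x => x) tab685 R 1328578958677636798364089306891943926 [4, 5, 6, 1, 2, 109, 110, 111, 112, 113, 114, 115, 116, 117, 118, 119] pt669c l686) (allL l686 fun p => subW 1328578958677636798364089306891943926 p.2.1) = true := by decide +kernel
theorem chk688 : cover 1755 [0] (l686) 0 = true := by decide +kernel
theorem chk690 : subM 1324035698926381045275276563951124480 1328578958677599019450240748239192064 = true := by decide +kernel
theorem chk691 : band (fixL (app2 28 29 5) (fun x => x) R [112, 113, 114, 115, 116, 117, 118, 119] pt671c) (subM 1324035698926381045275276563951124480 (insL [112, 113, 114, 115, 116, 117, 118, 119] 0)) = true := by decide +kernel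
theorem chk697 : band (pieces (app2 28 29 5) (fun x => x) tab695 R 1328578958677599019450240748239192064 [109, 110, 111, 112, 113, 114, 115, 116, 117, 118, 119] pt671c l696) (allL l696 fun p => subW 1328578958677599019450240748239192064 p.2.1) = true := by decide +kernel
theorem chk698 : cover 80 [0] (l696) 0 = true := by decide +kernel
theorem chk700 : subM 1256535839765428286104380111671263232 1324035698926381045275276563951124480 = true := by decide +kernel
theorem chk701 : band (fixL (app2 28 29 5) (fun x => x) R [113, 116, 117, 118, 119] pt673c) (subM 1256535839765428286104380111671263232 (insL [113, 116, 117, 118, 119] 0)) = true := by decide +kernel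
theorem chk707 : band (pieces (app2 28 29 5) (fun x => x) tab705 R 1324035698926381045275276563951124480 [112, 113, 114, 115, 116, 117, 118, 119] pt673c l706) (allL l706 fun p => subW 1324035698926381045275276563951124480 p.2.1) = true := by decide +kernel
theorem chk708 : cover 8 [0] (l706) 0 = true := by decide +kernel
theorem chk710 : subM 0 1256535839765428286104380111671263232 = true := by decide +kernel
theorem chk711 : band (fixL (app2 28 29 5) (fun x => x) R [] pt675c) (subM 0 (insL [] 0)) = true := by decide +kernel
theorem chk717 : band (pieces (app2 28 29 5) (fun x => x) tab715 R 1256535839765428286104380111671263232 [113, 116, 117, 118, 119] pt675c l716) (allL l716 fun p => subW 1256535839765428286104380111671263232 p.2.1) = true := by decide +kernel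
theorem chk718 : cover 32 [0] (l716) 0 = true := by decide +kernel
theorem chk728 : band (pieces (app2 28 29 5) (fun x => x) tab726 R 608472288185107958429933353041918 [105, 106, 3, 107, 108] pt665c l727) (allL l727 fun p => subW 608472288185107958429933353041918 p.2.1) = true := by decide +kernel
theorem chk729 : cover 4060 [0] (l727) 0 = true := by decide +kernel
theorem chk731 : band (fixL (app2 28 29 5) (fun x => x) R [4, 5, 6, 7, 8, 9, 10, 11, 12, 13, 14, 15, 1, 2] pt665c) (subM 65526 (insL [4, 5, 6, 7, 8, 9, 10, 11, 12, 13, 14, 15, 1, 2] 0)) = true := by decide +kernel
theorem chk733 : subM 65526 608472288185107958429933353041918 = true := by decide +kernel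
theorem chk734 : subM 65526 608472288185107958429933353041918 = true := by decide +kernel
theorem chk735 : subM 1329187430965784127408670681592233982 (Nat.lor 608472288185107958429933353041918 1328578958677636798364089306891943926) = true := by decide +kernel
theorem chk737 : band (slp (ops2 28) R l736 1329187430965784127408670681592233982) (subM 2658415426750700000312477741872578558 (insL l736 1329187430965784127408670681592233982)) = true := by decide +kernel
theorem chk740 : band (slp (ops2 28) R l739 2658415426750700000312477741872578558) (subM 10633783401460195237735320103554646014 (insL l739 2658415426750700000312477741872578558)) = true := by decide +kernel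
theorem chk742 : subM 7975367974709495237422842361682067456 10633783401460195237735320103554646014 = true := by decide +kernel
theorem chk744 : band (nconj (ops2 28) R 10633783401460195237735320103554646014 (ins 0 120) l743) (subM 7975367974709495237422842361682067456 (insL l743 (ins 0 120))) = true := by decide +kernel
theorem chk746 : band (ncop (ops2 28) R 10633783401460195237735320103554646014 9304595970494411110326649421962412032 l745) (subM 65534 (insL (l745.map Prod.fst) 9304595970494411110326649421962412032)) = true := by decide +kernel
theorem chk747 : band (Nat.beq (powC (ops2 28) (R 120) 29) (ops2 28).one) (bnot (Nat.beq (R 120) (ops2 28).one)) = true := by decide +kernel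
theorem chk748 : subM 65526 10633783401460195237735320103554646014 = true := by decide +kernel
theorem chk749 : subM 65526 10633783401460195237735320103554646014 = true := by decide +kernel
theorem chk750 : subM 65522 1328578958677636798364089306891943926 = true := by decide +kernel
end

end CfsgH6.Ru
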